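import Cfsg.Agent.Cit.Nil.Comp.MThreeAbs
import Cfsg.Agent.Cit.Nil.LO.FormQ_m3
import Cfsg.Agent.Cit.Nil.RG.Tri
import Cfsg.Agent.KFacts.RgdFld.Two_m3
import Cfsg.Agent.FastGrp
import Cfsg.Agent.Prune
set_option linter.all false

section
prune_inst 0x7ffcfefb2ffdbddfffff7e7ffff5dfffb9fdffffffdffffbfffdffffffff6beffff5fbafffefd8ffeef7f2beb2f87bfbf9ffcb3feffbdd7fffff5ffc7fffff9ffffeffaf7dffbcbe1ffc7fffffffffffffffffffffffffffffffffffffffffffffffffffffff

-- part: Cit/Nil/RTwoM/Base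
section
prune_inst 0x8000022000000180000a000040000000000000000002000000000400000a0400001006001000000004000000060024400000020000000000000000000001000000000001000200000000000000000000000000000000000000000000000000000000
set_option linter.all false
open scoped Cfsg.Agent.FastGrp

/-!
# S1309, (6b), (C3), `r = 2`, any `m`: the setting (from `RTwo/Def.lean` (`m = 1`) and `RI/Def.lean` (`r = 4`))

* `WM Om` : members are quaternion of order 8, exactly two over each `z`;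
* `Mem Om z K` : `K` is a member over `z`; `InZ Om z`;
* `Inn Om z g` : `g` acts trivially on `K/⟨z⟩` for the two members `K` over `z` (`⟺ g ∈ R_z X_z`);
* `CX Om z = X_z`, `RZ Om z = R_z`;
* `InZ.comm_of_cent` : `t ∈ Z` centralising a member over `z ≠ t`: `(z, t)` is a C-pair; `InZ.cent_all`;
* `WM.inn_of_one`, `WM.inn_both` : trichotomy; `TI Om z t` : type I.
-/

set_option autoImplicit false
set_option linter.unusedSectionVars false

namespace Cfsg.Agent.Cit.Nil.RTwoM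

open Subgroup Cfsg Cfsg.Agent.Cit

open RTwo (Q3 Act i11 i12 i21 i22 i_ne1 i_ne2 i_ne12 i_cases i_cases3)

variable {G : Type*} [Group G]

/-- the world `r = 2`, any `m` -/
structure WM (Om : Set (Subgroup G)) : Prop where
  hyp : Hyp Om
  card : ∀ K ∈ Om, Nat.card K = 8
  two : ∀ K ∈ Om, ∃ L ∈ Om, L ≠ K ∧ zz L = zz K ∧ ∀ M ∈ Om, zz M = zz K → M = K ∨ M = L

/-- `K` is a member over `z` -/
def Mem (Om : Set (Subgroup G)) (z : G) (K : Subgroup G) : Prop := K ∈ Om ∧ zz K = z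

/-- `z ∈ Z` -/
def InZ (Om : Set (Subgroup G)) (z : G) : Prop := ∃ K, Mem Om z K

/-- `g` acts on the members over `z` as an inner automorphism -/
def Inn (Om : Set (Subgroup G)) (z g : G) : Prop :=
  ∀ K, Mem Om z K → ∀ k ∈ K, g * k * g⁻¹ = k ∨ g * k * g⁻¹ = z * k

/-- `X_z` -/
def CX (Om : Set (Subgroup G)) (z : G) : Subgroup G := centralizer {k | ∃ K, Mem Om z K ∧ k ∈ K}

/-- `R_z` -/
def RZ (Om : Set (Subgroup G)) (z : G) : Subgroup G := sSup {K | Mem Om z K}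

variable {Om : Set (Subgroup G)} {K L M : Subgroup G} {g g' t x y z : G}

theorem mem_CX : g ∈ CX Om z ↔ ∀ K, Mem Om z K → ∀ k ∈ K, g * k = k * g := by
  rw [CX, mem_centralizer_iff]
  constructor
  · intro h K hK k hk
    exact (h k ⟨K, hK, hk⟩).symm
  · rintro h k ⟨K, hK, hk⟩
    exact (h K hK k hk).symm

theorem Mem.inZ (h : Mem Om z K) : InZ Om z := ⟨K, h⟩

theorem Mem.le_RZ (h : Mem Om z K) : K ≤ RZ Om z := le_sSup h

theorem RZ_le (h : ∀ K, Mem Om z K → K ≤ M) : RZ Om z ≤ M := sSup_le fun K hK => h K hK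

section Fin

variable [Finite G]

theorem WM.isPGroup (h : WM Om) (hK : K ∈ Om) : IsPGroup 2 K := by
  refine IsPGroup.of_card (n := 3) ?_
  rw [h.card K hK]; norm_num

/-- coordinates of a member -/
theorem WM.exists_q3 (h : WM Om) (hK : Mem Om z K) : ∃ x, Q3 K z x := by
  obtain ⟨hK, rfl⟩ := hK
  obtain ⟨c, v, n, hgq⟩ := h.hyp.exists_gq hK (syl_self (h.isPGroup hK))
  have hn : n = 0 := by
    have h1 := hgq.card
    rw [h.card K hK] at h1
    have h2 : (2 : ℕ) ^ 3 = 2 ^ (n + 3) := by rw [← h1]; norm_num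
    have h3 := Nat.pow_right_injective (le_refl 2) h2
    omega
  subst hn
  have hcc : c * c = zz K := by
    have h1 := hgq.w_sq
    rwa [pow_zero, pow_one] at h1
  have hvv : v * v = zz K := hgq.v_sq
  have hz2 : zz K * zz K = 1 := hgq.z_mul
  have hzc : zz K * c = c * zz K := by rw [← hcc, mul_assoc]
  have hzv : zz K * v = v * zz K := by rw [← hvv, mul_assoc]
  have hci : c⁻¹ = zz K * c := by
    apply inv_eq_of_mul_eq_one_right
    rw [hzc, ← mul_assoc, hcc, hz2]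
  have hvc : v * c = zz K * (c * v) := by
    have h1 := hgq.conj_pow 1
    rw [pow_one] at h1
    rw [h1, hci, mul_assoc]
  have hcvc : c * v * c = v := by
    rw [mul_assoc, hvc]
    calc c * (zz K * (c * v)) = (c * zz K) * (c * v) := by group
      _ = (zz K * c) * (c * v) := by rw [hzc]
      _ = zz K * (c * c) * v := by group
      _ = v := by rw [hcc, hz2, one_mul]
  have hvcv : v * (c * v) = c := by
    calc v * (c * v) = (v * c) * v := by group
      _ = zz K * (c * v) * v := by rw [hvc]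
      _ = zz K * (c * (v * v)) := by group
      _ = zz K * (c * zz K) := by rw [hvv]
      _ = zz K * (zz K * c) := by rw [hzc]
      _ = c := by rw [← mul_assoc, hz2, one_mul]
  -- powers of `c`
  have hpow : ∀ i : ℤ, c ^ i = 1 ∨ c ^ i = c ∨ c ^ i = zz K ∨ c ^ i = zz K * c := by
    intro i
    have h4 : c ^ (4 : ℤ) = 1 := by
      have : c ^ (4 : ℤ) = (c * c) * (c * c) := by
        rw [show (4 : ℤ) = ((4 : ℕ) : ℤ) from rfl, zpow_natCast]
        simp only [pow_succ, pow_zero, one_mul, mul_assoc]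
      rw [this, hcc, hz2]
    have h5 : c ^ i = c ^ (i % 4) := by
      conv_lhs => rw [← Int.emod_add_mul_ediv i 4, zpow_add, zpow_mul, h4, one_zpow, mul_one]
    have h6 : i % 4 = 0 ∨ i % 4 = 1 ∨ i % 4 = 2 ∨ i % 4 = 3 := by omega
    rw [h5]
    rcases h6 with h6 | h6 | h6 | h6 <;> rw [h6]
    · left; exact zpow_zero c
    · right; left; exact zpow_one c
    · right; right; left
      have : c ^ (2 : ℤ) = c * c := by
        rw [show (2 : ℤ) = ((2 : ℕ) : ℤ) from rfl, zpow_natCast, pow_two]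
      rw [this, hcc]
    · right; right; right
      have : c ^ (3 : ℤ) = (c * c) * c := by
        rw [show (3 : ℤ) = ((3 : ℕ) : ℤ) from rfl, zpow_natCast]
        simp only [pow_succ, pow_zero, one_mul]
      rw [this, hcc]
  refine ⟨![c, v, c * v], ?_, ?_, ?_, hz2, hgq.z_ne, ?_⟩
  · intro m
    fin_cases m
    · exact hgq.c_mem
    · exact hgq.v_mem
    · exact mul_mem hgq.c_mem hgq.v_mem
  · intro m
    fin_cases m
    · exact hcc
    · exact hvv
    · show c * v * (c * v) = zz K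
      rw [← mul_assoc, hcvc, hvv]
  · intro m
    fin_cases m
    · rfl
    · exact hvcv
    · exact hcvc
  · intro k hk
    rcases hgq.covZ hk with h1 | ⟨i, h1⟩
    · obtain ⟨i, hi⟩ := mem_zpowers_iff.1 h1
      rcases hpow i with h2 | h2 | h2 | h2
      · left; rw [← hi, h2]
      · right; right; exact ⟨0, Or.inl (by rw [← hi, h2]; rfl)⟩
      · right; left; rw [← hi, h2]
      · right; right; exact ⟨0, Or.inr (by rw [← hi, h2]; rfl)⟩
    · rcases hpow i with h2 | h2 | h2 | h2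
      · right; right; exact ⟨1, Or.inl (by rw [h1, h2, mul_one]; rfl)⟩
      · right; right; exact ⟨2, Or.inr (by rw [h1, h2, hvc]; rfl)⟩
      · right; right; exact ⟨1, Or.inr (by rw [h1, h2, ← hzv]; rfl)⟩
      · right; right
        refine ⟨2, Or.inl ?_⟩
        rw [h1, h2]
        show v * (zz K * c) = c * v
        calc v * (zz K * c) = (v * zz K) * c := by group
          _ = (zz K * v) * c := by rw [hzv]
          _ = zz K * (v * c) := by group
          _ = c * v := by rw [hvc, ← mul_assoc, hz2, one_mul]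

theorem InZ.exists_q3 (hz : InZ Om z) (h : WM Om) : ∃ K x, Mem Om z K ∧ Q3 K z x := by
  obtain ⟨K, hK⟩ := hz
  obtain ⟨x, hx⟩ := h.exists_q3 hK
  exact ⟨K, x, hK, hx⟩

theorem InZ.z2 (hz : InZ Om z) (h : WM Om) : z * z = 1 := by
  obtain ⟨K, x, -, hx⟩ := hz.exists_q3 h; exact hx.z2

theorem InZ.z1 (hz : InZ Om z) (h : WM Om) : z ≠ 1 := by
  obtain ⟨K, x, -, hx⟩ := hz.exists_q3 h; exact hx.z1

theorem InZ.inv (hz : InZ Om z) (h : WM Om) : z⁻¹ = z := inv_eq_of_mul_eq_one_right (hz.z2 h)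

theorem InZ.orderOf (hz : InZ Om z) (h : WM Om) : orderOf z = 2 :=
  orderOf_eq_prime (by rw [pow_two]; exact hz.z2 h) (hz.z1 h)

theorem Mem.zmem (hK : Mem Om z K) (h : WM Om) : z ∈ K := by
  obtain ⟨hK, rfl⟩ := hK; exact h.hyp.zz_mem hK

theorem Mem.comm_z (hK : Mem Om z K) (h : WM Om) {k : G} (hk : k ∈ K) : k * z = z * k := by
  obtain ⟨hK, rfl⟩ := hK
  exact h.hyp.comm_zz hK (le_normalizer hk)

theorem Mem.cj (hK : Mem Om z K) (h : WM Om) (g : G) : Mem Om (g * z * g⁻¹) (Cit.cj g K) := by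
  obtain ⟨hK, rfl⟩ := hK
  exact ⟨h.hyp.conj K hK g, h.hyp.zz_cj hK g⟩

theorem Mem.cj_comm (hK : Mem Om z K) (h : WM Om) (hg : g * z = z * g) : Mem Om z (Cit.cj g K) := by
  have := hK.cj h g
  rwa [hg, mul_inv_cancel_right] at this

theorem Mem.of_cj (hK : Mem Om z K) (h : WM Om) (hg : Cit.cj g K = K) : g * z = z * g := by
  have h1 := hK.cj h g
  rw [hg] at h1
  have h2 : g * z * g⁻¹ = z := h1.2.symm.trans hK.2
  rw [← mul_inv_eq_iff_eq_mul, h2]

theorem InZ.conj (hz : InZ Om z) (h : WM Om) (g : G) : InZ Om (g * z * g⁻¹) := by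
  obtain ⟨K, hK⟩ := hz; exact ⟨_, hK.cj h g⟩

theorem Mem.comm (hK : Mem Om z K) (hL : Mem Om z L) (h : WM Om) (hne : K ≠ L) {k l : G} (hk : k ∈ K)
    (hl : l ∈ L) : k * l = l * k := by
  rcases h.hyp.h2 K hK.1 L hL.1 (hK.2.trans hL.2.symm) with h1 | h1
  · exact absurd h1 hne
  rw [OO_eq_bot_of_two (h.isPGroup hK.1), bot_inf_eq, le_bot_iff, Subgroup.commutator_eq_bot_iff_le_centralizer] at h1
  exact (mem_centralizer_iff.1 (h1 hk) l hl).symm

theorem Mem.other (hK : Mem Om z K) (h : WM Om) :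
    ∃ L, Mem Om z L ∧ K ≠ L ∧ ∀ M, Mem Om z M → M = K ∨ M = L := by
  obtain ⟨L, hL, hne, hz, hall⟩ := h.two K hK.1
  exact ⟨L, ⟨hL, hz.trans hK.2⟩, hne.symm, fun M hM => hall M hM.1 (hM.2.trans hK.2.symm)⟩

theorem Mem.cases (hK : Mem Om z K) (hL : Mem Om z L) (h : WM Om) (hne : K ≠ L) (hM : Mem Om z M) :
    M = K ∨ M = L := by
  obtain ⟨L', hL', hne', hall⟩ := hK.other h
  have h1 : L = L' := by
    rcases hall L hL with h1 | h1
    · exact absurd h1.symm hne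
    · exact h1
  rw [h1]; exact hall M hM

theorem Mem.inf (hK : Mem Om z K) (hL : Mem Om z L) (h : WM Om) (hne : K ≠ L) {k : G} (hk : k ∈ K)
    (hl : k ∈ L) : k = 1 ∨ k = z := by
  obtain ⟨x, hx⟩ := h.exists_q3 hK
  exact hx.cent hk (i_ne1 0) (hK.comm hL h hne (hx.mem _) hl).symm (hK.comm hL h hne (hx.mem _) hl).symm

/-! ### `R_z` and `X_z` -/

theorem mem_RZ (hK : Mem Om z K) (hL : Mem Om z L) (h : WM Om) (hne : K ≠ L) {r : G} :
    r ∈ RZ Om z ↔ ∃ k ∈ K, ∃ l ∈ L, k * l = r := by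
  have h1 : RZ Om z = K ⊔ L := by
    refine le_antisymm (RZ_le fun M hM => ?_) (sup_le hK.le_RZ hL.le_RZ)
    rcases hK.cases hL h hne hM with rfl | rfl
    · exact le_sup_left
    · exact le_sup_right
  rw [h1]
  constructor
  · intro hr
    have hn : L ≤ normalizer (K : Set G) := by
      intro l hl
      rw [mem_normalizer_iff]
      intro k
      constructor
      · intro hk
        rw [← hK.comm hL h hne hk hl, mul_inv_cancel_right]; exact hk
      · intro hk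
        have h2 := hK.comm hL h hne hk (L.inv_mem hl)
        have h3 : k = l⁻¹ * (l * k * l⁻¹) * l := by group
        rw [h3, ← h2, inv_mul_cancel_right]; exact hk
    obtain ⟨a, ha, b, hb, hab⟩ := LB.exists_mul_of_mem_sup hn hr
    exact ⟨a, ha, b, hb, hab.symm⟩
  · rintro ⟨k, hk, l, hl, rfl⟩
    exact mul_mem (mem_sup_left hk) (mem_sup_right hl)

theorem z_mem_RZ (hz : InZ Om z) (h : WM Om) : z ∈ RZ Om z := by
  obtain ⟨K, hK⟩ := hz; exact hK.le_RZ (hK.zmem h)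

theorem z_mem_CX (h : WM Om) : z ∈ CX Om z := by
  rw [mem_CX]
  intro K hK k hk
  exact (hK.comm_z h hk).symm

theorem CX_comm (hr : t ∈ RZ Om z) (hx : x ∈ CX Om z) : x * t = t * x := by
  have h1 : RZ Om z ≤ centralizer {x} := by
    refine RZ_le fun K hK k hk => ?_
    rw [mem_centralizer_singleton_iff]
    exact (mem_CX.1 hx K hK k hk).symm
  exact (mem_centralizer_singleton_iff.1 (h1 hr)).symm

theorem CX_le (hz : InZ Om z) (h : WM Om) (hx : x ∈ CX Om z) : x * z = z * x := by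
  exact CX_comm (z_mem_RZ hz h) hx

theorem RZ_le_centralizer (h : WM Om) (hx : x ∈ RZ Om z) : x * z = z * x := by
  have h1 : RZ Om z ≤ centralizer {z} := by
    refine RZ_le fun K hK k hk => ?_
    rw [mem_centralizer_singleton_iff]
    exact hK.comm_z h hk
  exact mem_centralizer_singleton_iff.1 (h1 hx)

theorem CX_conj (h : WM Om) (g : G) : g * x * g⁻¹ ∈ CX Om (g * z * g⁻¹) ↔ x ∈ CX Om z := by
  have key : ∀ (g x z : G), x ∈ CX Om z → g * x * g⁻¹ ∈ CX Om (g * z * g⁻¹) := by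
    intro g x z hx
    rw [mem_CX] at hx ⊢
    intro K hK k hk
    have h1 := hK.cj h g⁻¹
    have h2 : g⁻¹ * (g * z * g⁻¹) * g⁻¹⁻¹ = z := by group
    rw [h2] at h1
    have h3 := hx _ h1 _ (conj_mem_cj (g := g⁻¹) hk)
    calc g * x * g⁻¹ * k = g * (x * (g⁻¹ * k * g⁻¹⁻¹)) * g⁻¹ := by group
      _ = g * (g⁻¹ * k * g⁻¹⁻¹ * x) * g⁻¹ := by rw [h3]
      _ = _ := by group
  refine ⟨fun hx => ?_, key g x z⟩
  have := key g⁻¹ _ _ hx
  have h1 : g⁻¹ * (g * x * g⁻¹) * g⁻¹⁻¹ = x := by group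
  have h2 : g⁻¹ * (g * z * g⁻¹) * g⁻¹⁻¹ = z := by group
  rwa [h1, h2] at this

theorem CX_conj_comm (h : WM Om) (hg : g * z = z * g) (hx : x ∈ CX Om z) : g * x * g⁻¹ ∈ CX Om z := by
  have := (CX_conj h g).2 hx
  rwa [hg, mul_inv_cancel_right] at this

theorem RZ_conj (h : WM Om) (g : G) (hx : x ∈ RZ Om z) : g * x * g⁻¹ ∈ RZ Om (g * z * g⁻¹) := by
  have h1 : RZ Om z ≤ (RZ Om (g * z * g⁻¹)).comap (MulAut.conj g).toMonoidHom := by
    refine RZ_le fun K hK k hk => ?_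
    exact (hK.cj h g).le_RZ (conj_mem_cj hk)
  exact h1 hx

theorem RZ_conj_comm (h : WM Om) (hg : g * z = z * g) (hx : x ∈ RZ Om z) : g * x * g⁻¹ ∈ RZ Om z := by
  have := RZ_conj h g hx
  rwa [hg, mul_inv_cancel_right] at this

/-! ### `Inn` -/

theorem Inn.comm_z (hi : Inn Om z g) (hz : InZ Om z) (h : WM Om) : g * z = z * g := by
  obtain ⟨K, hK⟩ := hz
  rcases hi K hK z (hK.zmem h) with h1 | h1
  · rw [← mul_inv_eq_iff_eq_mul, h1]
  · rw [hK.inZ.z2 h, mul_inv_eq_one] at h1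
    exact absurd (mul_eq_left.1 h1) (hK.inZ.z1 h)

theorem Inn.one : Inn Om z (1 : G) := fun _ _ _ _ => Or.inl (by group)

theorem Inn.mul (hg : Inn Om z g) (hg' : Inn Om z g') (hz : InZ Om z) (h : WM Om) : Inn Om z (g * g') := by
  intro K hK k hk
  have hgz := hg.comm_z hz h
  have h1 : g * g' * k * (g * g')⁻¹ = g * (g' * k * g'⁻¹) * g⁻¹ := by group
  have h2 : g * (z * k) * g⁻¹ = z * (g * k * g⁻¹) := by
    calc g * (z * k) * g⁻¹ = (g * z) * k * g⁻¹ := by group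
      _ = (z * g) * k * g⁻¹ := by rw [hgz]
      _ = _ := by group
  rw [h1]
  rcases hg' K hK k hk with h3 | h3
  · rw [h3]; exact hg K hK k hk
  · rw [h3, h2]
    rcases hg K hK k hk with h4 | h4
    · right; rw [h4]
    · left; rw [h4, ← mul_assoc, hz.z2 h, one_mul]

theorem Inn.inv (hg : Inn Om z g) (hz : InZ Om z) (h : WM Om) : Inn Om z g⁻¹ := by
  intro K hK k hk
  have hgz := hg.comm_z hz h
  rcases hg K hK k hk with h1 | h1
  · left
    conv_lhs => rw [← h1]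
    group
  · right
    have h2 : k = z * (g * k * g⁻¹) := by rw [h1, ← mul_assoc, hz.z2 h, one_mul]
    calc g⁻¹ * k * g⁻¹⁻¹ = g⁻¹ * (z * (g * k * g⁻¹)) * g⁻¹⁻¹ := by rw [← h2]
      _ = g⁻¹ * (z * g) * k := by group
      _ = g⁻¹ * (g * z) * k := by rw [hgz]
      _ = _ := by group

theorem Inn.mul_left (hg : Inn Om z g) (hgg : Inn Om z (g * g')) (hz : InZ Om z) (h : WM Om) : Inn Om z g' := by
  have := (hg.inv hz h).mul hgg hz h
  rwa [inv_mul_cancel_left] at this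

theorem Inn.mul_right (hg : Inn Om z g') (hgg : Inn Om z (g * g')) (hz : InZ Om z) (h : WM Om) : Inn Om z g := by
  have := hgg.mul (hg.inv hz h) hz h
  rwa [mul_inv_cancel_right] at this

theorem Inn.of_CX (hx : x ∈ CX Om z) : Inn Om z x := by
  intro K hK k hk
  left
  rw [mem_CX.1 hx K hK k hk, mul_inv_cancel_right]

theorem Inn.of_mem (hL : Mem Om z L) (h : WM Om) (hg : g ∈ L) : Inn Om z g := by
  intro K hK k hk
  by_cases hne : K = L
  · subst hne
    obtain ⟨x, hx⟩ := h.exists_q3 hK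
    have hz : z ∈ K := hK.zmem h
    rcases hx.cov g hg with rfl | rfl | ⟨i, hi⟩
    · left; group
    · left; rw [← hK.comm_z h hk, mul_inv_cancel_right]
    · have h1 : g * k * g⁻¹ = x i * k * (x i)⁻¹ := by
        rcases hi with rfl | rfl
        · rfl
        · have h2 : (z * x i * k * (z * x i)⁻¹) = z * (x i * k * (x i)⁻¹) * z⁻¹ := by group
          rw [h2, ← hK.comm_z h (mul_mem (mul_mem (hx.mem i) hk) (inv_mem (hx.mem i))), mul_inv_cancel_right]
      rw [h1]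
      rcases hx.cov k hk with rfl | rfl | ⟨j, hj⟩
      · left; group
      · left; rw [← hx.zc, mul_inv_cancel_right]
      · have h3 : x i * x j * (x i)⁻¹ = x j ∨ x i * x j * (x i)⁻¹ = z * x j := by
          by_cases hij : i = j
          · subst hij; left; exact Q3.conj_self i
          · right; exact hx.conj_ne hij
        rcases hj with rfl | rfl
        · exact h3
        · have h4 : x i * (z * x j) * (x i)⁻¹ = z * (x i * x j * (x i)⁻¹) := by
            calc x i * (z * x j) * (x i)⁻¹ = (x i * z) * x j * (x i)⁻¹ := by group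
              _ = (z * x i) * x j * (x i)⁻¹ := by rw [hx.zc]
              _ = _ := by group
          rw [h4]
          rcases h3 with h3 | h3
          · left; rw [h3]
          · right; rw [h3]
  · left
    rw [← hK.comm hL h hne hk hg, mul_inv_cancel_right]

theorem Inn.of_RZ (hz : InZ Om z) (h : WM Om) (hr : g ∈ RZ Om z) : Inn Om z g := by
  obtain ⟨K, hK⟩ := hz
  obtain ⟨L, hL, hne, -⟩ := hK.other h
  obtain ⟨k, hk, l, hl, rfl⟩ := (mem_RZ hK hL h hne).1 hr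
  exact (Inn.of_mem hK h hk).mul (Inn.of_mem hL h hl) hK.inZ h

theorem Inn.conj (hi : Inn Om z x) (h : WM Om) (g : G) : Inn Om (g * z * g⁻¹) (g * x * g⁻¹) := by
  intro K hK k hk
  have h1 := hK.cj h g⁻¹
  have h2 : g⁻¹ * (g * z * g⁻¹) * g⁻¹⁻¹ = z := by group
  rw [h2] at h1
  have h3 : g * x * g⁻¹ * k * (g * x * g⁻¹)⁻¹ = g * (x * (g⁻¹ * k * g⁻¹⁻¹) * x⁻¹) * g⁻¹ := by group
  rcases hi _ h1 _ (conj_mem_cj (g := g⁻¹) hk) with h4 | h4
  · left; rw [h3, h4]; group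
  · right; rw [h3, h4]; group

theorem Inn.conj_comm (hi : Inn Om z x) (h : WM Om) (hg : g * z = z * g) : Inn Om z (g * x * g⁻¹) := by
  have := hi.conj h g
  rwa [hg, mul_inv_cancel_right] at this

theorem Inn.cj_eq (hi : Inn Om z g) (hK : Mem Om z K) (h : WM Om) : Cit.cj g K = K := by
  have key : ∀ g, Inn Om z g → Cit.cj g K ≤ K := by
    rintro g hi _ ⟨k, hk, rfl⟩
    rcases hi K hK k hk with h1 | h1
    · show g * k * g⁻¹ ∈ K
      rw [h1]; exact hk
    · show g * k * g⁻¹ ∈ K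
      rw [h1]; exact mul_mem (hK.zmem h) hk
  refine le_antisymm (key g hi) ?_
  have h1 := key g⁻¹ (hi.inv hK.inZ h)
  have h2 := cj_mono g h1
  rwa [cj_cj_inv] at h2

/-- `g` inner on the members: `g = r x`, `r ∈ R_z`, `x ∈ X_z` -/
theorem Inn.exists_mul (hi : Inn Om z g) (hK : Mem Om z K) (hL : Mem Om z L) (h : WM Om) (hne : K ≠ L)
    {a b : Fin 3 → G} (ha : Q3 K z a) (hb : Q3 L z b) :
    ∃ u ∈ K, ∃ v ∈ L, (u = 1 ∨ ∃ i, u = a i) ∧ (v = 1 ∨ ∃ i, v = b i) ∧ (u * v)⁻¹ * g ∈ CX Om z := by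
  obtain ⟨u, hu, hu', hgu⟩ : ∃ u ∈ K, (u = 1 ∨ ∃ i, u = a i) ∧ ∀ k ∈ K, g * k * g⁻¹ = u * k * u⁻¹ := by
    rcases ha.inner_cases (hi K hK) with h1 | ⟨j, h1⟩
    · exact ⟨1, one_mem _, Or.inl rfl, fun k hk => by rw [h1 k hk]; group⟩
    · exact ⟨a j, ha.mem j, Or.inr ⟨j, rfl⟩, h1⟩
  obtain ⟨v, hv, hv', hgv⟩ : ∃ v ∈ L, (v = 1 ∨ ∃ i, v = b i) ∧ ∀ k ∈ L, g * k * g⁻¹ = v * k * v⁻¹ := by
    rcases hb.inner_cases (hi L hL) with h1 | ⟨j, h1⟩
    · exact ⟨1, one_mem _, Or.inl rfl, fun k hk => by rw [h1 k hk]; group⟩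
    · exact ⟨b j, hb.mem j, Or.inr ⟨j, rfl⟩, h1⟩
  refine ⟨u, hu, v, hv, hu', hv', ?_⟩
  rw [mem_CX]
  intro M hM k hk
  have huv : u * v = v * u := hK.comm hL h hne hu hv
  rcases hK.cases hL h hne hM with rfl | rfl
  · have h1 := hgu k hk
    have h2 : v * k = k * v := (hK.comm hL h hne hk hv).symm
    calc (u * v)⁻¹ * g * k = (v * u)⁻¹ * (g * k * g⁻¹) * g := by rw [huv]; group
      _ = (v * u)⁻¹ * (u * k * u⁻¹) * g := by rw [h1]
      _ = u⁻¹ * (v⁻¹ * (u * k * u⁻¹)) * g := by group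
      _ = u⁻¹ * ((u * k * u⁻¹) * v⁻¹) * g := by
        rw [(hK.comm hL h hne (mul_mem (mul_mem hu hk) (inv_mem hu)) (inv_mem hv))]
      _ = k * ((u⁻¹ * v⁻¹) * g) := by group
      _ = k * ((v * u)⁻¹ * g) := by group
      _ = _ := by rw [huv]
  · have h1 := hgv k hk
    calc (u * v)⁻¹ * g * k = v⁻¹ * (u⁻¹ * (g * k * g⁻¹)) * g := by group
      _ = v⁻¹ * (u⁻¹ * (v * k * v⁻¹)) * g := by rw [h1]
      _ = v⁻¹ * ((v * k * v⁻¹) * u⁻¹) * g := by
        rw [(hK.comm hL h hne (inv_mem hu) (mul_mem (mul_mem hv hk) (inv_mem hv)))]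
      _ = k * ((v⁻¹ * u⁻¹) * g) := by group
      _ = _ := by group

/-! ### The trichotomy -/

/-- `t ∈ Z` centralising a member over `z ≠ t` : C-pair -/
theorem InZ.comm_of_cent (hK : Mem Om z K) (hL : Mem Om t L) (h : WM Om) (hne : z ≠ t)
    (hc : ∀ k ∈ K, t * k = k * t) : ∀ k ∈ K, ∀ l ∈ L, k * l = l * k := by
  have hKL : K ≠ L := by
    rintro rfl
    exact hne (hK.2.symm.trans hL.2)
  exact h.hyp.comm_of_zz_comm hK.1 hL.1 (h.isPGroup hK.1) (h.isPGroup hL.1)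
    (fun k hk => by rw [hL.2]; exact (hc k hk).symm) hKL

/-- if `t` centralises one member over `z`, it centralises all -/
theorem InZ.cent_all (hK : Mem Om z K) (ht : InZ Om t) (h : WM Om) (hne : z ≠ t)
    (hc : ∀ k ∈ K, t * k = k * t) (hM : Mem Om z M) : ∀ k ∈ M, t * k = k * t := by
  obtain ⟨L, hL⟩ := ht
  have h1 := InZ.comm_of_cent hK hL h hne hc
  have h2 : ∀ l ∈ L, z * l = l * z := fun l hl => h1 z (hK.zmem h) l hl
  have h3 := InZ.comm_of_cent hL hM h hne.symm h2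
  exact fun k hk => h3 t (hL.zmem h) k hk

/-- (H3) -/
theorem WM.h3 (h : WM Om) (hK : Mem Om z K) (hL : Mem Om t L) (hy : y ∈ K) (hs : y * y = z)
    (hyt : y * t = t * y) : cj y L = L := by
  rw [← mem_normalizer_iff_cj]
  refine h.hyp.h3 K hK.1 L hL.1 y hy ?_ ?_ (by rw [hL.2]; exact hyt)
  · exact (h.isPGroup hK.1).to_le (by rwa [zpowers_le])
  · have h1 : orderOf y = 4 := by
      have h2 := orderOf_eq_prime_pow (p := 2) (n := 1) (x := y)
        (by rw [pow_one, pow_two, hs]; exact hK.inZ.z1 h)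
        (by
          have : y ^ 2 ^ (1 + 1) = (y * y) * (y * y) := by
            show y ^ 4 = _
            simp only [pow_succ, pow_zero, one_mul, mul_assoc]
          rw [this, hs, hK.inZ.z2 h])
      simpa using h2
    omega

/-- `t` inner on one member over `z`: `z` is inner on the members over `t` -/
theorem WM.inn_of_one (h : WM Om) (hK : Mem Om z K) (ht : InZ Om t) (hne : t ≠ z)
    (hi : ∀ k ∈ K, t * k * t⁻¹ = k ∨ t * k * t⁻¹ = z * k) : Inn Om t z := by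
  obtain ⟨x, hx⟩ := h.exists_q3 hK
  rcases hx.inner_cases hi with h1 | ⟨j, h1⟩
  · intro L hL l hl
    left
    have h2 := InZ.comm_of_cent hK hL h hne.symm (fun k hk => by
      have := h1 k hk; rwa [mul_inv_eq_iff_eq_mul] at this) z (hK.zmem h) l hl
    rw [h2, mul_inv_cancel_right]
  have hyt : x j * t = t * x j := by
    have := h1 (x j) (hx.mem j)
    rw [Q3.conj_self, mul_inv_eq_iff_eq_mul] at this
    exact this.symm
  have hzt : z * t = t * z := by
    rw [← hx.sq j, mul_assoc, hyt, ← mul_assoc, hyt, mul_assoc]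
  intro L hL
  obtain ⟨l, hl⟩ := h.exists_q3 hL
  have h2 := h.h3 hK hL (hx.mem j) (hx.sq j) hyt
  obtain ⟨σ, hσ⟩ := hl.exists_act hl h2 hyt
  have h3 : Act t l l z (σ * σ) := by
    have := hσ.comp hl.z2 hσ hyt
    rwa [hx.sq] at this
  have h5 : Act t l l (z * z) (σ * σ * (σ * σ)) := h3.comp hl.z2 h3 hzt
  rw [hx.z2] at h5
  have h6 := h5.unique hl (Act.one l t)
  have h7 : ∀ σ : Equiv.Perm (Fin 3), σ * σ * (σ * σ) = 1 → σ * σ = 1 := by decide
  have h8 := h7 σ h6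
  rw [h8] at h3
  exact h3.inner hl hzt

/-- **trichotomy**: `t` inner on one member over `z` implies type I -/
theorem WM.inn_both (h : WM Om) (hK : Mem Om z K) (ht : InZ Om t) (hne : t ≠ z)
    (hi : ∀ k ∈ K, t * k * t⁻¹ = k ∨ t * k * t⁻¹ = z * k) : Inn Om z t ∧ Inn Om t z := by
  have h1 := h.inn_of_one hK ht hne hi
  obtain ⟨L, hL⟩ := ht
  exact ⟨h.inn_of_one hL hK.inZ hne.symm (h1 L hL), h1⟩

theorem Inn.symm (hi : Inn Om z t) (hz : InZ Om z) (ht : InZ Om t) (h : WM Om) : Inn Om t z := by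
  by_cases hne : t = z
  · subst hne; exact Inn.of_CX (z_mem_CX h)
  obtain ⟨K, hK⟩ := hz
  exact h.inn_of_one hK ht hne (hi K hK)

/-- `(z, t)` is a pair of type I -/
def TI (Om : Set (Subgroup G)) (z t : G) : Prop :=
  InZ Om z ∧ InZ Om t ∧ z ≠ t ∧ z * t = t * z ∧ Inn Om z t ∧ ∀ K, Mem Om z K → ¬ ∀ k ∈ K, t * k = k * t

theorem TI.inZ (h : TI Om z t) : InZ Om z := h.1
theorem TI.inT (h : TI Om z t) : InZ Om t := h.2.1
theorem TI.ne (h : TI Om z t) : z ≠ t := h.2.2.1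
theorem TI.comm (h : TI Om z t) : z * t = t * z := h.2.2.2.1
theorem TI.inn (h : TI Om z t) : Inn Om z t := h.2.2.2.2.1
theorem TI.nc (h : TI Om z t) (hK : Mem Om z K) : ¬ ∀ k ∈ K, t * k = k * t := h.2.2.2.2.2 K hK

theorem TI.symm (hti : TI Om z t) (h : WM Om) : TI Om t z := by
  refine ⟨hti.inT, hti.inZ, hti.ne.symm, hti.comm.symm, hti.inn.symm hti.inZ hti.inT h, fun L hL hc => ?_⟩
  obtain ⟨K, hK⟩ := hti.inZ
  have h1 := InZ.comm_of_cent hL hK h hti.ne.symm hc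
  exact hti.nc hK fun k hk => h1 t (hL.zmem h) k hk

theorem TI.conj (hti : TI Om z t) (h : WM Om) (g : G) : TI Om (g * z * g⁻¹) (g * t * g⁻¹) := by
  refine ⟨hti.inZ.conj h g, hti.inT.conj h g, fun h1 => hti.ne (mul_left_cancel (mul_right_cancel h1)), ?_,
    hti.inn.conj h g, fun K hK hc => ?_⟩
  · calc g * z * g⁻¹ * (g * t * g⁻¹) = g * (z * t) * g⁻¹ := by group
      _ = g * (t * z) * g⁻¹ := by rw [hti.comm]
      _ = _ := by group
  · have h1 := hK.cj h g⁻¹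
    have h2 : g⁻¹ * (g * z * g⁻¹) * g⁻¹⁻¹ = z := by group
    rw [h2] at h1
    refine hti.nc h1 fun k hk => ?_
    rw [mem_cj, inv_inv] at hk
    have h3 := hc _ hk
    calc t * k = g⁻¹ * (g * t * g⁻¹ * (g * k * g⁻¹)) * g := by group
      _ = g⁻¹ * (g * k * g⁻¹ * (g * t * g⁻¹)) * g := by rw [h3]
      _ = k * t := by group

/-- `t ∈ Z`, inner and not trivial on one member over `z`, is of type I -/
theorem TI.of_one (h : WM Om) (hK : Mem Om z K) (ht : InZ Om t) (hne : z ≠ t)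
    (hi : ∀ k ∈ K, t * k * t⁻¹ = k ∨ t * k * t⁻¹ = z * k) (hn : ¬ ∀ k ∈ K, t * k = k * t) : TI Om z t := by
  have h1 := h.inn_both hK ht hne.symm hi
  exact ⟨hK.inZ, ht, hne, (h1.1.comm_z hK.inZ h).symm, h1.1, fun M hM hc =>
    hn (InZ.cent_all hM ht h hne hc hK)⟩

end Fin

end Cfsg.Agent.Cit.Nil.RTwoM

private theorem dce_5583b9872640 : _root_.True := by
  try have : _root_.True := by simp only [_root_.Cfsg.Agent.Cit.Nil.RTwoM.CX.eq_1]
  exact _root_.True.intro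
end

-- part: Cit/Nil/CompR/World
section
prune_inst 0x201008000020000000180000a000044000000002000000002000000001410000a045000102600110001004402000004001440000022000000a000000000000001000000000001000200000000000000000000000000000000000000000000000000000000
set_option linter.all false
open scoped Cfsg.Agent.FastGrp

/-!
# S1309 (6b), COMP, any `r`: the world of points

`Z` is the set of the involutions of the members, `K z = R_z` the group generated by the members over `z`.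

* `GW Z K` : the facts on points used by the exchange lemma and the trichotomy;
* `GW.of_one` : `r = 1`; `GW.of_wr` : any `r`, from helper488's world `RG.WR Om`: `GW (ZZ Om) (RR Om)`.
-/

set_option autoImplicit false
set_option linter.style.haveILetI false
set_option linter.unusedSectionVars false

namespace Cfsg.Agent.Cit.Nil.CompR

open Subgroup Cfsg Cfsg.Agent.Cit
open Cfsg.Agent.Cit.Nil.ROne (CP CS TT OneCls)
open Cfsg.Agent.Cit.Nil.AN
open Cfsg.Agent.OddOrderLocal.NilParts Cfsg.Agent.StdEven.Syl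

variable {G : Type*} [Group G]

/-- the world of points -/
structure GW (Z : Set G) (K : G → Subgroup G) : Prop where
  sq : ∀ z ∈ Z, z * z = 1
  ne : ∀ z ∈ Z, z ≠ 1
  mem : ∀ z ∈ Z, z ∈ K z
  conjZ : ∀ z ∈ Z, ∀ g, g * z * g⁻¹ ∈ Z
  conjK : ∀ z ∈ Z, ∀ g, K (g * z * g⁻¹) = cj g (K z)
  two : ∀ ⦃z⦄, z ∈ Z → IsPGroup 2 (K z)
  cent : ∀ ⦃z⦄, z ∈ Z → ∀ ⦃k⦄, k ∈ K z → k * z = z * k
  nab : ∀ ⦃z⦄, z ∈ Z → ¬ Cm (K z) (K z)
  csymm : ∀ ⦃z u⦄, z ∈ Z → u ∈ Z → z ≠ u → Ce u (K z) → CP K z u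
  lzero : ∀ ⦃x⦄, x ∈ Z → ∀ N : Subgroup G, IsPGroup 2 N → K x ≤ normalizer (N : Set G) → x ∉ N → ∀ n ∈ N, Ce n (K x)
  com : ∀ S : Subgroup G, IsPGroup 2 S → ∀ ⦃z u⦄, z ∈ Z → u ∈ Z → K z ≤ S → K u ≤ S → z ≠ u → CP K z u

variable {Z : Set G} {K : G → Subgroup G} {z u v x y g s a b c : G}

/-- `r = 1` -/
theorem GW.of_one [Finite G] (h : ROne.W Z K) : GW Z K where
  sq := h.sq
  ne := h.ne
  mem := h.mem
  conjZ := h.conjZ
  conjK := h.conjK
  two := fun _ hz => h.two hz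
  cent := fun _ hz _ hk => h.cent hz hk
  nab := by
    intro z hz h1
    obtain ⟨i, hi, j, hj, -, -, hji, -⟩ := h.exists_ij hz
    apply h.ne z hz
    rw [h1 i hi j hj] at hji
    exact right_eq_mul.1 hji
  csymm := fun _ _ hz hu hne hc => h.csymm hz hu hne hc
  lzero := fun x hx _ hN hK hxN n hn k hk =>
    (h.hyp.lemma_one ⟨x, hx, rfl⟩ (h.two hx) hN hK (by rwa [h.zz_K hx]) k hk n hn).symm
  com := fun _ hS _ _ hz hu h1 h2 hne => h.com hz hu hS h1 h2 hne

section wr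

open RG

variable {Om : Set (Subgroup G)}

theorem cp_iff_wr (h : WR Om) : CP (RR Om) z u ↔ RG.CP Om z u := by
  constructor
  · rintro ⟨h1, h2⟩
    exact ⟨h1, fun K hK L hL a ha b hb => h2 a (WR.le_RR hK ha) b (WR.le_RR hL hb)⟩
  · intro h1
    exact ⟨h1.1, fun a ha b hb => h.CP_RR h1 ha hb⟩

/-- **any `r`** -/
theorem GW.of_wr [Finite G] (h : WR Om) (hyp : Hyp Om) : GW (ZZ Om) (RR Om) where
  sq := fun _ hz => h.zz_sq hz
  ne := fun _ hz => h.zz_ne hz
  mem := fun _ hz => h.RR_mem hz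
  conjZ := fun _ hz g => h.zz_cj hz g
  conjK := by
    intro z _ g
    ext x
    rw [mem_cj]
    constructor
    · intro hx
      have h1 := h.RR_cj hx g⁻¹
      have e1 : g⁻¹ * (g * z * g⁻¹) * g⁻¹⁻¹ = z := by group
      have e2 : g⁻¹ * x * g⁻¹⁻¹ = g⁻¹ * x * g := by group
      rwa [e1, e2] at h1
    · intro hx
      have h1 := h.RR_cj hx g
      have e2 : g * (g⁻¹ * x * g) * g⁻¹ = x := by group
      rwa [e2] at h1
  two := fun _ hz => h.RR_two hz
  cent := fun _ _ _ hk => (h.RR_cen hk).symm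
  nab := by
    rintro z ⟨K, hK⟩ h1
    obtain ⟨y, hy, hyy⟩ := h.exists_four hK.1
    obtain ⟨b, hb, hbb, h2, h3⟩ := h.exists_anti hK.1 hy hyy
    obtain ⟨h4, -⟩ := h.anti hK.1 hy hb hyy hbb h2 h3
    rw [h1 b (WR.le_RR hK hb) y (WR.le_RR hK hy)] at h4
    exact h.zn hK.1 (right_eq_mul.1 h4)
  csymm := by
    intro z u hz hu hne hc
    rw [cp_iff_wr h]
    obtain ⟨K, hK⟩ := hz
    exact h.CP_of_cen hK (fun k hk => hc k (WR.le_RR hK hk)) hne
  lzero := by
    intro x _ N hN hK hxN n hn k hk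
    refine SS_comm (𝒦 := Ov Om x) (x := n) (fun L hL l hl => ?_) hk
    exact (hyp.lemma_one hL.1 (h.two hL.1) hN ((WR.le_RR hL).trans hK) (by rw [hL.2]; exact hxN) l hl n hn).symm
  com := by
    intro S hS z u hz hu h1 h2 hne
    rw [cp_iff_wr h]
    exact ⟨hne, fun K hK L hL => h.pg K hK.1 L hL.1 S hS ((WR.le_RR hK).trans h1) ((WR.le_RR hL).trans h2)
      (h.Ov_ne hK hL hne)⟩

end wr

namespace GW

section

variable (h : GW Z K)

include h

theorem inv (hz : z ∈ Z) : z⁻¹ = z := inv_eq_of_mul_eq_one_right (h.sq z hz)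

theorem comm_of_cp (hz : z ∈ Z) (hu : u ∈ Z) (hc : CP K z u) : z * u = u * z := hc.2 z (h.mem z hz) u (h.mem u hu)

/-- the product of two elements of a C-pair is not `1` -/
theorem cp_mul_ne (hu : u ∈ Z) (hc : CP K z u) : z * u ≠ 1 := fun h1 =>
  hc.1 (by rw [mul_eq_one_iff_eq_inv] at h1; rw [h1, h.inv hu])

theorem cen_of_cp (hu : u ∈ Z) (hc : CP K z u) : Ce u (K z) := fun k hk => (hc.2 k hk u (h.mem u hu)).symm

theorem cen_iff (hz : z ∈ Z) (hu : u ∈ Z) : Ce u (K z) ↔ z = u ∨ CP K z u := by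
  constructor
  · intro hc
    by_cases hne : z = u
    · exact Or.inl hne
    · exact Or.inr (h.csymm hz hu hne hc)
  · rintro (rfl | hc)
    · exact fun k hk => (h.cent hz hk).symm
    · exact h.cen_of_cp hu hc

/-- `C(z)` normalises `K z` -/
theorem norm (hz : z ∈ Z) (hg : g * z = z * g) : cj g (K z) = K z := by
  rw [← h.conjK z hz g, hg, mul_inv_cancel_right]

theorem mem_norm (hz : z ∈ Z) (hg : g * z = z * g) : g ∈ normalizer (K z : Set G) :=
  mem_normalizer_iff_cj.2 (h.norm hz hg)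

/-- a clique lies in a 2-group -/
theorem isPGroup_clique [Finite G] (A : Finset G) (hA : ∀ z ∈ A, z ∈ Z)
    (hc : ∀ z ∈ A, ∀ u ∈ A, z ≠ u → CP K z u) : IsPGroup 2 (⨆ z ∈ A, K z : Subgroup G) := by
  classical
  induction A using Finset.induction_on with
  | empty =>
    have h1 : (⨆ z ∈ (∅ : Finset G), K z : Subgroup G) = ⊥ := by simp
    rw [h1]
    exact IsPGroup.of_bot
  | insert a A ha ih =>
    rw [Finset.iSup_insert]
    have h1 := ih (fun z hz => hA z (Finset.mem_insert_of_mem hz)) fun z hz u hu =>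
      hc z (Finset.mem_insert_of_mem hz) u (Finset.mem_insert_of_mem hu)
    refine IsPGroup.to_sup_of_normal_right' (h.two (hA a (Finset.mem_insert_self a A))) h1 ?_
    -- `K a` centralises the other members
    have h2 : (⨆ z ∈ A, K z : Subgroup G) ≤ centralizer (K a : Set G) := by
      refine iSup₂_le fun z hz b hb => mem_centralizer_iff.2 fun c hcK => ?_
      exact (hc a (Finset.mem_insert_self a A) z (Finset.mem_insert_of_mem hz) (by
        rintro rfl; exact ha hz)).2 c hcK b hb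
    intro c hcK
    rw [mem_normalizer_iff]
    intro x
    have h3 : ∀ x ∈ (⨆ z ∈ A, K z : Subgroup G), c * x * c⁻¹ = x := fun x hx => by
      rw [mem_centralizer_iff.1 (h2 hx) c hcK, mul_inv_cancel_right]
    constructor
    · intro hx
      rw [h3 x hx]; exact hx
    · intro hx
      have h4 : x = c⁻¹ * (c * x * c⁻¹) * c := by group
      have h5 : c⁻¹ * (c * x * c⁻¹) * c = c * x * c⁻¹ := by
        have h6 := mem_centralizer_iff.1 (h2 hx) c⁻¹ (inv_mem hcK)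
        rw [h6, inv_mul_cancel_right]
      rw [h4, h5]; exact hx

theorem mem_CS {S : Subgroup G} : z ∈ CS Z K S ↔ z ∈ Z ∧ K z ≤ S := Iff.rfl

theorem cj_CS (g : G) (S : Subgroup G) (hz : z ∈ Z) : g * z * g⁻¹ ∈ CS Z K (cj g S) ↔ z ∈ CS Z K S := by
  rw [h.mem_CS, h.mem_CS, h.conjK z hz g, cj_le_cj]
  exact ⟨fun h1 => ⟨hz, h1.2⟩, fun h1 => ⟨h.conjZ z hz g, h1.2⟩⟩

theorem ncard_CS_cj [Finite G] (g : G) (S : Subgroup G) : (CS Z K (cj g S)).ncard = (CS Z K S).ncard := by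
  have h1 : CS Z K (cj g S) = (fun x => g * x * g⁻¹) '' CS Z K S := by
    ext x
    constructor
    · intro hx
      have hx' : x = g * (g⁻¹ * x * g) * g⁻¹ := by group
      have hxZ : g⁻¹ * x * g ∈ Z := by
        have := h.conjZ x hx.1 g⁻¹
        rwa [inv_inv] at this
      refine ⟨g⁻¹ * x * g, ?_, hx'.symm⟩
      rw [hx'] at hx
      exact (h.cj_CS g S hxZ).1 hx
    · rintro ⟨y, hy, rfl⟩
      exact (h.cj_CS g S hy.1).2 hy
  rw [h1]
  refine Set.ncard_image_of_injective _ fun a b hab => ?_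
  exact mul_left_cancel (mul_right_cancel hab)

/-- `C_S` is a maximal clique -/
theorem mem_CS_of_clique [Finite G] (S : Sylow 2 G) (hu : u ∈ Z) (hc : ∀ z ∈ CS Z K S, z = u ∨ CP K z u) :
    u ∈ CS Z K S := by
  classical
  haveI : Fact (Nat.Prime 2) := ⟨Nat.prime_two⟩
  by_contra hn
  have hfin : (CS Z K (S : Subgroup G)).Finite := Set.toFinite _
  set A : Finset G := insert u hfin.toFinset with hA
  have hAZ : ∀ z ∈ A, z ∈ Z := by
    intro z hz
    rw [hA, Finset.mem_insert, Set.Finite.mem_toFinset] at hz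
    rcases hz with rfl | hz
    · exact hu
    · exact hz.1
  have hcS : ∀ z ∈ CS Z K (S : Subgroup G), CP K z u := fun z hz => (hc z hz).resolve_left (by
    rintro rfl; exact hn hz)
  have hAc : ∀ z ∈ A, ∀ v ∈ A, z ≠ v → CP K z v := by
    intro z hz v hv hne
    rw [hA, Finset.mem_insert, Set.Finite.mem_toFinset] at hz hv
    rcases hz with rfl | hz <;> rcases hv with rfl | hv
    · exact absurd rfl hne
    · exact (hcS v hv).symm
    · exact hcS z hz
    · exact h.com S S.isPGroup' hz.1 hv.1 hz.2 hv.2 hne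
  obtain ⟨S', hS'⟩ := (h.isPGroup_clique A hAZ hAc).exists_le_sylow
  obtain ⟨g, hg⟩ := MulAction.exists_smul_eq G S S'
  have hgS : (S' : Subgroup G) = cj g S := by
    rw [← hg]
    rfl
  have h1 : (CS Z K (S' : Subgroup G)).ncard = (CS Z K (S : Subgroup G)).ncard := by
    rw [hgS]
    exact h.ncard_CS_cj g S
  have h2 : (A : Set G) ⊆ CS Z K (S' : Subgroup G) := fun z hz =>
    ⟨hAZ z hz, (le_iSup₂ (f := fun z (_ : z ∈ A) => K z) z hz).trans hS'⟩
  have h3 := Set.ncard_le_ncard h2 (Set.toFinite _)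
  rw [Set.ncard_coe_finset, hA, Finset.card_insert_of_notMem (by rw [Set.Finite.mem_toFinset]; exact hn), h1,
    Set.ncard_eq_toFinset_card _ hfin] at h3
  omega

theorem TT_cen {S : Subgroup G} (hS : IsPGroup 2 S) (hz : z ∈ CS Z K S) (hx : x ∈ TT Z K S) :
    Ce x (K z) := by
  have h1 : TT Z K S ≤ centralizer (K z : Set G) := by
    refine (closure_le _).2 fun u hu => mem_centralizer_iff.2 fun k hk => ?_
    by_cases hne : z = u
    · subst hne
      exact h.cent hz.1 hk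
    · exact (h.com S hS hz.1 hu.1 hz.2 hu.2 hne).2 k hk u (h.mem u hu.1)
  exact fun k hk => (mem_centralizer_iff.1 (h1 hx) k hk).symm

theorem TT_comm {S : Subgroup G} (hS : IsPGroup 2 S) (hx : x ∈ TT Z K S) (hy : y ∈ TT Z K S) :
    x * y = y * x := by
  have h1 : TT Z K S ≤ centralizer ({x} : Set G) := by
    refine (closure_le _).2 fun u hu => mem_centralizer_singleton_iff.2 ?_
    exact (h.TT_cen hS hu hx u (h.mem u hu.1)).symm
  exact (mem_centralizer_singleton_iff.1 (h1 hy)).symm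

theorem TT_sq {S : Subgroup G} (hS : IsPGroup 2 S) (hx : x ∈ TT Z K S) : x * x = 1 := by
  refine closure_induction (p := fun x _ => x * x = 1) ?_ ?_ ?_ ?_ hx
  · exact fun u hu => h.sq u hu.1
  · rw [one_mul]
  · intro a b ha hb h1 h2
    calc a * b * (a * b) = a * (b * a) * b := by group
      _ = (a * a) * (b * b) := by rw [h.TT_comm hS hb ha]; group
      _ = 1 := by rw [h1, h2, one_mul]
  · intro a _ h1
    rw [← mul_inv_rev, h1, inv_one]

/-- `T_S ⊓ Z = C_S` -/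
theorem mem_CS_of_mem_TT [Finite G] (S : Sylow 2 G) (hu : u ∈ Z) (hT : u ∈ TT Z K S) : u ∈ CS Z K S :=
  h.mem_CS_of_clique S hu fun _ hz => (h.cen_iff hz.1 hu).1 (h.TT_cen S.isPGroup' hz hT)

theorem TT_le {S : Subgroup G} : TT Z K S ≤ S := (closure_le _).2 fun u hu => hu.2 (h.mem u hu.1)

/-- a C-pair lies in a Sylow subgroup -/
theorem exists_sylow_of_cp [Finite G] (hz : z ∈ Z) (hu : u ∈ Z) (hc : CP K z u) :
    ∃ S : Sylow 2 G, z ∈ CS Z K S ∧ u ∈ CS Z K S := by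
  classical
  obtain ⟨S, hS⟩ := (h.isPGroup_clique {z, u} (by
    intro x hx
    rw [Finset.mem_insert, Finset.mem_singleton] at hx
    rcases hx with rfl | rfl
    · exact hz
    · exact hu) (by
    intro x hx y hy hne
    rw [Finset.mem_insert, Finset.mem_singleton] at hx hy
    rcases hx with rfl | rfl <;> rcases hy with rfl | rfl
    · exact absurd rfl hne
    · exact hc
    · exact hc.symm
    · exact absurd rfl hne)).exists_le_sylow
  exact ⟨S, ⟨hz, (le_iSup₂ (f := fun x (_ : x ∈ ({z, u} : Finset G)) => K x) z (by simp)).trans hS⟩,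
    ⟨hu, (le_iSup₂ (f := fun x (_ : x ∈ ({z, u} : Finset G)) => K x) u (by simp)).trans hS⟩⟩

/-- `z` lies in some `C_S` -/
theorem exists_sylow [Finite G] (hz : z ∈ Z) : ∃ S : Sylow 2 G, z ∈ CS Z K S := by
  obtain ⟨S, hS⟩ := (h.two hz).exists_le_sylow
  exact ⟨S, hz, hS⟩

end

end GW

end Cfsg.Agent.Cit.Nil.CompR
end

-- part: Cit/Nil/CompR/Frame
section
prune_inst 0x20104c000022000000180000a0000460000000020000000020000000004000008041000100600110001004400000006003000000422800000a000000000000001000000000001000200000000000000000000000000000000000000000000000000000000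
set_option linter.all false
open scoped Cfsg.Agent.FastGrp

-- part: Cit/Nil/CompR/Exch
section
/-!
# S1309 (6b), COMP, any `r`: classes in `C(z)` and the exchange lemma (helper454, bb R18 #15492 (E); 164's `Comp/Exch.lean` for `GW`)

`Om Z K s` : the members centralised by `s`; `Cl Z K s u` : the class of `u` (connected component of the
non-commuting graph); `O₂(C(s)) = oP 2 (centralizer {s})`; a class is nil if it is contained in `O₂(C(s))`.

* `nil_cl` : nil is constant on classes; `L0`;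
* `nil_down` : a class contained in a 2-group is nil; `nil_of_comm` : a class whose members commute with `u` is nil;
* `exch` : **(E)** `(z, a)` a C-pair, `u ∈ Om z` not nil, `a ∉ cl_z(u)`: then `cl_a(u) = cl_z(u)` is a non-nil class of
  `C(a)` not containing `z`;
* `NN Z K s` : the set of non-nil classes; `NN_diff` : `N(z) \ {cl_z(a)} = N(a) \ {cl_a(z)}`; `nil_symm`.
-/

set_option autoImplicit false
set_option linter.style.haveILetI false
set_option linter.unusedSectionVars false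

namespace Cfsg.Agent.Cit.Nil.CompR

open Subgroup Cfsg Cfsg.Agent.Cit Cfsg.Agent.Cit.Nil.AN
open Cfsg.Agent.Cit.Nil.ROne (CP CS TT OneCls)
open Cfsg.Agent.OddOrderLocal.NilParts Cfsg.Agent.StdEven.Syl

variable {G : Type*} [Group G] {Z : Set G} {K : G → Subgroup G} {z u v x y g s a b c : G}

/-- the class of `u` is contained in that of `a`-members if all its elements are -/
theorem cl_mono (hu : Cl Z K s u ⊆ Om Z K a) : Cl Z K s u ⊆ Cl Z K a u := by
  intro v hv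
  have hv' : Relation.ReflTransGen (St Z K s) u v := hv
  clear hv
  induction hv' with
  | refl => exact cl_refl _ _
  | tail h1 h2 ih => exact cl_step ih (hu (Relation.ReflTransGen.tail h1 h2)) h2.2

/-- the set of non-nil classes of `C(s)` -/
def NN (Z : Set G) (K : G → Subgroup G) (s : G) : Set (Set G) :=
  {A | ∃ u ∈ Om Z K s, u ∉ oP 2 (centralizer {s}) ∧ A = Cl Z K s u}

/-- the dichotomy NIL / ONE for the classes of `C(s)` -/
def TPs (Z : Set G) (K : G → Subgroup G) (s : G) : Prop :=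
  ∀ u ∈ Om Z K s, u ∈ oP 2 (centralizer {s}) ∨ OneC Z K s u

section basic

variable (h : GW Z K)

include h

theorem not_cm_self (hz : z ∈ Z) : ¬ Cm (K z) (K z) := h.nab hz

theorem ne_of_cm (hz : z ∈ Z) (hc : Cm (K z) (K u)) : z ≠ u := by
  rintro rfl
  exact not_cm_self h hz hc

theorem cp_iff (hz : z ∈ Z) : CP K z u ↔ Cm (K z) (K u) := ⟨fun h1 => h1.2, fun h1 => ⟨ne_of_cm h hz h1, h1⟩⟩

theorem ce_of_cm (hu : u ∈ Z) (hc : Cm (K z) (K u)) : Ce u (K z) := fun k hk => (hc k hk u (h.mem u hu)).symm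

theorem ce_self (hz : z ∈ Z) : Ce z (K z) := fun _ hk => (h.cent hz hk).symm

theorem cm_conj (hz : z ∈ Z) (hu : u ∈ Z) (g : G) (hc : Cm (K z) (K u)) :
    Cm (K (g * z * g⁻¹)) (K (g * u * g⁻¹)) := by
  rw [h.conjK z hz, h.conjK u hu]
  exact hc.cj g

theorem cm_conj_iff (hz : z ∈ Z) (hu : u ∈ Z) (g : G) :
    Cm (K (g * z * g⁻¹)) (K (g * u * g⁻¹)) ↔ Cm (K z) (K u) := by
  refine ⟨fun h1 => ?_, cm_conj h hz hu g⟩
  have h2 := cm_conj h (h.conjZ z hz g) (h.conjZ u hu g) g⁻¹ h1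
  have e : ∀ x : G, g⁻¹ * (g * x * g⁻¹) * g⁻¹⁻¹ = x := fun x => by group
  rwa [e, e] at h2

theorem om_conj (hz : z ∈ Om Z K s) (g : G) : g * z * g⁻¹ ∈ Om Z K (g * s * g⁻¹) := by
  refine ⟨h.conjZ z hz.1 g, ?_⟩
  rw [h.conjK z hz.1]
  exact hz.2.cj g

theorem cl_conj (hz : z ∈ Om Z K s) (hu : u ∈ Cl Z K s z) (g : G) :
    g * u * g⁻¹ ∈ Cl Z K (g * s * g⁻¹) (g * z * g⁻¹) := by
  have hu' : Relation.ReflTransGen (St Z K s) z u := hu
  clear hu
  induction hu' with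
  | refl => exact cl_refl _ _
  | tail h1 h2 ih =>
    apply cl_step ih (om_conj h h2.1 g)
    intro h3
    exact h2.2 ((cm_conj_iff h (cl_sub hz h1).1 h2.1.1 g).1 h3)

/-- conjugation permutes the classes of `C(s)` -/
theorem cl_conj' (hz : z ∈ Om Z K s) (hg : g * s = s * g) (hu : u ∈ Cl Z K s z) :
    g * u * g⁻¹ ∈ Cl Z K s (g * z * g⁻¹) := by
  have h1 := cl_conj h hz hu g
  rwa [hg, mul_inv_cancel_right] at h1

theorem om_conj' (hz : z ∈ Om Z K s) (hg : g * s = s * g) : g * z * g⁻¹ ∈ Om Z K s := by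
  have h1 := om_conj h hz g
  rwa [hg, mul_inv_cancel_right] at h1

theorem gp_conj {A : Set G} (hA : A ⊆ Z) (hc : ∀ u ∈ A, c * u * c⁻¹ ∈ A) {x : G} (hx : x ∈ Gp K A) :
    c * x * c⁻¹ ∈ Gp K A := by
  have h1 : Gp K A ≤ (Gp K A).comap (MulAut.conj c).toMonoidHom := Gp_le fun u hu k hk => by
    show c * k * c⁻¹ ∈ Gp K A
    have h2 : c * k * c⁻¹ ∈ K (c * u * c⁻¹) := by
      rw [h.conjK u (hA hu)]
      exact conj_mem_cj hk
    exact le_Gp (hc u hu) h2
  exact h1 hx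

variable [Finite G]

/-- L0 -/
theorem L0 {N : Subgroup G} (hx : x ∈ Z) (hN : IsPGroup 2 N) (hK : K x ≤ normalizer (N : Set G)) (hxN : x ∉ N)
    {n : G} (hn : n ∈ N) : Ce n (K x) := h.lzero hx N hN hK hxN n hn

theorem nil_step (hu : u ∈ Om Z K s) (hv : v ∈ Om Z K s) (hn : ¬ Cm (K u) (K v)) (h1 : u ∈ oP 2 (centralizer {s})) :
    v ∈ oP 2 (centralizer {s}) := by
  by_contra h2
  have h3 : K v ≤ normalizer (oP 2 (centralizer {s}) : Set G) := fun k hk =>
    le_normalizer_oP 2 _ (mem_centralizer_singleton_iff.2 (hv.2 k hk).symm)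
  have h4 := L0 h hv.1 (isPGroup_oP 2 _) h3 h2 h1
  have h5 : v ≠ u := fun e => h2 (e ▸ h1)
  exact hn (h.csymm hv.1 hu.1 h5 h4).symm.2

/-- nil is constant on classes -/
theorem nil_cl (hz : z ∈ Om Z K s) (hu : u ∈ Cl Z K s z) : u ∈ oP 2 (centralizer {s}) ↔ z ∈ oP 2 (centralizer {s}) := by
  have key : ∀ {z u : G}, z ∈ Om Z K s → u ∈ Cl Z K s z → z ∈ oP 2 (centralizer {s}) →
      u ∈ oP 2 (centralizer {s}) := by
    intro z u hz hu h1
    have hu' : Relation.ReflTransGen (St Z K s) z u := hu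
    clear hu
    induction hu' with
    | refl => exact h1
    | tail h2 h3 ih => exact nil_step h (cl_sub hz h2) h3.1 h3.2 ih
  exact ⟨key (cl_sub hz hu) (cl_symm hz hu), key hz hu⟩

/-- an element of `O₂(⟨class⟩)` lies in `O₂(C(s))` -/
theorem oP_up (hz : z ∈ Om Z K s) (hx : x ∈ oP 2 (Gp K (Cl Z K s z))) : x ∈ oP 2 (centralizer {s}) := by
  set B := Gp K (Cl Z K s z) with hB
  set X := Gp K (Om Z K s) with hX
  have hOZ : Om Z K s ⊆ Z := fun u hu => hu.1
  have hBX : B ≤ X := Gp_le fun u hu => le_Gp (cl_sub hz hu)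
  have hXC : X ≤ centralizer {s} := Gp_le fun u hu k hk => mem_centralizer_singleton_iff.2 (hu.2 k hk).symm
  have h1 : X ≤ normalizer (B : Set G) := Gp_le fun u hu k hk => by
    by_cases hc : u ∈ Cl Z K s z
    · exact le_normalizer (le_Gp hc hk)
    · apply mem_normalizer_of_conj_le
      intro b hb
      have h2 : Ce k B := Gp_ce fun v hv l hl => ((cl_cm hv hu hc) l hl k hk).symm
      have : k * b * k⁻¹ = b := by rw [h2 b hb]; group
      rw [this]; exact hb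
  have h2 : centralizer {s} ≤ normalizer (X : Set G) := fun c hc =>
    mem_normalizer_of_conj_le fun x hx =>
      gp_conj h hOZ (fun u hu => om_conj' h hu (mem_centralizer_singleton_iff.1 hc)) hx
  have h3 : oP 2 B ≤ oP 2 X := le_oP ((oP_le 2 B).trans hBX) (isPGroup_oP 2 B) (h1.trans (normalizer_le_oP 2 B))
  have h4 : oP 2 X ≤ oP 2 (centralizer {s}) :=
    le_oP ((oP_le 2 X).trans hXC) (isPGroup_oP 2 X) (h2.trans (normalizer_le_oP 2 X))
  exact h4 (h3 hx)

/-- a class contained in a 2-group is nil -/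
theorem nil_down (hu : u ∈ Om Z K s) {R : Subgroup G} (hR : IsPGroup 2 R) (hc : Cl Z K s u ⊆ R) :
    u ∈ oP 2 (centralizer {s}) := by
  apply oP_up h hu
  have hA : ∀ v ∈ Cl Z K s u, v ∈ Om Z K s := fun v hv => cl_sub hu hv
  have h1 : closure (Cl Z K s u) ≤ Gp K (Cl Z K s u) := (closure_le _).2 fun v hv =>
    le_Gp hv (h.mem v (hA v hv).1)
  have h2 : IsPGroup 2 (closure (Cl Z K s u)) := hR.to_le ((closure_le _).2 hc)
  have h3 : Gp K (Cl Z K s u) ≤ normalizer (closure (Cl Z K s u) : Set G) := Gp_le fun v hv k hk => by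
    have hks : k * s = s * k := ((hA v hv).2 k hk).symm
    have hkv : k * v * k⁻¹ = v := by rw [h.cent (hA v hv).1 hk, mul_inv_cancel_right]
    have hcl : ∀ w ∈ Cl Z K s u, k * w * k⁻¹ ∈ Cl Z K s u := by
      intro w hw
      have h4 : w ∈ Cl Z K s v := cl_trans (cl_symm hu hv) hw
      have h5 := cl_conj' h (hA v hv) hks h4
      rw [hkv] at h5
      exact cl_trans hv h5
    apply mem_normalizer_of_conj_le
    intro x hx
    have h6 : closure (Cl Z K s u) ≤ (closure (Cl Z K s u)).comap (MulAut.conj k).toMonoidHom :=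
      (closure_le _).2 fun w hw => subset_closure (hcl w hw)
    exact h6 hx
  exact le_oP h1 h2 h3 (subset_closure (cl_refl s u))

/-- a class whose members commute with `K u` is nil -/
theorem nil_of_comm (hu : u ∈ Om Z K s) (hc : ∀ v ∈ Cl Z K s u, v ≠ u → Cm (K u) (K v)) :
    u ∈ oP 2 (centralizer {s}) := by
  have h1 : ∀ v ∈ Cl Z K s u, v = u := by
    intro v hv
    have hv' : Relation.ReflTransGen (St Z K s) u v := hv
    clear hv
    induction hv' with
    | refl => rfl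
    | @tail b c h1 h2 ih =>
      by_contra hne
      rw [ih] at h2
      exact h2.2 (hc c (Relation.ReflTransGen.tail h1 (by rw [ih]; exact h2)) hne)
  refine nil_down h hu (R := K u) (h.two hu.1) fun v hv => ?_
  rw [h1 v hv]
  exact h.mem u hu.1

/-- a non-nil class contains a member not commuting with `K u` -/
theorem exists_not_cm (hu : u ∈ Om Z K s) (hn : u ∉ oP 2 (centralizer {s})) :
    ∃ v ∈ Cl Z K s u, v ≠ u ∧ ¬ Cm (K u) (K v) := by
  by_contra hc
  push Not at hc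
  exact hn (nil_of_comm h hu hc)

theorem mem_oP_self (hz : z ∈ Z) : z ∈ oP 2 (centralizer {z}) := by
  have h1 : centralizer {z} ≤ normalizer (zpowers z : Set G) := fun g hg => by
    apply mem_normalizer_of_conj_le
    rintro _ ⟨n, rfl⟩
    have hgz := mem_centralizer_singleton_iff.1 hg
    have h2 : Commute g (z ^ n) := (show Commute g z from hgz).zpow_right n
    have h3 : g * z ^ n * g⁻¹ = z ^ n := by rw [h2.eq, mul_inv_cancel_right]
    change g * z ^ n * g⁻¹ ∈ _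
    rw [h3]
    exact ⟨n, rfl⟩
  have h2 : zpowers z ≤ centralizer {z} := by
    rw [zpowers_le]
    exact mem_centralizer_singleton_iff.2 rfl
  have h3 : IsPGroup 2 (zpowers z) := (h.two hz).to_le (by rw [zpowers_le]; exact h.mem z hz)
  exact le_oP h2 h3 h1 (mem_zpowers z)

/-- if `a` centralises the whole class of `a` in `C(s)`, it is nil -/
theorem nil_of_ce (ha : a ∈ Om Z K s) (hc : ∀ x ∈ Cl Z K s a, Ce a (K x)) : a ∈ oP 2 (centralizer {s}) :=
  nil_of_comm h ha fun x hx hne => (h.csymm (cl_sub ha hx).1 ha.1 hne (hc x hx)).symm.2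

/-- a non-nil class of `C(z)` does not contain `z` -/
theorem not_mem_of_not_nil (hz : z ∈ Z) (hu : u ∈ Om Z K z) (hn : u ∉ oP 2 (centralizer {z})) : z ∉ Cl Z K z u :=
  fun h1 => hn ((nil_cl h hu h1).1 (mem_oP_self h hz))

/-- members of `C(z)` different from `z` are C-partners -/
theorem cm_of_om (hz : z ∈ Z) (hu : u ∈ Om Z K z) (hne : u ≠ z) : Cm (K z) (K u) := (h.csymm hu.1 hz hne hu.2).symm.2

theorem om_of_cm (hz : z ∈ Z) (hu : u ∈ Z) (hc : Cm (K z) (K u)) : u ∈ Om Z K z := ⟨hu, ce_of_cm h hz hc.symm⟩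

/-- **(E)** -/
theorem exch (hz : z ∈ Z) (ha : a ∈ Z) (hza : Cm (K z) (K a)) (hT : TPs Z K a) (hu : u ∈ Om Z K z)
    (hn : u ∉ oP 2 (centralizer {z})) (hau : a ∉ Cl Z K z u) :
    u ∈ Om Z K a ∧ u ∉ oP 2 (centralizer {a}) ∧ Cl Z K a u = Cl Z K z u ∧ z ∉ Cl Z K a u := by
  have haO : a ∈ Om Z K z := om_of_cm h hz ha hza
  have hzO : z ∈ Om Z K a := om_of_cm h ha hz hza.symm
  have hsub : Cl Z K z u ⊆ Om Z K a := fun v hv =>
    om_of_cm h ha (cl_sub hu hv).1 (cl_cm hv haO hau).symm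
  have hin : Cl Z K z u ⊆ Cl Z K a u := cl_mono hsub
  have huO : u ∈ Om Z K a := hsub (cl_refl z u)
  have hna : u ∉ oP 2 (centralizer {a}) := by
    intro h1
    apply hn
    refine nil_down h hu (isPGroup_oP 2 (centralizer {a})) fun v hv => ?_
    exact (nil_cl h huO (hin hv)).2 h1
  have hzn : z ∉ Cl Z K a u := by
    intro h1
    have hone := (hT u huO).resolve_left hna
    apply hn
    have hzu : ∀ b ∈ Cl Z K z u, Cm (K z) (K b) := fun b hb => by
      apply cm_of_om h hz (cl_sub hu hb)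
      rintro rfl
      exact not_mem_of_not_nil h hz hu hn hb
    refine nil_of_comm h hu fun v hv hne => ?_
    have h2 := hone z h1 u (cl_refl a u) (hzu u (cl_refl z u)) u (cl_refl a u)
    have h3 := hone z h1 v (hin hv) (hzu v hv) u (cl_refl a u)
    have h4 : z * u = u * z := hu.2 u (h.mem u hu.1)
    have h5 : Ce (u * v) (K u) := by
      have h6 : (z * u) * (z * v) = u * v := by
        rw [h4]
        calc u * z * (z * v) = u * (z * z) * v := by group
          _ = u * v := by rw [h.sq z hz, mul_one]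
      rw [← h6]
      exact h2.mul h3
    have h6 : Ce v (K u) := by
      have h7 : u * (u * v) = v := by rw [← mul_assoc, h.sq u hu.1, one_mul]
      rw [← h7]
      exact (ce_self h hu.1).mul h5
    exact (h.csymm hu.1 (cl_sub hu hv).1 hne.symm h6).2
  have hsub' : Cl Z K a u ⊆ Om Z K z := fun v hv =>
    om_of_cm h hz (cl_sub huO hv).1 (cl_cm hv hzO hzn).symm
  exact ⟨huO, hna, Set.Subset.antisymm (cl_mono hsub') hin, hzn⟩

/-! ### The sets of non-nil classes -/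

theorem NN_cl {A : Set G} (hA : A ∈ NN Z K s) (hu : u ∈ A) : u ∈ Om Z K s ∧ u ∉ oP 2 (centralizer {s}) ∧ A = Cl Z K s u := by
  obtain ⟨v, hv, hn, rfl⟩ := hA
  exact ⟨cl_sub hv hu, fun h1 => hn ((nil_cl h hv hu).1 h1), (cl_eq hv hu).symm⟩

theorem cl_mem_NN (hu : u ∈ Om Z K s) : Cl Z K s u ∈ NN Z K s ↔ u ∉ oP 2 (centralizer {s}) :=
  ⟨fun h1 => (NN_cl h h1 (cl_refl s u)).2.1, fun h1 => ⟨u, hu, h1, rfl⟩⟩

theorem NN_nonempty {A : Set G} (hA : A ∈ NN Z K s) : A.Nonempty := by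
  obtain ⟨v, -, -, rfl⟩ := hA
  exact ⟨v, cl_refl _ _⟩

theorem NN_not_mem (hz : z ∈ Z) {A : Set G} (hA : A ∈ NN Z K z) : z ∉ A := by
  obtain ⟨v, hv, hn, rfl⟩ := hA
  exact not_mem_of_not_nil h hz hv hn

theorem NN_exch (hz : z ∈ Z) (ha : a ∈ Z) (hza : Cm (K z) (K a)) (hT : TPs Z K a) {A : Set G} (hA : A ∈ NN Z K z)
    (haA : a ∉ A) : A ∈ NN Z K a := by
  obtain ⟨u, hu, hn, rfl⟩ := hA
  obtain ⟨h1, h2, h3, -⟩ := exch h hz ha hza hT hu hn haA
  exact ⟨u, h1, h2, h3.symm⟩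

/-- `N(z) \ {cl_z(a)} = N(a) \ {cl_a(z)}` -/
theorem NN_diff (hz : z ∈ Z) (ha : a ∈ Z) (hza : Cm (K z) (K a)) (hTz : TPs Z K z) (hTa : TPs Z K a) :
    NN Z K z \ {Cl Z K z a} = NN Z K a \ {Cl Z K a z} := by
  have key : ∀ {z a : G}, z ∈ Z → a ∈ Z → Cm (K z) (K a) → TPs Z K a →
      NN Z K z \ {Cl Z K z a} ⊆ NN Z K a \ {Cl Z K a z} := by
    intro z a hz ha hza hTa A hA
    have haA : a ∉ A := fun h1 => hA.2 (NN_cl h hA.1 h1).2.2
    refine ⟨NN_exch h hz ha hza hTa hA.1 haA, fun h1 => ?_⟩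
    apply NN_not_mem h hz hA.1
    rw [Set.mem_singleton_iff.1 h1]
    exact cl_refl a z
  exact Set.Subset.antisymm (key hz ha hza hTa) (key ha hz hza.symm hTz)

omit h [Finite G] in
theorem cj_oP_le (g : G) (X : Subgroup G) : cj g (oP 2 X) ≤ oP 2 (cj g X) := by
  refine le_oP (cj_mono g (oP_le 2 X)) (isPGroup_cj (isPGroup_oP 2 X)) ?_
  intro x hx
  rw [mem_cj] at hx
  have h1 := mem_normalizer_iff_cj.1 (le_normalizer_oP 2 X hx)
  have e : x * g = g * (g⁻¹ * x * g) := by group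
  rw [mem_normalizer_iff_cj, ← cj_mul, e, cj_mul, h1]

omit h [Finite G] in
theorem oP_conj (g : G) (hx : x ∈ oP 2 (centralizer {s})) : g * x * g⁻¹ ∈ oP 2 (centralizer {g * s * g⁻¹}) := by
  rw [← cj_centralizer]
  exact cj_oP_le g _ (conj_mem_cj hx)

theorem NN_conj {A : Set G} (hA : A ∈ NN Z K s) (g : G) :
    (fun x => g * x * g⁻¹) '' A ∈ NN Z K (g * s * g⁻¹) := by
  obtain ⟨u, hu, hn, rfl⟩ := hA
  refine ⟨g * u * g⁻¹, om_conj h hu g, ?_, ?_⟩
  · intro h1
    apply hn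
    have h2 := oP_conj g⁻¹ h1
    have e : ∀ x : G, g⁻¹ * (g * x * g⁻¹) * g⁻¹⁻¹ = x := fun x => by group
    rwa [e, e] at h2
  · apply Set.Subset.antisymm
    · rintro _ ⟨v, hv, rfl⟩
      exact cl_conj h hu hv g
    · intro v hv
      have h1 := cl_conj h (om_conj h hu g) hv g⁻¹
      have e : ∀ x : G, g⁻¹ * (g * x * g⁻¹) * g⁻¹⁻¹ = x := fun x => by group
      rw [e, e] at h1
      exact ⟨_, h1, by group⟩

end basic

end Cfsg.Agent.Cit.Nil.CompR
end

-- part: Cit/Nil/CompR/Frame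
section
/-!
# S1309 (6b), COMP, any `r`: frames (helper454, bb R18 #15492 (E), consequences; 164's `Comp/Frame.lean` for `GW`)

* `Frm Z K F` : `F` is a frame: at least two pairwise commuting classes, and `N(x) = F \ {A}` for `x ∈ A ∈ F`;
  `Frm.uniq` : a frame is determined by one of its points; `Frm.conj`;
* `AllOne Z K` : all C-pairs are not nil, `a₀(z)` is one class of `C(z)`, it is `ONE`, and three pairwise commuting
  members have product `1`;
* `trich` : all C-pairs are nil, or every `z` lies in a frame, or `AllOne`.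
-/

set_option autoImplicit false
set_option linter.style.haveILetI false
set_option linter.unusedSectionVars false

namespace Cfsg.Agent.Cit.Nil.CompR

open Subgroup Cfsg Cfsg.Agent.Cit Cfsg.Agent.Cit.Nil.AN
open Cfsg.Agent.Cit.Nil.ROne (CP CS TT OneCls)
open Cfsg.Agent.OddOrderLocal.NilParts Cfsg.Agent.StdEven.Syl

variable {G : Type*} [Group G] {Z : Set G} {K : G → Subgroup G} {z u v x y g s a b c : G} {A B : Set G}
  {F F' : Set (Set G)}

/-- the hypothesis: every class of `C(s)`, `s` a nontrivial product of elements of a clique, is NIL or ONE -/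
def TP (Z : Set G) (K : G → Subgroup G) : Prop := ∀ S : Sylow 2 G, ∀ s ∈ TT Z K S, s ≠ 1 → TPs Z K s

/-- a frame -/
structure Frm (Z : Set G) (K : G → Subgroup G) (F : Set (Set G)) : Prop where
  two : ∃ A ∈ F, ∃ B ∈ F, A ≠ B
  sub : ∀ A ∈ F, A ⊆ Z
  ne : ∀ A ∈ F, A.Nonempty
  cm : ∀ A ∈ F, ∀ B ∈ F, A ≠ B → ∀ a ∈ A, ∀ b ∈ B, Cm (K a) (K b)
  nn : ∀ A ∈ F, ∀ x ∈ A, NN Z K x = F \ {A}

/-- all C-pairs are ONE -/
structure AllOne (Z : Set G) (K : G → Subgroup G) : Prop where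
  not_nil : ∀ z ∈ Z, ∀ u ∈ Z, CP K z u → u ∉ oP 2 (centralizer {z})
  cls : ∀ z ∈ Z, ∀ u ∈ Z, ∀ v ∈ Z, CP K z u → CP K z v → v ∈ Cl Z K z u
  one : ∀ z ∈ Z, ∀ u ∈ Z, CP K z u → OneC Z K z u
  three : ∀ z ∈ Z, ∀ a ∈ Z, ∀ b ∈ Z, CP K z a → CP K z b → CP K a b → z * a * b = 1

namespace Frm

theorem other (f : Frm Z K F) (_hA : A ∈ F) : ∃ B ∈ F, B ≠ A := by
  obtain ⟨C, hC, D, hD, hne⟩ := f.two
  by_cases h1 : C = A
  · exact ⟨D, hD, fun e => hne (h1.trans e.symm)⟩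
  · exact ⟨C, hC, h1⟩

variable [Finite G] (h : GW Z K)

include h

/-- a class of a frame is the class of each of its points in the centraliser of a point of another class -/
theorem cl_eq (f : Frm Z K F) (hA : A ∈ F) (hB : B ∈ F) (hAB : A ≠ B) (hx : x ∈ A) (hb : b ∈ B) : A = Cl Z K b x := by
  have h1 : A ∈ NN Z K b := by rw [f.nn B hB b hb]; exact ⟨hA, hAB⟩
  exact (NN_cl h h1 hx).2.2

theorem disj (f : Frm Z K F) (hA : A ∈ F) (hB : B ∈ F) (hx : x ∈ A) (hx' : x ∈ B) : A = B := by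
  by_contra hne
  exact not_cm_self h (f.sub A hA hx) (f.cm A hA B hB hne x hx x hx')

theorem uniq (f : Frm Z K F) (f' : Frm Z K F') (hA : A ∈ F) (hB : B ∈ F') (hx : x ∈ A) (hx' : x ∈ B) :
    F = F' ∧ A = B := by
  obtain ⟨C, hC, hCA⟩ := f.other hA
  have h1 := f.nn A hA x hx
  have h2 := f'.nn B hB x hx'
  have hC1 : C ∈ F' \ {B} := by rw [← h2, h1]; exact ⟨hC, hCA⟩
  obtain ⟨c, hc⟩ := f.ne C hC
  have h3 : A = B := by
    rw [f.cl_eq h hA hC hCA.symm hx hc, f'.cl_eq h hB hC1.1 (fun e => hC1.2 e.symm) hx' hc]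
  refine ⟨?_, h3⟩
  rw [← h3, h1] at h2
  ext D
  by_cases hD : D = A
  · rw [hD]
    exact ⟨fun _ => h3 ▸ hB, fun _ => hA⟩
  · constructor
    · intro h4
      have : D ∈ F' \ {A} := by rw [← h2]; exact ⟨h4, hD⟩
      exact this.1
    · intro h4
      have : D ∈ F \ {A} := by rw [h2]; exact ⟨h4, hD⟩
      exact this.1

/-- the points of a class do not commute all with a given one -/
theorem exists_not_cm (f : Frm Z K F) (hA : A ∈ F) (hx : x ∈ A) : ∃ y ∈ A, y ≠ x ∧ ¬ Cm (K x) (K y) := by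
  obtain ⟨B, hB, hBA⟩ := f.other hA
  obtain ⟨b, hb⟩ := f.ne B hB
  have h1 : A ∈ NN Z K b := by rw [f.nn B hB b hb]; exact ⟨hA, hBA.symm⟩
  obtain ⟨h2, h3, h4⟩ := NN_cl h h1 hx
  rw [h4]
  exact CompR.exists_not_cm h h2 h3

theorem conj (f : Frm Z K F) (g : G) : Frm Z K ((fun A => (fun x => g * x * g⁻¹) '' A) '' F) := by
  have inj : Function.Injective (fun x : G => g * x * g⁻¹) := fun x y hxy => by
    have := mul_right_cancel hxy
    exact mul_left_cancel this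
  refine ⟨?_, ?_, ?_, ?_, ?_⟩
  · obtain ⟨A, hA, B, hB, hne⟩ := f.two
    exact ⟨_, ⟨A, hA, rfl⟩, _, ⟨B, hB, rfl⟩, fun e => hne (inj.image_injective e)⟩
  · rintro _ ⟨A, hA, rfl⟩ _ ⟨x, hx, rfl⟩
    exact h.conjZ x (f.sub A hA hx) g
  · rintro _ ⟨A, hA, rfl⟩
    exact (f.ne A hA).image _
  · rintro _ ⟨A, hA, rfl⟩ _ ⟨B, hB, rfl⟩ hne _ ⟨a, ha, rfl⟩ _ ⟨b, hb, rfl⟩
    exact cm_conj h (f.sub A hA ha) (f.sub B hB hb) g (f.cm A hA B hB (fun e => hne (by rw [e])) a ha b hb)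
  · rintro _ ⟨A, hA, rfl⟩ _ ⟨x, hx, rfl⟩
    have e1 : (fun x : G => g⁻¹ * x * g⁻¹⁻¹) ∘ (fun x : G => g * x * g⁻¹) = id := by
      ext x
      simp only [Function.comp_apply, id_eq]
      group
    have e2 : (fun x : G => g * x * g⁻¹) ∘ (fun x : G => g⁻¹ * x * g⁻¹⁻¹) = id := by
      ext x
      simp only [Function.comp_apply, id_eq]
      group
    ext C
    constructor
    · intro hC
      have h1 := NN_conj h hC g⁻¹
      have e : g⁻¹ * (g * x * g⁻¹) * g⁻¹⁻¹ = x := by group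
      rw [e, f.nn A hA x hx] at h1
      have h2 : (fun x : G => g * x * g⁻¹) '' ((fun x : G => g⁻¹ * x * g⁻¹⁻¹) '' C) = C := by
        rw [← Set.image_comp, e2, Set.image_id]
      refine ⟨⟨_, h1.1, h2⟩, fun h3 => h1.2 ?_⟩
      rw [Set.mem_singleton_iff] at h3 ⊢
      rw [h3, ← Set.image_comp, e1, Set.image_id]
    · rintro ⟨⟨C, hC, rfl⟩, h3⟩
      apply NN_conj h
      rw [f.nn A hA x hx]
      exact ⟨hC, fun h4 => h3 (by rw [Set.mem_singleton_iff] at h4 ⊢; rw [h4])⟩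

end Frm

section

variable [Finite G] (h : GW Z K) (cls : OneCls Z) (tp : TP Z K)

include h

/-- `T'` for `s ∈ Z` -/
theorem TP.of_mem (tp : TP Z K) (hz : z ∈ Z) : TPs Z K z := by
  obtain ⟨S, hS⟩ := h.exists_sylow hz
  exact tp S z (subset_closure hS) (h.ne z hz)

/-- `T'` for the product of a C-pair -/
theorem TP.of_mul (tp : TP Z K) (hz : z ∈ Z) (hu : u ∈ Z) (hc : CP K z u) : TPs Z K (z * u) := by
  obtain ⟨S, h1, h2⟩ := h.exists_sylow_of_cp hz hu hc
  exact tp S _ (mul_mem (subset_closure h1) (subset_closure h2)) (h.cp_mul_ne hu hc)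

theorem NN_ncard_conj (g : G) : (NN Z K (g * s * g⁻¹)).ncard = (NN Z K s).ncard := by
  have key : ∀ (g s : G), (NN Z K s).ncard ≤ (NN Z K (g * s * g⁻¹)).ncard := by
    intro g s
    have inj : Function.Injective (fun x : G => g * x * g⁻¹) := fun x y hxy => by
      have := mul_right_cancel hxy
      exact mul_left_cancel this
    rw [← Set.ncard_image_of_injective (NN Z K s) inj.image_injective]
    refine Set.ncard_le_ncard ?_ (Set.toFinite _)
    rintro _ ⟨A, hA, rfl⟩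
    exact NN_conj h hA g
  apply le_antisymm _ (key g s)
  have h1 := key g⁻¹ (g * s * g⁻¹)
  have e : g⁻¹ * (g * s * g⁻¹) * g⁻¹⁻¹ = s := by group
  rwa [e] at h1

include cls

theorem NN_ncard (hz : z ∈ Z) (hu : u ∈ Z) : (NN Z K u).ncard = (NN Z K z).ncard := by
  obtain ⟨g, rfl⟩ := cls z hz u hu
  exact NN_ncard_conj h g

include tp

/-- nil is symmetric -/
theorem nil_symm (hz : z ∈ Z) (ha : a ∈ Z) (hza : Cm (K z) (K a)) (h1 : a ∈ oP 2 (centralizer {z})) :
    z ∈ oP 2 (centralizer {a}) := by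
  by_contra h2
  have hd := NN_diff h hz ha hza (TP.of_mem h tp hz) (TP.of_mem h tp ha)
  have haO := om_of_cm h hz ha hza
  have hzO := om_of_cm h ha hz hza.symm
  have h3 : Cl Z K z a ∉ NN Z K z := fun h4 => (cl_mem_NN h haO).1 h4 h1
  have h4 : Cl Z K a z ∈ NN Z K a := (cl_mem_NN h hzO).2 h2
  have h5 := NN_ncard h cls hz ha
  rw [Set.sdiff_singleton_eq_self h3] at hd
  rw [hd] at h5
  have h6 := Set.ncard_sdiff_singleton_lt_of_mem h4 (Set.toFinite _)
  omega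

/-- at least two non-nil classes: a frame -/
theorem frame_of_two (hz : z ∈ Z) (h2 : ∃ A ∈ NN Z K z, ∃ B ∈ NN Z K z, A ≠ B) : ∃ F, Frm Z K F ∧ ∃ A ∈ F, z ∈ A := by
  obtain ⟨A, hA, B, hB, hAB⟩ := h2
  have hT := fun {x : G} (hx : x ∈ Z) => TP.of_mem h tp hx
  -- facts about points of the classes of `C(z)`
  have pt : ∀ {C : Set G} {x : G}, C ∈ NN Z K z → x ∈ C →
      x ∈ Om Z K z ∧ x ∉ oP 2 (centralizer {z}) ∧ Cm (K z) (K x) ∧ C = Cl Z K z x ∧ z ∉ oP 2 (centralizer {x}) ∧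
        Cl Z K x z ∈ NN Z K x ∧ z ∈ Om Z K x := by
    intro C x hC hx
    obtain ⟨h1, h2, h3⟩ := NN_cl h hC hx
    have hne : x ≠ z := by
      rintro rfl
      exact h2 (mem_oP_self h hz)
    have h4 := cm_of_om h hz h1 hne
    have h5 : z ∉ oP 2 (centralizer {x}) := fun h5 => h2 (nil_symm h cls tp h1.1 hz h4.symm h5)
    have h6 := om_of_cm h h1.1 hz h4.symm
    exact ⟨h1, h2, h4, h3, h5, (cl_mem_NN h h6).2 h5, h6⟩
  -- two different classes of `C(z)`: `cl_a(z) = cl_b(z)`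
  have step : ∀ {C D : Set G} {x y : G}, C ∈ NN Z K z → D ∈ NN Z K z → C ≠ D → x ∈ C → y ∈ D →
      Cl Z K x z = Cl Z K y z := by
    intro C D x y hC hD hCD hx hy
    obtain ⟨c1, c2, c3, c4, c5, c6, c7⟩ := pt hC hx
    obtain ⟨d1, d2, d3, d4, d5, d6, d7⟩ := pt hD hy
    have hyC : y ∉ C := fun h1 => hCD (c4.trans (by rw [d4]; exact (cl_eq c1 (c4 ▸ h1)).symm))
    have hxD : x ∉ D := fun h1 => hCD ((c4.trans (cl_eq d1 (d4 ▸ h1))).trans d4.symm)
    have hxy : Cm (K x) (K y) := cl_cm (s := z) (z := x) (cl_refl z x) d1 (by rw [← c4]; exact hyC)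
    -- `D` is a class of `C(x)`
    have hDx : D ∈ NN Z K x := NN_exch h hz c1.1 c3 (hT c1.1) hD hxD
    have hCy : C ∈ NN Z K y := NN_exch h hz d1.1 d3 (hT d1.1) hC hyC
    have hd := NN_diff h c1.1 d1.1 hxy (hT c1.1) (hT d1.1)
    have e1 : Cl Z K x y = D := (NN_cl h hDx hy).2.2.symm
    have e2 : Cl Z K y x = C := (NN_cl h hCy hx).2.2.symm
    rw [e1, e2] at hd
    have h3 : Cl Z K x z ∈ NN Z K x \ {D} := ⟨c6, fun h4 => by
      rw [Set.mem_singleton_iff] at h4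
      exact NN_not_mem h hz hD (by rw [← h4]; exact cl_refl x z)⟩
    rw [hd] at h3
    exact (NN_cl h h3.1 (cl_refl x z)).2.2
  obtain ⟨a0, ha0⟩ := NN_nonempty h hA
  obtain ⟨b0, hb0⟩ := NN_nonempty h hB
  set K0 := Cl Z K a0 z with hK0
  have hall : ∀ {C : Set G} {x : G}, C ∈ NN Z K z → x ∈ C → Cl Z K x z = K0 := by
    intro C x hC hx
    by_cases hCA : C = A
    · rw [step hC hB (hCA ▸ hAB) hx hb0, hK0, step hA hB hAB ha0 hb0]
    · rw [hK0, step hA hC (Ne.symm hCA) ha0 hx]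
  have hzK0 : z ∈ K0 := cl_refl a0 z
  have hK0n : ∀ {C : Set G}, C ∈ NN Z K z → K0 ≠ C := fun {C} hC e => NN_not_mem h hz hC (e ▸ hzK0)
  have hK0Z : K0 ⊆ Z := fun y hy => (cl_sub (pt hA ha0).2.2.2.2.2.2 hy).1
  -- points of `K0` commute with those of the other classes
  have hcm0 : ∀ {C : Set G} {x y : G}, C ∈ NN Z K z → x ∈ C → y ∈ K0 → Cm (K x) (K y) := by
    intro C x y hC hx hy
    obtain ⟨c1, c2, c3, c4, c5, c6, c7⟩ := pt hC hx
    rw [← hall hC hx] at hy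
    refine cm_of_om h c1.1 (cl_sub c7 hy) ?_
    rintro rfl
    exact c5 ((nil_cl h c7 hy).1 (mem_oP_self h c1.1))
  have hnnA : ∀ {C : Set G} {x : G}, C ∈ NN Z K z → x ∈ C → NN Z K x = insert K0 (NN Z K z \ {C}) := by
    intro C x hC hx
    obtain ⟨c1, c2, c3, c4, c5, c6, c7⟩ := pt hC hx
    have hd := NN_diff h hz c1.1 c3 (hT hz) (hT c1.1)
    rw [← c4] at hd
    rw [hd, hall hC hx, Set.insert_sdiff_singleton, Set.insert_eq_of_mem]
    rw [← hall hC hx]
    exact c6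
  have hnn0 : ∀ {y : G}, y ∈ K0 → NN Z K y = NN Z K z := by
    intro y hy
    have h1 : NN Z K z ⊆ NN Z K y := by
      intro C hC
      -- a class `D ≠ C`
      obtain ⟨D, hD, hDC⟩ : ∃ D ∈ NN Z K z, D ≠ C := by
        by_cases hCA : C = A
        · exact ⟨B, hB, fun e => hAB (hCA.symm.trans e.symm)⟩
        · exact ⟨A, hA, Ne.symm hCA⟩
      obtain ⟨x, hx⟩ := NN_nonempty h hD
      obtain ⟨c1, -⟩ := pt hD hx
      have hCx : C ∈ NN Z K x := by rw [hnnA hD hx]; exact Or.inr ⟨hC, fun e => hDC e.symm⟩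
      have hyZ := hK0Z hy
      refine NN_exch h c1.1 hyZ (hcm0 hD hx hy) (hT hyZ) hCx fun h4 => ?_
      -- `y ∈ C ∩ K0`
      exact not_cm_self h hyZ (hcm0 hC h4 hy)
    have h2 := NN_ncard h cls (hK0Z hy) hz
    exact (Set.eq_of_subset_of_ncard_le h1 (by rw [h2]) (Set.toFinite _)).symm
  refine ⟨insert K0 (NN Z K z), ⟨⟨A, Or.inr hA, B, Or.inr hB, hAB⟩, ?_, ?_, ?_, ?_⟩, K0, Or.inl rfl, hzK0⟩
  · rintro C (rfl | hC)
    · exact hK0Z
    · exact fun x hx => (pt hC hx).1.1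
  · rintro C (rfl | hC)
    · exact ⟨z, hzK0⟩
    · exact NN_nonempty h hC
  · rintro C (rfl | hC) D (rfl | hD) hne x hx y hy
    · exact (hne rfl).elim
    · exact (hcm0 hD hy hx).symm
    · exact hcm0 hC hx hy
    · obtain ⟨c1, c2, c3, c4, c5, c6, c7⟩ := pt hC hx
      obtain ⟨d1, d2, d3, d4, d5, d6, d7⟩ := pt hD hy
      refine cl_cm (s := z) (z := x) (cl_refl z x) d1 fun h1 => hne ?_
      rw [c4, d4, cl_eq c1 h1]
  · rintro C (rfl | hC) x hx
    · rw [hnn0 hx]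
      ext D
      constructor
      · exact fun hD => ⟨Or.inr hD, fun e => hK0n hD e.symm⟩
      · rintro ⟨rfl | hD, h1⟩
        · exact (h1 rfl).elim
        · exact hD
    · rw [hnnA hC hx]
      ext D
      constructor
      · rintro (rfl | hD)
        · exact ⟨Or.inl rfl, fun e => hK0n hC e⟩
        · exact ⟨Or.inr hD.1, hD.2⟩
      · rintro ⟨rfl | hD, h1⟩
        · exact Or.inl rfl
        · exact Or.inr ⟨hD, h1⟩

/-- one non-nil class and a nil C-pair: a frame -/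
theorem frame_of_nil (h1 : ∀ z ∈ Z, (NN Z K z).ncard = 1) (hz : z ∈ Z) (hu : u ∈ Z) (hzu : Cm (K z) (K u))
    (hn : u ∈ oP 2 (centralizer {z})) : ∃ F, Frm Z K F ∧ ∃ A ∈ F, z ∈ A := by
  have hT := fun {x : G} (hx : x ∈ Z) => TP.of_mem h tp hx
  have hun : ∀ {x : G} {A B : Set G}, x ∈ Z → A ∈ NN Z K x → B ∈ NN Z K x → A = B := by
    intro x A B hx hA hB
    obtain ⟨C, hC⟩ := Set.ncard_eq_one.1 (h1 x hx)
    rw [hC] at hA hB
    exact hA.trans hB.symm
  -- the classes of `C(z)` and `C(u)`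
  have huz : u ∈ Om Z K z := om_of_cm h hz hu hzu
  have hzO : z ∈ Om Z K u := om_of_cm h hu hz hzu.symm
  obtain ⟨B, hB⟩ := Set.ncard_eq_one.1 (h1 z hz)
  have hBz : B ∈ NN Z K z := by rw [hB]; rfl
  have hBu : B ∈ NN Z K u := by
    have hd := NN_diff h hz hu hzu (hT hz) (hT hu)
    have h2 : B ∈ NN Z K z \ {Cl Z K z u} := ⟨hBz, fun e => by
      rw [Set.mem_singleton_iff] at e
      exact (cl_mem_NN h huz).1 (e ▸ hBz) hn⟩
    rw [hd] at h2
    exact h2.1
  obtain ⟨a, haB⟩ := NN_nonempty h hBz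
  obtain ⟨az, azn, aze⟩ := NN_cl h hBz haB
  obtain ⟨au, aun, aue⟩ := NN_cl h hBu haB
  have haZ := az.1
  have hza : Cm (K z) (K a) := cm_of_om h hz az (by rintro rfl; exact azn (mem_oP_self h haZ))
  have hua : Cm (K u) (K a) := cm_of_om h hu au (by rintro rfl; exact aun (mem_oP_self h haZ))
  have zOa : z ∈ Om Z K a := om_of_cm h haZ hz hza.symm
  have uOa : u ∈ Om Z K a := om_of_cm h haZ hu hua.symm
  have znn : z ∉ oP 2 (centralizer {a}) := fun h2 => azn (nil_symm h cls tp haZ hz hza.symm h2)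
  have unn : u ∉ oP 2 (centralizer {a}) := fun h2 => aun (nil_symm h cls tp haZ hu hua.symm h2)
  set A := Cl Z K a z with hA
  have hAa : A ∈ NN Z K a := (cl_mem_NN h zOa).2 znn
  have hAu : A = Cl Z K a u := hun haZ hAa ((cl_mem_NN h uOa).2 unn)
  have huA : u ∈ A := by rw [hAu]; exact cl_refl a u
  have hzA : z ∈ A := cl_refl a z
  have oneA : OneC Z K a z := (hT haZ z zOa).resolve_left znn
  -- `e = z u` centralises both
  set e := z * u with he
  have hBe : ∀ x ∈ B, x ∈ Om Z K e := fun x hx =>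
    ⟨(NN_cl h hBz hx).1.1, (NN_cl h hBz hx).1.2.mul (NN_cl h hBu hx).1.2⟩
  have hAe : ∀ x ∈ A, x ∈ Om Z K e := fun x hx =>
    ⟨(cl_sub zOa hx).1, oneA z (cl_refl a z) u huA hzu x hx⟩
  have hBe' : B ⊆ Cl Z K e a := by rw [aze]; exact cl_mono fun x hx => hBe x (aze ▸ hx)
  have hAe' : A ⊆ Cl Z K e z := cl_mono hAe
  have aOe := hBe a haB
  have zOe := hAe z hzA
  have hTe : TPs Z K e := TP.of_mul h tp hz hu ⟨ne_of_cm h hz hzu, hzu⟩
  have ane : a ∉ oP 2 (centralizer {e}) := by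
    intro h2
    apply azn
    refine nil_down h az (isPGroup_oP 2 (centralizer {e})) fun x hx => ?_
    rw [← aze] at hx
    exact (nil_cl h aOe (hBe' hx)).2 h2
  have onee : OneC Z K e a := (hTe a aOe).resolve_left ane
  have zne : z ∉ Cl Z K e a := by
    intro h2
    apply azn
    refine nil_of_ce h az fun x hx => ?_
    rw [← aze] at hx
    have h3 := onee z h2 a (cl_refl e a) hza x (hBe' hx)
    have h4 : Ce z (K x) := (NN_cl h hBz hx).1.2
    have h5 : z * (z * a) = a := by rw [← mul_assoc, h.sq z hz, one_mul]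
    rw [← h5]
    exact h4.mul h3
  have hab : ∀ x ∈ A, ∀ y ∈ B, Cm (K x) (K y) := by
    intro x hx y hy
    have h2 : Cl Z K e a ∩ Cl Z K e z = ∅ := by
      rw [Set.eq_empty_iff_forall_notMem]
      rintro w ⟨h3, h4⟩
      exact zne (cl_trans h3 (cl_symm zOe h4))
    refine (cl_cm (hBe' hy) (hAe x hx) fun h3 => ?_).symm
    have : x ∈ Cl Z K e a ∩ Cl Z K e z := ⟨h3, hAe' hx⟩
    rw [h2] at this
    exact this
  -- sizes
  have size : ∀ {x y : G} {C D : Set G}, x ∈ Z → y ∈ Z → C ∈ NN Z K x → D ∈ NN Z K y → C.ncard = D.ncard := by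
    intro x y C D hx hy hC hD
    obtain ⟨g, rfl⟩ := cls x hx y hy
    rw [← hun hy (NN_conj h hC g) hD]
    refine (Set.ncard_image_of_injective C fun x y hxy => ?_).symm
    exact mul_left_cancel (mul_right_cancel hxy)
  have hAZ : A ⊆ Z := fun x hx => (cl_sub zOa hx).1
  have hBZ : B ⊆ Z := fun x hx => (NN_cl h hBz hx).1.1
  have hNA : ∀ x ∈ A, NN Z K x = {B} := by
    intro x hx
    have hxZ := hAZ hx
    have h2 : ∀ y ∈ B, y ∈ Om Z K x := fun y hy => om_of_cm h hxZ (hBZ hy) (hab x hx y hy)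
    have h3 : a ∉ oP 2 (centralizer {x}) := by
      intro h4
      obtain ⟨-, h5, -⟩ := NN_cl h hAa hx
      exact h5 (nil_symm h cls tp hxZ haZ (hab x hx a haB) h4)
    have h4 : Cl Z K x a ∈ NN Z K x := (cl_mem_NN h (h2 a haB)).2 h3
    have h5 : B ⊆ Cl Z K x a := by rw [aze]; exact cl_mono fun y hy => h2 y (aze ▸ hy)
    have h6 : B = Cl Z K x a := Set.eq_of_subset_of_ncard_le h5 (size hxZ hz h4 hBz).le (Set.toFinite _)
    obtain ⟨D, hD⟩ := Set.ncard_eq_one.1 (h1 x hxZ)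
    rw [hD] at h4 ⊢
    rw [h6, h4]
  have hNB : ∀ x ∈ B, NN Z K x = {A} := by
    intro x hx
    have hxZ := hBZ hx
    have h2 : ∀ y ∈ A, y ∈ Om Z K x := fun y hy => om_of_cm h hxZ (hAZ hy) (hab y hy x hx).symm
    have h3 : z ∉ oP 2 (centralizer {x}) := by
      intro h4
      obtain ⟨-, h5, -⟩ := NN_cl h hBz hx
      exact h5 (nil_symm h cls tp hxZ hz (hab z hzA x hx).symm h4)
    have h4 : Cl Z K x z ∈ NN Z K x := (cl_mem_NN h (h2 z hzA)).2 h3
    have h5 : A ⊆ Cl Z K x z := cl_mono h2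
    have h6 : A = Cl Z K x z := Set.eq_of_subset_of_ncard_le h5 (size hxZ haZ h4 hAa).le (Set.toFinite _)
    obtain ⟨D, hD⟩ := Set.ncard_eq_one.1 (h1 x hxZ)
    rw [hD] at h4 ⊢
    rw [h6, h4]
  have hABne : A ≠ B := fun e => not_cm_self h hz (hab z hzA z (e ▸ hzA))
  refine ⟨{A, B}, ⟨⟨A, Or.inl rfl, B, Or.inr rfl, hABne⟩, ?_, ?_, ?_, ?_⟩, A, Or.inl rfl, hzA⟩
  · rintro C (rfl | rfl)
    · exact hAZ
    · exact hBZ
  · rintro C (rfl | rfl)
    · exact ⟨z, hzA⟩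
    · exact ⟨a, haB⟩
  · rintro C (rfl | rfl) D (rfl | rfl) hne x hx y hy
    · exact (hne rfl).elim
    · exact hab x hx y hy
    · exact (hab y hy x hx).symm
    · exact (hne rfl).elim
  · rintro C (rfl | rfl) x hx
    · rw [hNA x hx, Set.insert_sdiff_of_mem _ (Set.mem_singleton A), Set.sdiff_singleton_eq_self]
      exact fun e => hABne e
    · rw [hNB x hx]
      ext D
      constructor
      · rintro rfl
        exact ⟨Or.inl rfl, hABne⟩
      · rintro ⟨rfl | rfl, h2⟩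
        · rfl
        · exact (h2 rfl).elim

/-- one non-nil class and no nil C-pair -/
theorem allOne (h1 : ∀ z ∈ Z, (NN Z K z).ncard = 1) (h2 : ∀ z ∈ Z, ∀ u ∈ Z, CP K z u → u ∉ oP 2 (centralizer {z})) :
    AllOne Z K := by
  have hT := fun {x : G} (hx : x ∈ Z) => TP.of_mem h tp hx
  have hun : ∀ {x : G} {A B : Set G}, x ∈ Z → A ∈ NN Z K x → B ∈ NN Z K x → A = B := by
    intro x A B hx hA hB
    obtain ⟨C, hC⟩ := Set.ncard_eq_one.1 (h1 x hx)
    rw [hC] at hA hB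
    exact hA.trans hB.symm
  have hcls : ∀ {z u v : G}, z ∈ Z → u ∈ Z → v ∈ Z → CP K z u → CP K z v → v ∈ Cl Z K z u := by
    intro z u v hz hu hv h3 h4
    have h5 : Cl Z K z u ∈ NN Z K z := (cl_mem_NN h (om_of_cm h hz hu h3.2)).2 (h2 z hz u hu h3)
    have h6 : Cl Z K z v ∈ NN Z K z := (cl_mem_NN h (om_of_cm h hz hv h4.2)).2 (h2 z hz v hv h4)
    rw [hun hz h5 h6]
    exact cl_refl z v
  have hone : ∀ {z u : G}, z ∈ Z → u ∈ Z → CP K z u → OneC Z K z u := fun {z u} hz hu h3 =>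
    (hT hz u (om_of_cm h hz hu h3.2)).resolve_left (h2 z hz u hu h3)
  refine ⟨h2, fun z hz u hu v hv => hcls hz hu hv, fun z hz u hu => hone hz hu, ?_⟩
  intro z hz a ha b hb hza hzb hab
  by_contra ht
  set t := z * a * b with htd
  have cza := h.comm_of_cp hz ha hza
  have czb := h.comm_of_cp hz hb hzb
  have cab := h.comm_of_cp ha hb hab
  have haz : CP K a z := hza.symm
  -- `t` centralises the classes `cl_z(a)` and `cl_a(z)`
  have haO := om_of_cm h hz ha hza.2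
  have hbO := om_of_cm h hz hb hzb.2
  have hzO := om_of_cm h ha hz haz.2
  have s1 : Cl Z K z a ⊆ Om Z K t := fun x hx => by
    have h3 := hone hz ha hza a (cl_refl z a) b (hcls hz ha hb hza hzb) hab.2 x hx
    have h4 := (cl_sub haO hx).2
    refine ⟨(cl_sub haO hx).1, ?_⟩
    rw [htd, mul_assoc]
    exact h4.mul h3
  have s2 : Cl Z K a z ⊆ Om Z K t := fun x hx => by
    have h3 := hone ha hz haz z (cl_refl a z) b (hcls ha hz hb haz hab) hzb.2 x hx
    have h4 := (cl_sub hzO hx).2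
    refine ⟨(cl_sub hzO hx).1, ?_⟩
    rw [htd, cza, mul_assoc]
    exact h4.mul h3
  have i1 : Cl Z K z a ⊆ Cl Z K t a := cl_mono s1
  have i2 : Cl Z K a z ⊆ Cl Z K t z := cl_mono s2
  have b1 : b ∈ Cl Z K t a := i1 (hcls hz ha hb hza hzb)
  have b2 : b ∈ Cl Z K t z := i2 (hcls ha hz hb haz hab)
  have aOt := s1 (cl_refl z a)
  have zOt := s2 (cl_refl a z)
  have hz1 : z ∈ Cl Z K t a := cl_trans b1 (cl_symm zOt b2)
  -- `T'` for `t`
  obtain ⟨S, hS⟩ : ∃ S : Sylow 2 G, z ∈ CS Z K S ∧ a ∈ CS Z K S ∧ b ∈ CS Z K S := by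
    classical
    obtain ⟨S, hS⟩ := (h.isPGroup_clique {z, a, b} (by
      intro x hx
      simp only [Finset.mem_insert, Finset.mem_singleton] at hx
      rcases hx with rfl | rfl | rfl
      · exact hz
      · exact ha
      · exact hb) (by
      intro x hx y hy hne
      simp only [Finset.mem_insert, Finset.mem_singleton] at hx hy
      rcases hx with rfl | rfl | rfl <;> rcases hy with rfl | rfl | rfl
      · exact (hne rfl).elim
      · exact hza
      · exact hzb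
      · exact hza.symm
      · exact (hne rfl).elim
      · exact hab
      · exact hzb.symm
      · exact hab.symm
      · exact (hne rfl).elim)).exists_le_sylow
    have h3 : ∀ x ∈ ({z, a, b} : Finset G), K x ≤ S := fun x hx => (le_iSup₂_of_le x hx le_rfl).trans hS
    exact ⟨S, ⟨hz, h3 z (by simp)⟩, ⟨ha, h3 a (by simp)⟩, ⟨hb, h3 b (by simp)⟩⟩
  have hTt : TPs Z K t := tp S t (mul_mem (mul_mem (subset_closure hS.1) (subset_closure hS.2.1))
    (subset_closure hS.2.2)) ht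
  have ann := h2 z hz a ha hza
  rcases hTt a aOt with h3 | h3
  · apply ann
    refine nil_down h haO (isPGroup_oP 2 (centralizer {t})) fun x hx => ?_
    exact (nil_cl h aOt (i1 hx)).2 h3
  · apply ann
    refine nil_of_ce h haO fun x hx => ?_
    have h4 := h3 z hz1 a (cl_refl t a) hza.2 x (i1 hx)
    have h5 : z * (z * a) = a := by rw [← mul_assoc, h.sq z hz, one_mul]
    rw [← h5]
    exact (cl_sub haO hx).2.mul h4

/-- **the trichotomy** -/
theorem trich : (∀ z ∈ Z, ∀ u ∈ Z, CP K z u → u ∈ oP 2 (centralizer {z})) ∨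
    (∀ z ∈ Z, ∃ F, Frm Z K F ∧ ∃ A ∈ F, z ∈ A) ∨ AllOne Z K := by
  by_cases h0 : ∀ z ∈ Z, (NN Z K z).ncard = 0
  · left
    intro z hz u hu hc
    by_contra hn
    have h1 : Cl Z K z u ∈ NN Z K z := (cl_mem_NN h (om_of_cm h hz hu hc.2)).2 hn
    rw [(Set.ncard_eq_zero (Set.toFinite _)).1 (h0 z hz)] at h1
    exact h1
  · right
    push Not at h0
    obtain ⟨z0, hz0, h0⟩ := h0
    by_cases h1 : (NN Z K z0).ncard = 1
    · have h1' : ∀ z ∈ Z, (NN Z K z).ncard = 1 := fun z hz => by rw [NN_ncard h cls hz0 hz, h1]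
      by_cases h2 : ∀ z ∈ Z, ∀ u ∈ Z, CP K z u → u ∉ oP 2 (centralizer {z})
      · exact Or.inr (allOne h cls tp h1' h2)
      · left
        push Not at h2
        obtain ⟨z, hz, u, hu, hc, hn⟩ := h2
        obtain ⟨F, hF, A, hA, hzA⟩ := frame_of_nil h cls tp h1' hz hu hc.2 hn
        intro y hy
        obtain ⟨g, rfl⟩ := cls z hz y hy
        exact ⟨_, hF.conj h g, _, ⟨A, hA, rfl⟩, ⟨z, hzA, rfl⟩⟩
    · left
      intro z hz
      apply frame_of_two h cls tp hz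
      have h2 : 1 < (NN Z K z).ncard := by
        rw [NN_ncard h cls hz0 hz]
        omega
      obtain ⟨A, hA, B, hB, hAB⟩ := (Set.one_lt_ncard (Set.toFinite _)).1 h2
      exact ⟨A, hA, B, hB, hAB⟩

end

end Cfsg.Agent.Cit.Nil.CompR
end
end

-- part: Cit/Nil/CompR/Count
section
prune_inst 0x1004000022000000000000000000400000000200000000000000000100000000000000000000100000000000000020034c0000420800000a000000000400000000000000000000000000000000000000000000000000000000000000000000000000000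
set_option linter.all false
open scoped Cfsg.Agent.FastGrp

/-!
# S1309 (6b), COMP, any `r`: the count of step (4) of `AN(s)` (helper472), for the world of points

`CnZ Z K` : the centre of `K z` is `⟨z⟩`; `CnZ.of_wr`, `CnZ.of_one`.

`Mv Z K S S' b` : `b ∈ S` is an involution commuting with no point of `C_S`; the elements `k * b k b⁻¹`,
`k ∈ K y`, `y ∈ C_S`, are in `S'`; the nontrivial products of the elements `y * b y b⁻¹`, `y ∈ C_S`, commute with no point
of `C_S'`.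

**`Mv.false`** : this is impossible (`ROne/Count.lean` for `GW`).
-/

set_option autoImplicit false
set_option linter.style.haveILetI false
set_option linter.unusedSectionVars false

namespace Cfsg.Agent.Cit.Nil.CompR

open Subgroup Cfsg Cfsg.Agent.Cit Cfsg.Agent.Cit.Nil.AN
open Cfsg.Agent.Cit.Nil.ROne (CP CS TT OneCls)

variable {G : Type*} [Group G] {Z : Set G} {K : G → Subgroup G} {z u v x y g s a b c : G}

/-- the centre of `K z` is `⟨z⟩` -/
def CnZ (Z : Set G) (K : G → Subgroup G) : Prop :=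
  ∀ z ∈ Z, ∀ x ∈ K z, (∀ k ∈ K z, x * k = k * x) → x = 1 ∨ x = z

theorem CnZ.of_wr [Finite G] {Om : Set (Subgroup G)} (h : RG.WR Om) : CnZ (RG.ZZ Om) (RG.RR Om) :=
  fun _ _ _ hx hc => h.RR_center hx fun _ hK k hk => hc k (RG.WR.le_RR hK hk)

theorem CnZ.of_one [Finite G] (h : ROne.W Z K) : CnZ Z K := by
  intro z hz x hx hc
  have h1 := Cfsg.Agent.Cit.ROne.eq_of_center h.hyp (K := K z) ⟨z, hz, rfl⟩ (h.two hz) hx hc
  rwa [h.zz_K hz] at h1

namespace GW

theorem conj_mem_K (w : GW Z K) (hz : z ∈ Z) (g : G) (hx : x ∈ K z) : g * x * g⁻¹ ∈ K (g * z * g⁻¹) := by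
  rw [w.conjK z hz g]
  exact conj_mem_cj hx

theorem ce_conj (w : GW Z K) (hz : z ∈ Z) (g : G) (hc : Ce x (K z)) : Ce (g * x * g⁻¹) (K (g * z * g⁻¹)) := by
  rw [w.conjK z hz]
  exact hc.cj g

/-- `K z` has at least 8 elements -/
theorem eight_le [Finite G] (w : GW Z K) (hz : z ∈ Z) : 8 ≤ Nat.card (K z) := by
  haveI : Fact (Nat.Prime 2) := ⟨Nat.prime_two⟩
  obtain ⟨n, hn⟩ := IsPGroup.iff_card.1 (w.two hz)
  by_contra hlt
  rw [not_le, hn] at hlt
  have h3 : n < 3 := by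
    by_contra h4
    rw [not_lt] at h4
    have h5 := Nat.pow_le_pow_right (n := 2) (by norm_num) h4
    omega
  apply w.nab hz
  have key : ∀ a b : K z, a * b = b * a := by
    interval_cases n
    · have h1 : Nat.card (K z) = 1 := by rw [hn, pow_zero]
      haveI := (Nat.card_eq_one_iff_unique.1 h1).1
      exact fun a b => Subsingleton.elim _ _
    · haveI : IsCyclic (K z) := isCyclic_of_prime_card (p := 2) (by rw [hn, pow_one])
      intro a b
      obtain ⟨g, hg⟩ := IsCyclic.exists_generator (α := K z)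
      obtain ⟨i, rfl⟩ := hg a
      obtain ⟨j, rfl⟩ := hg b
      show g ^ i * g ^ j = g ^ j * g ^ i
      rw [← zpow_add, ← zpow_add, add_comm]
    · haveI : IsMulCommutative (K z) := IsPGroup.isMulCommutative_of_card_eq_prime_sq (p := 2) (by rw [hn])
      exact fun a b => mul_comm' a b
  intro k hk l hl
  exact congrArg Subtype.val (key ⟨k, hk⟩ ⟨l, hl⟩)

end GW

/-- see the head of the file -/
structure Mv [Finite G] (Z : Set G) (K : G → Subgroup G) (S S' : Sylow 2 G) (b : G) : Prop where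
  w : GW Z K
  cn : CnZ Z K
  ne : (CS Z K (S : Subgroup G)).Nonempty
  mem : b ∈ (S : Subgroup G)
  sq : b * b = 1
  mv : ∀ y ∈ CS Z K (S : Subgroup G), b * y * b⁻¹ ≠ y
  le : ∀ y ∈ CS Z K (S : Subgroup G), ∀ k ∈ K y, k * (b * k * b⁻¹) ∈ (S' : Subgroup G)
  fx : ∀ x ∈ Subgroup.closure {x | ∃ y ∈ CS Z K (S : Subgroup G), x = y * (b * y * b⁻¹)}, x ≠ 1 →
    ∀ y ∈ CS Z K (S' : Subgroup G), x * y * x⁻¹ ≠ y

namespace Mv

variable [Finite G] {S S' : Sylow 2 G}

theorem conj_CS (w : GW Z K) {S : Subgroup G} {s : G} (hs : s ∈ S) (hy : y ∈ CS Z K S) : s * y * s⁻¹ ∈ CS Z K S := by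
  refine ⟨w.conjZ y hy.1 s, ?_⟩
  rw [w.conjK y hy.1]
  intro x hx
  rw [mem_cj] at hx
  have h1 : x = s * (s⁻¹ * x * s) * s⁻¹ := by group
  rw [h1]
  exact mul_mem (mul_mem hs (hy.2 hx)) (inv_mem hs)

/-- `b` permutes `C_S` -/
theorem cj_mem (h : Mv Z K S S' b) (hy : y ∈ CS Z K (S : Subgroup G)) : b * y * b⁻¹ ∈ CS Z K (S : Subgroup G) :=
  conj_CS h.w h.mem hy

theorem cj_cj (h : Mv Z K S S' b) (y : G) : b * (b * y * b⁻¹) * b⁻¹ = y := by
  have h1 : b⁻¹ = b := inv_eq_of_mul_eq_one_right h.sq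
  rw [h1]
  calc b * (b * y * b) * b = (b * b) * y * (b * b) := by group
    _ = y := by rw [h.sq, one_mul, mul_one]

/-- members of different points of `C_S` commute -/
theorem comm (h : Mv Z K S S' b) (hy : y ∈ CS Z K (S : Subgroup G)) (hu : u ∈ CS Z K (S : Subgroup G)) (hne : y ≠ u)
    {p q : G} (hp : p ∈ K y) (hq : q ∈ K u) : p * q = q * p :=
  (h.w.com S S.isPGroup' hy.1 hu.1 hy.2 hu.2 hne).2 p hp q hq

/-- the homomorphism `k ↦ k * b k b⁻¹` -/
def ph (h : Mv Z K S S' b) (y : G) (hy : y ∈ CS Z K (S : Subgroup G)) : ↥(K y) →* G where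
  toFun k := k * (b * k * b⁻¹)
  map_one' := by simp
  map_mul' p q := by
    have h1 := h.comm (h.cj_mem hy) hy (h.mv y hy) (h.w.conj_mem_K hy.1 b p.2) q.2
    change (p : G) * q * (b * (p * q) * b⁻¹) = p * (b * p * b⁻¹) * (q * (b * q * b⁻¹))
    calc (p : G) * q * (b * (p * q) * b⁻¹) = p * (q * (b * p * b⁻¹)) * (b * q * b⁻¹) := by group
      _ = p * ((b * p * b⁻¹) * q) * (b * q * b⁻¹) := by rw [h1]
      _ = _ := by group

theorem ph_apply (h : Mv Z K S S' b) (hy : y ∈ CS Z K (S : Subgroup G)) (k : K y) :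
    h.ph y hy k = k * (b * k * b⁻¹) := rfl

theorem ph_comm (h : Mv Z K S S' b) (hy : y ∈ CS Z K (S : Subgroup G)) (hu : u ∈ CS Z K (S : Subgroup G)) (h1 : y ≠ u)
    (h2 : b * y * b⁻¹ ≠ u) (p : K y) (q : K u) : Commute (h.ph y hy p) (h.ph u hu q) := by
  have h3 : y ≠ b * u * b⁻¹ := fun e => h2 (by rw [e, h.cj_cj])
  have h4 : b * y * b⁻¹ ≠ b * u * b⁻¹ := fun e => h1 (mul_left_cancel (mul_right_cancel e))
  have c1 : Commute (p : G) q := h.comm hy hu h1 p.2 q.2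
  have c2 : Commute (p : G) (b * q * b⁻¹) := h.comm hy (h.cj_mem hu) h3 p.2 (h.w.conj_mem_K hu.1 b q.2)
  have c3 : Commute (b * p * b⁻¹) (q : G) := h.comm (h.cj_mem hy) hu h2 (h.w.conj_mem_K hy.1 b p.2) q.2
  have c4 : Commute (b * p * b⁻¹) (b * q * b⁻¹) :=
    h.comm (h.cj_mem hy) (h.cj_mem hu) h4 (h.w.conj_mem_K hy.1 b p.2) (h.w.conj_mem_K hu.1 b q.2)
  exact (c1.mul_right c2).mul_left (c3.mul_right c4)

theorem ph_injective (h : Mv Z K S S' b) (hy : y ∈ CS Z K (S : Subgroup G)) : Function.Injective (h.ph y hy) := by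
  rw [injective_iff_map_eq_one]
  intro k hk
  rw [h.ph_apply hy] at hk
  have h1 : (k : G)⁻¹ ∈ K (b * y * b⁻¹) := by
    rw [inv_eq_of_mul_eq_one_right hk]
    exact h.w.conj_mem_K hy.1 b k.2
  have h3 : ∀ l ∈ K y, (k : G)⁻¹ * l = l * (k : G)⁻¹ := fun l hl => h.comm (h.cj_mem hy) hy (h.mv y hy) h1 hl
  rcases h.cn y hy.1 _ ((K y).inv_mem k.2) h3 with h4 | h4
  · exact Subtype.ext (inv_eq_one.1 h4)
  · exfalso
    have h5 : (k : G) = y := by rw [← inv_inv (k : G), h4, h.w.inv hy.1]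
    rw [h5, mul_eq_one_iff_eq_inv', h.w.inv hy.1] at hk
    exact h.mv y hy hk

/-! ### The representatives -/

variable (Z K S) in
/-- the points of `S` -/
abbrev Al : Type _ := ↥(CS Z K (S : Subgroup G))

/-- the action of `b` -/
def sg (h : Mv Z K S S' b) (y : Al Z K S) : Al Z K S := ⟨b * y.1 * b⁻¹, h.cj_mem y.2⟩

theorem sg_sg (h : Mv Z K S S' b) (y : Al Z K S) : h.sg (h.sg y) = y := Subtype.ext (h.cj_cj y.1)

theorem sg_ne (h : Mv Z K S S' b) (y : Al Z K S) : h.sg y ≠ y := fun e => h.mv y.1 y.2 (congrArg Subtype.val e)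

/-- representatives of the orbits of `b` -/
def Rp (h : Mv Z K S S' b) : Type _ := {y : Al Z K S // Finite.equivFin _ y < Finite.equivFin _ (h.sg y)}

instance (h : Mv Z K S S' b) : Finite h.Rp :=
  inferInstanceAs (Finite {y : Al Z K S // Finite.equivFin _ y < Finite.equivFin _ (h.sg y)})

theorem card_le (h : Mv Z K S S' b) : Nat.card (Al Z K S) ≤ 2 * Nat.card h.Rp := by
  have h1 : Function.Surjective (fun x : h.Rp × Bool => if x.2 then x.1.1 else h.sg x.1.1) := by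
    intro y
    rcases lt_trichotomy (Finite.equivFin _ y) (Finite.equivFin _ (h.sg y)) with h2 | h2 | h2
    · exact ⟨(⟨y, h2⟩, true), rfl⟩
    · exact absurd ((Finite.equivFin _).injective h2).symm (h.sg_ne y)
    · refine ⟨(⟨h.sg y, by rw [h.sg_sg]; exact h2⟩, false), ?_⟩
      change h.sg (h.sg y) = y
      exact h.sg_sg y
  have h2 := Nat.card_le_card_of_surjective _ h1
  rw [Nat.card_prod, Nat.card_eq_fintype_card (α := Bool), Fintype.card_bool] at h2
  omega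

theorem Rp.ne (h : Mv Z K S S' b) {i j : h.Rp} (hij : i ≠ j) : i.1.1 ≠ j.1.1 := fun e =>
  hij (Subtype.ext (Subtype.ext e))

theorem Rp.ne' (h : Mv Z K S S' b) (i j : h.Rp) : b * i.1.1 * b⁻¹ ≠ j.1.1 := by
  intro e
  have h1 : h.sg i.1 = j.1 := Subtype.ext e
  have h2 := i.2
  have h3 := j.2
  rw [← h1, h.sg_sg] at h3
  exact lt_asymm h2 h3

theorem pairwise (h : Mv Z K S S' b) : Pairwise fun i j : h.Rp => ∀ (p : K i.1.1) (q : K j.1.1),
    Commute (h.ph i.1.1 i.1.2 p) (h.ph j.1.1 j.1.2 q) := fun i j hij p q =>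
  h.ph_comm i.1.2 j.1.2 (Rp.ne h hij) (Rp.ne' h i j) p q

noncomputable instance (h : Mv Z K S S' b) : Fintype h.Rp := Fintype.ofFinite _

/-- the homomorphism `(k_i) ↦ ∏ k_i * b k_i b⁻¹` -/
noncomputable def Ph (h : Mv Z K S S' b) : ((i : h.Rp) → K i.1.1) →* G :=
  MonoidHom.noncommPiCoprod (fun i => h.ph i.1.1 i.1.2) h.pairwise

theorem Ph_mem (h : Mv Z K S S' b) (H : Subgroup G) (f : (i : h.Rp) → K i.1.1)
    (hf : ∀ i, h.ph i.1.1 i.1.2 (f i) ∈ H) : h.Ph f ∈ H := by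
  rw [Ph, MonoidHom.noncommPiCoprod_apply]
  exact Subgroup.noncommProd_mem H _ fun i _ => hf i

open Classical in
theorem Ph_eq (h : Mv Z K S S' b) (f : (i : h.Rp) → K i.1.1) (j : h.Rp) :
    h.Ph f = h.ph j.1.1 j.1.2 (f j) * h.Ph (Function.update f j 1) := by
  have h1 : f = Pi.mulSingle j (f j) * Function.update f j 1 := by
    ext i
    by_cases hij : i = j
    · subst hij
      simp
    · simp [hij]
  conv_lhs => rw [h1, map_mul]
  congr 1
  exact MonoidHom.noncommPiCoprod_mulSingle (ϕ := fun i : h.Rp => h.ph i.1.1 i.1.2) (hcomm := h.pairwise) j (f j)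

/-- an element of `Π K_i` whose image commutes with the image of `K_j` -/
theorem eq_of_comm (h : Mv Z K S S' b) {f : (i : h.Rp) → K i.1.1} (j : h.Rp)
    (hf : ∀ l : K j.1.1, Commute (h.Ph f) (h.ph j.1.1 j.1.2 l)) : (f j : G) = 1 ∨ (f j : G) = j.1.1 := by
  classical
  have h1 : ∀ l : K j.1.1, Commute (h.Ph (Function.update f j 1)) (h.ph j.1.1 j.1.2 l) := by
    intro l
    have h2 : h.Ph (Function.update f j 1) ∈ centralizer {h.ph j.1.1 j.1.2 l} := by
      refine h.Ph_mem _ _ fun i => ?_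
      rw [mem_centralizer_singleton_iff]
      by_cases hij : i = j
      · subst hij
        simp
      · rw [Function.update_of_ne hij]
        exact ((h.ph_comm i.1.2 j.1.2 (Rp.ne h hij) (Rp.ne' h i j) _ _).symm).symm
    rw [mem_centralizer_singleton_iff] at h2
    exact h2
  have h3 : ∀ l : K j.1.1, Commute (h.ph j.1.1 j.1.2 (f j)) (h.ph j.1.1 j.1.2 l) := by
    intro l
    have h4 : h.ph j.1.1 j.1.2 (f j) = h.Ph f * (h.Ph (Function.update f j 1))⁻¹ := by
      rw [h.Ph_eq f j, mul_inv_cancel_right]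
    rw [h4]
    exact (hf l).mul_left (h1 l).inv_left
  refine h.cn j.1.1 j.1.2.1 (f j) (f j).2 fun y hy => ?_
  have h5 := h3 ⟨y, hy⟩
  have h6 : f j * ⟨y, hy⟩ = ⟨y, hy⟩ * f j := by
    apply h.ph_injective j.1.2
    rw [map_mul, map_mul]
    exact h5
  exact congrArg Subtype.val h6

/-- the order of the kernel -/
theorem card_ker_le (h : Mv Z K S S' b) : Nat.card h.Ph.ker ≤ 2 ^ Nat.card h.Rp := by
  classical
  have h1 : Function.Injective (fun (f : h.Ph.ker) (i : h.Rp) => decide (f.1 i = 1)) := by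
    intro f g hfg
    refine Subtype.ext (funext fun i => ?_)
    have hf := h.eq_of_comm (f := f.1) i fun l => by
      rw [(MonoidHom.mem_ker).1 f.2]
      exact Commute.one_left _
    have hg := h.eq_of_comm (f := g.1) i fun l => by
      rw [(MonoidHom.mem_ker).1 g.2]
      exact Commute.one_left _
    have h2 := congrFun hfg i
    simp only [decide_eq_decide] at h2
    rcases hf with hf | hf
    · have h3 : f.1 i = 1 := Subtype.ext hf
      rw [h3, h2.1 h3]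
    · rcases hg with hg | hg
      · have h3 : g.1 i = 1 := Subtype.ext hg
        rw [h3, h2.2 h3]
      · exact Subtype.ext (hf.trans hg.symm)
  refine (Nat.card_le_card_of_injective _ h1).trans ?_
  rw [Nat.card_fun, Nat.card_eq_fintype_card (α := Bool), Fintype.card_bool]

theorem eight_le (h : Mv Z K S S' b) (i : h.Rp) : 8 ≤ Nat.card (K i.1.1) := h.w.eight_le i.1.2.1

theorem isPGroup_range (h : Mv Z K S S' b) : IsPGroup 2 h.Ph.range :=
  S'.isPGroup'.to_le (by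
    rintro _ ⟨f, rfl⟩
    exact h.Ph_mem _ _ fun i => h.le _ i.1.2 _ (f i).2)

/-- `2 ^ m` divides the order of the image -/
theorem two_pow_dvd (h : Mv Z K S S' b) : 2 ^ Nat.card (Al Z K S) ∣ Nat.card h.Ph.range := by
  classical
  have h1 : Nat.card ((i : h.Rp) → K i.1.1) = Nat.card h.Ph.ker * Nat.card h.Ph.range := by
    rw [← Subgroup.card_mul_index h.Ph.ker, Subgroup.index_ker]
  have h2 : 8 ^ Nat.card h.Rp ≤ Nat.card ((i : h.Rp) → K i.1.1) := by
    rw [Nat.card_pi, Nat.card_eq_fintype_card]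
    exact Finset.pow_card_le_prod _ _ _ fun i _ => h.eight_le i
  have h3 := h.card_ker_le
  obtain ⟨e, he⟩ := IsPGroup.iff_card.1 h.isPGroup_range
  rw [he]
  refine pow_dvd_pow 2 ?_
  by_contra hlt
  rw [not_le] at hlt
  have h4 := h.card_le
  have h5 : 2 ^ e < 4 ^ Nat.card h.Rp := by
    have h6 : (4 : ℕ) ^ Nat.card h.Rp = 2 ^ (2 * Nat.card h.Rp) := by rw [pow_mul]; norm_num
    rw [h6]
    exact Nat.pow_lt_pow_right (by norm_num) (by omega)
  rw [h1, he] at h2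
  have h7 : (8 : ℕ) ^ Nat.card h.Rp = 2 ^ Nat.card h.Rp * 4 ^ Nat.card h.Rp := by rw [← mul_pow]; norm_num
  rw [h7] at h2
  have h8 : 0 < 2 ^ Nat.card h.Rp := by positivity
  have h9 : Nat.card h.Ph.ker * 2 ^ e < 2 ^ Nat.card h.Rp * 4 ^ Nat.card h.Rp := by
    calc Nat.card h.Ph.ker * 2 ^ e ≤ 2 ^ Nat.card h.Rp * 2 ^ e := Nat.mul_le_mul_right _ h3
      _ < 2 ^ Nat.card h.Rp * 4 ^ Nat.card h.Rp := Nat.mul_lt_mul_of_pos_left h5 h8
  exact absurd h2 (not_le.2 h9)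

/-- the action of `S'` on `C_S'` -/
noncomputable def act (h : Mv Z K S S' b) : ↥(S' : Subgroup G) →* Equiv.Perm (Al Z K S') where
  toFun s :=
    { toFun := fun y => ⟨(s : G) * y.1 * (s : G)⁻¹, conj_CS h.w s.2 y.2⟩
      invFun := fun y => ⟨(s : G)⁻¹ * y.1 * (s : G)⁻¹⁻¹, conj_CS h.w (inv_mem s.2) y.2⟩
      left_inv := fun y => Subtype.ext (by
        change (s : G)⁻¹ * ((s : G) * y.1 * (s : G)⁻¹) * (s : G)⁻¹⁻¹ = y.1
        group)
      right_inv := fun y => Subtype.ext (by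
        change (s : G) * ((s : G)⁻¹ * y.1 * (s : G)⁻¹⁻¹) * (s : G)⁻¹ = y.1
        group) }
  map_one' := Equiv.ext fun y => Subtype.ext (by
    change (1 : G) * y.1 * (1 : G)⁻¹ = y.1
    rw [one_mul, inv_one, mul_one])
  map_mul' s t := Equiv.ext fun y => Subtype.ext (by
    change ((s : G) * t) * y.1 * ((s : G) * t)⁻¹ = (s : G) * ((t : G) * y.1 * (t : G)⁻¹) * (s : G)⁻¹
    group)

theorem range_le (h : Mv Z K S S' b) : h.Ph.range ≤ (S' : Subgroup G) := by
  rintro _ ⟨f, rfl⟩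
  exact h.Ph_mem _ _ fun i => h.le _ i.1.2 _ (f i).2

/-- `|C_S| = |C_S'|` -/
theorem card_eq (h : Mv Z K S S' b) : Nat.card (Al Z K S') = Nat.card (Al Z K S) := by
  obtain ⟨g, hg⟩ := MulAction.exists_smul_eq G S S'
  have h1 : (S' : Subgroup G) = cj g (S : Subgroup G) := by
    rw [← hg]
    rfl
  have h2 := h.w.ncard_CS_cj g (S : Subgroup G)
  rw [← h1] at h2
  rw [Set.ncard, Set.encard, Set.ncard, Set.encard] at h2
  exact h2

/-- **the count** -/
protected theorem false (h : Mv Z K S S' b) : False := by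
  classical
  haveI : Nonempty (Al Z K S) := h.ne.to_subtype
  have hm : Nat.card (Al Z K S) ≠ 0 := Nat.card_pos.ne'
  haveI : Nonempty (Al Z K S') := by
    have h1 : Nat.card (Al Z K S') ≠ 0 := by rw [h.card_eq]; exact hm
    exact (Nat.card_pos_iff.1 (Nat.pos_of_ne_zero h1)).1
  obtain ⟨L⟩ := this
  -- the action of the image
  let ρ : h.Ph.range →* Equiv.Perm (Al Z K S') := h.act.comp (inclusion h.range_le)
  have hinj : ρ.ker = ⊥ := by
    by_contra hne
    haveI := h.isPGroup_range.isNilpotent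
    obtain ⟨x, hx, hx1⟩ := (Subgroup.bot_or_exists_ne_one _).resolve_left
      (Lib.NormalAbelian.normal_inf_center_ne_bot ρ.ker hne)
    obtain ⟨f, hf⟩ := x.2
    have hcen : ∀ y : h.Ph.range, y * x = x * y := mem_center_iff.1 hx.2
    have h3 : ∀ j : h.Rp, (f j : G) = 1 ∨ (f j : G) = j.1.1 := by
      intro j
      refine h.eq_of_comm j fun l => ?_
      have h4 : h.ph j.1.1 j.1.2 l ∈ h.Ph.range :=
        ⟨Pi.mulSingle j l, MonoidHom.noncommPiCoprod_mulSingle (ϕ := fun i : h.Rp => h.ph i.1.1 i.1.2)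
          (hcomm := h.pairwise) j l⟩
      rw [hf]
      exact (congrArg Subtype.val (hcen ⟨_, h4⟩)).symm
    have h5 : (x : G) ∈ Subgroup.closure {x | ∃ y ∈ CS Z K (S : Subgroup G), x = y * (b * y * b⁻¹)} := by
      rw [← hf]
      refine h.Ph_mem _ _ fun i => ?_
      rw [h.ph_apply]
      rcases h3 i with h6 | h6
      · rw [h6]
        simp
      · rw [h6]
        exact subset_closure ⟨_, i.1.2, rfl⟩
    have h7 : (x : G) ≠ 1 := fun e => hx1 (Subtype.ext e)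
    refine h.fx x h5 h7 L.1 L.2 ?_
    have h8 : ρ x = 1 := hx.1
    have h9 := congrArg (fun σ : Equiv.Perm (Al Z K S') => (σ L).1) h8
    exact h9
  have h1 : Nat.card h.Ph.range ∣ Nat.card (Equiv.Perm (Al Z K S')) :=
    Subgroup.card_dvd_of_injective ρ ((MonoidHom.ker_eq_bot_iff ρ).1 hinj)
  rw [Nat.card_perm, h.card_eq] at h1
  have h2 := h.two_pow_dvd.trans h1
  have h3 := Nat.emultiplicity_two_factorial_lt hm
  exact absurd (le_emultiplicity_of_pow_dvd h2) (not_le.2 h3)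

end Mv

end Cfsg.Agent.Cit.Nil.CompR

private theorem dce_e2bdce36019a : _root_.True := by
  try have : _root_.True := by simp only [_root_.Cfsg.Agent.Cit.Nil.CompR.Mv.Rp.congr_simp]
  try have : _root_.True := by simp only [_root_.Cfsg.Agent.Cit.Nil.CompR.Mv.ph.congr_simp]
  try have : _root_.True := by simp only [_root_.Cfsg.Agent.Cit.Nil.CompR.Mv.Ph.eq_1]
  exact _root_.True.intro
end

-- part: Cit/Nil/CompR/ProdFour
section
prune_inst 0x201008000000000000180000a000044000000002000000002000000001000000a0450001006001100010005020000060034c00000028000000000800000400001000000000001000200000000000000000000000000000000000000000000000000000000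
set_option linter.all false
open scoped Cfsg.Agent.FastGrp

/-!
# S1309 (6b), COMP, any `r`, the product situation: (F4) of helper454's text (bb R18 #15492); `Comp/ProdFour.lean` for `GW`

`Fram Z K Sg Kl` : the product situation after (F1)-(F3): `Sg z` is the union of the frame of `z`, `Kl z` the class of `z`
in the frame.

* `Fram.MM` : the stabiliser `M` of the frame of `z`;
* `Fram.om_sub` : the members of `C(h)`, `h ∈ T_S`, `h ≠ 1`, are in the frame of `S`;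
* `Fram.cent_le` : `C(h) ≤ M`;
* `Fram.mem_MM_of_conj` : `g h g⁻¹ ∈ M` implies `g ∈ M`.
-/

set_option autoImplicit false
set_option linter.style.haveILetI false
set_option linter.unusedSectionVars false

namespace Cfsg.Agent.Cit.Nil.CompR

open Subgroup Cfsg Cfsg.Agent.Cit
open Cfsg.Agent.Cit.Nil.AN (Om Cl OneC Ce Cm)
open Cfsg.Agent.Cit.Nil.ROne (CP CS TT OneCls)
open Cfsg.Agent.OddOrderLocal.NilParts Cfsg.Agent.StdEven.Syl

variable {G : Type*} [Group G]

/-- the product situation, output of (F1)-(F3) -/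
structure Fram (Z : Set G) (K : G → Subgroup G) (Sg Kl : G → Set G) : Prop where
  subZ : ∀ z ∈ Z, Sg z ⊆ Z
  self : ∀ z ∈ Z, z ∈ Kl z
  sub : ∀ z ∈ Z, Kl z ⊆ Sg z
  sgEq : ∀ z ∈ Z, ∀ u ∈ Sg z, Sg u = Sg z
  klEq : ∀ z ∈ Z, ∀ u ∈ Kl z, Kl u = Kl z
  conj : ∀ z ∈ Z, ∀ g : G, ∀ u ∈ Sg z, g * u * g⁻¹ ∈ Sg (g * z * g⁻¹)
  /-- different classes of a frame commute -/
  cm : ∀ z ∈ Z, ∀ u ∈ Sg z, u ∉ Kl z → CP K z u
  /-- there are at least two classes -/
  ex : ∀ z ∈ Z, ∃ u ∈ Sg z, u ∉ Kl z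
  /-- a class is not a commuting family -/
  nc : ∀ z ∈ Z, ∃ b ∈ Kl z, ∃ b' ∈ Kl z, b ≠ b' ∧ ¬ CP K b b'
  /-- (F1) -/
  f1 : ∀ u ∈ Z, ∀ v ∈ Z, CP K u v → v ∈ Sg u
  /-- (F2) -/
  f2 : ∀ x ∈ Z, ∀ u ∈ Z, CP K u (x * u * x⁻¹) → x ∈ Sg u
  /-- (F3) -/
  f3 : ∀ z ∈ Z, ∀ x ∈ Z, x * z * x⁻¹ ∈ Sg z → x ∈ Sg z

/-- `T'` for `S`: the classes of `C(s)`, `s ∈ T_S`, `s ≠ 1`, are nil or `ONE` -/
def TPS (Z : Set G) (K : G → Subgroup G) (S : Subgroup G) : Prop := ∀ s ∈ TT Z K S, s ≠ 1 → TPs Z K s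

theorem TP.tps {Z : Set G} {K : G → Subgroup G} (h : TP Z K) (S : Sylow 2 G) : TPS Z K (S : Subgroup G) := h S

/-- `m = 2`: the case which needs the structure of the class of `C(z₁ z₂)` -/
def MTwo (Z : Set G) (K : G → Subgroup G) (S : Subgroup G) : Prop :=
  ∀ z₁ z₂, z₁ ≠ z₂ → CS Z K S = {z₁, z₂} → (∀ u ∈ Om Z K (z₁ * z₂), u ∈ Cl Z K (z₁ * z₂) z₁) →
    OneC Z K (z₁ * z₂) z₁ → False

namespace Fram

variable {Z : Set G} {K : G → Subgroup G} {Sg Kl : G → Set G} {z u v g h x : G}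

section basic

variable (f : Fram Z K Sg Kl)

include f

theorem mem_Z (hz : z ∈ Z) (hu : u ∈ Sg z) : u ∈ Z := f.subZ z hz hu

theorem selfS (hz : z ∈ Z) : z ∈ Sg z := f.sub z hz (f.self z hz)

theorem sg_symm (hz : z ∈ Z) (hu : u ∈ Sg z) : z ∈ Sg u := by
  rw [f.sgEq z hz u hu]; exact f.selfS hz

theorem kl_mem_Z (hz : z ∈ Z) (hu : u ∈ Kl z) : u ∈ Z := f.subZ z hz (f.sub z hz hu)

theorem kl_symm (hz : z ∈ Z) (hu : u ∈ Kl z) : z ∈ Kl u := by
  rw [f.klEq z hz u hu]; exact f.self z hz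

theorem kl_sub (hz : z ∈ Z) (hu : u ∈ Sg z) : Kl u ⊆ Sg z := by
  rw [← f.sgEq z hz u hu]; exact f.sub u (f.mem_Z hz hu)

theorem cm' (hz : z ∈ Z) (hu : u ∈ Sg z) (hv : v ∈ Sg z) (hn : v ∉ Kl u) : CP K u v :=
  f.cm u (f.mem_Z hz hu) v (by rw [f.sgEq z hz u hu]; exact hv) hn

/-- the stabiliser of the frame of `z` -/
def MM (hz : z ∈ Z) : Subgroup G where
  carrier := {g | g * z * g⁻¹ ∈ Sg z}
  one_mem' := by
    change 1 * z * 1⁻¹ ∈ Sg z
    rw [one_mul, inv_one, mul_one]; exact f.selfS hz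
  mul_mem' {a b} ha hb := by
    change a * b * z * (a * b)⁻¹ ∈ Sg z
    have h1 := f.conj z hz a _ hb
    rw [f.sgEq z hz _ ha] at h1
    have e : a * b * z * (a * b)⁻¹ = a * (b * z * b⁻¹) * a⁻¹ := by group
    rwa [e]
  inv_mem' {a} ha := by
    change a⁻¹ * z * a⁻¹⁻¹ ∈ Sg z
    have h1 := f.conj _ (f.mem_Z hz ha) a⁻¹ z (f.sg_symm hz ha)
    have e : a⁻¹ * (a * z * a⁻¹) * a⁻¹⁻¹ = z := by group
    rwa [e] at h1

theorem mem_MM (hz : z ∈ Z) : g ∈ f.MM hz ↔ g * z * g⁻¹ ∈ Sg z := Iff.rfl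

/-- `g` stabilises the frame iff it maps some element of the frame into the frame -/
theorem mem_MM_of (hz : z ∈ Z) (hu : u ∈ Sg z) (hg : g * u * g⁻¹ ∈ Sg z) : g ∈ f.MM hz := by
  rw [f.mem_MM hz]
  have h1 := f.conj u (f.mem_Z hz hu) g z (f.sg_symm hz hu)
  rwa [f.sgEq z hz _ hg] at h1

theorem mem_MM_conj (hz : z ∈ Z) (hg : g ∈ f.MM hz) (hu : u ∈ Sg z) : g * u * g⁻¹ ∈ Sg z := by
  have h1 := f.conj z hz g u hu
  rwa [f.sgEq z hz _ hg] at h1

theorem mem_MM_of_comm (hz : z ∈ Z) (hu : u ∈ Sg z) (hg : g * u = u * g) : g ∈ f.MM hz := by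
  refine f.mem_MM_of hz hu ?_
  rw [hg, mul_inv_cancel_right]; exact hu

/-- (F3) -/
theorem mem_of_MM (hz : z ∈ Z) (hx : x ∈ Z) (h1 : x ∈ f.MM hz) : x ∈ Sg z := f.f3 z hz x hx h1

/-- two frames with commuting involutions.. an element of `Z` commuting with an element of the frame is in the frame -/
theorem mem_of_comm (hz : z ∈ Z) (hu : u ∈ Sg z) (hx : x ∈ Z) (h1 : x * u = u * x) : x ∈ Sg z :=
  f.mem_of_MM hz hx (f.mem_MM_of_comm hz hu h1)

end basic

section syl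

variable (f : Fram Z K Sg Kl) (w : GW Z K) {S : Subgroup G}

include f w

/-- the members of `S` are in one frame -/
theorem cs_sub [Finite G] (hS : IsPGroup 2 S) (hz : z ∈ CS Z K S) (hu : u ∈ CS Z K S) : u ∈ Sg z := by
  by_cases hne : z = u
  · rw [← hne]; exact f.selfS hz.1
  · exact f.f1 z hz.1 u hu.1 (w.com S hS hz.1 hu.1 hz.2 hu.2 hne)

theorem cs_conj (hz : z ∈ CS Z K S) (hg : g ∈ S) : g * z * g⁻¹ ∈ CS Z K S := by
  refine ⟨w.conjZ z hz.1 g, ?_⟩
  rw [w.conjK z hz.1]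
  intro x hx
  rw [mem_cj] at hx
  have h1 : x = g * (g⁻¹ * x * g) * g⁻¹ := by group
  rw [h1]
  exact mul_mem (mul_mem hg (hz.2 hx)) (inv_mem hg)

theorem S_le [Finite G] (hS : IsPGroup 2 S) (hz : z ∈ CS Z K S) : S ≤ f.MM hz.1 := fun _ hg =>
  f.cs_sub w hS hz (f.cs_conj w hz hg)

/-- every class of the frame of `S` has a member in `S` -/
theorem meets [Finite G] (S : Sylow 2 G) (hz : z ∈ CS Z K (S : Subgroup G)) (hu : u ∈ Sg z) :
    ∃ v ∈ Kl u, v ∈ CS Z K (S : Subgroup G) := by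
  by_contra hcon
  push Not at hcon
  have huZ := f.mem_Z hz.1 hu
  refine hcon u (f.self u huZ) (w.mem_CS_of_clique S huZ fun v hv => Or.inr ?_)
  have hv1 : v ∈ Sg z := f.cs_sub w S.isPGroup' hz hv
  exact (f.cm' hz.1 hu hv1 fun h1 => hcon v h1 hv).symm

/-- an element centralising a class of the frame and having only one class, which is `ONE` -/
theorem false_of_one (hz : z ∈ Z) (hone : OneC Z K h z) (hall : ∀ x ∈ Om Z K h, x ∈ Cl Z K h z) {t : G}
    (ht : t ∈ Sg z) (htz : z ∉ Kl t) (hc : ∀ b ∈ Kl t, Ce h (K b)) : False := by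
  have htZ := f.mem_Z hz ht
  have hK : ∀ b ∈ Kl t, b ∈ Cl Z K h z := fun b hb => hall b ⟨f.kl_mem_Z htZ hb, hc b hb⟩
  have hcp : ∀ b ∈ Kl t, CP K z b := fun b hb => by
    have hb1 : b ∈ Sg z := f.kl_sub hz ht hb
    refine (f.cm' hz hb1 (f.selfS hz) ?_).symm
    rw [f.klEq t htZ b hb]
    exact htz
  obtain ⟨b, hb, b', hb', hne, hnc⟩ := f.nc t htZ
  have hbZ := f.kl_mem_Z htZ hb
  have hbZ' := f.kl_mem_Z htZ hb'
  apply hnc
  have h1 : Ce (z * b) (K b') := hone z (AN.cl_refl h z) b (hK b hb) (hcp b hb).2 b' (hK b' hb')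
  have h2 : Ce z (K b') := w.cen_of_cp hz (hcp b' hb').symm
  have h3 : Ce b (K b') := by
    have h4 := h2.inv.mul h1
    rwa [inv_mul_cancel_left] at h4
  exact (w.csymm hbZ' hbZ hne.symm h3).symm

end syl

section main

variable [Finite G] (f : Fram Z K Sg Kl) (w : GW Z K) (S : Sylow 2 G)

include f w

/-- the members of `C(h)` are in the frame, if `C(h)` has no class which is `ONE` and contains everything -/
theorem om_sub_of (hz : z ∈ CS Z K (S : Subgroup G)) (hh : h ∈ TT Z K (S : Subgroup G)) (hh1 : h ≠ 1)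
    (tp : TPS Z K (S : Subgroup G))
    (hno : (∀ x ∈ Om Z K h, x ∈ Cl Z K h z) → OneC Z K h z → Om Z K h ⊆ Sg z) : Om Z K h ⊆ Sg z := by
  intro u hu
  have hzh : z ∈ Om Z K h := ⟨hz.1, w.TT_cen S.isPGroup' hz hh⟩
  by_cases hall : ∀ x ∈ Om Z K h, x ∈ Cl Z K h z
  · rcases tp h hh hh1 z hzh with h1 | h1
    · -- nil
      have hKu : K u ≤ centralizer {h} := fun k hk => mem_centralizer_singleton_iff.2 (hu.2 k hk).symm
      have hP : IsPGroup 2 (K u ⊔ oP 2 (centralizer {h}) : Subgroup G) :=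
        OneBasic.isPGroup_sup_of_normalizes (w.two hu.1) (isPGroup_oP 2 _) (hKu.trans (le_normalizer_oP 2 _))
      have hzP : z ∈ (K u ⊔ oP 2 (centralizer {h}) : Subgroup G) := mem_sup_right h1
      have h2 : K (z * u * z⁻¹) ≤ (K u ⊔ oP 2 (centralizer {h}) : Subgroup G) := by
        rw [w.conjK u hu.1]
        intro x hx
        rw [mem_cj] at hx
        have h3 : x = z * (z⁻¹ * x * z) * z⁻¹ := by group
        rw [h3]
        exact mul_mem (mul_mem hzP (mem_sup_left hx)) (inv_mem hzP)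
      by_cases hne : u = z * u * z⁻¹
      · refine f.mem_of_comm hz.1 (f.selfS hz.1) hu.1 ?_
        rw [eq_mul_inv_iff_mul_eq] at hne
        exact hne
      · have h3 := w.com _ hP hu.1 (w.conjZ u hu.1 z) le_sup_left h2 hne
        exact f.sg_symm hu.1 (f.f2 z hz.1 u hu.1 h3)
    · exact hno hall h1 hu
  · push Not at hall
    obtain ⟨u0, hu0, hn0⟩ := hall
    have key : ∀ a b, a ∈ Cl Z K h z → b ∈ Om Z K h → b ∉ Cl Z K h z → CP K a b := by
      intro a b ha hb hbn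
      refine ⟨fun e => hbn (e ▸ ha), AN.cl_cm ha hb hbn⟩
    have h0 : u0 ∈ Sg z := f.f1 z hz.1 u0 hu0.1 (key z u0 (AN.cl_refl h z) hu0 hn0)
    by_cases hun : u ∈ Cl Z K h z
    · have h1 : u0 ∈ Sg u := f.f1 u hu.1 u0 hu0.1 (key u u0 hun hu0 hn0)
      have h2 : u ∈ Sg u0 := f.sg_symm hu.1 h1
      rwa [f.sgEq z hz.1 u0 h0] at h2
    · exact f.f1 z hz.1 u hu.1 (key z u (AN.cl_refl h z) hu hun)

/-- an element of `T_S` centralising a class of the frame -/
theorem om_sub_of_cent (hz : z ∈ CS Z K (S : Subgroup G)) (hh : h ∈ TT Z K (S : Subgroup G)) (hh1 : h ≠ 1)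
    (tp : TPS Z K (S : Subgroup G)) {t : G} (ht : t ∈ Sg z) (hc : ∀ b ∈ Kl t, Ce h (K b)) : Om Z K h ⊆ Sg z := by
  -- an element of `C_S` outside the class of `t`
  have htZ := f.mem_Z hz.1 ht
  obtain ⟨s, hs, hst⟩ := f.ex t htZ
  have hsz : s ∈ Sg z := by rwa [f.sgEq z hz.1 t ht] at hs
  obtain ⟨v, hv, hvS⟩ := f.meets w S hz hsz
  have hvz : v ∈ Sg z := f.kl_sub hz.1 hsz hv
  have hvt : v ∉ Kl t := fun h1 => hst (by
    have h2 : s ∈ Kl v := f.kl_symm (f.mem_Z hz.1 hsz) hv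
    rw [f.klEq t htZ v h1] at h2
    exact h2)
  have h1 : Om Z K h ⊆ Sg v := by
    refine f.om_sub_of w S hvS hh hh1 tp fun hall hone => ?_
    exact (f.false_of_one w hvS.1 hone hall (by rw [f.sgEq z hz.1 v hvz]; exact ht) hvt hc).elim
  rwa [f.sgEq z hz.1 v hvz] at h1

/-- **(F4), members**: the members of `C(h)`, `h ∈ T_S`, `h ≠ 1`, are in the frame of `S` -/
theorem om_sub (hz : z ∈ CS Z K (S : Subgroup G)) (hh : h ∈ TT Z K (S : Subgroup G)) (hh1 : h ≠ 1)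
    (tp : TPS Z K (S : Subgroup G)) (m2 : MTwo Z K (S : Subgroup G)) : Om Z K h ⊆ Sg z := by
  refine f.om_sub_of w S hz hh hh1 tp fun hall hone => ?_
  -- a member of `S` in another class
  obtain ⟨s, hs, hsn⟩ := f.ex z hz.1
  obtain ⟨v, hv, hvS⟩ := f.meets w S hz hs
  have hvz : v ∈ Sg z := f.kl_sub hz.1 hs hv
  have hvn : v ∉ Kl z := fun h1 => hsn (by
    have h2 : s ∈ Kl v := f.kl_symm (f.mem_Z hz.1 hs) hv
    rw [f.klEq z hz.1 v h1] at h2
    exact h2)
  have hzv : z ∉ Kl v := fun h1 => hvn (f.kl_symm hvS.1 h1)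
  have hne : z ≠ v := fun e => hvn (e ▸ f.self z hz.1)
  have hS := S.isPGroup'
  -- the product of two members of `S`
  have key : ∀ a ∈ CS Z K (S : Subgroup G), ∀ b ∈ CS Z K (S : Subgroup G), a ≠ b → ∀ t ∈ CS Z K (S : Subgroup G),
      t ∉ Kl a → t ∉ Kl b → Om Z K h ⊆ Sg z := by
    intro a ha b hb hab t ht hta htb
    have hcab := w.com S hS ha.1 hb.1 ha.2 hb.2 hab
    have h1 : a * b ∈ TT Z K (S : Subgroup G) := mul_mem (subset_closure ha) (subset_closure hb)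
    have h2 : a * b ≠ 1 := w.cp_mul_ne hb.1 hcab
    have haS : ∀ {x}, x ∈ CS Z K (S : Subgroup G) → x ∈ Sg z := fun hx => f.cs_sub w hS hz hx
    have h3 : ∀ c ∈ CS Z K (S : Subgroup G), t ∉ Kl c → ∀ x ∈ Kl t, Ce c (K x) := by
      intro c hc htc x hx
      have hxz : x ∈ Sg z := f.kl_sub hz.1 (haS ht) hx
      refine w.cen_of_cp hc.1 (f.cm' hz.1 hxz (haS hc) fun h4 => htc ?_)
      rw [f.klEq t ht.1 x hx] at h4
      exact f.kl_symm ht.1 h4
    have h4 := f.om_sub_of_cent w S hz h1 h2 tp (haS ht) fun x hx => (h3 a ha hta x hx).mul (h3 b hb htb x hx)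
    -- `Om h ⊆ Om (a b)`
    have hah : ∀ {x}, x ∈ CS Z K (S : Subgroup G) → x ∈ Cl Z K h z := fun hx =>
      hall _ ⟨hx.1, w.TT_cen hS hx hh⟩
    exact fun x hx => h4 ⟨hx.1, hone a (hah ha) b (hah hb) hcab.2 x (hall x hx)⟩
  by_cases h3 : ∃ t ∈ CS Z K (S : Subgroup G), t ≠ z ∧ t ≠ v
  · obtain ⟨t, ht, htz, htv⟩ := h3
    by_cases c1 : t ∈ Kl z
    · refine key z hz t ht htz.symm v hvS hvn ?_
      rw [f.klEq z hz.1 t c1]; exact hvn
    · by_cases c2 : t ∈ Kl v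
      · refine key v hvS t ht htv.symm z hz hzv ?_
        rw [f.klEq v hvS.1 t c2]; exact hzv
      · exact key z hz v hvS hne t ht c1 c2
  · -- `m = 2`
    push Not at h3
    have hCS : CS Z K (S : Subgroup G) = {z, v} := by
      ext x
      constructor
      · intro hx
        by_cases hxz : x = z
        · exact Or.inl hxz
        · exact Or.inr (h3 x hx hxz)
      · rintro (rfl | rfl)
        · exact hz
        · exact hvS
    -- `h ∈ {z, v, z v}`
    have hcomm : z * v = v * z := w.comm_of_cp hz.1 hvS.1 (w.com S hS hz.1 hvS.1 hz.2 hvS.2 hne)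
    have hcases : h = 1 ∨ h = z ∨ h = v ∨ h = z * v := by
      have hh' : h ∈ closure (CS Z K (S : Subgroup G)) := hh
      rw [hCS] at hh'
      have hzz := w.sq z hz.1
      have hvv := w.sq v hvS.1
      refine closure_induction (p := fun x _ => x = 1 ∨ x = z ∨ x = v ∨ x = z * v) ?_ ?_ ?_ ?_ hh'
      · rintro x (rfl | rfl)
        · exact Or.inr (Or.inl rfl)
        · exact Or.inr (Or.inr (Or.inl rfl))
      · exact Or.inl rfl
      · have e1 : z * (z * v) = v := by rw [← mul_assoc, hzz, one_mul]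
        have e2 : v * (z * v) = z := by rw [hcomm, ← mul_assoc, hvv, one_mul]
        have e3 : z * v * z = v := by rw [hcomm, mul_assoc, hzz, mul_one]
        have e4 : z * v * v = z := by rw [mul_assoc, hvv, mul_one]
        have e5 : z * v * (z * v) = 1 := by rw [← mul_assoc, e3, hvv]
        rintro x y - - (rfl | rfl | rfl | rfl) (rfl | rfl | rfl | rfl)
        all_goals simp only [one_mul, mul_one, hzz, hvv, e1, e2, e3, e4, e5, hcomm.symm]
        all_goals simp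
      · have hzi := w.inv hz.1
        have hvi := w.inv hvS.1
        rintro x - (rfl | rfl | rfl | rfl)
        · simp
        · simp [hzi]
        · simp [hvi]
        · right; right; right
          rw [mul_inv_rev, hzi, hvi, hcomm]
    rcases hcases with h4 | h4 | h4 | h4
    · exact absurd h4 hh1
    · intro x hx
      refine f.mem_of_comm hz.1 (f.selfS hz.1) hx.1 ?_
      have h5 := hx.2 x (w.mem x hx.1)
      rw [h4] at h5
      exact h5.symm
    · intro x hx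
      refine f.mem_of_comm hz.1 hvz hx.1 ?_
      have h5 := hx.2 x (w.mem x hx.1)
      rw [h4] at h5
      exact h5.symm
    · subst h4
      exact (m2 z v hne hCS hall hone).elim

/-- **(F4)**: `C(h) ≤ M` -/
theorem cent_le (hz : z ∈ CS Z K (S : Subgroup G)) (hh : h ∈ TT Z K (S : Subgroup G)) (hh1 : h ≠ 1)
    (tp : TPS Z K (S : Subgroup G)) (m2 : MTwo Z K (S : Subgroup G)) (hg : g * h = h * g) : g ∈ f.MM hz.1 := by
  rw [f.mem_MM hz.1]
  refine f.om_sub w S hz hh hh1 tp m2 ⟨w.conjZ z hz.1 g, ?_⟩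
  have h1 : Ce (g * h * g⁻¹) (K (g * z * g⁻¹)) := w.ce_conj hz.1 g (w.TT_cen S.isPGroup' hz hh)
  rwa [hg, mul_inv_cancel_right] at h1

omit f w in
/-- Sylow's theorem in a subgroup containing a Sylow subgroup of `G` -/
theorem exists_conj_into {M D : Subgroup G} (hS : (S : Subgroup G) ≤ M) (hD : IsPGroup 2 D) (hDM : D ≤ M) :
    ∃ m ∈ M, ∀ d ∈ D, m * d * m⁻¹ ∈ (S : Subgroup G) := by
  have h1 := StdEven.Syl.isSyl_top_of_sylow S
  have h2 : StdEven.Syl.IsSyl (S : Subgroup G) M := ⟨hS, h1.two, fun X hX _ hSX => h1.max X hX le_top hSX⟩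
  exact h2.exists_conj hD hDM

omit [Finite G] f w in
theorem comm_aux {k b : G} (hbb : b * b = 1) (h1 : k * (b * k * b⁻¹) = b * k * b⁻¹ * k) :
    k * (b * k * b⁻¹) * b = b * (k * (b * k * b⁻¹)) := by
  have hbi : b⁻¹ = b := inv_eq_of_mul_eq_one_right hbb
  rw [hbi] at h1 ⊢
  calc k * (b * k * b) * b = k * b * k * (b * b) := by group
    _ = k * b * k := by rw [hbb, mul_one]
    _ = (k * (b * k * b)) * b := by
      calc k * b * k = k * b * k * (b * b) := by rw [hbb, mul_one]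
        _ = (k * (b * k * b)) * b := by group
    _ = b * k * b * k * b := by rw [h1]
    _ = b * (k * (b * k * b)) := by group

/-- **(F4)**: `g h g⁻¹ ∈ M` implies `g ∈ M` -/
theorem mem_MM_of_conj (cn : CnZ Z K) (hz : z ∈ CS Z K (S : Subgroup G)) (hh : h ∈ TT Z K (S : Subgroup G)) (hh1 : h ≠ 1)
    (tp : TPS Z K (S : Subgroup G)) (m2 : MTwo Z K (S : Subgroup G)) (hg : g * h * g⁻¹ ∈ f.MM hz.1) :
    g ∈ f.MM hz.1 := by
  by_contra hgn
  have hS := S.isPGroup'
  have hhh : h * h = 1 := w.TT_sq hS hh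
  -- we may assume `g h g⁻¹ ∈ S`
  have hzp : IsPGroup 2 (zpowers (g * h * g⁻¹)) := by
    have h1 : (g * h * g⁻¹) ^ 2 = 1 := by
      rw [pow_two]
      calc g * h * g⁻¹ * (g * h * g⁻¹) = g * (h * h) * g⁻¹ := by group
        _ = 1 := by rw [hhh]; group
    rw [IsPGroup.iff_card]
    rcases (Nat.dvd_prime Nat.prime_two).1 (orderOf_dvd_of_pow_eq_one h1) with h2 | h2
    · exact ⟨0, by rw [Nat.card_zpowers, h2, pow_zero]⟩
    · exact ⟨1, by rw [Nat.card_zpowers, h2, pow_one]⟩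
  obtain ⟨m, hm, hmS⟩ := exists_conj_into S (f.S_le w hS hz) hzp (by rw [zpowers_le]; exact hg)
  have hb : m * g * h * (m * g)⁻¹ ∈ (S : Subgroup G) := by
    have h1 := hmS _ (mem_zpowers _)
    have e : m * g * h * (m * g)⁻¹ = m * (g * h * g⁻¹) * m⁻¹ := by group
    rwa [e]
  have hgn' : m * g ∉ f.MM hz.1 := fun h1 => hgn (by
    have h2 := mul_mem (inv_mem hm) h1
    rwa [inv_mul_cancel_left] at h2)
  clear hgn hg hzp hmS
  generalize m * g = g at hb hgn'
  set b := g * h * g⁻¹ with hbdef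
  have hbb : b * b = 1 := by
    calc b * b = g * (h * h) * g⁻¹ := by rw [hbdef]; group
      _ = 1 := by rw [hhh]; group
  have hgz : g * z * g⁻¹ ∈ Z := w.conjZ z hz.1 g
  -- `C(b) ≤ M ^ g`
  have hCb : ∀ x, x * b = b * x → x ∈ f.MM hgz := by
    intro x hx
    have h1 : (g⁻¹ * x * g) * h = h * (g⁻¹ * x * g) := by
      calc (g⁻¹ * x * g) * h = g⁻¹ * (x * b) * g := by rw [hbdef]; group
        _ = g⁻¹ * (b * x) * g := by rw [hx]
        _ = h * (g⁻¹ * x * g) := by rw [hbdef]; group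
    have h2 := f.cent_le w S hz hh hh1 tp m2 h1
    rw [f.mem_MM hz.1] at h2
    rw [f.mem_MM hgz]
    have h3 := f.conj z hz.1 g _ h2
    have e : g * (g⁻¹ * x * g * z * (g⁻¹ * x * g)⁻¹) * g⁻¹ = x * (g * z * g⁻¹) * x⁻¹ := by group
    rwa [e] at h3
  -- different frames
  have hdis : ∀ y, y ∈ Sg z → y ∈ Sg (g * z * g⁻¹) → False := by
    intro y hy1 hy2
    apply hgn'
    rw [f.mem_MM hz.1, ← f.sgEq z hz.1 y hy1, f.sgEq _ hgz y hy2]
    exact f.selfS hgz
  -- `b` commutes with no member of `S`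
  have hmv : ∀ y ∈ CS Z K (S : Subgroup G), b * y * b⁻¹ ≠ y := by
    intro y hy he
    have h1 : y * b = b * y := (mul_inv_eq_iff_eq_mul.1 he).symm
    exact hdis y (f.cs_sub w hS hz hy) (f.mem_of_MM hgz hy.1 (hCb y h1))
  -- the Sylow subgroup `S'`
  have hgS : ((g • S : Sylow 2 G) : Subgroup G) = cj g (S : Subgroup G) := rfl
  have hzg : g * z * g⁻¹ ∈ CS Z K ((g • S : Sylow 2 G) : Subgroup G) := by
    rw [hgS]
    exact (w.cj_CS g _ hz.1).2 hz
  have hDM : (S : Subgroup G) ⊓ centralizer {b} ≤ f.MM hgz := fun x hx =>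
    hCb x (mem_centralizer_singleton_iff.1 (mem_inf.1 hx).2)
  obtain ⟨n, hn, hnS⟩ := exists_conj_into (g • S) (f.S_le w (g • S).isPGroup' hzg) (hS.to_le inf_le_left) hDM
  set S' : Sylow 2 G := n⁻¹ • (g • S) with hS'
  have hS'e : (S' : Subgroup G) = cj n⁻¹ ((g • S : Sylow 2 G) : Subgroup G) := rfl
  have hDS' : (S : Subgroup G) ⊓ centralizer {b} ≤ S' := by
    intro x hx
    rw [hS'e, mem_cj, inv_inv]
    exact hnS x hx
  have hCS' : ∀ y ∈ CS Z K (S' : Subgroup G), y ∈ Sg (g * z * g⁻¹) := by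
    intro y hy
    rw [hS'e] at hy
    have e : y = n⁻¹ * (n * y * n⁻¹) * n⁻¹⁻¹ := by group
    have hyZ : n * y * n⁻¹ ∈ Z := w.conjZ y hy.1 n
    rw [e] at hy
    have h1 := (w.cj_CS n⁻¹ _ hyZ).1 hy
    rw [e]
    exact f.mem_MM_conj hgz (inv_mem hn) (f.cs_sub w (g • S).isPGroup' hzg h1)
  refine Mv.false (S := S) (S' := S') (b := b)
    { w := w
      cn := cn
      ne := ⟨z, hz⟩
      mem := hb
      sq := hbb
      mv := hmv
      le := by
        intro y hy k hk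
        apply hDS'
        have hbk : b * k * b⁻¹ ∈ (S : Subgroup G) := mul_mem (mul_mem hb (hy.2 hk)) (inv_mem hb)
        refine mem_inf.2 ⟨mul_mem (hy.2 hk) hbk, mem_centralizer_singleton_iff.2 ?_⟩
        have hy' := f.cs_conj w hy hb
        have hcp := w.com S hS hy.1 hy'.1 hy.2 hy'.2 (fun e => hmv y hy e.symm)
        have h1 : k * (b * k * b⁻¹) = b * k * b⁻¹ * k := hcp.2 k hk _ (w.conj_mem_K hy.1 b hk)
        exact comm_aux hbb h1
      fx := by
        intro x hx hx1 y hy he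
        have h2 : y * x = x * y := (mul_inv_eq_iff_eq_mul.1 he).symm
        have hxT : x ∈ TT Z K (S : Subgroup G) := by
          have h3 : closure {x | ∃ y ∈ CS Z K (S : Subgroup G), x = y * (b * y * b⁻¹)} ≤
              TT Z K (S : Subgroup G) := by
            rw [closure_le]
            rintro _ ⟨y', hy', rfl⟩
            exact mul_mem (subset_closure hy') (subset_closure (f.cs_conj w hy' hb))
          exact h3 hx
        have h3 := f.cent_le w S hz hxT hx1 tp m2 h2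
        exact hdis y (f.mem_of_MM hz.1 hy.1 h3) (hCS' y hy) }

end main

/-! ### The forms used in (F5) -/

section forms

variable [Finite G] (f : Fram Z K Sg Kl) (w : GW Z K)

theorem MM_eq (f : Fram Z K Sg Kl) (hz : z ∈ Z) (hu : u ∈ Sg z) : f.MM (f.mem_Z hz hu) = f.MM hz := by
  ext g
  rw [f.mem_MM hz, f.mem_MM (f.mem_Z hz hu), f.sgEq z hz u hu]
  constructor
  · intro h1
    exact f.mem_MM_of hz hu h1
  · intro h1
    exact f.mem_MM_conj hz h1 hu

/-- every Sylow subgroup contains a member -/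
theorem cs_nonempty (w : GW Z K) (hz : z ∈ Z) (S : Sylow 2 G) : ∃ u, u ∈ CS Z K (S : Subgroup G) := by
  obtain ⟨S₀, h0⟩ := w.exists_sylow hz
  obtain ⟨g, rfl⟩ := MulAction.exists_smul_eq G S₀ S
  exact ⟨g * z * g⁻¹, (w.cj_CS g _ hz).2 h0⟩

include w

/-- a member of a Sylow subgroup of `M` -/
theorem exists_cs (hz : z ∈ Z) (S : Sylow 2 G) (hS : (S : Subgroup G) ≤ f.MM hz) :
    ∃ u, ∃ hu : u ∈ CS Z K (S : Subgroup G), u ∈ Sg z ∧ f.MM hu.1 = f.MM hz := by
  obtain ⟨u, hu⟩ := cs_nonempty w hz S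
  have h1 : u ∈ Sg z := f.mem_of_MM hz hu.1 (hS (hu.2 (w.mem u hu.1)))
  exact ⟨u, hu, h1, f.MM_eq hz h1⟩

/-- **(F4)**: `S ≤ M`, `s ∈ T_S`, `s ≠ 1`: `C(s) ≤ M` -/
theorem cen (hz : z ∈ Z) (S : Sylow 2 G) (hS : (S : Subgroup G) ≤ f.MM hz) (tp : TPS Z K (S : Subgroup G))
    (m2 : MTwo Z K (S : Subgroup G)) {s : G} (hs : s ∈ TT Z K (S : Subgroup G)) (hs1 : s ≠ 1) :
    centralizer {s} ≤ f.MM hz := by
  obtain ⟨u, hu, -, he⟩ := f.exists_cs w hz S hS
  rw [← he]
  exact fun g hg => f.cent_le w S hu hs hs1 tp m2 (mem_centralizer_singleton_iff.1 hg)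

/-- **(F4)**: `S ≤ M`, `s ∈ T_S`, `s ≠ 1`, `g s g⁻¹ ∈ M`: `g ∈ M` -/
theorem mem' (cn : CnZ Z K) (hz : z ∈ Z) (S : Sylow 2 G) (hS : (S : Subgroup G) ≤ f.MM hz) (tp : TPS Z K (S : Subgroup G))
    (m2 : MTwo Z K (S : Subgroup G)) {s : G} (hs : s ∈ TT Z K (S : Subgroup G)) (hs1 : s ≠ 1)
    (hg : g * s * g⁻¹ ∈ f.MM hz) : g ∈ f.MM hz := by
  obtain ⟨u, hu, -, he⟩ := f.exists_cs w hz S hS
  rw [← he] at hg ⊢
  exact f.mem_MM_of_conj w S cn hu hs hs1 tp m2 hg

omit [Finite G] in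
/-- an element fusing an element of `Z ∩ M` into `M` lies in `M` -/
theorem mem_of_fus (hz : z ∈ Z) (hx : x ∈ Sg z) (hg : g * x * g⁻¹ ∈ f.MM hz) : g ∈ f.MM hz :=
  f.mem_MM_of hz hx (f.mem_of_MM hz (w.conjZ x (f.mem_Z hz hx) g) hg)

/-- `S ≤ M` if `M` contains a member of `S` -/
theorem S_le_of_mem (hz : z ∈ Z) (S : Sylow 2 G) (hx : x ∈ Sg z) (hxS : K x ≤ (S : Subgroup G)) :
    (S : Subgroup G) ≤ f.MM hz := by
  rw [← f.MM_eq hz hx]
  exact f.S_le w S.isPGroup' ⟨f.mem_Z hz hx, hxS⟩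

end forms

end Fram

end Cfsg.Agent.Cit.Nil.CompR
end

-- part: Cit/Nil/CompR/Prod
section
set_option linter.all false
open scoped Cfsg.Agent.FastGrp

/-!
# S1309 (6b), COMP, any `r`: the product situation, general facts (164's `Comp/Product.lean` for `GW`)

`PW Z K` : every `z ∈ Z` lies in a frame (`Frm`), `T'`, and no normal subgroup of odd order in `C(z)`.
`SF Z K x y` : `x` and `y` lie in the same frame.

* `PW.cp` : **(F1)** C-pairs have the same frame;
* `PW.block`, `PW.block'` : the block lemma;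
* `PW.PM` : the stabiliser of the frame; `PW.meet` : `C_S` meets all blocks.
-/

set_option autoImplicit false
set_option linter.style.haveILetI false
set_option linter.unusedSectionVars false

namespace Cfsg.Agent.Cit.Nil.CompR

open Subgroup Cfsg Cfsg.Agent.Cit Cfsg.Agent.Cit.Nil.AN
open Cfsg.Agent.Cit.Nil.ROne (CP CS TT OneCls)
open Cfsg.Agent.OddOrderLocal.NilParts Cfsg.Agent.StdEven.Syl

variable {G : Type*} [Group G] {Z : Set G} {K : G → Subgroup G} {z u v x y g s a b c : G} {A B : Set G}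
  {F F' : Set (Set G)}

/-- `x` and `y` lie in the same frame -/
def SF (Z : Set G) (K : G → Subgroup G) (x y : G) : Prop := ∃ F, Frm Z K F ∧ (∃ A ∈ F, x ∈ A) ∧ ∃ B ∈ F, y ∈ B

/-- the product situation -/
structure PW (Z : Set G) (K : G → Subgroup G) : Prop where
  w : GW Z K
  tp : TP Z K
  fr : ∀ z ∈ Z, ∃ F, Frm Z K F ∧ ∃ A ∈ F, z ∈ A
  cf : ∀ z ∈ Z, ∀ N : Subgroup G, N ≤ centralizer {z} → centralizer {z} ≤ normalizer (N : Set G) →
    Odd (Nat.card N) → N = ⊥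

namespace SF

theorem symm (h : SF Z K x y) : SF Z K y x := by
  obtain ⟨F, f, h1, h2⟩ := h
  exact ⟨F, f, h2, h1⟩

theorem mem_left (h : SF Z K x y) : x ∈ Z := by
  obtain ⟨F, f, ⟨A, hA, hx⟩, -⟩ := h
  exact f.sub A hA hx

theorem mem_right (h : SF Z K x y) : y ∈ Z := h.symm.mem_left

end SF

namespace PW

theorem sf_refl (p : PW Z K) (hz : z ∈ Z) : SF Z K z z := by
  obtain ⟨F, f, A, hA, hzA⟩ := p.fr z hz
  exact ⟨F, f, ⟨A, hA, hzA⟩, A, hA, hzA⟩

variable [Finite G] (p : PW Z K)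

include p

theorem sf_trans (h1 : SF Z K x y) (h2 : SF Z K y z) : SF Z K x z := by
  obtain ⟨F, f, hA, B, hB, hy⟩ := h1
  obtain ⟨F', f', ⟨B', hB', hy'⟩, hC⟩ := h2
  obtain ⟨rfl, -⟩ := f.uniq p.w f' hB hB' hy hy'
  exact ⟨F, f, hA, hC⟩

theorem sf_conj (g : G) (h1 : SF Z K x y) : SF Z K (g * x * g⁻¹) (g * y * g⁻¹) := by
  obtain ⟨F, f, ⟨A, hA, hx⟩, B, hB, hy⟩ := h1
  exact ⟨_, f.conj p.w g, ⟨_, ⟨A, hA, rfl⟩, ⟨x, hx, rfl⟩⟩, _, ⟨B, hB, rfl⟩, ⟨y, hy, rfl⟩⟩

/-- elements of different blocks form a C-pair -/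
theorem cp_of (f : Frm Z K F) (hA : A ∈ F) (hB : B ∈ F) (hAB : A ≠ B) (ha : a ∈ A) (hb : b ∈ B) : CP K a b :=
  (cp_iff p.w (f.sub A hA ha)).2 (f.cm A hA B hB hAB a ha b hb)

/-- **(F1)** -/
theorem cp (hx : x ∈ Z) (hu : u ∈ Z) (hc : CP K x u) : SF Z K x u := by
  obtain ⟨F, f, A, hA, hxA⟩ := p.fr x hx
  obtain ⟨F', f', A', hA', huA'⟩ := p.fr u hu
  obtain ⟨B, hB, hBA⟩ := f.other hA
  by_cases huB : u ∈ B
  · exact ⟨F, f, ⟨A, hA, hxA⟩, B, hB, huB⟩
  · have h1 : B ∈ NN Z K x := by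
      rw [f.nn A hA x hxA]
      exact ⟨hB, hBA⟩
    have h2 := NN_exch p.w hx hu hc.2 (TP.of_mem p.w p.tp hu) h1 huB
    rw [f'.nn A' hA' u huA'] at h2
    obtain ⟨b, hb⟩ := f.ne B hB
    obtain ⟨rfl, -⟩ := f.uniq p.w f' hB h2.1 hb hb
    exact ⟨F, f, ⟨A, hA, hxA⟩, A', hA', huA'⟩

/-- **the block lemma** -/
theorem block (f : Frm Z K F) (hB : B ∈ F) (hT : TPs Z K s) (hs : ∀ b ∈ B, Ce s (K b)) (hz : z ∈ Om Z K s)
    (hzB : ∀ b ∈ B, Cm (K z) (K b)) (hx : x ∈ Om Z K s) (hn : ¬ Cm (K x) (K z)) : ∀ b ∈ B, Cm (K x) (K b) := by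
  obtain ⟨C, hC, hCB⟩ := f.other hB
  obtain ⟨c, hc⟩ := f.ne C hC
  intro b hb
  have hBc : B ∈ NN Z K c := by
    rw [f.nn C hC c hc]
    exact ⟨hB, fun e => hCB (Set.mem_singleton_iff.1 e).symm⟩
  obtain ⟨h1, h2, h3⟩ := NN_cl p.w hBc hb
  have hsub : Cl Z K c b ⊆ Om Z K s := fun y hy => ⟨(cl_sub h1 hy).1, hs y (by rw [h3]; exact hy)⟩
  have hin : B ⊆ Cl Z K s b := by
    rw [h3]
    exact cl_mono hsub
  have hbs : b ∈ Om Z K s := ⟨f.sub B hB hb, hs b hb⟩
  have hnn : b ∉ oP 2 (centralizer {s}) := fun h4 => h2 (nil_down p.w h1 (isPGroup_oP 2 _) fun y hy =>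
    (nil_cl p.w hbs (hin (by rw [h3]; exact hy))).2 h4)
  have hone := (hT b hbs).resolve_left hnn
  have hzn : z ∉ Cl Z K s b := by
    intro h4
    obtain ⟨y, hy, hyb, hny⟩ := f.exists_not_cm p.w hB hb
    apply hny
    have h5 := hone z h4 y (hin hy) (hzB y hy) b (cl_refl s b)
    have h6 : Ce z (K b) := ce_of_cm p.w hz.1 (hzB b hb).symm
    have h7 : z * (z * y) = y := by rw [← mul_assoc, p.w.sq z hz.1, one_mul]
    have h8 : Ce y (K b) := by
      rw [← h7]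
      exact h6.mul h5
    exact (p.w.csymm (f.sub B hB hb) (f.sub B hB hy) hyb.symm h8).2
  have hxn : x ∉ Cl Z K s b := fun h4 => hzn (cl_step h4 hz hn)
  exact (cl_cm (cl_refl s b) hx hxn).symm

/-- the block lemma, conclusion -/
theorem block' (f : Frm Z K F) (hB : B ∈ F) (hT : TPs Z K s) (hs : ∀ b ∈ B, Ce s (K b)) (hz : z ∈ Om Z K s)
    (hzB : ∀ b ∈ B, Cm (K z) (K b)) (hx : x ∈ Om Z K s) (hn : ¬ Cm (K x) (K z)) (hA : A ∈ F) (ha : a ∈ A) :
    SF Z K a x := by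
  obtain ⟨b, hb⟩ := f.ne B hB
  have h1 := p.block f hB hT hs hz hzB hx hn b hb
  have h2 := p.cp hx.1 (f.sub B hB hb) ((cp_iff p.w hx.1).2 h1)
  exact p.sf_trans ⟨F, f, ⟨A, hA, ha⟩, B, hB, hb⟩ h2.symm

end PW

theorem conj_conj (a b z : G) : a * (b * z * b⁻¹) * a⁻¹ = (a * b) * z * (a * b)⁻¹ := by group

theorem conj_inv_conj (a z : G) : a⁻¹ * (a * z * a⁻¹) * a⁻¹⁻¹ = z := by group

namespace PW

section PM

variable [Finite G] (p : PW Z K)

/-- the stabiliser of the frame of `z` -/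
def PM (z : G) (hz : z ∈ Z) : Subgroup G where
  carrier := {g | SF Z K z (g * z * g⁻¹)}
  one_mem' := by
    change SF Z K z (1 * z * 1⁻¹)
    rw [one_mul, inv_one, mul_one]
    exact p.sf_refl hz
  mul_mem' := by
    intro a b ha hb
    have h1 := p.sf_conj a hb
    rw [conj_conj] at h1
    exact p.sf_trans ha h1
  inv_mem' := by
    intro a ha
    have h1 := p.sf_conj a⁻¹ ha
    rw [conj_inv_conj] at h1
    exact h1.symm

include p

theorem mem_PM_iff (hz : z ∈ Z) : g ∈ p.PM z hz ↔ SF Z K z (g * z * g⁻¹) := Iff.rfl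

theorem PM_eq (h : SF Z K x y) : p.PM x h.mem_left = p.PM y h.mem_right := by
  have key : ∀ {x y : G} (h : SF Z K x y), p.PM x h.mem_left ≤ p.PM y h.mem_right := by
    intro x y h g hg
    exact p.sf_trans h.symm (p.sf_trans hg (p.sf_conj g h))
  exact le_antisymm (key h) (key h.symm)

theorem mem_PM_of_sf (hz : z ∈ Z) (h : SF Z K z x) (hg : SF Z K x (g * x * g⁻¹)) : g ∈ p.PM z hz := by
  have h1 := p.PM_eq h
  rw [h1]
  exact hg

theorem centralizer_le (hz : z ∈ Z) (h : SF Z K z x) : centralizer {x} ≤ p.PM z hz := by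
  intro g hg
  refine p.mem_PM_of_sf hz h ?_
  rw [mem_centralizer_singleton_iff.1 hg, mul_inv_cancel_right]
  exact p.sf_refl h.mem_right

/-- the members of `S` lie in one frame -/
theorem sf_CS {S : Subgroup G} (hS : IsPGroup 2 S) (hz : z ∈ CS Z K S) (hu : u ∈ CS Z K S) : SF Z K z u := by
  by_cases h1 : z = u
  · rw [← h1]
    exact p.sf_refl hz.1
  · exact p.cp hz.1 hu.1 (p.w.com S hS hz.1 hu.1 hz.2 hu.2 h1)

theorem conj_CS {S : Subgroup G} (hx : x ∈ S) (hz : z ∈ CS Z K S) : x * z * x⁻¹ ∈ CS Z K S := by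
  refine ⟨p.w.conjZ z hz.1 x, ?_⟩
  rw [p.w.conjK z hz.1]
  intro k hk
  have h2 := mul_mem (mul_mem hx (hz.2 (mem_cj.1 hk))) (inv_mem hx)
  simpa [mul_assoc] using h2

theorem sylow_le {S : Subgroup G} (hS : IsPGroup 2 S) (hz : z ∈ Z) (h1 : K z ≤ S) : S ≤ p.PM z hz := fun _ hs =>
  p.sf_CS hS ⟨hz, h1⟩ (p.conj_CS hs ⟨hz, h1⟩)

/-- an element of the frame of `z` lies in a block -/
theorem exists_block (f : Frm Z K F) (hA : A ∈ F) (hz : z ∈ A) (h : SF Z K z v) : ∃ C ∈ F, v ∈ C := by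
  obtain ⟨F', f', ⟨A', hA', hz'⟩, hv⟩ := h
  obtain ⟨rfl, -⟩ := f.uniq p.w f' hA hA' hz hz'
  exact hv

/-- `C_S` meets all blocks -/
theorem meet (f : Frm Z K F) {S : Sylow 2 G} (hz : z ∈ CS Z K (S : Subgroup G)) (hA : A ∈ F) (hzA : z ∈ A)
    (hB : B ∈ F) : ∃ u ∈ CS Z K (S : Subgroup G), u ∈ B := by
  by_contra hcon
  push Not at hcon
  obtain ⟨b, hb⟩ := f.ne B hB
  refine hcon b (p.w.mem_CS_of_clique S (f.sub B hB hb) fun v hv => Or.inr ?_) hb
  obtain ⟨C, hC, hvC⟩ := p.exists_block f hA hzA (p.sf_CS S.isPGroup' hz hv)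
  refine p.cp_of f hC hB ?_ hvC hb
  rintro rfl
  exact hcon v hv hvC

end PM

end PW

end Cfsg.Agent.Cit.Nil.CompR
end

-- part: Cit/Nil/CompR/ProdFrm
section
set_option linter.all false
open scoped Cfsg.Agent.FastGrp

/-!
# S1309 (6b), COMP, any `r`, the product situation: from frames (helper164's `Frm`) to `Fram`

`sgOf z` : the points of the frames containing `z`; `klOf z` : the class of `z`.

* `Fram.of_frm` : `Fram Z K (sgOf Z K) (klOf Z K)` if every `z` lies in a frame and (F1), (F2), (F3) hold.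
-/

set_option autoImplicit false
set_option linter.style.haveILetI false
set_option linter.unusedSectionVars false

namespace Cfsg.Agent.Cit.Nil.CompR

open Subgroup Cfsg Cfsg.Agent.Cit
open Cfsg.Agent.Cit.Nil.AN (Om Cl OneC Ce Cm)
open Cfsg.Agent.Cit.Nil.ROne (CP CS TT OneCls)
open Cfsg.Agent.OddOrderLocal.NilParts Cfsg.Agent.StdEven.Syl

variable {G : Type*} [Group G] {Z : Set G} {K : G → Subgroup G}

/-- the points of the frame of `z` -/
def sgOf (Z : Set G) (K : G → Subgroup G) (z : G) : Set G :=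
  {x | ∃ F, Frm Z K F ∧ (∃ A ∈ F, z ∈ A) ∧ ∃ B ∈ F, x ∈ B}

/-- the class of `z` in its frame -/
def klOf (Z : Set G) (K : G → Subgroup G) (z : G) : Set G := {x | ∃ F, Frm Z K F ∧ ∃ A ∈ F, z ∈ A ∧ x ∈ A}

theorem Fram.of_frm [Finite G] (h : GW Z K) (fr : ∀ z ∈ Z, ∃ F, Frm Z K F ∧ ∃ A ∈ F, z ∈ A)
    (f1 : ∀ u ∈ Z, ∀ v ∈ Z, CP K u v → ∃ F, Frm Z K F ∧ (∃ A ∈ F, u ∈ A) ∧ ∃ B ∈ F, v ∈ B)
    (f2 : ∀ x ∈ Z, ∀ u ∈ Z, CP K u (x * u * x⁻¹) → ∃ F, Frm Z K F ∧ (∃ A ∈ F, u ∈ A) ∧ ∃ B ∈ F, x ∈ B)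
    (f3 : ∀ z ∈ Z, ∀ x ∈ Z, (∃ F, Frm Z K F ∧ (∃ A ∈ F, z ∈ A) ∧ ∃ B ∈ F, x * z * x⁻¹ ∈ B) →
      ∃ F, Frm Z K F ∧ (∃ A ∈ F, z ∈ A) ∧ ∃ B ∈ F, x ∈ B) :
    Fram Z K (sgOf Z K) (klOf Z K) := by
  refine ⟨?_, ?_, ?_, ?_, ?_, ?_, ?_, ?_, ?_, f1, f2, f3⟩
  · rintro z - x ⟨F, f, -, B, hB, hx⟩
    exact f.sub B hB hx
  · intro z hz
    obtain ⟨F, f, A, hA, hzA⟩ := fr z hz
    exact ⟨F, f, A, hA, hzA, hzA⟩
  · rintro z - x ⟨F, f, A, hA, hzA, hxA⟩
    exact ⟨F, f, ⟨A, hA, hzA⟩, A, hA, hxA⟩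
  · rintro z - u ⟨F, f, ⟨A, hA, hzA⟩, B, hB, huB⟩
    ext x
    constructor
    · rintro ⟨F', f', ⟨C, hC, huC⟩, D, hD, hxD⟩
      obtain ⟨rfl, -⟩ := f.uniq h f' hB hC huB huC
      exact ⟨F, f, ⟨A, hA, hzA⟩, D, hD, hxD⟩
    · rintro ⟨F', f', ⟨C, hC, hzC⟩, D, hD, hxD⟩
      obtain ⟨rfl, -⟩ := f.uniq h f' hA hC hzA hzC
      exact ⟨F, f, ⟨B, hB, huB⟩, D, hD, hxD⟩
  · rintro z - u ⟨F, f, A, hA, hzA, huA⟩
    ext x
    constructor
    · rintro ⟨F', f', C, hC, huC, hxC⟩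
      obtain ⟨rfl, rfl⟩ := f.uniq h f' hA hC huA huC
      exact ⟨F, f, A, hA, hzA, hxC⟩
    · rintro ⟨F', f', C, hC, hzC, hxC⟩
      obtain ⟨rfl, rfl⟩ := f.uniq h f' hA hC hzA hzC
      exact ⟨F, f, A, hA, huA, hxC⟩
  · rintro z - g u ⟨F, f, ⟨A, hA, hzA⟩, B, hB, huB⟩
    exact ⟨_, f.conj h g, ⟨_, ⟨A, hA, rfl⟩, ⟨z, hzA, rfl⟩⟩, _, ⟨B, hB, rfl⟩, ⟨u, huB, rfl⟩⟩
  · rintro z hz u ⟨F, f, ⟨A, hA, hzA⟩, B, hB, huB⟩ hn
    have hne : A ≠ B := by
      rintro rfl
      exact hn ⟨F, f, A, hA, hzA, huB⟩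
    exact (cp_iff h hz).2 (f.cm A hA B hB hne z hzA u huB)
  · intro z hz
    obtain ⟨F, f, A, hA, hzA⟩ := fr z hz
    obtain ⟨B, hB, hBA⟩ := f.other hA
    obtain ⟨b, hb⟩ := f.ne B hB
    refine ⟨b, ⟨F, f, ⟨A, hA, hzA⟩, B, hB, hb⟩, ?_⟩
    rintro ⟨F', f', C, hC, hzC, hbC⟩
    obtain ⟨rfl, rfl⟩ := f.uniq h f' hA hC hzA hzC
    exact hBA (f.disj h hB hA hb hbC)
  · intro z hz
    obtain ⟨F, f, A, hA, hzA⟩ := fr z hz
    obtain ⟨y, hyA, hyz, hn⟩ := f.exists_not_cm h hA hzA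
    exact ⟨z, ⟨F, f, A, hA, hzA, hzA⟩, y, ⟨F, f, A, hA, hzA, hyA⟩, Ne.symm hyz, fun h1 => hn h1.2⟩

/-- a class of a frame is `ONE` -/
theorem one_of_frm [Finite G] (h : GW Z K) (tp : TP Z K) {F : Set (Set G)} (f : Frm Z K F) {A : Set G} (hA : A ∈ F)
    {x y v : G} (hx : x ∈ A) (hy : y ∈ A) (hv : v ∈ A) (hc : CP K x y) : Ce (x * y) (K v) := by
  obtain ⟨B, hB, hBA⟩ := f.other hA
  obtain ⟨b, hb⟩ := f.ne B hB
  have h1 : A ∈ NN Z K b := by rw [f.nn B hB b hb]; exact ⟨hA, hBA.symm⟩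
  obtain ⟨h2, h3, h4⟩ := NN_cl h h1 hx
  have h5 : OneC Z K b x := (TP.of_mem h tp (f.sub B hB hb) x h2).resolve_left h3
  exact h5 x (AN.cl_refl b x) y (by rw [← h4]; exact hy) hc.2 v (by rw [← h4]; exact hv)

/-- a class of the frame is `ONE` -/
theorem one_of_klOf [Finite G] (h : GW Z K) (tp : TP Z K) {x y v : G} (hy : y ∈ klOf Z K x) (hv : v ∈ klOf Z K x)
    (hc : CP K x y) : Ce (x * y) (K v) := by
  obtain ⟨F, f, A, hA, hxA, hyA⟩ := hy
  obtain ⟨F', f', A', hA', hxA', hvA'⟩ := hv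
  obtain ⟨rfl, rfl⟩ := f.uniq h f' hA hA' hxA hxA'
  exact one_of_frm h tp f hA hxA hyA hvA' hc

/-- conjugation of classes -/
theorem klOf_conj [Finite G] (h : GW Z K) {x z : G} (g : G) (hx : x ∈ klOf Z K z) :
    g * x * g⁻¹ ∈ klOf Z K (g * z * g⁻¹) := by
  obtain ⟨F, f, A, hA, hzA, hxA⟩ := hx
  exact ⟨_, f.conj h g, _, ⟨A, hA, rfl⟩, ⟨z, hzA, rfl⟩, ⟨x, hxA, rfl⟩⟩

end Cfsg.Agent.Cit.Nil.CompR
end

-- part: Cit/Nil/CompR/CentE
section
set_option linter.all false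
open scoped Cfsg.Agent.FastGrp

/-!
# S1309 (6b), COMP, any `r`, the product situation: `C(e) ≤ M` for an element centralising two blocks (helper531, (E1))

`Fram.om_sub_of_tps`, `Fram.cent_le_of_tps` : `e` centralises `K n`, `K n'`, `n` and `n'` in different blocks of the frame
of `z`, and `C(e)` has `T'`: then the members of `C(e)` are in the frame and `C(e) ≤ M`.
-/

set_option autoImplicit false
set_option linter.style.haveILetI false
set_option linter.unusedSectionVars false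

namespace Cfsg.Agent.Cit.Nil.CompR

open Subgroup Cfsg Cfsg.Agent.Cit
open Cfsg.Agent.Cit.Nil.AN (Om Cl OneC Ce Cm)
open Cfsg.Agent.Cit.Nil.ROne (CP CS TT OneCls)
open Cfsg.Agent.OddOrderLocal.NilParts Cfsg.Agent.StdEven.Syl

namespace Fram

variable {G : Type*} [Group G] {Z : Set G} {K : G → Subgroup G} {Sg Kl : G → Set G} {z n n' e g : G}

/-- **(E1)**, members: the members of `C(e)` are in the frame -/
theorem om_sub_of_tps [Finite G] (f : Fram Z K Sg Kl) (w : GW Z K)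
    (tp : ∀ S : Sylow 2 G, TPS Z K (S : Subgroup G)) (m2 : ∀ S : Sylow 2 G, MTwo Z K (S : Subgroup G))
    (hz : z ∈ Z) (hn : n ∈ Sg z) (hn' : n' ∈ Sg z) (hnn : n' ∉ Kl n) (he : Ce e (K n)) (he' : Ce e (K n'))
    (hT : TPs Z K e) : Om Z K e ⊆ Sg z := by
  intro x hx
  have hnZ := f.mem_Z hz hn
  have hnZ' := f.mem_Z hz hn'
  have hnO : n ∈ Om Z K e := ⟨hnZ, he⟩
  have hnO' : n' ∈ Om Z K e := ⟨hnZ', he'⟩
  have hcp : CP K n n' := f.cm' hz hn hn' hnn
  -- a point outside the class of a point of the frame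
  have key : ∀ u, u ∈ Sg z → u ∈ Om Z K e → x ∉ Cl Z K e u → x ∈ Sg z := by
    intro u hu huO hxu
    have h1 : CP K u x := ⟨fun e1 => hxu (e1 ▸ AN.cl_refl e u), AN.cl_cm (AN.cl_refl e u) hx hxu⟩
    have h2 := f.f1 u huO.1 x hx.1 h1
    rwa [f.sgEq z hz u hu] at h2
  by_cases c1 : x ∈ Cl Z K e n
  swap
  · exact key n hn hnO c1
  by_cases c2 : x ∈ Cl Z K e n'
  swap
  · exact key n' hn' hnO' c2
  have c3 : n' ∈ Cl Z K e n := AN.cl_trans c1 (AN.cl_symm hnO' c2)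
  rcases hT n hnO with h1 | h1
  · -- nil
    have hKx : K x ≤ centralizer {e} := fun k hk => mem_centralizer_singleton_iff.2 (hx.2 k hk).symm
    have hP : IsPGroup 2 (K x ⊔ oP 2 (centralizer {e}) : Subgroup G) :=
      OneBasic.isPGroup_sup_of_normalizes (w.two hx.1) (isPGroup_oP 2 _) (hKx.trans (le_normalizer_oP 2 _))
    have hnP : n ∈ (K x ⊔ oP 2 (centralizer {e}) : Subgroup G) := mem_sup_right h1
    have h2 : K (n * x * n⁻¹) ≤ (K x ⊔ oP 2 (centralizer {e}) : Subgroup G) := by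
      rw [w.conjK x hx.1]
      intro y hy
      rw [mem_cj] at hy
      have h3 : y = n * (n⁻¹ * y * n) * n⁻¹ := by group
      rw [h3]
      exact mul_mem (mul_mem hnP (mem_sup_left hy)) (inv_mem hnP)
    by_cases hne : x = n * x * n⁻¹
    · refine f.mem_of_comm hz hn hx.1 ?_
      rw [eq_mul_inv_iff_mul_eq] at hne
      exact hne
    · have h3 := w.com _ hP hx.1 (w.conjZ x hx.1 n) le_sup_left h2 hne
      have h4 := f.sg_symm hx.1 (f.f2 n hnZ x hx.1 h3)
      rwa [f.sgEq z hz n hn] at h4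
  · -- `ONE`
    obtain ⟨S, hS, hS'⟩ := w.exists_sylow_of_cp hnZ hnZ' hcp
    have h2 : x ∈ Om Z K (n * n') := ⟨hx.1, h1 n (AN.cl_refl e n) n' c3 hcp.2 x c1⟩
    have h3 := f.om_sub w S hS (mul_mem (subset_closure hS) (subset_closure hS')) (w.cp_mul_ne hnZ' hcp) (tp S)
      (m2 S) h2
    rwa [f.sgEq z hz n hn] at h3

/-- **(E1)**: `C(e) ≤ M` -/
theorem cent_le_of_tps [Finite G] (f : Fram Z K Sg Kl) (w : GW Z K)
    (tp : ∀ S : Sylow 2 G, TPS Z K (S : Subgroup G)) (m2 : ∀ S : Sylow 2 G, MTwo Z K (S : Subgroup G))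
    (hz : z ∈ Z) (hn : n ∈ Sg z) (hn' : n' ∈ Sg z) (hnn : n' ∉ Kl n) (he : Ce e (K n)) (he' : Ce e (K n'))
    (hT : TPs Z K e) : ∀ g, g * e = e * g → g ∈ f.MM hz := by
  intro g hg
  have hnZ := f.mem_Z hz hn
  refine f.mem_MM_of hz hn (f.om_sub_of_tps w tp m2 hz hn hn' hnn he he' hT ⟨w.conjZ n hnZ g, ?_⟩)
  have h1 : Ce (g * e * g⁻¹) (K (g * n * g⁻¹)) := w.ce_conj hnZ g he
  rwa [hg, mul_inv_cancel_right] at h1

end Fram

end Cfsg.Agent.Cit.Nil.CompR
end
end
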