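import Cfsg.Agent.Cit.Nil.RG.Tri
import Cfsg.Agent.Cit.Nil.RFour.SClosed
import Cfsg.Agent.S1301
import Cfsg.Agent.Intrinsic.Basic
import Cfsg.Agent.ClassificationK.PCompTransport
import Cfsg.Agent.PLocal.SubnormalCore
import Cfsg.Agent.SignalizersComponents.EvenComponent
import Cfsg.Agent.Cit.Nil.RI.Closed_m3
import Cfsg.Agent.Transfer.PGroupNormal
import Mathlib.Data.Nat.Multiplicity
import Cfsg.Agent.Cit.Nil.RTwoM.Base_m3
import Cfsg.Agent.FastGrp
import Cfsg.Agent.Prune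
set_option linter.all false

section
prune_inst 0x7ffcfefbafbdbddfffff7e7ffffddffffdfcffffffdffbfbfffffbffffff6beffbedfbafffecdaffcef7e2b430f87b53fdffc67fef6bdd7ffffd5ff45ffbff9f3fafbfac51d7b83e1ffc6ffffbf37ffffffffffffffffffffffffffff7fffffffffdffffffff

-- part: Cit/Nil/RG/Delta
section
prune_inst 0x301001040422000000180000200000001000000200400000004000000040004120450001304003100110ac70200a8020029800090028000020008a0040040c05040032c28048100021000040c800000000000000000000000000008000000000200000000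
set_option linter.all false
open scoped Cfsg.Agent.FastGrp

-- part: Cit/Nil/RG/Abel
section
/-!
# (6b), (C3), `r ≥ 2`, commuting elements of `Z` are C-pairs: involutions in a normal 2-subgroup commute

`CC Om` : commuting elements of `Z` are equal or a C-pair. `Two2 Om` : at least two members over every `z`.

* `CC.conj_pair` (5.0) : `w` in a 2-group `P` normalised by `R_u`, `w u w⁻¹ ≠ u` : `(u, w u w⁻¹)` is a C-pair;
* `CC.comm` (5.2) : `u, w ∈ Z ∩ P`, `R_u`, `R_w` normalise the 2-group `P` : `u w = w u`.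

-- uses: (H2), (H3), (PG) only; no OneCls, no cores, no AN, no NIL.
-/

set_option autoImplicit false
set_option linter.style.haveILetI false
set_option linter.unusedSectionVars false

namespace Cfsg.Agent.Cit.Nil.RG

open Subgroup Cfsg Cit

variable {G : Type*} [Group G]

/-- commuting elements of `Z` are C-pairs -/
def CC (Om : Set (Subgroup G)) : Prop := ∀ u ∈ ZZ Om, ∀ v ∈ ZZ Om, u ≠ v → u * v = v * u → CP Om u v

/-- `r ≥ 2` -/
def Two2 (Om : Set (Subgroup G)) : Prop := ∀ z ∈ ZZ Om, ∃ K ∈ Ov Om z, ∃ L ∈ Ov Om z, K ≠ L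

variable {Om : Set (Subgroup G)} {K L : Subgroup G} {P : Subgroup G} {u v w k l a : G}

namespace CC

/-- **(5.0)** -/
theorem conj_pair (hC : CC Om) (h : WR Om) (hP : IsPGroup 2 P) (hu : u ∈ ZZ Om) (hn : RR Om u ≤ normalizer (P : Set G))
    (hw : w ∈ P) (hne : w * u * w⁻¹ ≠ u) : CP Om u (w * u * w⁻¹) := by
  obtain ⟨K, hK⟩ := hu
  have hKn : K ≤ normalizer (P : Set G) := (WR.le_RR hK).trans hn
  have hT : IsPGroup 2 (K ⊔ P : Subgroup G) := (h.two hK.1).to_sup_of_normal_right' hP hKn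
  have hwT : w ∈ K ⊔ P := mem_sup_right hw
  have hKw : cj w K ≤ K ⊔ P := by
    rintro _ ⟨k, hk, rfl⟩
    exact mul_mem (mul_mem hwT (mem_sup_left hk)) (inv_mem hwT)
  have hKw' := h.Ov_cj hK w
  have h1 := h.pg K hK.1 (cj w K) hKw'.1 _ hT le_sup_left hKw (h.Ov_ne hK hKw' hne.symm)
  exact hC u ⟨K, hK⟩ _ ⟨_, hKw'⟩ hne.symm (h1 u (h.Ov_mem hK) _ (h.Ov_mem hKw'))

end CC

namespace WR

variable (h : WR Om)

include h

/-- a product of elements of order four in two members does not centralise `R_u` -/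
theorem not_cen (hK : K ∈ Ov Om u) (hL : L ∈ Ov Om u) (hne : K ≠ L) (hk : k ∈ K) (hl : l ∈ L) (hkk : k * k = u)
    (hc : ∀ x ∈ RR Om u, (k * l) * x = x * (k * l)) : False := by
  have hu1 := h.zz_ne (Ov_zz hK)
  have hu2 := h.zz_sq (Ov_zz hK)
  have h1 : ∀ x ∈ K, k * x = x * k := by
    intro x hx
    have h2 := hc x (WR.le_RR hK hx)
    have h3 : l * x = x * l := (h.Ov_comm hK hL hne hx hl).symm
    have h4 : k * x * l = x * k * l := by
      calc k * x * l = k * (x * l) := by group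
        _ = k * (l * x) := by rw [h3]
        _ = k * l * x := by group
        _ = x * (k * l) := h2
        _ = _ := by group
    exact mul_right_cancel h4
  rcases h.Ov_central hK hk h1 with h2 | h2
  · rw [h2, one_mul] at hkk; exact hu1 hkk.symm
  · rw [h2, hu2] at hkk; exact hu1 hkk.symm

/-- the element `t = w w^{kl}` -/
theorem key (hw : w * w = 1) (hc : CP Om u (w * u * w⁻¹)) (hK : K ∈ Ov Om u) (hL : L ∈ Ov Om u) (hne : K ≠ L)
    (hk : k ∈ K) (hl : l ∈ L) (hkk : k * k = u) (hll : l * l = u) :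
    (w * ((k * l) * w * (k * l)⁻¹)) * (w * ((k * l) * w * (k * l)⁻¹)) = 1 ∧ w * ((k * l) * w * (k * l)⁻¹) ≠ 1 ∧
      w * ((k * l) * w * (k * l)⁻¹) ≠ u * (w * u * w⁻¹) := by
  have hu : u ∈ ZZ Om := Ov_zz hK
  have hu2 := h.zz_sq hu
  have hwi : w⁻¹ = w := inv_eq_of_mul_eq_one_right hw
  set g := k * l with hg
  have hgR : g ∈ RR Om u := mul_mem (WR.le_RR hK hk) (WR.le_RR hL hl)
  have hkl : k * l = l * k := h.Ov_comm hK hL hne hk hl
  have hgg : g * g = 1 := by
    calc g * g = k * (l * k) * l := by rw [hg]; group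
      _ = (k * k) * (l * l) := by rw [← hkl]; group
      _ = 1 := by rw [hkk, hll, hu2]
  set A := w * g * w⁻¹ with hA
  have hAR : A ∈ RR Om (w * u * w⁻¹) := h.RR_cj hgR w
  have hAA : A * A = 1 := by
    calc A * A = w * (g * g) * w⁻¹ := by rw [hA]; group
      _ = 1 := by rw [hgg, mul_one, mul_inv_cancel]
  have ht : w * (g * w * g⁻¹) = A * g⁻¹ := by
    rw [hA, hwi]; group
  have hgi : g⁻¹ = g := inv_eq_of_mul_eq_one_right hgg
  have hAg : g * A = A * g := h.CP_RR hc hgR hAR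
  rw [ht, hgi]
  refine ⟨?_, ?_, ?_⟩
  · calc A * g * (A * g) = A * (g * A) * g := by group
      _ = (A * A) * (g * g) := by rw [hAg]; group
      _ = 1 := by rw [hAA, hgg, mul_one]
  · intro h1
    have h2 : g = A⁻¹ := eq_inv_of_mul_eq_one_right h1
    refine h.not_cen hK hL hne hk hl hkk fun x hx => ?_
    rw [← hg, h2]
    exact (h.CP_RR hc hx (inv_mem hAR)).symm
  · intro h1
    -- `u g = A (w u w⁻¹)⁻¹ …`
    have hcu : ∀ x ∈ RR Om u, x * (w * u * w⁻¹) = (w * u * w⁻¹) * x := fun x hx =>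
      h.CP_RR hc hx (h.RR_mem (h.zz_cj hu w))
    have h2 : g = A⁻¹ * (u * (w * u * w⁻¹)) := by rw [← h1]; group
    refine h.not_cen hK hL hne hk hl hkk fun x hx => ?_
    rw [← hg, h2]
    have e1 : A⁻¹ * x = x * A⁻¹ := (h.CP_RR hc hx (inv_mem hAR)).symm
    have e2 : u * x = x * u := h.RR_cen hx
    calc A⁻¹ * (u * (w * u * w⁻¹)) * x = A⁻¹ * u * ((w * u * w⁻¹) * x) := by group
      _ = A⁻¹ * u * (x * (w * u * w⁻¹)) := by rw [hcu x hx]
      _ = A⁻¹ * (u * x) * (w * u * w⁻¹) := by group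
      _ = A⁻¹ * (x * u) * (w * u * w⁻¹) := by rw [e2]
      _ = (A⁻¹ * x) * u * (w * u * w⁻¹) := by group
      _ = (x * A⁻¹) * u * (w * u * w⁻¹) := by rw [e1]
      _ = _ := by group

end WR

/-- two involutions with `(a b)² = 1` commute -/
theorem comm_of_sq {a b : G} (ha : a * a = 1) (hb : b * b = 1) (hab : a * b * (a * b) = 1) : a * b = b * a := by
  have h1 : (a * b)⁻¹ = a * b := inv_eq_of_mul_eq_one_right hab
  rw [← h1, mul_inv_rev, inv_eq_of_mul_eq_one_right ha, inv_eq_of_mul_eq_one_right hb]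

/-- **(5.2)** -/
theorem CC.comm (hC : CC Om) (h : WR Om) (h2 : Two2 Om) (hP : IsPGroup 2 P) (hu : u ∈ ZZ Om) (hw : w ∈ ZZ Om)
    (huP : u ∈ P) (hwP : w ∈ P) (nu : RR Om u ≤ normalizer (P : Set G)) (nw : RR Om w ≤ normalizer (P : Set G)) :
    u * w = w * u := by
  by_contra hne
  have hu2 := h.zz_sq hu
  have hw2 := h.zz_sq hw
  have hui := h.zz_inv hu
  have hwi := h.zz_inv hw
  have hcu : CP Om u (w * u * w⁻¹) := hC.conj_pair h hP hu nu hwP fun h1 => hne (mul_inv_eq_iff_eq_mul.1 h1).symm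
  have hcw : CP Om w (u * w * u⁻¹) := hC.conj_pair h hP hw nw huP fun h1 => hne (mul_inv_eq_iff_eq_mul.1 h1)
  obtain ⟨K, hK, L, hL, hKL⟩ := h2 u hu
  obtain ⟨M, hM, N, hN, hMN⟩ := h2 w hw
  obtain ⟨k, hk, hkk⟩ := h.exists_four hK.1
  obtain ⟨l, hl, hll⟩ := h.exists_four hL.1
  obtain ⟨m, hm, hmm⟩ := h.exists_four hM.1
  obtain ⟨n, hn, hnn⟩ := h.exists_four hN.1
  rw [hK.2] at hkk
  rw [hL.2] at hll
  rw [hM.2] at hmm
  rw [hN.2] at hnn
  obtain ⟨t2, t1, -⟩ := h.key hw2 hcu hK hL hKL hk hl hkk hll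
  obtain ⟨s2, s1, s3⟩ := h.key hu2 hcw hM hN hMN hm hn hmm hnn
  set g := k * l with hg
  set a := m * n with ha
  have hgR : g ∈ RR Om u := mul_mem (WR.le_RR hK hk) (WR.le_RR hL hl)
  have haR : a ∈ RR Om w := mul_mem (WR.le_RR hM hm) (WR.le_RR hN hn)
  -- `(w, w^g)` is a C-pair
  have hw' : g * w * g⁻¹ ∈ ZZ Om := h.zz_cj hw g
  have e1 : w ≠ g * w * g⁻¹ := fun h1 => t1 (by rw [← h1, hw2])
  have c1 : CP Om w (g * w * g⁻¹) := hC w hw _ hw' e1 (comm_of_sq hw2 (h.zz_sq hw') t2)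
  have hv : a * u * a⁻¹ ∈ ZZ Om := h.zz_cj hu a
  have e2 : u ≠ a * u * a⁻¹ := fun h1 => s1 (by rw [← h1, hu2])
  have c2 : CP Om u (a * u * a⁻¹) := hC u hu _ hv e2 (comm_of_sq hu2 (h.zz_sq hv) s2)
  -- `t`
  set t := w * (g * w * g⁻¹) with ht
  have hta : a * t * a⁻¹ = t := by
    rw [mul_inv_eq_iff_eq_mul]
    have h3 : w * a = a * w := h.RR_cen haR
    have h4 : a * (g * w * g⁻¹) = (g * w * g⁻¹) * a := h.CP_RR c1 haR (h.RR_mem hw')
    calc a * t = (a * w) * (g * w * g⁻¹) := by rw [ht]; group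
      _ = w * (a * (g * w * g⁻¹)) := by rw [← h3]; group
      _ = _ := by rw [h4, ht]; group
  -- `c = u u' = w w'`
  set u' := w * u * w⁻¹ with hu'
  have hu'Z : u' ∈ ZZ Om := h.zz_cj hu w
  have huu' : u * u' = u' * u := h.CP_comm hcu hu hu'Z
  obtain ⟨c, hc⟩ : ∃ c, c = u * u' := ⟨_, rfl⟩
  have hcc : c * c = 1 := by
    calc c * c = u * (u' * u) * u' := by rw [hc]; group
      _ = (u * u) * (u' * u') := by rw [← huu']; group
      _ = 1 := by rw [hu2, h.zz_sq hu'Z, mul_one]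
  have hcw' : c = w * (u * w * u⁻¹) := by
    have h3 : c⁻¹ = c := inv_eq_of_mul_eq_one_right hcc
    rw [← h3, hc, hu', mul_inv_rev, mul_inv_rev, mul_inv_rev, inv_inv, hwi, hui]
    group
  have hu'c : u' = u * c := by rw [hc, ← mul_assoc, hu2, one_mul]
  have huc : u * c = c * u := by
    calc u * c = u * (u * u') := by rw [hc]
      _ = u * (u' * u) := by rw [huu']
      _ = c * u := by rw [hc]; group
  -- `a` commutes with `c`
  have hac : a * c = c * a := by
    have h3 : w * a = a * w := h.RR_cen haR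
    have h4 : a * (u * w * u⁻¹) = (u * w * u⁻¹) * a := h.CP_RR hcw haR (h.RR_mem (h.zz_cj hw u))
    calc a * c = (a * w) * (u * w * u⁻¹) := by rw [hcw']; group
      _ = w * (a * (u * w * u⁻¹)) := by rw [← h3]; group
      _ = _ := by rw [h4, hcw']; group
  have hv' : a * u' * a⁻¹ = (a * u * a⁻¹) * c := by
    calc a * u' * a⁻¹ = a * u * (c * a⁻¹) := by rw [hu'c]; group
      _ = a * u * (a⁻¹ * c) := by
        have : c * a⁻¹ = a⁻¹ * c := by
          rw [eq_inv_mul_iff_mul_eq, ← mul_assoc, hac, mul_inv_cancel_right]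
        rw [this]
      _ = _ := by group
  have huv : u * (a * u * a⁻¹) = (a * u * a⁻¹) * u := h.CP_comm c2 hu hv
  have hv'Z : a * u' * a⁻¹ ∈ ZZ Om := h.zz_cj hu'Z a
  have e3 : u ≠ a * u' * a⁻¹ := by
    intro h3
    apply s3
    rw [← hcw', hc]
    -- `u v = c`
    have h4 : u * c = a * u * a⁻¹ := by
      calc u * c = (a * u * a⁻¹ * c) * c := by rw [← hv', ← h3]
        _ = a * u * a⁻¹ * (c * c) := by group
        _ = _ := by rw [hcc, mul_one]
    rw [← h4, ← hu'c]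
  have c3 : CP Om u (a * u' * a⁻¹) := by
    refine hC u hu _ hv'Z e3 ?_
    rw [hv']
    calc u * (a * u * a⁻¹ * c) = (u * (a * u * a⁻¹)) * c := by group
      _ = (a * u * a⁻¹) * (u * c) := by rw [huv]; group
      _ = _ := by rw [huc]; group
  -- the contradiction
  set A := w * g * w⁻¹ with hA
  have hAR : A ∈ RR Om u' := h.RR_cj hgR w
  have htA : t = A * g⁻¹ := by rw [ht, hA, hwi]; group
  have hgi : g = t⁻¹ * A := by rw [htA]; group
  refine h.not_cen hK hL hKL hk hl hkk fun x hx => ?_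
  rw [← hg, hgi]
  have f1 : x * A = A * x := h.CP_RR hcu hx hAR
  have f2 : x * t = t * x := by
    rw [← hta, htA]
    have h3 : x * (a * A * a⁻¹) = (a * A * a⁻¹) * x := h.CP_RR c3 hx (h.RR_cj hAR a)
    have h4 : x * (a * g⁻¹ * a⁻¹) = (a * g⁻¹ * a⁻¹) * x := h.CP_RR c2 hx (h.RR_cj (inv_mem hgR) a)
    calc x * (a * (A * g⁻¹) * a⁻¹) = (x * (a * A * a⁻¹)) * (a * g⁻¹ * a⁻¹) := by group
      _ = (a * A * a⁻¹) * (x * (a * g⁻¹ * a⁻¹)) := by rw [h3]; group
      _ = (a * A * a⁻¹) * ((a * g⁻¹ * a⁻¹) * x) := by rw [h4]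
      _ = _ := by group
  have f3 : t⁻¹ * x = x * t⁻¹ := by
    rw [inv_mul_eq_iff_eq_mul, ← mul_assoc, ← f2, mul_inv_cancel_right]
  calc t⁻¹ * A * x = t⁻¹ * (x * A) := by rw [f1]; group
    _ = (t⁻¹ * x) * A := by group
    _ = _ := by rw [f3]; group

end Cfsg.Agent.Cit.Nil.RG
end

-- part: Cit/Nil/RG/Delta
section
/-!
# (6b), (C3), `r ≥ 2`, commuting elements of `Z` are C-pairs (T0), `m ≥ 2`: the classes

* `InO H v` : `v ∈ O₂(H)`; `NilP Om` : NIL; `ANT Om` : AN for the elements `e ≠ 1` of `AZ Z s = ⟨Z ∩ C(s)⟩`;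
* `comZ` (6) : commuting is transitive on `Z`;
* `mem_of_norm` (7) : `Z ∩ N(AZ s) = Z ∩ C(s)`;
* `cent_le` (9.1) : `C(e) ≤ N(AZ s)` for `1 ≠ e ∈ AZ s`;
* `sylow_le` : `s ∈ S` : `S ≤ N(AZ s)`.

-- uses: CC (T0), Two2 (r ≥ 2), NIL, AN; no OneCls, no cores.
-/

set_option autoImplicit false
set_option linter.style.haveILetI false
set_option linter.unusedSectionVars false

namespace Cfsg.Agent.Cit.Nil.RG

open Subgroup Cfsg Cit
open RFour (ComZ AZ)

variable {G : Type*} [Group G]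

/-- `v ∈ O₂(H)` -/
def InO (H : Subgroup G) (v : G) : Prop :=
  ∃ N : Subgroup G, N ≤ H ∧ H ≤ normalizer (N : Set G) ∧ IsPGroup 2 N ∧ v ∈ N

/-- NIL -/
def NilP (Om : Set (Subgroup G)) : Prop := ∀ u ∈ ZZ Om, ∀ v ∈ ZZ Om, CP Om u v → InO (centralizer {u}) v

/-- AN -/
def ANT (Om : Set (Subgroup G)) : Prop := ∀ s ∈ ZZ Om, ∀ e ∈ AZ (ZZ Om) s, e ≠ 1 → InO (centralizer {e}) s

variable {Om : Set (Subgroup G)} {K L H : Subgroup G} {u v w x s e g : G}

theorem InO.two (hu : InO H u) (hv : InO H v) :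
    ∃ N : Subgroup G, N ≤ H ∧ H ≤ normalizer (N : Set G) ∧ IsPGroup 2 N ∧ u ∈ N ∧ v ∈ N := by
  obtain ⟨N, n1, n2, n3, n4⟩ := hu
  obtain ⟨N', m1, m2, m3, m4⟩ := hv
  refine ⟨N ⊔ N', sup_le n1 m1, ?_, n3.to_sup_of_normal_right' m3 (n1.trans m2), mem_sup_left n4, mem_sup_right m4⟩
  intro x hx
  rw [mem_normalizer_iff_cj, cj_sup, mem_normalizer_iff_cj.1 (n2 hx), mem_normalizer_iff_cj.1 (m2 hx)]

/-- the world T0 -/
structure TZ (Om : Set (Subgroup G)) : Prop where
  h : WR Om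
  cc : CC Om
  two : Two2 Om
  nil : NilP Om
  an : ANT Om

/-- commuting is transitive on `Z` -/
theorem comZ (h : WR Om) (hC : CC Om) (h2 : Two2 Om) (nil : NilP Om) : ComZ (ZZ Om) where
  sq _ := h.zz_sq
  ne _ := h.zz_ne
  conj _ hz g := h.zz_cj hz g
  tr z hz s hs s' hs' h1 h3 := by
    by_cases e1 : z = s
    · subst e1; exact h3
    by_cases e2 : z = s'
    · subst e2; exact h1.symm
    have c1 := hC z hz s hs e1 h1
    have c2 := hC z hz s' hs' e2 h3
    obtain ⟨N, -, n2, n3, n4, n5⟩ := (nil z hz s hs c1).two (nil z hz s' hs' c2)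
    refine hC.comm h h2 n3 hs hs' n4 n5 (le_trans ?_ n2) (le_trans ?_ n2)
    · intro y hy
      rw [mem_centralizer_singleton_iff]
      exact (h.CP_RR c1 (h.RR_mem hz) hy).symm
    · intro y hy
      rw [mem_centralizer_singleton_iff]
      exact (h.CP_RR c2 (h.RR_mem hz) hy).symm

namespace TZ

variable (t : TZ Om)

include t

theorem com : ComZ (ZZ Om) := comZ t.h t.cc t.two t.nil

theorem cp (hu : u ∈ ZZ Om) (hv : v ∈ ZZ Om) (hne : u ≠ v) (hc : u * v = v * u) : CP Om u v := t.cc u hu v hv hne hc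

/-- elements of `Z ∩ AZ s` commute with `s` -/
theorem comm_of_AZ (hs : s ∈ ZZ Om) (hx : x ∈ AZ (ZZ Om) s) : s * x = x * s :=
  t.com.AZ_comm hs s (ComZ.self_mem hs) x hx

/-- `R_s` centralises `AZ s` -/
theorem RR_comm (hs : s ∈ ZZ Om) (he : e ∈ AZ (ZZ Om) s) {r : G} (hr : r ∈ RR Om s) : r * e = e * r := by
  have h1 : AZ (ZZ Om) s ≤ centralizer {r} := by
    rw [AZ, closure_le]
    rintro z ⟨hz, hsz⟩
    rw [SetLike.mem_coe, mem_centralizer_singleton_iff]
    by_cases hne : s = z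
    · subst hne; exact t.h.RR_cen hr
    · exact (t.h.CP_RR (t.cp hs hz hne hsz) hr (t.h.RR_mem hz)).symm
  exact (mem_centralizer_singleton_iff.1 (h1 he)).symm

/-- **(7)** -/
theorem mem_of_norm (hs : s ∈ ZZ Om) (hx : x ∈ ZZ Om) (hxM : x ∈ normalizer (AZ (ZZ Om) s : Set G)) :
    x * s = s * x := by
  have h := t.h
  by_contra hne
  have hsA : s ∈ AZ (ZZ Om) s := ComZ.self_mem hs
  have hxx := h.zz_sq hx
  have hss := h.zz_sq hs
  have hxi := h.zz_inv hx
  have hsi := h.zz_inv hs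
  obtain ⟨v, hv⟩ : ∃ v, v = x * s * x⁻¹ := ⟨_, rfl⟩
  have hvZ : v ∈ ZZ Om := by rw [hv]; exact h.zz_cj hs x
  have hvA : v ∈ AZ (ZZ Om) s := by rw [hv]; exact (mem_normalizer_iff.1 hxM s).1 hsA
  have hsv : s * v = v * s := t.comm_of_AZ hs hvA
  have hvs : s ≠ v := by
    intro h1
    rw [hv, eq_mul_inv_iff_mul_eq] at h1
    exact hne h1.symm
  have cp1 := t.cp hs hvZ hvs hsv
  obtain ⟨e, he⟩ : ∃ e, e = s * v := ⟨_, rfl⟩
  have heA : e ∈ AZ (ZZ Om) s := by rw [he]; exact mul_mem hsA hvA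
  have he1 : e ≠ 1 := by
    intro h1
    rw [he] at h1
    apply hvs
    rw [← hsi]
    exact (eq_inv_of_mul_eq_one_right h1).symm
  -- `y = s x s = e x`
  obtain ⟨y, hy⟩ : ∃ y, y = s * x * s⁻¹ := ⟨_, rfl⟩
  have hyZ : y ∈ ZZ Om := by rw [hy]; exact h.zz_cj hx s
  have hye : y = e * x := by
    rw [hy, he, hv, hsi]
    calc s * x * s = s * (x * s * x⁻¹) * x := by group
      _ = _ := by group
  have hxe : x * e = e * x := by
    have h1 : x * e * x⁻¹ = e := by
      have h2 : x * v * x⁻¹ = s := by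
        calc x * v * x⁻¹ = (x * x) * s * (x * x)⁻¹ := by rw [hv]; group
          _ = s := by rw [hxx]; group
      calc x * e * x⁻¹ = (x * s * x⁻¹) * (x * v * x⁻¹) := by rw [he]; group
        _ = v * s := by rw [h2, ← hv]
        _ = e := by rw [he, hsv]
    exact mul_inv_eq_iff_eq_mul.1 h1
  have hxy : x * y = e := by rw [hye, ← mul_assoc, hxe, mul_assoc, hxx, mul_one]
  have hyx : y * x = e := by rw [hye, mul_assoc, hxx, mul_one]
  have hxny : x ≠ y := by
    intro h1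
    apply he1
    rw [← hxy, ← h1, hxx]
  have cp2 := t.cp hx hyZ hxny (hxy.trans hyx.symm)
  have a1 := t.an s hs e heA he1
  have heA' : e ∈ AZ (ZZ Om) x := by
    rw [← hxy]
    exact mul_mem (ComZ.self_mem hx) (subset_closure ⟨hyZ, hxy.trans hyx.symm⟩)
  have a2 := t.an x hx e heA' he1
  obtain ⟨N, -, n2, n3, n4, n5⟩ := a1.two a2
  apply hne
  refine (t.cc.comm h t.two n3 hs hx n4 n5 (le_trans ?_ n2) (le_trans ?_ n2)).symm
  · intro r hr
    rw [mem_centralizer_singleton_iff]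
    exact t.RR_comm hs heA hr
  · intro r hr
    rw [mem_centralizer_singleton_iff]
    exact t.RR_comm hx heA' hr

theorem norm_of_conj (hs : s ∈ ZZ Om) (hx : x * s * x⁻¹ ∈ normalizer (AZ (ZZ Om) s : Set G)) :
    x ∈ normalizer (AZ (ZZ Om) s : Set G) :=
  t.com.mem_norm_of hs (t.mem_of_norm hs (t.h.zz_cj hs x) hx).symm

/-- **(9.1)** -/
theorem cent_le (hs : s ∈ ZZ Om) (he : e ∈ AZ (ZZ Om) s) (he1 : e ≠ 1) :
    centralizer {e} ≤ normalizer (AZ (ZZ Om) s : Set G) := by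
  have h := t.h
  intro g hg
  have hge := mem_centralizer_singleton_iff.1 hg
  obtain ⟨N, -, n2, n3, n4⟩ := t.an s hs e he he1
  have hgN : g * s * g⁻¹ ∈ N := (mem_normalizer_iff.1 (n2 hg) s).1 n4
  refine t.com.mem_norm_of hs (t.cc.comm h t.two n3 hs (h.zz_cj hs g) n4 hgN (le_trans ?_ n2) (le_trans ?_ n2))
  · intro r hr
    rw [mem_centralizer_singleton_iff]
    exact t.RR_comm hs he hr
  · intro r hr
    have h1 : g⁻¹ * r * g⁻¹⁻¹ ∈ RR Om (g⁻¹ * (g * s * g⁻¹) * g⁻¹⁻¹) := h.RR_cj hr g⁻¹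
    have h2 : g⁻¹ * (g * s * g⁻¹) * g⁻¹⁻¹ = s := by group
    rw [h2, inv_inv] at h1
    have h3 := t.RR_comm hs he h1
    rw [mem_centralizer_singleton_iff]
    have h4 : g * e * g⁻¹ = e := by rw [hge, mul_inv_cancel_right]
    calc r * e = r * (g * e * g⁻¹) := by rw [h4]
      _ = g * (g⁻¹ * r * g * e) * g⁻¹ := by group
      _ = g * (e * (g⁻¹ * r * g)) * g⁻¹ := by rw [h3]
      _ = (g * e * g⁻¹) * r := by group
      _ = e * r := by rw [h4]

/-- a Sylow 2-subgroup containing `s` is in `N(AZ s)` -/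
theorem sylow_le [Finite G] (S : Sylow 2 G) (hs : s ∈ ZZ Om) (hsS : s ∈ (S : Subgroup G)) :
    (S : Subgroup G) ≤ normalizer (AZ (ZZ Om) s : Set G) := by
  haveI : Fact (Nat.Prime 2) := ⟨Nat.prime_two⟩
  by_contra hcon
  obtain ⟨b, hb, hb1, hb2⟩ := exists_normalizing S.isPGroup'
    (A := (S : Subgroup G) ⊓ normalizer (AZ (ZZ Om) s : Set G)) inf_le_left (fun h1 => hcon (inf_eq_left.1 h1))
  apply hb1
  refine Subgroup.mem_inf.2 ⟨hb, ?_⟩
  have h1 : s ∈ (S : Subgroup G) ⊓ normalizer (AZ (ZZ Om) s : Set G) :=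
    Subgroup.mem_inf.2 ⟨hsS, le_normalizer (ComZ.self_mem hs)⟩
  have h2 := conj_mem_cj (g := b) h1
  rw [hb2] at h2
  exact t.norm_of_conj hs h2.2

end TZ

end Cfsg.Agent.Cit.Nil.RG
end
end

-- part: Cit/Nil/RTwoM/ELay
section
set_option linter.all false
open scoped Cfsg.Agent.FastGrp

/-!
# Layers of subgroups of a fixed group

* `EH H` : the layer `E(H)` as a subgroup of `G`;
* `EH_cj`, `le_norm_EH` : conjugation; `EH_comm` : a 2-subgroup which is normal in `H` centralises `E(H)`;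
* **`EH_le_EH`** (L-balance, S1301): `u`, `v` commuting involutions, `O(C(u)) = 1`, `E(C(v)) ≤ C(u)`:
  `E(C(v)) ≤ E(C(u))`;
* `EH_eq_bot` : no components.
-/

set_option autoImplicit false
set_option linter.style.haveILetI false
set_option linter.unusedSectionVars false

namespace Cfsg.Agent.Cit.Nil.RTwoM

open Subgroup Cfsg Cfsg.Agent.Cit
open Cfsg.Agent.SignalizersComponents Cfsg.Agent.Lib

variable {G : Type*} [Group G]

/-- `E(H)` -/
def EH (H : Subgroup G) : Subgroup G := (layer ↥H).map H.subtype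

theorem EH_le (H : Subgroup G) : EH H ≤ H := map_subtype_le _

theorem comp_le_EH {H K : Subgroup G} (hK : K ≤ H) (hc : IsComponent (K.subgroupOf H)) : K ≤ EH H := by
  intro k hk
  exact ⟨⟨k, hK hk⟩, Components.component_le_layer hc hk, rfl⟩

theorem EH_le_of {H X : Subgroup G} (h : ∀ K : Subgroup G, K ≤ H → IsComponent (K.subgroupOf H) → K ≤ X) :
    EH H ≤ X := by
  rw [EH, map_le_iff_le_comap, Components.layer_le_iff]
  intro K hK k hk
  refine h (K.map H.subtype) (map_subtype_le _) ?_ ⟨k, hk, rfl⟩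
  rwa [subgroupOf, comap_map_eq_self_of_injective H.subtype_injective]

theorem comp_of_le {A B K : Subgroup G} (hKA : K ≤ A) (hAB : A ≤ B) (hc : IsComponent (K.subgroupOf B)) :
    IsComponent (K.subgroupOf A) := by
  refine ⟨?_, Components.isQuasisimple_of_mulEquiv
    ((subgroupOfEquivOfLe (hKA.trans hAB)).trans (subgroupOfEquivOfLe hKA).symm) hc.2⟩
  exact hc.1.comap (inclusion hAB)

theorem EH_cj (g : G) (H : Subgroup G) : EH (cj g H) = cj g (EH H) := by
  have h1 := Components.map_equiv_layer (H.equivMapOfInjective (MulAut.conj g).toMonoidHom (MulAut.conj g).injective)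
  have h2 : (layer ↥(H.map (MulAut.conj g).toMonoidHom)).map (H.map (MulAut.conj g).toMonoidHom).subtype =
      ((layer ↥H).map H.subtype).map (MulAut.conj g).toMonoidHom := by
    rw [← h1, map_map, map_map]
    rfl
  exact h2

theorem le_norm_EH {H : Subgroup G} : H ≤ normalizer (EH H : Set G) := fun h hh => by
  rw [mem_normalizer_iff_cj, ← EH_cj]
  congr 1
  ext x
  rw [mem_cj]
  constructor
  · intro h1
    have h2 := mul_mem (mul_mem hh h1) (inv_mem hh)
    rwa [show h * (h⁻¹ * x * h) * h⁻¹ = x by group] at h2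
  · exact fun h1 => mul_mem (mul_mem (inv_mem hh) h1) hh

/-- `E(C(v))` under conjugation -/
theorem EH_cent_cj (g v : G) : EH (centralizer {g * v * g⁻¹}) = cj g (EH (centralizer {v})) := by
  rw [← EH_cj]
  congr 1
  ext x
  rw [mem_cj, mem_centralizer_singleton_iff, mem_centralizer_singleton_iff]
  constructor
  · intro h1
    calc g⁻¹ * x * g * v = g⁻¹ * (x * (g * v * g⁻¹)) * g := by group
      _ = g⁻¹ * ((g * v * g⁻¹) * x) * g := by rw [h1]
      _ = v * (g⁻¹ * x * g) := by group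
  · intro h1
    calc x * (g * v * g⁻¹) = g * (g⁻¹ * x * g * v) * g⁻¹ := by group
      _ = g * (v * (g⁻¹ * x * g)) * g⁻¹ := by rw [h1]
      _ = g * v * g⁻¹ * x := by group

theorem EH_perfect (H : Subgroup G) : ⁅EH H, EH H⁆ = EH H := by
  have h1 := Components.layer_commutator_self (G := ↥H)
  rw [EH, ← map_commutator, h1]

/-- no components -/
theorem not_comp_of_EH {H : Subgroup G} (h : EH H = ⊥) (K : Subgroup ↥H) : ¬ IsComponent K := fun hK => by
  refine Components.component_ne_bot hK ?_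
  rw [EH, map_eq_bot_iff_of_injective _ H.subtype_injective] at h
  exact le_bot_iff.1 ((Components.component_le_layer hK).trans h.le)

section Fin

variable [Finite G]

/-- a 2-subgroup which is normal in `H` centralises `E(H)` -/
theorem EH_comm {H N : Subgroup G} (hN : N ≤ H) (hn : H ≤ normalizer (N : Set G)) (h2 : IsPGroup 2 N) {n e : G}
    (hnN : n ∈ N) (he : e ∈ EH H) : n * e = e * n := by
  have : Fact (Nat.Prime 2) := ⟨Nat.prime_two⟩
  obtain ⟨e', he', rfl⟩ := he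
  have hN' : (N.subgroupOf H).Normal := by
    refine ⟨fun x hx g => ?_⟩
    rw [mem_subgroupOf] at hx ⊢
    exact (mem_normalizer_iff.1 (hn g.2) x).1 hx
  have h3 : N.subgroupOf H ≤ pCore 2 ↥H := Cores.le_pCore hN' (h2.comap_subtype)
  have h4 : (⟨n, hN hnN⟩ : ↥H) ∈ fittingSubgroup ↥H := Cores.pCore_le_fittingSubgroup 2 (h3 hnN)
  have h5 := mem_centralizer_iff.1 (Components.layer_le_centralizer_fitting he') _ h4
  exact congrArg Subtype.val h5

theorem two_dvd_card_comp {H : Subgroup G} (hO : oddCore ↥H = ⊥) {K : Subgroup ↥H} (hK : IsComponent K) :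
    2 ∣ Nat.card K := by
  by_contra h1
  have h2 : (Nat.card K).Coprime 2 := (Nat.Prime.coprime_iff_not_dvd Nat.prime_two).2 h1 |>.symm
  have h3 := CompBasic.subnormal_coprime_le_pPrimeCore hK.1 h2
  exact Components.component_ne_bot hK (le_bot_iff.1 (h3.trans (le_of_eq hO)))

/-- the 2-layer is the layer if `O(H) = 1` -/
theorem L2_le_EH {H : Subgroup G} (hO : oddCore ↥H = ⊥) : Intrinsic.Basic.L2 H ≤ EH H := by
  refine map_mono ?_
  refine sSup_le fun K hK => ?_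
  refine Components.component_le_layer (ClassificationK.PCompTransport.isComponent_of_isPComponent 2 hK ?_)
  have h1 : pPrimeCore 2 ↥H = ⊥ := hO
  rw [h1]
  exact commutator_bot_right _

/-- **L-balance** -/
theorem comp_le_of_lbal {H K : Subgroup G} {u : G} (hu : u ∈ H) (huu : u * u = 1) (hO : oddCore ↥H = ⊥)
    (hK : K ≤ H ⊓ centralizer {u}) (hc : IsComponent (K.subgroupOf (H ⊓ centralizer ({u} : Set G))))
    (h2 : 2 ∣ Nat.card K) : K ≤ EH H := by
  have : Fact (Nat.Prime 2) := ⟨Nat.prime_two⟩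
  refine (Intrinsic.Basic.isComp_le_L2 hu huu ⟨hK, ?_⟩).trans (L2_le_EH hO)
  refine EvenComponent.isPComponent_of_isComponent hc ?_
  rwa [Nat.card_congr (subgroupOfEquivOfLe hK).toEquiv]

/-- **L-balance** for centralisers of commuting involutions -/
theorem EH_le_EH {u v : G} (hvv : v * v = 1) (huv : u * v = v * u)
    (hOu : oddCore ↥(centralizer ({u} : Set G)) = ⊥) (hOv : oddCore ↥(centralizer ({v} : Set G)) = ⊥)
    (hle : EH (centralizer {v}) ≤ centralizer {u}) : EH (centralizer {v}) ≤ EH (centralizer {u}) := by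
  refine EH_le_of fun K hKv hc => ?_
  have hKu : K ≤ centralizer {u} := (comp_le_EH hKv hc).trans hle
  have h2 := two_dvd_card_comp hOv hc
  rw [Nat.card_congr (subgroupOfEquivOfLe hKv).toEquiv] at h2
  exact comp_le_of_lbal (mem_centralizer_singleton_iff.2 huv.symm) hvv hOu (le_inf hKu hKv)
    (comp_of_le (le_inf hKu hKv) inf_le_right hc) h2

end Fin

end Cfsg.Agent.Cit.Nil.RTwoM

private theorem dce_384599bcc985 : _root_.True := by
  try have : _root_.True := by simp only [_root_.Cfsg.Agent.Cit.Nil.RTwoM.EH.eq_1]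
  exact _root_.True.intro
end

-- part: Cit/Nil/CV1/Five_mg
section
prune_inst 0x400000000000000000200000000020000000000000000000000000000000000000100000000000000000000000000000000000000000000000000000000000000000000
set_option linter.all false
open scoped Cfsg.Agent.FastGrp

-- part: Cit/Nil/CV1/Local
section
/-!
# (6b)(CV), rank one: local facts

`LW Om U` : the world with R1 for the centralisers of all elements `≠ 1` and LEMMA T.
`norm_mem` = (M), `tt_eq` = (beta), `mem_Phi_of_not_tt` = (delta), `tt_two` = (eps).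
-/

set_option autoImplicit false
set_option linter.style.haveILetI false
set_option linter.unusedSectionVars false

namespace Cfsg.Agent.Cit.CV1

open Subgroup Cfsg Cit Tau CV

variable {G : Type*} [Group G]

/-- the world with R1 for proper centralisers and LEMMA T -/
structure LW (Om : Set (Subgroup G)) (U : Subgroup G → Subgroup G) : Prop extends RW Om U where
  r1 : ∀ e : G, e ≠ 1 → R1 Om (centralizer {e})
  lt : LemT Om U

variable {Om : Set (Subgroup G)} {U : Subgroup G → Subgroup G} {H K K₁ K₂ L M N N' S T : Subgroup G}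
  {a b e g s t u v w x y z : G}

theorem inv_ne_of_four (hw : orderOf w = 4) : w⁻¹ ≠ w := by
  intro hh
  have h1 : w ^ 2 = 1 := by rw [pow_two]; nth_rw 1 [← hh]; exact inv_mul_cancel w
  have h2 := orderOf_dvd_of_pow_eq_one h1
  rw [hw] at h2
  omega

theorem le_centralizer_singleton (h : ∀ k ∈ K, k * e = e * k) : K ≤ centralizer {e} :=
  fun k hk => mem_centralizer_singleton_iff.2 (h k hk)

theorem mem_normalizer_of_comm (h : ∀ k ∈ K, s * k = k * s) : s ∈ normalizer (K : Set G) := by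
  rw [mem_normalizer_iff_cj]
  ext x
  rw [mem_cj]
  constructor
  · intro hx
    have h1 := h _ hx
    have h2 : x = s * (s⁻¹ * x * s) * s⁻¹ := by group
    rw [h2, h1, mul_inv_cancel_right]
    exact hx
  · intro hx
    have h1 := h _ hx
    have h2 : s⁻¹ * x * s = x := by rw [mul_assoc, ← h1, inv_mul_cancel_left]
    rw [h2]
    exact hx

/-- two involutions whose product has order dividing four -/
theorem dih {s z : G} (hss : s * s = 1) (hzz : z * z = 1) (hc : z * (s * z * s) = s * z * s * z) :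
    z * (s * z * s) * (z * (s * z * s)) = 1 ∧ s * (z * (s * z * s)) = z * (s * z * s) * s ∧
      z * (z * (s * z * s)) = z * (s * z * s) * z ∧ z * s * z = s * (z * (s * z * s)) := by
  have h1 : s * (z * (s * z * s)) = z * s * z := by
    rw [hc]
    calc s * (s * z * s * z) = (s * s) * z * s * z := by group
      _ = z * s * z := by rw [hss, one_mul]
  have h2 : z * (s * z * s) * s = z * s * z := by
    calc z * (s * z * s) * s = z * s * z * (s * s) := by group
      _ = z * s * z := by rw [hss, mul_one]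
  have h3 : z * (z * (s * z * s)) = s * z * s := by rw [← mul_assoc, hzz, one_mul]
  refine ⟨?_, by rw [h1, h2], ?_, h1.symm⟩
  · calc z * (s * z * s) * (z * (s * z * s)) = z * (s * z * s) * (s * z * s * z) := by rw [hc]
      _ = z * s * z * (s * s) * z * s * z := by group
      _ = z * s * (z * z) * s * z := by rw [hss]; group
      _ = z * (s * s) * z := by rw [hzz]; group
      _ = 1 := by rw [hss, mul_one, hzz]
  · rw [h3, hc]
    calc s * z * s = s * z * s * (z * z) := by rw [hzz, mul_one]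
      _ = s * z * s * z * z := by group

namespace LW

variable [Finite G] (h : LW Om U)
include h

theorem not_mem_OO {t : G} (ht : t ≠ 1) (ht2 : t * t = 1) : t ∉ OO H := fun hh =>
  ht (eq_one_of_odd (odd_OO H) hh (a := 1) (by rw [pow_one, pow_two]; exact ht2))

theorem tt_unique (hK : K ∈ Om) (hN : N ∈ Om) (ht : TT U K (zz N)) (hL : L ∈ Om) (hz : zz L = zz K) : L = K := by
  obtain ⟨h1, v, hv, hv4, hne⟩ := ht
  exact (h.lt K hK N hN v hv hv4 h1 hne).1 L hL hz

theorem tt_unique' (hK : K ∈ Om) (hN : N ∈ Om) (ht : TT U K (zz N)) (hL : L ∈ Om) (hz : zz L = zz N) : L = N := by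
  obtain ⟨h1, v, hv, hv4, hne⟩ := ht
  exact (h.lt K hK N hN v hv hv4 h1 hne).2 L hL hz

/-- an element commuting with `zz K` normalises `K` if `K` is the only member over `zz K` -/
theorem norm_of_unique (hK : K ∈ Om) (hu : ∀ L ∈ Om, zz L = zz K → L = K) (hg : g * zz K = zz K * g) :
    g ∈ normalizer (K : Set G) := by
  rw [mem_normalizer_iff_cj]
  refine hu _ (h.hO K hK g) ?_
  rw [h.hyp.zz_cj hK, hg, mul_inv_cancel_right]

theorem tt_norm (hK : K ∈ Om) (hN : N ∈ Om) (ht : TT U K (zz N)) : zz N ∈ normalizer (K : Set G) :=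
  h.norm_of_unique hK (fun _ hL hz => h.tt_unique hK hN ht hL hz) ht.1

theorem tt_inv (hK : K ∈ Om) (hN : N ∈ Om) (ht : TT U K (zz N)) (hv : v ∈ U K) (hv4 : orderOf v = 4) :
    zz N * v * (zz N)⁻¹ = v⁻¹ := by
  rcases h.conj_or hK (h.tt_norm hK hN ht) hv hv4 with h1 | h1
  · exfalso
    refine h.not_tt_of_comm hK hN (h.comm_of_zz hK hN hv hv4 ?_) ht
    rwa [mul_inv_eq_iff_eq_mul] at h1
  · exact h1

theorem zz_zz (hK : K ∈ Om) : zz K * zz K = 1 := h.hyp.zz_mul hK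

theorem sq (hK : K ∈ Om) (hv : v ∈ U K) (hv4 : orderOf v = 4) : v * v = zz K := h.sq_eq hK hv hv4

theorem inv_sq (hK : K ∈ Om) (hv : v ∈ U K) (hv4 : orderOf v = 4) : v⁻¹ * v⁻¹ = zz K := by
  rw [← mul_inv_rev, h.sq hK hv hv4, h.hyp.zz_inv hK]

/-- **(M)** -/
theorem norm_mem (hT : IsPGroup 2 T) (hK : K ∈ Om) (hKT : K ≤ T) (hN : N ∈ Om) (hs : zz N ∈ T) :
    zz N ∈ normalizer (K : Set G) := by
  by_contra hne
  obtain ⟨s, hsd⟩ : ∃ s, s = zz N := ⟨_, rfl⟩
  obtain ⟨z, hzd⟩ : ∃ z, z = zz K := ⟨_, rfl⟩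
  have hss : s * s = 1 := by rw [hsd]; exact h.zz_zz hN
  have hzz : z * z = 1 := by rw [hzd]; exact h.zz_zz hK
  have hsi : s⁻¹ = s := inv_eq_of_mul_eq_one_right hss
  have hzi : z⁻¹ = z := inv_eq_of_mul_eq_one_right hzz
  have hK' : cj s K ∈ Om := h.hO K hK s
  have hzK' : zz (cj s K) = s * z * s := by rw [h.hyp.zz_cj hK, hsi, hzd]
  have hK'T : cj s K ≤ T := by
    have h1 := cj_mono s hKT
    rwa [mem_normalizer_iff_cj.1 (le_normalizer (show s ∈ T by rw [hsd]; exact hs))] at h1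
  have hKK' : K ≠ cj s K := fun hh => hne (by rw [← hsd]; exact mem_normalizer_iff_cj.2 hh.symm)
  have ho : Orth K (cj s K) := h.orth_of_two hT hK hKT hK' hK'T hKK'
  have hzK : z ∈ K := by rw [hzd]; exact h.hyp.zz_mem hK
  have hz'K : s * z * s ∈ cj s K := by rw [← hzK']; exact h.hyp.zz_mem hK'
  by_cases hz' : s * z * s = z
  · have hc : s * z = z * s := by
      calc s * z = s * z * s * s := by rw [mul_assoc, hss, mul_one]
        _ = z * s := by rw [hz']
    by_cases ht : TT U K (zz N)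
    · exact hne (h.tt_norm hK hN ht)
    · rcases h.comm_of_not_tt hK hN (by rw [← hsd, ← hzd]; exact hc) ht with h1 | h1
      · exact hne (by rw [← h1]; exact le_normalizer (h.hyp.zz_mem hK))
      · exact hne (mem_normalizer_of_comm fun k hk => (h1 k hk _ (h.hyp.zz_mem hN)).symm)
  · have hc := ho.2 z hzK _ hz'K
    obtain ⟨hee, hse, hze, hzsz⟩ := dih hss hzz hc
    obtain ⟨e, hed⟩ : ∃ e, e = z * (s * z * s) := ⟨_, rfl⟩
    rw [← hed] at hee hse hze hzsz
    have he1 : e ≠ 1 := by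
      intro hh
      apply hz'
      rw [hed] at hh
      have h1 := eq_inv_of_mul_eq_one_right hh
      rwa [hzi] at h1
    have hei : e⁻¹ = e := inv_eq_of_mul_eq_one_right hee
    -- `M = cj z N`
    have hM : cj z N ∈ Om := h.hO N hN z
    have hzM : zz (cj z N) = s * e := by rw [h.hyp.zz_cj hN, ← hsd, hzi, hzsz]
    have hsN : s ∈ N := by rw [hsd]; exact h.hyp.zz_mem hN
    have hseM : s * e ∈ cj z N := by rw [← hzM]; exact h.hyp.zz_mem hM
    have hNM : N ≠ cj z N := by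
      intro hh
      have h1 : zz N = zz (cj z N) := by rw [← hh]
      rw [hzM, ← hsd] at h1
      exact he1 (mul_eq_left.1 h1.symm)
    by_cases ht : TT U N (zz (cj z N))
    · -- both `s e` inverts `V_N`, `s` centralises
      obtain ⟨w, hw, hw4⟩ := h.exists_v hN
      obtain ⟨v, hv, hv4⟩ := h.exists_v hK
      have h1 := h.tt_inv hN hM ht hw hw4
      rw [hzM] at h1
      have hsw : s * w = w * s := by rw [hsd]; exact (h.hyp.comm_zz hN (le_normalizer (h.vch.le N hN hw))).symm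
      obtain ⟨q, hqd⟩ : ∃ q, q = v * (s * v * s⁻¹) := ⟨_, rfl⟩
      have hvv : v * v = z := by rw [hzd]; exact h.sq hK hv hv4
      have hvc : v * (s * v * s⁻¹) = (s * v * s⁻¹) * v := ho.2 v (h.vch.le K hK hv) _ (conj_mem_cj (h.vch.le K hK hv))
      have hqq : q * q = e := by
        calc q * q = v * ((s * v * s⁻¹) * v) * (s * v * s⁻¹) := by rw [hqd]; group
          _ = (v * v) * (s * (v * v) * s⁻¹) := by rw [← hvc]; group
          _ = e := by rw [hvv, hsi, ← hed]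
      have hsq : s * q = q * s := by
        calc s * q = (s * v * s⁻¹) * ((s * s) * v * (s * s)⁻¹) * s := by rw [hqd]; group
          _ = (s * v * s⁻¹) * v * s := by rw [hss]; group
          _ = q * s := by rw [← hvc, ← hqd]
      have hqN : q ∈ normalizer (N : Set G) := by
        refine h.norm_of_unique hN (fun L hL hz => h.tt_unique hN hM ht hL hz) ?_
        rw [← hsd]; exact hsq.symm
      have h2 : e * w * e⁻¹ = w := by
        rw [← hqq]
        rcases h.conj_or hN hqN hw hw4 with h3 | h3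
        · calc q * q * w * (q * q)⁻¹ = q * (q * w * q⁻¹) * q⁻¹ := by group
            _ = w := by rw [h3, h3]
        · calc q * q * w * (q * q)⁻¹ = q * (q * w * q⁻¹) * q⁻¹ := by group
            _ = q * w⁻¹ * q⁻¹ := by rw [h3]
            _ = (q * w * q⁻¹)⁻¹ := by group
            _ = w := by rw [h3, inv_inv]
      have h3 : s * e * w * (s * e)⁻¹ = w := by
        calc s * e * w * (s * e)⁻¹ = s * (e * w * e⁻¹) * s⁻¹ := by group
          _ = w := by rw [h2, hsw, mul_inv_cancel_right]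
      rw [h3] at h1
      exact inv_ne_of_four hw4 h1.symm
    · have hcs : zz (cj z N) * zz N = zz N * zz (cj z N) := by
        rw [hzM, ← hsd, mul_assoc, ← hse]
      have hoNM : Orth N (cj z N) := by
        rcases h.comm_of_not_tt hN hM hcs ht with h1 | h1
        · exact absurd h1 hNM
        · exact ⟨hNM, h1⟩
      have hNe : N ≤ centralizer {e} := by
        refine le_centralizer_singleton fun k hk => ?_
        have h1 := hoNM.2 k hk _ hseM
        have h2 : k * s = s * k := by rw [hsd]; exact h.hyp.comm_zz hN (le_normalizer hk)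
        calc k * e = s⁻¹ * (s * k) * e := by group
          _ = s⁻¹ * (k * (s * e)) := by rw [← h2]; group
          _ = e * k := by rw [h1]; group
      have hMe : cj z N ≤ centralizer {e} := by
        have h1 := cj_mono z hNe
        rw [cj_centralizer, hze, mul_inv_cancel_right] at h1
        exact h1
      have hKe : K ≤ centralizer {e} := by
        refine le_centralizer_singleton fun k hk => ?_
        have h1 := ho.2 k hk _ hz'K
        have h2 : k * z = z * k := by rw [hzd]; exact h.hyp.comm_zz hK (le_normalizer hk)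
        calc k * e = (k * z) * (s * z * s) := by rw [hed]; group
          _ = z * (k * (s * z * s)) := by rw [h2]; group
          _ = e * k := by rw [h1, hed]; group
      have a1 : Adj Om (centralizer {e}) K N := by
        refine adj_of_comm hK hKe hN hNe hzK hsN ?_
        have h1 : z * s * z⁻¹ * s⁻¹ = e := by
          rw [hzi, hzsz, hse, mul_inv_cancel_right]
        rw [h1]; exact h.not_mem_OO he1 hee
      have a2 : Adj Om (centralizer {e}) K (cj z N) := by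
        refine adj_of_comm hK hKe hM hMe hzK hseM ?_
        have h1 : z * (s * e) * z⁻¹ * (s * e)⁻¹ = e := by
          calc z * (s * e) * z⁻¹ * (s * e)⁻¹ = (z * s) * (e * z⁻¹) * (s * e)⁻¹ := by group
            _ = (z * s * z) * (e * e⁻¹) * s⁻¹ := by rw [hzi, ← hze]; group
            _ = s * e * s⁻¹ := by rw [hzsz]; group
            _ = e := by rw [hse, mul_inv_cancel_right]
        rw [h1]; exact h.not_mem_OO he1 hee
      exact h.r1 e he1 N hN _ hM hNe hMe hoNM (a1.symm.conn.trans a2.conn)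

/-- **(beta)** -/
theorem tt_eq (hT : IsPGroup 2 T) (hK : K ∈ Om) (hKT : K ≤ T) (hL : L ∈ Om) (hLT : L ≤ T) (hN : N ∈ Om)
    (h1 : TT U K (zz N)) (h2 : TT U L (zz N)) : K = L := by
  by_contra hne
  have ho := h.orth_of_two hT hK hKT hL hLT hne
  obtain ⟨v₁, hv₁, hv₁4⟩ := h.exists_v hK
  obtain ⟨v₂, hv₂, hv₂4⟩ := h.exists_v hL
  obtain ⟨w, hw, hw4⟩ := h.exists_v hN
  have i1 := h.tt_inv hK hN h1 hv₁ hv₁4
  have i2 := h.tt_inv hL hN h2 hv₂ hv₂4
  have j1 := h.tt_inv hN hK (h.tt_symm hK hN h1) hw hw4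
  have j2 := h.tt_inv hN hL (h.tt_symm hL hN h2) hw hw4
  obtain ⟨s, hsd⟩ : ∃ s, s = zz N := ⟨_, rfl⟩
  obtain ⟨z₁, hz₁⟩ : ∃ z, z = zz K := ⟨_, rfl⟩
  obtain ⟨z₂, hz₂⟩ : ∃ z, z = zz L := ⟨_, rfl⟩
  have hz12 : z₁ ≠ z₂ := by
    rw [hz₁, hz₂]
    intro hh
    exact hne (h.tt_unique hL hN h2 hK hh)
  rw [← hsd] at i1 i2
  rw [← hz₁] at j1
  rw [← hz₂] at j2
  have hz1K : z₁ ∈ K := by rw [hz₁]; exact h.hyp.zz_mem hK
  have hz2L : z₂ ∈ L := by rw [hz₂]; exact h.hyp.zz_mem hL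
  have q1 : z₁ * z₁ = 1 := by rw [hz₁]; exact h.zz_zz hK
  have q2 : z₂ * z₂ = 1 := by rw [hz₂]; exact h.zz_zz hL
  have hc := ho.2 z₁ hz1K z₂ hz2L
  obtain ⟨e, hed⟩ : ∃ e, e = z₁ * z₂ := ⟨_, rfl⟩
  have he1 : e ≠ 1 := by
    intro hh
    rw [hed] at hh
    have h3 := eq_inv_of_mul_eq_one_right hh
    rw [inv_eq_of_mul_eq_one_right q1] at h3
    exact hz12 h3.symm
  have hKe : K ≤ centralizer {e} := by
    refine le_centralizer_singleton fun k hk => ?_
    have h3 := ho.2 k hk z₂ hz2L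
    have h4 : k * z₁ = z₁ * k := by rw [hz₁]; exact h.hyp.comm_zz hK (le_normalizer hk)
    rw [hed, ← mul_assoc, h4, mul_assoc, h3, mul_assoc]
  have hLe : L ≤ centralizer {e} := by
    refine le_centralizer_singleton fun k hk => ?_
    have h3 := ho.2 z₁ hz1K k hk
    have h4 : k * z₂ = z₂ * k := by rw [hz₂]; exact h.hyp.comm_zz hL (le_normalizer hk)
    rw [hed, ← mul_assoc, ← h3, mul_assoc, h4, mul_assoc]
  -- `w` commutes with `e`
  have hwe : w * e = e * w := by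
    have h3 : e * w * e⁻¹ = w := by
      calc e * w * e⁻¹ = z₁ * (z₂ * w * z₂⁻¹) * z₁⁻¹ := by rw [hed]; group
        _ = (z₁ * w * z₁⁻¹)⁻¹ := by rw [j2]; group
        _ = w := by rw [j1, inv_inv]
    rw [mul_inv_eq_iff_eq_mul] at h3
    exact h3.symm
  have hP : cj w K ∈ Om := h.hO K hK w
  have hPe : cj w K ≤ centralizer {e} := by
    have h3 := cj_mono w hKe
    rwa [cj_centralizer, hwe, mul_inv_cancel_right] at h3
  have hss : s * s = 1 := by rw [hsd]; exact h.zz_zz hN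
  have hzP : w * z₁ * w⁻¹ = z₁ * s := by
    have h3 : z₁ * w⁻¹ * z₁⁻¹ = w := by
      calc z₁ * w⁻¹ * z₁⁻¹ = (z₁ * w * z₁⁻¹)⁻¹ := by group
        _ = w := by rw [j1, inv_inv]
    calc w * z₁ * w⁻¹ = (z₁ * w⁻¹ * z₁⁻¹) * z₁ * w⁻¹ := by rw [h3]
      _ = z₁ * (w⁻¹ * w⁻¹) := by group
      _ = z₁ * s := by rw [h.inv_sq hN hw hw4, hsd]
  have hsP : z₁ * s ∈ cj w K := by rw [← hzP]; exact conj_mem_cj hz1K
  have a1 : Adj Om (centralizer {e}) (cj w K) K := by
    refine adj_of_comm hP hPe hK hKe hsP (h.vch.le K hK hv₁) ?_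
    have h3 : z₁ * s * v₁ * (z₁ * s)⁻¹ * v₁⁻¹ = z₁ := by
      have h4 : z₁ * v₁⁻¹ = v₁⁻¹ * z₁ := by
        rw [hz₁]; exact (h.hyp.comm_zz hK (le_normalizer (K.inv_mem (h.vch.le K hK hv₁)))).symm
      calc z₁ * s * v₁ * (z₁ * s)⁻¹ * v₁⁻¹ = z₁ * (s * v₁ * s⁻¹) * z₁⁻¹ * v₁⁻¹ := by group
        _ = v₁⁻¹ * v₁⁻¹ := by rw [i1, h4]; group
        _ = z₁ := by rw [h.inv_sq hK hv₁ hv₁4, hz₁]
    rw [h3]
    exact h.not_mem_OO (by rw [hz₁]; exact h.hyp.zz_ne hK) q1
  have a2 : Adj Om (centralizer {e}) (cj w K) L := by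
    refine adj_of_comm hP hPe hL hLe hsP (h.vch.le L hL hv₂) ?_
    have h3 : z₁ * s * v₂ * (z₁ * s)⁻¹ * v₂⁻¹ = z₂ := by
      have h4 : z₁ * v₂⁻¹ = v₂⁻¹ * z₁ := ho.2 z₁ hz1K _ (L.inv_mem (h.vch.le L hL hv₂))
      calc z₁ * s * v₂ * (z₁ * s)⁻¹ * v₂⁻¹ = z₁ * (s * v₂ * s⁻¹) * z₁⁻¹ * v₂⁻¹ := by group
        _ = v₂⁻¹ * v₂⁻¹ := by rw [i2, h4]; group
        _ = z₂ := by rw [h.inv_sq hL hv₂ hv₂4, hz₂]
    rw [h3]
    exact h.not_mem_OO (by rw [hz₂]; exact h.hyp.zz_ne hL) q2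
  exact h.r1 e he1 K hK L hL hKe hLe ho (a1.symm.conn.trans a2.conn)

/-- an involution of ZZ in a 2-group commutes with `zz K`, `K` in it -/
theorem comm_zz_of_mem (hT : IsPGroup 2 T) (hK : K ∈ Om) (hKT : K ≤ T) (hN : N ∈ Om) (hs : zz N ∈ T) :
    zz N * zz K = zz K * zz N :=
  h.hyp.comm_zz hK (h.norm_mem hT hK hKT hN hs)

/-- **(delta)** -/
theorem mem_Phi_of_not_tt (hS : Syl S ⊤) (hN : N ∈ Om) (hs : zz N ∈ S) (hnt : ∀ K ∈ Phi Om S, ¬ TT U K (zz N)) :
    N ∈ Phi Om S :=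
  h.mem_Phi_of_comm hS hN fun K hK =>
    h.comm_of_not_tt hK.1 hN (h.comm_zz_of_mem hS.2.1 hK.1 hK.2 hN hs) (hnt K hK)

/-- the frame obtained by exchange of `K` against its T-partner `N` -/
theorem exists_swap (hS : Syl S ⊤) (hK : K ∈ Phi Om S) (hN : N ∈ Om) (hs : zz N ∈ S) (ht : TT U K (zz N))
    {P : Subgroup G} (hP : IsPGroup 2 P) (hPN : P ≤ normalizer (N : Set G))
    (hPF : ∀ L ∈ Phi Om S, L ≠ K → P ≤ normalizer (L : Set G)) :
    ∃ S', Syl S' (⊤ : Subgroup G) ∧ Phi Om S' = insert N (Phi Om S \ {K}) ∧ P ≤ S' := by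
  have hNS : N ∉ Phi Om S := by
    intro hh
    refine h.not_tt_of_comm hK.1 hN ?_ ht
    by_cases h1 : K = N
    · exact Or.inl h1
    · exact Or.inr (h.orth_of_Phi hS hK hh h1).2
  have hNL : ∀ L ∈ Phi Om S, L ≠ K → ∀ x ∈ N, ∀ y ∈ L, x * y = y * x := by
    intro L hL hLK x hx y hy
    have h1 : ¬ TT U L (zz N) := fun hh => hLK (h.tt_eq hS.2.1 hL.1 hL.2 hK.1 hK.2 hN hh ht)
    rcases h.comm_of_not_tt hL.1 hN (h.comm_zz_of_mem hS.2.1 hL.1 hL.2 hN hs) h1 with h2 | h2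
    · exact absurd (h2 ▸ hL) hNS
    · exact (h2 y hy x hx).symm
  obtain ⟨S', hS', hF, hPS⟩ := h.toRW.exists_frame hS (F := insert N (Phi Om S \ {K}))
    (by
      rintro L (rfl | hL)
      · exact hN
      · exact hL.1.1)
    (by
      rintro L (rfl | hL) M (rfl | hM) hne x hx y hy
      · exact absurd rfl hne
      · exact hNL M hM.1 hM.2 x hx y hy
      · exact (hNL L hL.1 hL.2 y hy x hx).symm
      · exact (h.orth_of_Phi hS hL.1 hM.1 hne).2 x hx y hy)
    (by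
      rw [Set.ncard_insert_of_notMem (fun hh => hNS hh.1) (Set.toFinite _),
        Set.ncard_sdiff_singleton_of_mem hK]
      omega)
    hP
    (by
      rintro L (rfl | hL)
      · exact hPN
      · exact hPF L hL.1 hL.2)
  exact ⟨S', hS', hF.symm, hPS⟩

theorem tt_eq_of_comm (hS : Syl S ⊤) (hK : K ∈ Phi Om S) (hN : N ∈ Om) (hN' : N' ∈ Om) (hs : zz N ∈ S)
    (hs' : zz N' ∈ S) (ht : TT U K (zz N)) (ht' : TT U K (zz N'))
    (hc : N = N' ∨ ∀ x ∈ N, ∀ y ∈ N', x * y = y * x) : N' = N := by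
  obtain ⟨S', hS', hF, -⟩ := h.exists_swap hS hK hN hs ht IsPGroup.of_bot bot_le (fun _ _ _ => bot_le)
  have h1 : N' ∈ Phi Om S' := by
    refine h.mem_Phi_of_comm hS' hN' ?_
    rw [hF]
    rintro L (rfl | hL)
    · exact hc
    · have h1 : ¬ TT U L (zz N') := fun hh => hL.2 (h.tt_eq hS.2.1 hL.1.1 hL.1.2 hK.1 hK.2 hN' hh ht')
      exact h.comm_of_not_tt hL.1.1 hN' (h.comm_zz_of_mem hS.2.1 hL.1.1 hL.1.2 hN' hs') h1
  rw [hF] at h1
  rcases h1 with h1 | h1
  · exact h1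
  · exfalso
    refine h.not_tt_of_comm hK.1 hN' ?_ ht'
    by_cases h2 : K = N'
    · exact Or.inl h2
    · exact Or.inr (h.orth_of_Phi hS hK h1.1 h2).2

theorem zz_cj_of_tt (hK : K ∈ Om) (hN : N ∈ Om) (ht : TT U K (zz N)) (hv : v ∈ U K) (hv4 : orderOf v = 4) :
    zz (cj v N) = zz N * zz K := by
  have h1 := h.tt_inv hK hN ht hv hv4
  have h2 : zz N * v = v⁻¹ * zz N := mul_inv_eq_iff_eq_mul.1 h1
  have h3 : zz N * v⁻¹ = v * zz N := by
    have h4 : zz N * v⁻¹ * (zz N)⁻¹ = v := by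
      calc zz N * v⁻¹ * (zz N)⁻¹ = (zz N * v * (zz N)⁻¹)⁻¹ := by group
        _ = v := by rw [h1, inv_inv]
    exact mul_inv_eq_iff_eq_mul.1 h4
  rw [h.hyp.zz_cj hN, ← h3, mul_assoc, h.inv_sq hK hv hv4]

/-- **(eps)** -/
theorem tt_two (hS : Syl S ⊤) (hK : K ∈ Phi Om S) (hN : N ∈ Om) (hN' : N' ∈ Om) (hs : zz N ∈ S)
    (hs' : zz N' ∈ S) (ht : TT U K (zz N)) (ht' : TT U K (zz N')) (hc : zz N * zz N' = zz N' * zz N) :
    zz N' = zz N ∨ zz N' = zz N * zz K := by
  by_cases htt : TT U N (zz N')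
  · obtain ⟨v, hv, hv4⟩ := h.exists_v hK.1
    obtain ⟨w, hw, hw4⟩ := h.exists_v hN
    have hz := h.zz_cj_of_tt hK.1 hN' ht' hv hv4
    have hN'' : cj v N' ∈ Om := h.hO N' hN' v
    have h1 := h.tt_inv hN hN' htt hw hw4
    have h2 := h.tt_inv hN hK.1 (h.tt_symm hK.1 hN ht) hw hw4
    have h3 : zz (cj v N') * w = w * zz (cj v N') := by
      rw [hz]
      rw [← mul_inv_eq_iff_eq_mul]
      calc zz N' * zz K * w * (zz N' * zz K)⁻¹ = zz N' * (zz K * w * (zz K)⁻¹) * (zz N')⁻¹ := by group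
        _ = (zz N' * w * (zz N')⁻¹)⁻¹ := by rw [h2]; group
        _ = w := by rw [h1, inv_inv]
    have h4 := h.comm_of_zz hN hN'' hw hw4 h3
    have hvK : v ∈ K := h.vch.le K hK.1 hv
    have ht'' : TT U K (zz (cj v N')) := by
      have := h.tt_cj hK.1 ht' v
      rw [mem_normalizer_iff_cj.1 (le_normalizer hvK), ← h.hyp.zz_cj hN'] at this
      exact this
    have h5 := h.tt_eq_of_comm hS hK hN hN'' hs (by rw [hz]; exact S.mul_mem hs' (hK.2 (h.hyp.zz_mem hK.1))) ht ht'' h4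
    right
    rw [h5] at hz
    rw [hz, mul_assoc, h.zz_zz hK.1, mul_one]
  · left
    have h1 := h.comm_of_not_tt hN hN' hc.symm htt
    rw [h.tt_eq_of_comm hS hK hN hN' hs hs' ht ht' h1]

end LW

end Cfsg.Agent.Cit.CV1
end

-- part: Cit/Nil/CV1/Five
section
/-!
# (6b)(CV), rank one, section 5: the normal subgroups of a reduced world

`Red.lw` : a reduced world with LEMMA T is an `LW`.
`Red.two_eq_bot` : `O_2(G) = 1`.
`Red.normal` : if `R1 Om ⊤` fails, every normal subgroup `N ≠ 1` contains all `zz K`, and `C_G(N) = 1`.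
-/

set_option autoImplicit false
set_option linter.style.haveILetI false
set_option linter.unusedSectionVars false

namespace Cfsg.Agent.Cit.CV1

open Subgroup Cfsg Cit Tau CV

variable {G : Type*} [Group G] {Om : Set (Subgroup G)} {U : Subgroup G → Subgroup G} {H K L M N P : Subgroup G}
  {v : G}

/-- commuting with all members is being central -/
theorem Red.le_bot (r : Red Om U) (h : ∀ K ∈ Om, ∀ x ∈ K, ∀ y ∈ N, x * y = y * x) : N = ⊥ := by
  rw [eq_bot_iff, ← r.cen]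
  intro y hy
  rw [mem_center_iff]
  have h1 : sSup Om ≤ centralizer {y} := by
    rw [sSup_le_iff]
    intro K hK x hx
    rw [mem_centralizer_singleton_iff]
    exact h K hK x hx y hy
  rw [r.gen] at h1
  intro g
  exact mem_centralizer_singleton_iff.1 (h1 (mem_top g))

theorem Red.centralizer_ne_top (r : Red Om U) {e : G} (he : e ≠ 1) : centralizer {e} ≠ (⊤ : Subgroup G) := by
  intro h
  apply he
  rw [← mem_bot, ← r.cen, mem_center_iff]
  intro g
  exact mem_centralizer_singleton_iff.1 (h.ge (mem_top g))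

theorem Red.lw (r : Red Om U) (h : LemT Om U) : LW Om U :=
  { r.toRW with r1 := fun _ he => r.ih _ (r.centralizer_ne_top he), lt := h }

variable [Finite G]

/-- T-type: `V_K ≤ P` for a subgroup `P` normalised by `K` and containing `zz N` -/
theorem LW.mem_of_tt (h : LW Om U) (hK : K ∈ Om) (hN : N ∈ Om) (ht : TT U K (zz N))
    (hP : K ≤ normalizer (P : Set G)) (hs : zz N ∈ P) (hv : v ∈ U K) : v ∈ P := by
  obtain ⟨u, hu, hu4⟩ := h.exists_v hK
  obtain ⟨y, hy, hyX⟩ := h.exists_y hK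
  obtain ⟨h1, h2⟩ := Cit.Nil.CV.XLevel.inv_y h.toCVW hN hK hu hu4 (h.tt_inv hK hN ht hu hu4) hy hyX
  obtain ⟨i, hi⟩ := Cit.Nil.CV.XLevel.gen_of_odd h.toCVW hK h1 h2 (h.U_le_XX hK hv)
  rw [hi]
  refine P.zpow_mem ?_ i
  have h3 : (zz N * y * (zz N)⁻¹)⁻¹ * y = zz N * (y⁻¹ * (zz N)⁻¹ * y⁻¹⁻¹) := by group
  rw [h3]
  exact P.mul_mem hs ((mem_normalizer_iff.1 (hP (K.inv_mem hy)) _).1 (P.inv_mem hs))

/-- a normal 2-subgroup centralises all members which are not isolated -/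
theorem LW.comm_two (h : LW Om U) (hP : P.Normal) (hP2 : IsPGroup 2 P) (hK : K ∈ NI Om) :
    ∀ x ∈ K, ∀ y ∈ P, x * y = y * x := by
  have hle : ∀ L : Subgroup G, L ≤ normalizer (P : Set G) := fun L => by
    rw [normalizer_eq_top_iff.2 hP]; exact le_top
  by_cases hz : zz K ∈ P
  swap
  · exact h.hyp.lemma_one hK.1 (h.two K hK.1) hP2 (hle K) hz
  exfalso
  obtain ⟨hK, L, hL, hne, hLK⟩ := hK
  refine hLK ?_
  have hsym : (L = K ∨ ∀ x ∈ L, ∀ y ∈ K, x * y = y * x) → ∀ x ∈ K, ∀ y ∈ L, x * y = y * x := by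
    rintro (h1 | h1)
    · exact absurd h1 hne
    · exact fun x hx y hy => (h1 y hy x hx).symm
  by_cases hzL : zz L ∈ P
  · -- both in `P`
    have hT : IsPGroup 2 (P ⊔ K : Subgroup G) := two_sup (h.two K hK) hP2 (hle K)
    have hc : zz L * zz K = zz K * zz L :=
      h.comm_zz_of_mem hT hK le_sup_right hL (mem_sup_left hzL)
    by_cases ht : TT U K (zz L)
    · obtain ⟨v, hv, hv4⟩ := h.exists_v hK
      obtain ⟨w, hw, hw4⟩ := h.exists_v hL
      have h1 : v ∈ P := h.mem_of_tt hK hL ht (hle K) hzL hv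
      have h2 : w ∈ P := h.mem_of_tt hL hK (h.tt_symm hK hL ht) (hle L) hz hw
      exact hsym (h.lin L hL K hK w hw v hv hw4 hv4 (h.vch.commute h.hyp hP2 hL hK hw hv hw4 hv4 h2 h1))
    · rcases h.comm_of_not_tt hK hL hc ht with h1 | h1
      · exact absurd h1.symm hne
      · exact h1
  · obtain ⟨w, hw, hw4⟩ := h.exists_v hL
    have h1 := h.hyp.lemma_one hL (h.two L hL) hP2 (hle L) hzL w (h.vch.le L hL hw) _ hz
    exact hsym (h.comm_of_zz hL hK hw hw4 h1.symm)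

theorem Red.mem_NI (r : Red Om U) (hK : K ∈ Om) : K ∈ NI Om := ⟨hK, r.iso K hK⟩

/-- `O_2(G) = 1` -/
theorem Red.two_eq_bot (r : Red Om U) (hT : LemT Om U) (hP : P.Normal) (hP2 : IsPGroup 2 P) : P = ⊥ :=
  r.le_bot fun _ hK => (r.lw hT).comm_two hP hP2 (r.mem_NI hK)

/-- `O(N) = 1` -/
theorem Red.OO_eq_bot (r : Red Om U) (hN : N.Normal) : OO N = ⊥ := by
  rw [eq_bot_iff, ← r.core]
  exact OO_le_OO_of_normal le_top (by rw [normalizer_eq_top_iff.2 hN])

/-- a member with `zz K` outside a normal subgroup centralises it -/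
theorem Red.comm_of_not_mem (r : Red Om U) (hN : N.Normal) (hK : K ∈ Om) (hz : zz K ∉ N) :
    ∀ x ∈ K, ∀ y ∈ N, x * y = y * x := by
  have hle : K ≤ normalizer (N : Set G) := by
    rw [normalizer_eq_top_iff.2 hN]; exact le_top
  have h1 := r.hyp.lemma_two (fun L hL => r.two L hL) hK hle (r.OO_eq_bot hN) hz
  intro x hx y hy
  exact r.hyp.comm_of_not_mem hK (r.two K hK) hle hz hy (mem_centralizer_singleton_iff.1 (h1 hy)) x hx

/-- a normal subgroup `≠ 1` contains some `zz K` -/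
theorem Red.exists_zz_mem (r : Red Om U) (hN : N.Normal) (hne : N ≠ ⊥) : ∃ K ∈ Om, zz K ∈ N := by
  by_contra h
  push Not at h
  exact hne (r.le_bot fun K hK => r.comm_of_not_mem hN hK (h K hK))

/-- normal abelian subgroups are trivial -/
theorem Red.abelian_eq_bot (r : Red Om U) (hT : LemT Om U) (hN : N.Normal) (hab : ∀ x ∈ N, ∀ y ∈ N, x * y = y * x) :
    N = ⊥ := by
  haveI : Fact (Nat.Prime 2) := ⟨Nat.prime_two⟩
  by_contra hne
  obtain ⟨K, hK, hz⟩ := r.exists_zz_mem hN hne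
  -- the elements of `N` of order at most two
  let E : Subgroup G :=
    { carrier := {x | x ∈ N ∧ x * x = 1}
      one_mem' := ⟨N.one_mem, one_mul 1⟩
      mul_mem' := by
        rintro a b ⟨ha, ha2⟩ ⟨hb, hb2⟩
        refine ⟨N.mul_mem ha hb, ?_⟩
        calc a * b * (a * b) = a * (b * a) * b := by group
          _ = (a * a) * (b * b) := by rw [hab b hb a ha]; group
          _ = 1 := by rw [ha2, hb2, one_mul]
      inv_mem' := by
        rintro a ⟨ha, ha2⟩
        exact ⟨N.inv_mem ha, by rw [← mul_inv_rev, ha2, inv_one]⟩ }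
  have hE : E.Normal := by
    refine ⟨fun x hx g => ⟨hN.conj_mem x hx.1 g, ?_⟩⟩
    calc g * x * g⁻¹ * (g * x * g⁻¹) = g * (x * x) * g⁻¹ := by group
      _ = 1 := by rw [hx.2]; group
  have hE2 : IsPGroup 2 E := by
    intro x
    refine ⟨1, Subtype.ext ?_⟩
    change (x : G) ^ 2 ^ 1 = 1
    rw [pow_one, pow_two]
    exact x.2.2
  have h1 := r.two_eq_bot hT hE hE2
  have h2 : zz K ∈ E := ⟨hz, r.hyp.zz_mul hK⟩
  rw [h1, mem_bot] at h2
  exact r.hyp.zz_ne hK h2

/-- the centre of a normal subgroup is trivial -/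
theorem Red.inf_centralizer (r : Red Om U) (hT : LemT Om U) (hN : N.Normal) : N ⊓ centralizer (N : Set G) = ⊥ := by
  haveI := hN
  refine r.abelian_eq_bot hT (inferInstance) ?_
  intro x hx y hy
  exact mem_centralizer_iff.1 hy.2 x hx.1

/-- two commuting families -/
theorem Red.r1_of_split (r : Red Om U) {F : Set (Subgroup G)} (hF : F ⊆ Om) (hc : ∀ K ∈ F, ∀ g, cj g K ∈ F)
    (hcomm : ∀ K ∈ F, ∀ L ∈ Om, L ∉ F → ∀ x ∈ K, ∀ y ∈ L, x * y = y * x) (h1 : F.Nonempty) (h2 : ∃ L ∈ Om, L ∉ F) :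
    R1 Om ⊤ := by
  -- one family
  have key : ∀ F : Set (Subgroup G), F ⊆ Om → (∀ K ∈ F, ∀ g, cj g K ∈ F) →
      (∀ K ∈ F, ∀ L ∈ Om, L ∉ F → ∀ x ∈ K, ∀ y ∈ L, x * y = y * x) → (∃ L ∈ Om, L ∉ F) →
      ∀ K ∈ F, ∀ L ∈ Om, Orth K L → ¬ Conn Om ⊤ K L := by
    intro F hF hc hcomm hne K hK L hL hKL hcon
    have hn := sSup_le_normalizer hc
    have key2 : ∀ {A B : Subgroup G}, Conn Om ⊤ A B → A ∈ F → B ∈ F ∧ Conn Om (sSup F) A B := by
      intro A B hAB hA
      induction hAB with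
      | refl => exact ⟨hA, .refl⟩
      | @tail B C _ h4 ih =>
        have hC : C ∈ F := by
          by_contra hC
          exact h4.2.2 (comm_of_commutator (hcomm B ih.1 C h4.2.1.1 hC))
        exact ⟨hC, ih.2.tail ⟨⟨h4.1.1, le_sSup ih.1⟩, ⟨h4.2.1.1, le_sSup hC⟩, not_le_OO_top hn h4.2.2⟩⟩
    obtain ⟨h5, h6⟩ := key2 hcon hK
    refine r.ih (sSup F) ?_ K (hF hK) L (hF h5) (le_sSup hK) (le_sSup h5) hKL h6
    intro htop
    obtain ⟨M, hM, hMF⟩ := hne
    have h7 : sSup F ≤ centralizer (M : Set G) := by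
      rw [sSup_le_iff]
      intro A hA x hx
      rw [mem_centralizer_iff]
      exact fun y hy => (hcomm A hA M hM hMF x hx y hy).symm
    rw [htop] at h7
    obtain ⟨x, hx, y, hy, hxy⟩ := r.not_comm hM
    exact hxy (mem_centralizer_iff.1 (h7 (mem_top y)) x hx)
  intro K hK L hL _ _ hKL hcon
  by_cases hKF : K ∈ F
  · exact key F hF hc hcomm h2 K hKF L hL hKL hcon
  · refine key {K | K ∈ Om ∧ K ∉ F} (fun _ h => h.1) ?_ ?_ ?_ K ⟨hK, hKF⟩ L hL hKL hcon
    · rintro A ⟨hA, hAF⟩ g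
      refine ⟨r.hyp.conj A hA g, fun h => hAF ?_⟩
      have h3 := hc _ h g⁻¹
      rwa [cj_inv_cj] at h3
    · rintro A ⟨hA, hAF⟩ B hB hBF x hx y hy
      have hB' : B ∈ F := by
        by_contra h3
        exact hBF ⟨hB, h3⟩
      exact (hcomm B hB' A hA hAF y hy x hx).symm
    · obtain ⟨A, hA⟩ := h1
      exact ⟨A, hF hA, fun h => h.2 hA⟩

/-- every normal subgroup `≠ 1` contains all `zz K` -/
theorem Red.zz_mem_of_normal (r : Red Om U) (hR : ¬ R1 Om ⊤) (hN : N.Normal) (hne : N ≠ ⊥) (hK : K ∈ Om) : zz K ∈ N := by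
  by_contra hz
  apply hR
  obtain ⟨L, hL, hzL⟩ := r.exists_zz_mem hN hne
  refine r.r1_of_split (F := {M | M ∈ Om ∧ zz M ∈ N}) (fun _ h => h.1) ?_ ?_ ⟨L, hL, hzL⟩ ⟨K, hK, fun h => hz h.2⟩
  · rintro A ⟨hA, hzA⟩ g
    refine ⟨r.hyp.conj A hA g, ?_⟩
    rw [r.hyp.zz_cj hA]
    exact hN.conj_mem _ hzA g
  · rintro A ⟨hA, hzA⟩ B hB hBF
    have hzB : zz B ∉ N := fun h => hBF ⟨hB, h⟩
    obtain ⟨v, hv, hv4⟩ := r.exists_v hB
    have h1 := r.comm_of_not_mem hN hB hzB v (r.vch.le B hB hv) _ hzA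
    rcases r.comm_of_zz hB hA hv hv4 h1.symm with h2 | h2
    · subst h2
      exact absurd hzA hzB
    · exact fun x hx y hy => (h2 y hy x hx).symm

/-- **section 5**: every normal subgroup `N ≠ 1` contains all `zz K`, and `C_G(N) = 1` -/
theorem Red.normal (r : Red Om U) (hT : LemT Om U) (hR : ¬ R1 Om ⊤) (hN : N.Normal) (hne : N ≠ ⊥) :
    (∀ K ∈ Om, zz K ∈ N) ∧ centralizer (N : Set G) = ⊥ := by
  refine ⟨fun K hK => r.zz_mem_of_normal hR hN hne hK, ?_⟩
  by_contra hC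
  haveI := hN
  obtain ⟨K, hK, hz⟩ := r.exists_zz_mem (N := centralizer (N : Set G)) inferInstance hC
  have h1 : zz K ∈ N ⊓ centralizer (N : Set G) := ⟨r.zz_mem_of_normal hR hN hne hK, hz⟩
  rw [r.inf_centralizer hT hN, mem_bot] at h1
  exact r.hyp.zz_ne hK h1

end Cfsg.Agent.Cit.CV1
end

-- part: Cit/Nil/CV1/NZero
section
/-!
# (6b)(CV), rank one: the `N₀`-closure theorem

`N0 Om S u` : `u ∈ S` normalises all members in `S`.
`NC Om u z` : `u` fixes all blocks of `C(z)`.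
`closure'`  : a 2-element `u` of two Sylow subgroups `S`, `S'` with `N0 Om S u` has `N0 Om S' u`.
-/

set_option autoImplicit false
set_option linter.style.haveILetI false
set_option linter.unusedSectionVars false

namespace Cfsg.Agent.Cit.CV1

open Subgroup Cfsg Cit Tau CV

variable {G : Type*} [Group G]

/-- `u ∈ S` normalises all members in `S` -/
def N0 (Om : Set (Subgroup G)) (S : Subgroup G) (u : G) : Prop := u ∈ S ∧ ∀ K ∈ Phi Om S, cj u K = K

/-- `u` fixes all blocks of `C(z)` -/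
def NC (Om : Set (Subgroup G)) (u z : G) : Prop :=
  ∀ M ∈ Om, M ≤ centralizer {z} → Conn Om (centralizer {z}) (cj u M) M

/-- a bad pair -/
def Bad (Om : Set (Subgroup G)) (u : G) (S : Subgroup G) : Prop :=
  u ∈ S ∧ ¬ N0 Om S u ∧ ∃ N ∈ Om, u * zz N = zz N * u ∧ NC Om u (zz N)

variable {Om : Set (Subgroup G)} {U : Subgroup G → Subgroup G} {A B H K K₁ K₂ L M N N' S S' S₁ T : Subgroup G}
  {a b e g s t u v w x y z : G}

theorem adj_cj (hO : ∀ K ∈ Om, ∀ g, cj g K ∈ Om) (h : Adj Om H K L) (g : G) :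
    Adj Om (cj g H) (cj g K) (cj g L) :=
  ⟨⟨hO K h.1.1 g, cj_mono g h.1.2⟩, ⟨hO L h.2.1.1 g, cj_mono g h.2.1.2⟩, by
    rw [← cj_commutator, OO_cj, cj_le_cj]; exact h.2.2⟩

theorem conn_cj (hO : ∀ K ∈ Om, ∀ g, cj g K ∈ Om) (h : Conn Om H K L) (g : G) :
    Conn Om (cj g H) (cj g K) (cj g L) := by
  induction h with
  | refl => exact Relation.ReflTransGen.refl
  | tail _ h2 ih => exact Relation.ReflTransGen.tail ih (adj_cj hO h2 g)

theorem mem_norm_centralizer (h : u * z = z * u) : u ∈ normalizer ((centralizer {z} : Subgroup G) : Set G) :=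
  le_normalizer (mem_centralizer_singleton_iff.2 h)

theorem cj_le_centralizer (h : u * z = z * u) (hM : M ≤ centralizer {z}) : cj u M ≤ centralizer {z} := by
  have h1 := cj_mono u hM
  rwa [mem_normalizer_iff_cj.1 (mem_norm_centralizer h)] at h1

theorem nc_cj (hO : ∀ K ∈ Om, ∀ g, cj g K ∈ Om) (h : NC Om u z) (g : G) : NC Om (g * u * g⁻¹) (g * z * g⁻¹) := by
  intro M hM hMz
  have h1 : cj g⁻¹ M ≤ centralizer {z} := by
    have h2 := cj_mono g⁻¹ hMz
    rw [cj_centralizer] at h2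
    have h3 : g⁻¹ * (g * z * g⁻¹) * g⁻¹⁻¹ = z := by group
    rwa [h3] at h2
  have h2 := conn_cj hO (h _ (hO M hM _) h1) g
  rw [cj_centralizer, cj_cj_inv, ← cj_mul, ← cj_mul] at h2
  exact h2

theorem cj_mem_Phi (hO : ∀ K ∈ Om, ∀ g, cj g K ∈ Om) (hu : u ∈ S) (hK : K ∈ Phi Om S) : cj u K ∈ Phi Om S := by
  refine ⟨hO K hK.1 u, ?_⟩
  have h1 := cj_mono u hK.2
  rwa [mem_normalizer_iff_cj.1 (le_normalizer hu)] at h1

theorem two_mul_card_le [Finite G] (hAB : A ≤ B) (hx : x ∈ B) (hxA : x ∉ A) : 2 * Nat.card A ≤ Nat.card B := by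
  have h1 : Nat.card A ∣ Nat.card B := card_dvd_of_le hAB
  obtain ⟨k, hk⟩ := h1
  have hB : 0 < Nat.card B := Nat.card_pos
  have hk0 : k ≠ 0 := by rintro rfl; omega
  have hk1 : k ≠ 1 := by
    rintro rfl
    rw [mul_one] at hk
    have h2 := Subgroup.eq_of_le_of_card_ge hAB hk.le
    exact hxA (h2 ▸ hx)
  rw [hk, mul_comm]
  exact Nat.mul_le_mul_left _ (by omega)

/-- the group generated by the `k k^u` -/
def DJ (u : G) (J : Set (Subgroup G)) : Subgroup G := closure {x | ∃ K ∈ J, ∃ k ∈ K, x = k * (u * k * u⁻¹)}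

open Nat

namespace LW

variable [Finite G] (h : LW Om U)
include h

theorem zpowers_two (hS : IsPGroup 2 S) (hu : u ∈ S) : IsPGroup 2 (zpowers u) := hS.to_le (zpowers_le.2 hu)

theorem le_cent_of_not_tt (hK : K ∈ Om) (hN : N ∈ Om) (hc : zz N * zz K = zz K * zz N) (ht : ¬ TT U K (zz N)) :
    K ≤ centralizer {zz N} := by
  rcases h.comm_of_not_tt hK hN hc ht with rfl | h1
  · exact h.hyp.le_centralizer hK
  · exact le_centralizer_singleton fun k hk => h1 k hk _ (h.hyp.zz_mem hN)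

/-- a frame of `C(zz N)` -/
theorem frame_zz (hS : Syl S ⊤) (hN : N ∈ Om) (hs : zz N ∈ S) : ∃ F : Set (Subgroup G), F ⊆ Om ∧
    (∀ K ∈ F, K ≤ centralizer {zz N}) ∧ (∀ K ∈ F, ∀ L ∈ F, K ≠ L → ∀ x ∈ K, ∀ y ∈ L, x * y = y * x) ∧
    (Phi Om S).ncard ≤ F.ncard ∧ ∀ u, N0 Om S u → u * zz N = zz N * u → ∀ K ∈ F, cj u K = K := by
  by_cases hex : ∃ K ∈ Phi Om S, TT U K (zz N)
  · obtain ⟨K, hK, ht⟩ := hex
    obtain ⟨S', hS', hF, -⟩ := h.exists_swap hS hK hN hs ht IsPGroup.of_bot bot_le (fun _ _ _ => bot_le)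
    refine ⟨Phi Om S', fun K hK => hK.1, ?_, fun K hK L hL hne => (h.orth_of_Phi hS' hK hL hne).2, ?_, ?_⟩
    · rw [hF]
      rintro L (rfl | hL)
      · exact h.hyp.le_centralizer hN
      · refine h.le_cent_of_not_tt hL.1.1 hN (h.comm_zz_of_mem hS.2.1 hL.1.1 hL.1.2 hN hs) ?_
        exact fun hh => hL.2 (h.tt_eq hS.2.1 hL.1.1 hL.1.2 hK.1 hK.2 hN hh ht)
    · rw [ncard_Phi_eq h.hO hS hS']
    · intro u hu hc
      rw [hF]
      rintro L (rfl | hL)
      · exact mem_normalizer_iff_cj.1 (h.norm_of_unique hN (fun L hL hz => h.tt_unique' hK.1 hN ht hL hz) hc)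
      · exact hu.2 L hL.1
  · push Not at hex
    refine ⟨Phi Om S, fun K hK => hK.1, fun K hK => ?_, fun K hK L hL hne => (h.orth_of_Phi hS hK hL hne).2, le_rfl,
      fun u hu _ K hK => hu.2 K hK⟩
    exact h.le_cent_of_not_tt hK.1 hN (h.comm_zz_of_mem hS.2.1 hK.1 hK.2 hN hs) (hex K hK)

theorem conn_cj_of_frame (hS : Syl S ⊤) {F : Set (Subgroup G)} (hF : F ⊆ Om) (hFH : ∀ K ∈ F, K ≤ H)
    (hc : ∀ K ∈ F, ∀ L ∈ F, K ≠ L → ∀ x ∈ K, ∀ y ∈ L, x * y = y * x) (hn : (Phi Om S).ncard ≤ F.ncard)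
    (hu : u ∈ normalizer (H : Set G)) (hfix : ∀ K ∈ F, cj u K = K) (hM : M ∈ Om) (hMH : M ≤ H) :
    Conn Om H (cj u M) M := by
  obtain ⟨K, hK, hKM⟩ := h.full hS hF hFH hc hn hM hMH
  have h1 := hKM.cj h.hO hu
  rw [hfix K hK] at h1
  exact h1.symm.trans hKM

/-- **(U)** -/
theorem nc_iff (hS : Syl S ⊤) (hu : u ∈ S) (hN : N ∈ Om) (hs : zz N ∈ S) (hc : u * zz N = zz N * u) :
    N0 Om S u ↔ NC Om u (zz N) := by
  constructor
  · intro h0 M hM hMz
    obtain ⟨F, hF, hFH, hFc, hn, hfix⟩ := h.frame_zz hS hN hs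
    exact h.conn_cj_of_frame hS hF hFH hFc hn (mem_norm_centralizer hc) (hfix u h0 hc) hM hMz
  · intro h0
    refine ⟨hu, fun L hL => ?_⟩
    have hLu := cj_mem_Phi h.hO hu hL
    by_cases ht : TT U L (zz N)
    · have ht' := h.tt_cj hL.1 ht u
      rw [hc, mul_inv_cancel_right] at ht'
      exact h.tt_eq hS.2.1 hLu.1 hLu.2 hL.1 hL.2 hN ht' ht
    · by_contra hne
      have hLz := h.le_cent_of_not_tt hL.1 hN (h.comm_zz_of_mem hS.2.1 hL.1 hL.2 hN hs) ht
      exact h.r1 (zz N) (h.hyp.zz_ne hN) _ hLu.1 _ hL.1 (cj_le_centralizer hc hLz) hLz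
        (h.orth_of_Phi hS hLu hL hne) (h0 L hL.1 hLz)

/-- **(U')** -/
theorem nc_indep (hu2 : IsPGroup 2 (zpowers u)) (hN : N ∈ Om) (hN' : N' ∈ Om) (hc : u * zz N = zz N * u)
    (hc' : u * zz N' = zz N' * u) (h1 : NC Om u (zz N)) : NC Om u (zz N') := by
  have hz2 : ∀ M ∈ Om, IsPGroup 2 (zpowers (zz M)) := fun M hM =>
    (h.two M hM).to_le (zpowers_le.2 (h.hyp.zz_mem hM))
  have key : ∀ M ∈ Om, u * zz M = zz M * u → ∃ R, Syl R (centralizer {u}) ∧ zz M ∈ R ∧ u ∈ R := by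
    intro M hM hcM
    have h2 : IsPGroup 2 (zpowers (zz M) ⊔ zpowers u : Subgroup G) := by
      refine two_sup_comm hu2 (hz2 M hM) ?_
      rintro _ ⟨i, rfl⟩ _ ⟨j, rfl⟩
      exact (Commute.zpow_zpow (show Commute u (zz M) from hcM) i j).eq
    obtain ⟨R, hR, hle⟩ := exists_syl_ge h2 (show zpowers (zz M) ⊔ zpowers u ≤ centralizer {u} from
      sup_le (zpowers_le.2 (mem_centralizer_singleton_iff.2 hcM.symm))
        (zpowers_le.2 (mem_centralizer_singleton_iff.2 rfl)))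
    exact ⟨R, hR, hle (mem_sup_left (mem_zpowers _)), hle (mem_sup_right (mem_zpowers _))⟩
  obtain ⟨R, hR, hzR, huR⟩ := key N hN hc
  obtain ⟨R', hR', hzR', huR'⟩ := key N' hN' hc'
  obtain ⟨c, hcu, rfl⟩ := hR'.exists_conj hR
  have hcu' : c * u = u * c := mem_centralizer_singleton_iff.1 hcu
  obtain ⟨S, hS, hRS⟩ := exists_top hR.2.1
  have h2 : N0 Om S u := (h.nc_iff hS (hRS huR) hN (hRS hzR) hc).2 h1
  have h3 : zz (cj c N') ∈ S := by rw [h.hyp.zz_cj hN']; exact hRS (conj_mem_cj hzR')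
  have h4 : u * zz (cj c N') = zz (cj c N') * u := by
    rw [h.hyp.zz_cj hN']
    calc u * (c * zz N' * c⁻¹) = (u * c) * zz N' * c⁻¹ := by group
      _ = c * (u * zz N') * c⁻¹ := by rw [← hcu']; group
      _ = c * zz N' * (u * c⁻¹) := by rw [hc']; group
      _ = c * zz N' * c⁻¹ * u := by
        have : u * c⁻¹ = c⁻¹ * u := by
          rw [eq_inv_mul_iff_mul_eq, ← mul_assoc, hcu', mul_inv_cancel_right]
        rw [this]; group
  have h5 := nc_cj h.hO ((h.nc_iff hS (hRS huR) (h.hO N' hN' c) h3 h4).1 h2) c⁻¹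
  rw [h.hyp.zz_cj hN'] at h5
  have e1 : c⁻¹ * u * c⁻¹⁻¹ = u := by rw [inv_inv, mul_assoc, ← hcu', inv_mul_cancel_left]
  have e2 : c⁻¹ * (c * zz N' * c⁻¹) * c⁻¹⁻¹ = zz N' := by group
  rwa [e1, e2] at h5

/-- a bad element commutes with no `z` of `S` -/
theorem bad_move (hS : Syl S ⊤) (hb : Bad Om u S) (hN : N ∈ Om) (hs : zz N ∈ S) : u * zz N ≠ zz N * u := by
  intro hc
  obtain ⟨huS, hn, M, hM, hcM, hnc⟩ := hb
  exact hn ((h.nc_iff hS huS hN hs hc).2 (h.nc_indep (h.zpowers_two hS.2.1 huS) hM hN hcM hc hnc))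

theorem bad_cj_ne (hS : Syl S ⊤) (hb : Bad Om u S) (hK : K ∈ Phi Om S) : cj u K ≠ K := by
  intro hh
  exact h.bad_move hS hb hK.1 (hK.2 (h.hyp.zz_mem hK.1)) (h.hyp.comm_zz hK.1 (mem_normalizer_iff_cj.2 hh))

/-- **(1)**, first part -/
theorem exists_S1 (hb : Bad Om u S) (hS : Syl S ⊤) :
    ∃ S₁, Syl S₁ (⊤ : Subgroup G) ∧ (∀ x ∈ S, x * u = u * x → x ∈ S₁) ∧ N0 Om S₁ u := by
  obtain ⟨huS, hn, M, hM, hcM, hnc⟩ := hb
  have h1 : IsPGroup 2 (S ⊓ centralizer {u} : Subgroup G) := hS.2.1.to_le inf_le_left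
  obtain ⟨R, hR, hle⟩ := exists_syl_ge h1 inf_le_right
  have h2 : IsPGroup 2 (zpowers (zz M)) := (h.two M hM).to_le (zpowers_le.2 (h.hyp.zz_mem hM))
  obtain ⟨R', hR', hle'⟩ := exists_syl_ge h2 (show zpowers (zz M) ≤ centralizer {u} from
    zpowers_le.2 (mem_centralizer_singleton_iff.2 hcM.symm))
  obtain ⟨c, hcu, rfl⟩ := hR'.exists_conj hR
  have hcu' : c * u = u * c := mem_centralizer_singleton_iff.1 hcu
  obtain ⟨S₁, hS₁, hRS⟩ := exists_top hR.2.1
  have hx : ∀ x ∈ S, x * u = u * x → x ∈ S₁ := fun x hxS hxu =>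
    hRS (hle ⟨hxS, mem_centralizer_singleton_iff.2 hxu⟩)
  have huS₁ : u ∈ S₁ := hx u huS _root_.rfl
  refine ⟨S₁, hS₁, hx, ?_⟩
  have h3 : zz (cj c M) ∈ S₁ := by
    rw [h.hyp.zz_cj hM]; exact hRS (conj_mem_cj (hle' (mem_zpowers _)))
  have h5 := nc_cj h.hO hnc c
  have e1 : c * u * c⁻¹ = u := by rw [hcu', mul_inv_cancel_right]
  have h4 : u * zz (cj c M) = zz (cj c M) * u := by
    rw [h.hyp.zz_cj hM]
    calc u * (c * zz M * c⁻¹) = (u * c) * zz M * c⁻¹ := by group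
      _ = c * (u * zz M) * c⁻¹ := by rw [← hcu']; group
      _ = c * zz M * (u * c⁻¹) := by rw [hcM]; group
      _ = c * zz M * c⁻¹ * u := by
        have : u * c⁻¹ = c⁻¹ * u := by
          rw [eq_inv_mul_iff_mul_eq, ← mul_assoc, hcu', mul_inv_cancel_right]
        rw [this]; group
  rw [e1, ← h.hyp.zz_cj hM] at h5
  exact (h.nc_iff hS₁ huS₁ (h.hO M hM c) h3 h4).2 h5

/-- `u` fixes no block of `C(e)` -/
theorem no_fix (hS : Syl S ⊤) (heD : ∀ K ∈ Phi Om S, K ≤ centralizer {e}) (he1 : e ≠ 1) (hu : u ∈ S)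
    (hue : u * e = e * u) (hmv : ∀ K ∈ Phi Om S, cj u K ≠ K) (hM : M ∈ Om) (hMe : M ≤ centralizer {e}) :
    cj u M ≠ M := by
  intro hh
  obtain ⟨K, hK, hKM⟩ := h.full hS (F := Phi Om S) (fun K hK => hK.1) heD
    (fun K hK L hL hne => (h.orth_of_Phi hS hK hL hne).2) le_rfl hM hMe
  have h1 := hKM.cj h.hO (mem_norm_centralizer hue)
  rw [hh] at h1
  have hKu := cj_mem_Phi h.hO hu hK
  exact h.r1 e he1 _ hK.1 _ hKu.1 (heD K hK) (heD _ hKu) (h.orth_of_Phi hS hK hKu (hmv K hK).symm)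
    (hKM.trans h1.symm)

/-- a Sylow subgroup of `C(e)` contains `n` members, if `e` centralises `D(S)` -/
theorem Phi_le_cent (hS : Syl S ⊤) (heD : ∀ K ∈ Phi Om S, K ≤ centralizer {e}) {R : Subgroup G}
    (hR : Syl R (centralizer {e})) (hS' : Syl S' ⊤) (hRS : R ≤ S') : ∀ K ∈ Phi Om S', K ≤ centralizer {e} := by
  have hD : IsPGroup 2 (sSup (Phi Om S) : Subgroup G) := hS.2.1.to_le (sSup_le fun K hK => hK.2)
  obtain ⟨T, hT, hDT⟩ := exists_syl_ge hD (sSup_le heD)
  obtain ⟨c, hc, rfl⟩ := hT.exists_conj hR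
  have hcn : cj c (centralizer {e}) = centralizer {e} := mem_normalizer_iff_cj.1 (le_normalizer hc)
  have h1 : cj c '' Phi Om S = Phi Om S' := by
    refine Set.eq_of_subset_of_ncard_le ?_ ?_ (Set.toFinite _)
    · rintro _ ⟨K, hK, rfl⟩
      exact ⟨h.hO K hK.1 c, (cj_mono c ((le_sSup hK).trans hDT)).trans hRS⟩
    · rw [Set.ncard_image_of_injective _ (cj_injective c), ncard_Phi_eq h.hO hS hS']
  rw [← h1]
  rintro _ ⟨K, hK, rfl⟩
  have h2 := cj_mono c (heD K hK)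
  rwa [hcn] at h2

/-- **(1)**: the claim -/
theorem not_n0 (hS : Syl S ⊤) (hb : Bad Om u S) (hu1 : N0 Om S₁ u) (hL : L ∈ Phi Om S₁)
    (heD : ∀ K ∈ Phi Om S, K ≤ centralizer {e}) (heu : e * u = u * e) (he1 : e ≠ 1) :
    ¬ N0 Om S₁ e := by
  intro h0
  have hmv : ∀ K ∈ Phi Om S, cj u K ≠ K := fun K hK => h.bad_cj_ne hS hb hK
  have huL : u * zz L = zz L * u := h.hyp.comm_zz hL.1 (mem_normalizer_iff_cj.2 (hu1.2 L hL))
  have heL : e * zz L = zz L * e := h.hyp.comm_zz hL.1 (mem_normalizer_iff_cj.2 (h0.2 L hL))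
  have hL2 : IsPGroup 2 (zpowers (zz L)) := (h.two L hL.1).to_le (zpowers_le.2 (h.hyp.zz_mem hL.1))
  have h2 : IsPGroup 2 (zpowers (zz L) ⊔ zpowers u : Subgroup G) := by
    refine two_sup_comm (h.zpowers_two hS.2.1 hb.1) hL2 ?_
    rintro _ ⟨i, rfl⟩ _ ⟨j, rfl⟩
    exact (Commute.zpow_zpow (show Commute u (zz L) from huL) i j).eq
  obtain ⟨R, hR, hle⟩ := exists_syl_ge h2 (show zpowers (zz L) ⊔ zpowers u ≤ centralizer {e} from
    sup_le (zpowers_le.2 (mem_centralizer_singleton_iff.2 heL.symm))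
      (zpowers_le.2 (mem_centralizer_singleton_iff.2 heu.symm)))
  obtain ⟨S', hS', hRS⟩ := exists_top hR.2.1
  have hzS : zz L ∈ S' := hRS (hle (mem_sup_left (mem_zpowers _)))
  have huS : u ∈ S' := hRS (hle (mem_sup_right (mem_zpowers _)))
  have hPe := h.Phi_le_cent hS heD hR hS' hRS
  have hnf : ∀ M ∈ Om, M ≤ centralizer {e} → cj u M ≠ M := fun M hM hMe =>
    h.no_fix hS heD he1 hb.1 heu.symm hmv hM hMe
  have hLS : L ∈ Phi Om S' := by
    refine h.mem_Phi_of_not_tt hS' hL.1 hzS fun K hK ht => ?_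
    have ht' := h.tt_cj hK.1 ht u
    rw [huL, mul_inv_cancel_right] at ht'
    have hKu := cj_mem_Phi h.hO huS hK
    exact hnf K hK.1 (hPe K hK) (h.tt_eq hS'.2.1 hKu.1 hKu.2 hK.1 hK.2 hL.1 ht' ht)
  exact hnf L hL.1 (hPe L hLS) (hu1.2 L hL)

/-- the central elements give bad pairs -/
theorem bad_next (hS : Syl S ⊤) (hb : Bad Om u S) (hS₁ : Syl S₁ ⊤) (hx : ∀ x ∈ S, x * u = u * x → x ∈ S₁)
    (hu1 : N0 Om S₁ u) (he : e ∈ S) (heD : ∀ K ∈ Phi Om S, K ≤ centralizer {e}) (heu : e * u = u * e)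
    (he1 : e ≠ 1) : Bad Om e S₁ := by
  obtain ⟨K, hK⟩ : (Phi Om S).Nonempty := by
    by_contra hh
    rw [Set.not_nonempty_iff_eq_empty] at hh
    refine hb.2.1 ⟨hb.1, fun K hK => ?_⟩
    rw [hh] at hK
    exact absurd hK (Set.notMem_empty K)
  obtain ⟨L, hL⟩ : (Phi Om S₁).Nonempty := by
    rw [← Set.ncard_pos (Set.toFinite _), ← ncard_Phi_eq h.hO hS hS₁, Set.ncard_pos (Set.toFinite _)]
    exact ⟨K, hK⟩
  have hfix : ∀ K ∈ Phi Om S, cj e K = K := fun K hK => by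
    refine mem_normalizer_iff_cj.1 (mem_normalizer_of_comm fun k hk => ?_)
    exact (mem_centralizer_singleton_iff.1 (heD K hK hk)).symm
  have hc : e * zz K = zz K * e := h.hyp.comm_zz hK.1 (mem_normalizer_iff_cj.2 (hfix K hK))
  exact ⟨hx e he heu, h.not_n0 hS hb hu1 hL heD heu he1, K, hK.1, hc,
    (h.nc_iff hS he hK.1 (hK.2 (h.hyp.zz_mem hK.1)) hc).1 ⟨he, hfix⟩⟩

/-- a bad pair with an involution -/
theorem exists_bad (hS : Syl S ⊤) (hb : Bad Om u S) : ∃ e S₁, Syl S₁ (⊤ : Subgroup G) ∧ Bad Om e S₁ ∧ e * e = 1 := by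
  haveI : Fact (Nat.Prime 2) := ⟨Nat.prime_two⟩
  obtain ⟨S₁, hS₁, hx, hu1⟩ := h.exists_S1 hb hS
  have h1 : (⊤ : Subgroup S) ≠ ⊥ := by
    intro hh
    have h2 : (⟨u, hb.1⟩ : S) ∈ (⊥ : Subgroup S) := by rw [← hh]; exact mem_top _
    have h3 : u = 1 := congrArg Subtype.val (mem_bot.1 h2)
    refine hb.2.1 ⟨hb.1, fun K _ => ?_⟩
    rw [h3, cj_one]
  obtain ⟨e, -, hec, heo⟩ := Transfer.PGroupNormal.exists_mem_inf_center_orderOf hS.2.1 (⊤ : Subgroup S) h1
  have hcm : ∀ x ∈ S, x * (e : G) = e * x := fun x hx => by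
    have := mem_center_iff.1 hec ⟨x, hx⟩
    exact congrArg Subtype.val this
  have he1 : (e : G) ≠ 1 := by
    intro hh
    have : e = 1 := Subtype.ext hh
    rw [this, orderOf_one] at heo
    omega
  have hee : (e : G) * e = 1 := by
    have h3 : e ^ 2 = 1 := by rw [← heo]; exact pow_orderOf_eq_one e
    rw [pow_two] at h3
    exact congrArg Subtype.val h3
  exact ⟨e, S₁, hS₁, h.bad_next hS hb hS₁ hx hu1 e.2
    (fun K hK => le_centralizer_singleton fun k hk => hcm k (hK.2 hk)) (hcm u hb.1).symm he1, hee⟩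

/-- **(2)**: the count -/
theorem count (hS : Syl S ⊤) (huS : u ∈ S) (huu : u * u = 1) (hmv : ∀ K ∈ Phi Om S, cj u K ≠ K)
    {J : Set (Subgroup G)} (hJ : J ⊆ Phi Om S) : 2 ^ (J ∪ cj u '' J).ncard ≤ Nat.card (DJ u J) := by
  have hJf : J.Finite := Set.toFinite J
  induction J, hJf using Set.Finite.induction_on with
  | empty =>
    rw [Set.image_empty, Set.union_empty, Set.ncard_empty, pow_zero]
    exact Nat.card_pos
  | @insert K J' hKJ hJ' ih =>
    have hJ'' : J' ⊆ Phi Om S := fun L hL => hJ (Set.mem_insert_of_mem _ hL)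
    have hK : K ∈ Phi Om S := hJ (Set.mem_insert _ _)
    have hcc : ∀ L : Subgroup G, cj u (cj u L) = L := fun L => by rw [← cj_mul, huu, cj_one]
    have hle : DJ u J' ≤ DJ u (insert K J') := closure_mono fun x ⟨L, hL, k, hk, hx⟩ =>
      ⟨L, Set.mem_insert_of_mem _ hL, k, hk, hx⟩
    by_cases hcase : cj u K ∈ J'
    · have e1 : insert K J' ∪ cj u '' insert K J' = J' ∪ cj u '' J' := by
        refine Set.Subset.antisymm ?_ ?_
        · rintro L (hL | ⟨L', hL', rfl⟩)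
          · rcases hL with rfl | hL
            · exact Or.inr ⟨_, hcase, hcc _⟩
            · exact Or.inl hL
          · rcases hL' with rfl | hL'
            · exact Or.inl hcase
            · exact Or.inr ⟨_, hL', rfl⟩
        · rintro L (hL | ⟨L', hL', rfl⟩)
          · exact Or.inl (Set.mem_insert_of_mem _ hL)
          · exact Or.inr ⟨_, Set.mem_insert_of_mem _ hL', rfl⟩
      rw [e1]
      exact (ih hJ'').trans (Nat.le_of_dvd Nat.card_pos (card_dvd_of_le hle))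
    · have hA : ∀ a ∈ DJ u J', ∀ k ∈ K, a * k = k * a := by
        intro a ha k hk
        have h1 : DJ u J' ≤ centralizer {k} := by
          refine (closure_le _).2 ?_
          rintro _ ⟨L, hL, l, hl, rfl⟩
          have h2 : Orth L K := h.orth_of_Phi hS (hJ'' hL) hK (by rintro rfl; exact hKJ hL)
          have h3 : Orth (cj u L) K := h.orth_of_Phi hS (cj_mem_Phi h.hO huS (hJ'' hL)) hK (by
            rintro rfl
            rw [hcc] at hcase
            exact hcase hL)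
          exact mul_mem (mem_centralizer_singleton_iff.2 (h2.2 l hl k hk))
            (mem_centralizer_singleton_iff.2 (h3.2 _ (conj_mem_cj hl) k hk))
        exact mem_centralizer_singleton_iff.1 (h1 ha)
      obtain ⟨v, hv, c, hc, hvc⟩ := h.hyp.exists_comm_eq hK.1 (h.two K hK.1)
      have hvc1 : v * c ≠ c * v := by
        intro hh
        rw [hh] at hvc
        refine h.hyp.zz_ne hK.1 ?_
        rw [← hvc]; group
      have ho : Orth K (cj u K) := h.orth_of_Phi hS hK (cj_mem_Phi h.hO huS hK) (hmv K hK).symm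
      have hd : ∀ k ∈ K, ∀ x ∈ K, k * (u * k * u⁻¹) * x = x * (k * (u * k * u⁻¹)) → k * x = x * k := by
        intro k hk x hx hh
        have h1 := ho.2 x hx _ (conj_mem_cj (g := u) hk)
        rw [mul_assoc, ← h1, ← mul_assoc k x, ← mul_assoc x k] at hh
        exact mul_right_cancel hh
      have hdm : ∀ k ∈ K, k * (u * k * u⁻¹) ∈ DJ u (insert K J') := fun k hk =>
        subset_closure ⟨K, Set.mem_insert _ _, k, hk, rfl⟩
      have hvA : v * (u * v * u⁻¹) ∉ DJ u J' := fun hh => hvc1 (hd v hv c hc (hA _ hh c hc))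
      have hB1 : DJ u J' ⊔ zpowers (v * (u * v * u⁻¹)) ≤ DJ u (insert K J') :=
        sup_le hle (zpowers_le.2 (hdm v hv))
      have hBv : DJ u J' ⊔ zpowers (v * (u * v * u⁻¹)) ≤ centralizer {v} := by
        refine sup_le (fun a ha => mem_centralizer_singleton_iff.2 (hA a ha v hv)) (zpowers_le.2 ?_)
        rw [mem_centralizer_singleton_iff]
        have h1 := ho.2 v hv _ (conj_mem_cj (g := u) hv)
        rw [mul_assoc, ← h1]
      have hcB : c * (u * c * u⁻¹) ∉ DJ u J' ⊔ zpowers (v * (u * v * u⁻¹)) := fun hh =>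
        hvc1 (hd c hc v hv (mem_centralizer_singleton_iff.1 (hBv hh))).symm
      have h1 := two_mul_card_le (le_sup_left : DJ u J' ≤ DJ u J' ⊔ zpowers (v * (u * v * u⁻¹)))
        (mem_sup_right (mem_zpowers _)) hvA
      have h2 := two_mul_card_le hB1 (hdm c hc) hcB
      have h3 : (insert K J' ∪ cj u '' insert K J').ncard ≤ (J' ∪ cj u '' J').ncard + 2 := by
        have e1 : insert K J' ∪ cj u '' insert K J' = insert K (insert (cj u K) (J' ∪ cj u '' J')) := by
          rw [Set.image_insert_eq, Set.insert_union, Set.union_insert]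
        rw [e1]
        have a1 := Set.ncard_insert_le K (insert (cj u K) (J' ∪ cj u '' J'))
        have a2 := Set.ncard_insert_le (cj u K) (J' ∪ cj u '' J')
        omega
      calc 2 ^ (insert K J' ∪ cj u '' insert K J').ncard ≤ 2 ^ ((J' ∪ cj u '' J').ncard + 2) :=
            Nat.pow_le_pow_right (by omega) h3
        _ = 4 * 2 ^ (J' ∪ cj u '' J').ncard := by ring
        _ ≤ 4 * Nat.card (DJ u J') := Nat.mul_le_mul_left _ (ih hJ'')
        _ ≤ Nat.card (DJ u (insert K J')) := by omega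

/-- **(2)** -/
theorem no_bad_inv (hS : Syl S ⊤) (hb : Bad Om u S) (huu : u * u = 1) : False := by
  haveI : Fact (Nat.Prime 2) := ⟨Nat.prime_two⟩
  obtain ⟨S₁, hS₁, hx, hu1⟩ := h.exists_S1 hb hS
  have huS := hb.1
  have hui : u⁻¹ = u := inv_eq_of_mul_eq_one_right huu
  have hmv : ∀ K ∈ Phi Om S, cj u K ≠ K := fun K hK => h.bad_cj_ne hS hb hK
  have ho : ∀ K ∈ Phi Om S, Orth K (cj u K) := fun K hK =>
    h.orth_of_Phi hS hK (cj_mem_Phi h.hO huS hK) (hmv K hK).symm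
  have hDS : DJ u (Phi Om S) ≤ S := by
    refine (closure_le _).2 ?_
    rintro _ ⟨K, hK, k, hk, rfl⟩
    exact S.mul_mem (hK.2 hk) (S.mul_mem (S.mul_mem huS (hK.2 hk)) (S.inv_mem huS))
  have hDu : DJ u (Phi Om S) ≤ centralizer {u} := by
    refine (closure_le _).2 ?_
    rintro _ ⟨K, hK, k, hk, rfl⟩
    refine mem_centralizer_singleton_iff.2 ?_
    have h1 := (ho K hK).2 k hk _ (conj_mem_cj (g := u) hk)
    calc k * (u * k * u⁻¹) * u = (u * k * u⁻¹) * k * u := by rw [h1]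
      _ = u * k * (u⁻¹ * k * u) := by group
      _ = u * (k * (u * k * u⁻¹)) := by rw [hui]; group
  have hDS₁ : DJ u (Phi Om S) ≤ S₁ := fun x hxD => hx x (hDS hxD) (mem_centralizer_singleton_iff.1 (hDu hxD))
  have hDn : ∀ K ∈ Phi Om S, DJ u (Phi Om S) ≤ normalizer (K : Set G) := by
    intro K hK
    have h1 : ∀ L ∈ Phi Om S, L ≤ normalizer (K : Set G) := by
      intro L hL
      by_cases hLK : L = K
      · rw [hLK]; exact le_normalizer
      · exact fun l hl => mem_normalizer_of_comm fun k hk => (h.orth_of_Phi hS hL hK hLK).2 l hl k hk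
    refine (closure_le _).2 ?_
    rintro _ ⟨L, hL, l, hl, rfl⟩
    exact mul_mem (h1 L hL hl) (h1 _ (cj_mem_Phi h.hO huS hL) (conj_mem_cj hl))
  have hD2 : IsPGroup 2 (DJ u (Phi Om S)) := hS.2.1.to_le hDS
  let act : MulAction (DJ u (Phi Om S)) (Phi Om S₁) :=
    { smul := fun d K => ⟨cj (d : G) K.1, cj_mem_Phi h.hO (hDS₁ d.2) K.2⟩
      one_smul := fun K => Subtype.ext (cj_one _)
      mul_smul := fun a b K => Subtype.ext (cj_mul _ _ _) }
  have hinj : Function.Injective (MulAction.toPermHom (DJ u (Phi Om S)) (Phi Om S₁)) := by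
    rw [← MonoidHom.ker_eq_bot_iff]
    by_contra hker
    obtain ⟨e, hek, hec, heo⟩ := Transfer.PGroupNormal.exists_mem_inf_center_orderOf hD2 _ hker
    have he1 : (e : G) ≠ 1 := by
      intro hh
      have : e = 1 := Subtype.ext hh
      rw [this, orderOf_one] at heo
      omega
    have hfix : ∀ L ∈ Phi Om S₁, cj (e : G) L = L := by
      intro L hL
      have h1 := congrArg (fun σ : Equiv.Perm (Phi Om S₁) => (σ ⟨L, hL⟩ : Subgroup G)) (MonoidHom.mem_ker.1 hek)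
      exact h1
    have heD : ∀ K ∈ Phi Om S, K ≤ centralizer {(e : G)} := by
      intro K hK
      refine le_centralizer_singleton fun k hk => ?_
      have hkD : k * (u * k * u⁻¹) ∈ DJ u (Phi Om S) := subset_closure ⟨K, hK, k, hk, rfl⟩
      have h1 : k * (u * k * u⁻¹) * (e : G) = e * (k * (u * k * u⁻¹)) := by
        have := mem_center_iff.1 hec ⟨_, hkD⟩
        exact congrArg Subtype.val this
      have h2 : (e : G) * k * (e : G)⁻¹ ∈ K := (mem_normalizer_iff.1 (hDn K hK e.2) k).1 hk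
      have hKu := cj_mem_Phi h.hO huS hK
      have h3 : (e : G) * (u * k * u⁻¹) * (e : G)⁻¹ ∈ cj u K :=
        (mem_normalizer_iff.1 (hDn _ hKu e.2) _).1 (conj_mem_cj hk)
      have h4 : k⁻¹ * (e * k * (e : G)⁻¹) = (u * k * u⁻¹) * (e * (u * k * u⁻¹) * (e : G)⁻¹)⁻¹ := by
        rw [eq_mul_inv_iff_mul_eq]
        calc k⁻¹ * (e * k * (e : G)⁻¹) * (e * (u * k * u⁻¹) * (e : G)⁻¹)
            = k⁻¹ * (e * (k * (u * k * u⁻¹))) * (e : G)⁻¹ := by group
          _ = u * k * u⁻¹ := by rw [← h1]; group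
      have h5 : k⁻¹ * (e * k * (e : G)⁻¹) ∈ cj u K := by
        rw [h4]; exact mul_mem (conj_mem_cj hk) (inv_mem h3)
      have h6 : zz K ∉ cj u K := by
        intro hh
        have h7 := h.hyp.eq_zz hKu.1 hh (h.hyp.zz_mul hK.1) (h.hyp.zz_ne hK.1)
        rw [h.hyp.zz_cj hK.1] at h7
        refine h.bad_move hS hb hK.1 (hK.2 (h.hyp.zz_mem hK.1)) ?_
        exact (mul_inv_eq_iff_eq_mul.1 h7.symm)
      have h7 := h.hyp.eq_one_of_mem hK.1 (h.two K hK.1) h6 (K.mul_mem (K.inv_mem hk) h2) h5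
      have h8 : (e : G) * k * (e : G)⁻¹ = k := by rw [inv_mul_eq_one] at h7; exact h7.symm
      exact (mul_inv_eq_iff_eq_mul.1 h8).symm
    have hb' := h.bad_next hS hb hS₁ hx hu1 (hDS e.2) heD (mem_centralizer_singleton_iff.1 (hDu e.2)) he1
    exact hb'.2.1 ⟨hDS₁ e.2, hfix⟩
  have h1 := Subgroup.card_dvd_of_injective _ hinj
  rw [Nat.card_perm, Nat.card_coe_set_eq, ← ncard_Phi_eq h.hO hS hS₁] at h1
  obtain ⟨k, hk⟩ := IsPGroup.iff_card.1 hD2
  have h2 := h.count hS huS huu hmv (le_refl (Phi Om S))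
  rw [hk] at h1 h2
  have hn : (Phi Om S).ncard ≠ 0 := by
    intro hh
    rw [Set.ncard_eq_zero (Set.toFinite _)] at hh
    refine hb.2.1 ⟨hb.1, fun K hK => ?_⟩
    rw [hh] at hK
    exact absurd hK (Set.notMem_empty K)
  have h3 : (k : ℕ∞) ≤ emultiplicity 2 ((Phi Om S).ncard)! := le_emultiplicity_of_pow_dvd h1
  have h4 := lt_of_le_of_lt h3 (Nat.emultiplicity_two_factorial_lt hn)
  have h5 : k < (Phi Om S).ncard := by exact_mod_cast h4
  have h6 : (Phi Om S ∪ cj u '' Phi Om S).ncard ≤ k := (Nat.pow_le_pow_iff_right (by omega)).1 h2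
  have h7 : (Phi Om S).ncard ≤ (Phi Om S ∪ cj u '' Phi Om S).ncard :=
    Set.ncard_le_ncard Set.subset_union_left (Set.toFinite _)
  omega

/-- **the `N₀`-closure theorem** -/
theorem closure' (hS : Syl S ⊤) (hS' : Syl S' ⊤) (h0 : N0 Om S u) (hu : u ∈ S') : N0 Om S' u := by
  by_contra hn
  obtain ⟨K', hK'⟩ : (Phi Om S').Nonempty := by
    by_contra hh
    rw [Set.not_nonempty_iff_eq_empty] at hh
    refine hn ⟨hu, fun K hK => ?_⟩
    rw [hh] at hK
    exact absurd hK (Set.notMem_empty K)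
  obtain ⟨K, hK⟩ : (Phi Om S).Nonempty := by
    rw [← Set.ncard_pos (Set.toFinite _), ncard_Phi_eq h.hO hS hS', Set.ncard_pos (Set.toFinite _)]
    exact ⟨K', hK'⟩
  have hc : u * zz K = zz K * u := h.hyp.comm_zz hK.1 (mem_normalizer_iff_cj.2 (h0.2 K hK))
  have hb : Bad Om u S' := ⟨hu, hn, K, hK.1, hc,
    (h.nc_iff hS h0.1 hK.1 (hK.2 (h.hyp.zz_mem hK.1)) hc).1 h0⟩
  obtain ⟨e, S₁, hS₁, hb₁, hee⟩ := h.exists_bad hS' hb
  exact h.no_bad_inv hS₁ hb₁ hee

end LW

end Cfsg.Agent.Cit.CV1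
end

-- part: Cit/Nil/CV1/WF
section
/-!
# (6b)(CV), rank one: the subgroup generated by the `zz K`, `K` without T-partner

`FF Om U S` : the members of `S` without T-partner; `WF Om U S` : generated by their involutions.
`wf_closed` : `WF Om U S` is strongly closed in `S`.
-/

set_option autoImplicit false
set_option linter.style.haveILetI false
set_option linter.unusedSectionVars false

namespace Cfsg.Agent.Cit.CV1

open Subgroup Cfsg Cit Tau CV

variable {G : Type*} [Group G]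

/-- the members of `S` with a T-partner -/
def II (Om : Set (Subgroup G)) (U : Subgroup G → Subgroup G) (S : Subgroup G) : Set (Subgroup G) :=
  {K | K ∈ Phi Om S ∧ ∃ N ∈ Om, TT U K (zz N)}

/-- the members of `S` without T-partner -/
def FF (Om : Set (Subgroup G)) (U : Subgroup G → Subgroup G) (S : Subgroup G) : Set (Subgroup G) :=
  {K | K ∈ Phi Om S ∧ ∀ N ∈ Om, ¬ TT U K (zz N)}

/-- generated by the involutions of the members without T-partner -/
def WF (Om : Set (Subgroup G)) (U : Subgroup G → Subgroup G) (S : Subgroup G) : Subgroup G :=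
  closure {z | ∃ K ∈ FF Om U S, zz K = z}

variable [Finite G] {Om : Set (Subgroup G)} {U : Subgroup G → Subgroup G} {K L M N S S' T : Subgroup G}
  {a b e g s t u v w x y z : G}

namespace LW

variable (h : LW Om U)
include h

theorem no_tt_cj (hK : K ∈ Om) (hn : ∀ N ∈ Om, ¬ TT U K (zz N)) (g : G) : ∀ N ∈ Om, ¬ TT U (cj g K) (zz N) := by
  intro N hN ht
  have h1 := h.tt_cj (h.hO K hK g) ht g⁻¹
  rw [cj_inv_cj, ← h.hyp.zz_cj hN] at h1
  exact hn _ (h.hO N hN _) h1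

theorem FF_cj (g : G) : FF Om U (cj g S) = cj g '' FF Om U S := by
  ext K
  constructor
  · rintro ⟨hK, hn⟩
    rw [Phi_cj h.hO] at hK
    obtain ⟨L, hL, rfl⟩ := hK
    refine ⟨L, ⟨hL, ?_⟩, rfl⟩
    have := h.no_tt_cj (h.hO L hL.1 g) hn g⁻¹
    rwa [cj_inv_cj] at this
  · rintro ⟨L, ⟨hL, hn⟩, rfl⟩
    refine ⟨?_, h.no_tt_cj hL.1 hn g⟩
    rw [Phi_cj h.hO]
    exact ⟨L, hL, rfl⟩

theorem WF_cj (g : G) : WF Om U (cj g S) = cj g (WF Om U S) := by
  have key : ∀ (g : G) (S : Subgroup G), cj g (WF Om U S) ≤ WF Om U (cj g S) := by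
    intro g S
    have h1 : WF Om U S ≤ cj g⁻¹ (WF Om U (cj g S)) := by
      rw [WF, closure_le]
      rintro _ ⟨K, hK, rfl⟩
      have h2 := conj_mem_cj (g := g⁻¹) (K := WF Om U (cj g S))
        (subset_closure ⟨cj g K, by rw [h.FF_cj]; exact ⟨K, hK, rfl⟩, rfl⟩)
      rw [h.hyp.zz_cj hK.1.1] at h2
      have h3 : g⁻¹ * (g * zz K * g⁻¹) * g⁻¹⁻¹ = zz K := by group
      rwa [h3] at h2
    have h2 := cj_mono g h1
    rwa [cj_cj_inv] at h2
  refine le_antisymm ?_ (key g S)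
  have h1 := cj_mono g (key g⁻¹ (cj g S))
  rwa [cj_cj_inv, cj_inv_cj] at h1

theorem WF_le : WF Om U S ≤ S := by
  rw [WF, closure_le]
  rintro _ ⟨K, hK, rfl⟩
  exact hK.1.2 (h.hyp.zz_mem hK.1.1)

/-- a member without T-partner lies in every Sylow subgroup containing its involution -/
theorem mem_FF (hS : Syl S ⊤) (hK : K ∈ Om) (hn : ∀ N ∈ Om, ¬ TT U K (zz N)) (hz : zz K ∈ S) : K ∈ FF Om U S :=
  ⟨h.mem_Phi_of_not_tt hS hK hz fun L hL ht => hn L hL.1 (h.tt_symm hL.1 hK ht), hn⟩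

theorem FF_eq (hS : Syl S ⊤) (hS' : Syl S' ⊤) (hh : ∀ K ∈ FF Om U S, zz K ∈ S') : FF Om U S = FF Om U S' := by
  obtain ⟨g, -, hg⟩ := hS.exists_conj hS'
  refine Set.eq_of_subset_of_ncard_le (fun K hK => h.mem_FF hS' hK.1.1 hK.2 (hh K hK)) ?_ (Set.toFinite _)
  rw [← hg, h.FF_cj, Set.ncard_image_of_injective _ (cj_injective g)]

/-- `WF` centralises the members -/
theorem WF_comm (hS : Syl S ⊤) (hu : u ∈ WF Om U S) (hK : K ∈ Phi Om S) (hx : x ∈ K) : x * u = u * x := by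
  have h1 : WF Om U S ≤ centralizer {x} := by
    rw [WF, closure_le]
    rintro _ ⟨L, hL, rfl⟩
    refine mem_centralizer_singleton_iff.2 ?_
    by_cases hKL : K = L
    · subst hKL
      exact (h.hyp.comm_zz hK.1 (le_normalizer hx)).symm
    · exact ((h.orth_of_Phi hS hK hL.1 hKL).2 x hx _ (h.hyp.zz_mem hL.1.1)).symm
  exact (mem_centralizer_singleton_iff.1 (h1 hu)).symm

theorem WF_n0 (hS : Syl S ⊤) (hu : u ∈ WF Om U S) : N0 Om S u :=
  ⟨h.WF_le hu, fun _ hK => mem_normalizer_iff_cj.1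
    (mem_normalizer_of_comm fun _ hk => (h.WF_comm hS hu hK hk).symm)⟩

/-- **`WF` is strongly closed** -/
theorem wf_closed (hS : Syl S ⊤) (hw : w ∈ WF Om U S) (hg : g * w * g⁻¹ ∈ S) : g * w * g⁻¹ ∈ WF Om U S := by
  obtain ⟨u, hu⟩ : ∃ u, u = g * w * g⁻¹ := ⟨_, rfl⟩
  rw [← hu] at hg ⊢
  have hS1 := syl_cj_top hS g
  have hu1 : u ∈ WF Om U (cj g S) := by rw [h.WF_cj, hu]; exact conj_mem_cj hw
  have hn : N0 Om S u := h.closure' hS1 hS (h.WF_n0 hS1 hu1) hg
  have hc : WF Om U S ≤ centralizer {u} := by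
    rw [WF, closure_le]
    rintro _ ⟨L, hL, rfl⟩
    exact mem_centralizer_singleton_iff.2 (h.hyp.comm_zz hL.1.1 (mem_normalizer_iff_cj.2 (hn.2 L hL.1))).symm
  have hc1 : WF Om U (cj g S) ≤ centralizer {u} := by
    rw [WF, closure_le]
    rintro _ ⟨L, hL, rfl⟩
    exact mem_centralizer_singleton_iff.2 (h.WF_comm hS1 hu1 hL.1 (h.hyp.zz_mem hL.1.1))
  obtain ⟨R, hR, hWR⟩ := exists_syl_ge (hS.2.1.to_le h.WF_le) hc
  obtain ⟨R1, hR1, hWR1⟩ := exists_syl_ge (hS1.2.1.to_le h.WF_le) hc1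
  obtain ⟨c, hcu, rfl⟩ := hR1.exists_conj hR
  obtain ⟨S2, hS2, hRS⟩ := exists_top hR.2.1
  have hS3 := syl_cj_top hS1 c
  have e1 : FF Om U S = FF Om U S2 :=
    h.FF_eq hS hS2 fun K hK => hRS (hWR (subset_closure ⟨K, hK, rfl⟩))
  have e2 : FF Om U (cj c (cj g S)) = FF Om U S2 := by
    refine h.FF_eq hS3 hS2 fun K hK => hRS ?_
    have h3 : zz K ∈ WF Om U (cj c (cj g S)) := subset_closure ⟨K, hK, rfl⟩
    rw [h.WF_cj] at h3
    exact cj_mono c hWR1 h3
  have e3 : WF Om U S = WF Om U (cj c (cj g S)) := by rw [WF, WF, e1, e2]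
  rw [e3, h.WF_cj, mem_cj]
  have h3 : c⁻¹ * u * c = u := by
    rw [mul_assoc, ← mem_centralizer_singleton_iff.1 hcu, inv_mul_cancel_left]
  rw [h3]
  exact hu1

end LW

end Cfsg.Agent.Cit.CV1
end

-- part: Cit/Nil/CV1/LemT/Tau
section
/-!
# (6b)(CV), rank one, LEMMA T: the nil trick and (tau)

`RW.le_syl` : `O(G) = 1`, `R1 Om ⊤`, `N ≠ N'` over the same involution: `N` lies in every Sylow 2-subgroup.
`RW.nil_comm` : `R1 Om H`, `N ≠ N' ≤ H` over the same involution, `v ∈ U K ⊓ H` of order 4: `[v, zz N] ∈ O(H)`.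
`RW.tau` : if moreover `TT U K (zz N)`: contradiction.
-/

set_option autoImplicit false
set_option linter.style.haveILetI false
set_option linter.unusedSectionVars false

namespace Cfsg.Agent.Cit.CV1

open Subgroup Cfsg Cit Tau CV

variable {G : Type*} [Group G] [Finite G] {Om : Set (Subgroup G)} {U : Subgroup G → Subgroup G}
  {H K L M N N' P S : Subgroup G} {v : G}

/-- `O(G) = 1`, `R1`: two members over the same involution lie in all Sylow 2-subgroups -/
theorem RW.le_syl (w : RW Om U) (hO : OO (⊤ : Subgroup G) = ⊥) (hR : R1 Om ⊤) (hN : N ∈ Om) (hN' : N' ∈ Om)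
    (hne : N ≠ N') (hz : zz N = zz N') (hS : Syl S ⊤) : N ≤ S := by
  haveI : Fact (Nat.Prime 2) := ⟨Nat.prime_two⟩
  have ho : Orth N N' := ⟨hne, fun x hx y hy => w.comm_of_zz_eq hN hN' hz hne hx hy⟩
  set B : Subgroup G := sSup {M | M ∈ Om ∧ Conn Om ⊤ N M} with hB
  have hNB : N ≤ B := le_sSup ⟨hN, .refl⟩
  have hBC : B ≤ centralizer {zz N} := by
    rw [hB, sSup_le_iff]
    rintro M ⟨hM, hNM⟩ x hx
    have h1 : ¬ Conn Om ⊤ M N' := fun h => hR N hN N' hN' le_top le_top ho (hNM.trans h)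
    have h2 := comm_mem_of_not_conn hM le_top hN' le_top h1 hx (w.hyp.zz_mem hN')
    rw [hO, mem_bot, ← hz, mul_inv_eq_one, mul_inv_eq_iff_eq_mul] at h2
    exact mem_centralizer_singleton_iff.2 h2
  have hDB : sSup Om ≤ normalizer (B : Set G) := by
    rw [sSup_le_iff]
    intro M hM
    by_cases hNM : Conn Om ⊤ N M
    · exact (le_sSup ⟨hM, hNM⟩ : M ≤ B).trans le_normalizer
    · have h0 : B ≤ centralizer (M : Set G) := by
        rw [hB, sSup_le_iff]
        rintro L ⟨hL, hNL⟩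
        apply le_centralizer_of_comm
        intro x hx y hy
        have h2 := comm_mem_of_not_conn hM le_top hL le_top (fun h => hNM (hNL.trans h.symm)) hx hy
        rwa [hO, mem_bot, mul_inv_eq_one, mul_inv_eq_iff_eq_mul] at h2
      have h1 : M ≤ centralizer (B : Set G) := by
        intro y hy
        rw [mem_centralizer_iff]
        intro x hx
        exact (mem_centralizer_iff.1 (h0 hx) y hy).symm
      exact h1.trans (centralizer_le_normalizer _)
  have hBD : B ≤ sSup Om := by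
    rw [hB, sSup_le_iff]
    rintro M ⟨hM, -⟩
    exact le_sSup hM
  have hDn : (sSup Om : Subgroup G).Normal :=
    normalizer_eq_top_iff.1 (top_le_iff.1 (sSup_le_normalizer w.hyp.conj))
  have hBs : B.IsSubnormal :=
    IsSubnormal.step _ _ hBD hDn.isSubnormal ((normal_subgroupOf_iff_le_normalizer hBD).2 hDB)
  have hNs : (N.subgroupOf B).IsSubnormal := by
    have h1 := w.hyp.sub N hN
    let f : B →* centralizer {zz N} := inclusion hBC
    convert h1.comap f using 1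
    ext x
    rfl
  have hNn : N.IsSubnormal := IsSubnormal.trans hNB hNs hBs
  have h1 := PLocal.SubnormalCore.le_pCore_of_isSubnormal hNn (w.two N hN)
  have h2 : ¬ 2 ∣ S.index := by
    rw [← relIndex_top_right]
    exact hS.2.2
  exact h1.trans (Lib.Cores.pCore_le_sylow (hS.2.1.toSylow h2))

/-! ### `R1` goes to the quotient by the core -/

section lift

variable {G' : Type*} [Group G'] {f : G →* G'}

theorem adj_of_adj_img (hf : Function.Surjective f) (hK : K ∈ Om) (hL : L ∈ Om)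
    (h : Adj (Cit.img f Om) ⊤ (K.map f) (L.map f)) : Adj Om ⊤ K L := by
  haveI : Finite G' := Finite.of_surjective f hf
  refine ⟨⟨hK, le_top⟩, ⟨hL, le_top⟩, fun h1 => h.2.2 ?_⟩
  rw [← map_commutator]
  have h2 := map_OO_le f (⊤ : Subgroup G)
  rw [map_top_of_surjective f hf] at h2
  exact (Subgroup.map_mono h1).trans h2

theorem conn_of_conn_img (hf : Function.Surjective f) {A' B' : Subgroup G'} (h : Conn (Cit.img f Om) ⊤ A' B') :
    ∀ A ∈ Om, A.map f = A' → ∃ B ∈ Om, B.map f = B' ∧ Conn Om ⊤ A B := by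
  intro A hA hAA
  induction h with
  | refl => exact ⟨A, hA, hAA, .refl⟩
  | @tail B' C' _ h2 ih =>
    obtain ⟨B, hB, rfl, hAB⟩ := ih
    obtain ⟨C, hC, rfl⟩ := h2.2.1.1
    exact ⟨C, hC, rfl, hAB.tail (adj_of_adj_img hf hB hC h2)⟩

/-- `R1` passes to the quotient by (a subgroup of) the core -/
theorem RW.r1_img (w : RW Om U) (hf : Function.Surjective f) (hk : f.ker ≤ OO (⊤ : Subgroup G)) (hR : R1 Om ⊤) :
    R1 (Cit.img f Om) ⊤ := by
  have hker : ¬ 2 ∣ Nat.card f.ker := fun h => odd_OO (⊤ : Subgroup G) (h.trans (card_dvd_of_le hk))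
  rintro _ ⟨K, hK, rfl⟩ _ ⟨L, hL, rfl⟩ - - hKL hcon
  obtain ⟨B, hB, hBL, hKB⟩ := conn_of_conn_img hf hcon K hK rfl
  rw [← hBL] at hKL
  obtain ⟨v, hv, hv4⟩ := w.exists_v hK
  have hc : f v * f (zz B) = f (zz B) * f v :=
    hKL.2 _ ⟨v, w.vch.le K hK hv, rfl⟩ _ ⟨_, w.hyp.zz_mem hB, rfl⟩
  have hv4' : v ^ 2 ^ 2 = 1 := by
    rw [show (2 : ℕ) ^ 2 = 4 by norm_num, ← hv4]; exact pow_orderOf_eq_one v
  obtain ⟨n, hn, hn2⟩ := exists_conj_comm hker (w.hyp.zz_mul hB) hv4' hc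
  rw [← w.hyp.zz_cj hB] at hn2
  have hBn := w.hyp.conj B hB n
  rcases w.comm_of_zz_comm hK hBn hv hv4 hn2 with h1 | h1
  · apply hKL.1
    rw [h1, map_cj_ker hn]
  · have hne : K ≠ cj n B := by
      intro h2
      apply hKL.1
      rw [h2, map_cj_ker hn]
    refine hR K hK _ hBn le_top le_top ⟨hne, h1⟩ (hKB.tail ?_)
    exact (w.adj_conj_core hB le_top (hk hn)).symm

end lift

/-- `R1 Om ⊤`, `N ≠ N'` over the same involution, `P` a 2-group: some conjugate of `N` under `O(G)` generates a 2-group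
with `P` -/
theorem RW.exists_le_two (w : RW Om U) (hR : R1 Om ⊤) (hN : N ∈ Om) (hN' : N' ∈ Om)
    (hne : N ≠ N') (hz : zz N = zz N') (hP : IsPGroup 2 P) :
    ∃ o ∈ OO (⊤ : Subgroup G), ∃ T : Subgroup G, IsPGroup 2 T ∧ P ≤ T ∧ cj o N ≤ T := by
  haveI : Fact (Nat.Prime 2) := ⟨Nat.prime_two⟩
  haveI hOn : (OO (⊤ : Subgroup G)).Normal :=
    normalizer_eq_top_iff.1 (top_le_iff.1 (le_normalizer_OO (⊤ : Subgroup G)))
  set f := QuotientGroup.mk' (OO (⊤ : Subgroup G)) with hfdef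
  have hf : Function.Surjective f := QuotientGroup.mk'_surjective _
  have hk : f.ker = OO (⊤ : Subgroup G) := QuotientGroup.ker_mk' _
  have hker : ¬ 2 ∣ Nat.card f.ker := by rw [hk]; exact odd_OO _
  obtain ⟨T, hT, hPT⟩ := exists_syl_ge hP (le_top : P ≤ ⊤)
  have hTf : Syl (T.map f) ⊤ := by
    have := hT.map (f := f)
    rwa [map_top_of_surjective f hf] at this
  -- the core of the quotient
  have hO' : OO (⊤ : Subgroup (G ⧸ OO (⊤ : Subgroup G))) = ⊥ := by
    have h1 := comap_OO_le hker (⊤ : Subgroup G)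
    rw [map_top_of_surjective f hf, inf_top_eq] at h1
    have h2 := Subgroup.map_mono (f := f) h1
    rw [map_comap_eq_self_of_surjective hf] at h2
    rw [eq_bot_iff]
    refine h2.trans ?_
    rw [map_le_iff_le_comap]
    intro x hx
    rw [mem_comap, mem_bot, ← MonoidHom.mem_ker, hk]
    exact hx
  have hN2 : N.map f ≤ T.map f := by
    have hin : N.map f ≠ N'.map f := by
      intro h
      obtain ⟨n, hn, hn2⟩ := w.exists_cj_of_map_eq hker hN hN' h
      exact (w.orth_map (f := f) hN (inf_ker_of_odd hker (w.two N hN))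
        ⟨hne, fun x hx y hy => w.comm_of_zz_eq hN hN' hz hne hx hy⟩).1 h
    refine (w.img hf hker).le_syl hO' (w.r1_img hf hk.le hR) ⟨N, hN, rfl⟩ ⟨N', hN', rfl⟩ hin ?_ hTf
    rw [zz_map' w.hyp hker hN, zz_map' w.hyp hker hN', hz]
  have hNT : N ≤ OO (⊤ : Subgroup G) ⊔ T := by
    rw [map_le_iff_le_comap, comap_map_eq, hk, sup_comm] at hN2
    exact hN2
  obtain ⟨R, hR', hNR⟩ := exists_syl_ge (w.two N hN) hNT
  have hTM : Syl T (OO (⊤ : Subgroup G) ⊔ T) := by
    refine ⟨le_sup_right, hT.2.1, fun h => hT.2.2 ?_⟩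
    rw [← relIndex_mul_relIndex T (OO (⊤ : Subgroup G) ⊔ T) ⊤ le_sup_right le_top]
    exact h.mul_right _
  obtain ⟨m, hm, hmT⟩ := hTM.exists_conj hR'
  obtain ⟨o, ho, t, ht, rfl⟩ := mem_sup_of_normal_left.1 hm
  rw [cj_mul, mem_normalizer_iff_cj.1 (le_normalizer ht)] at hmT
  refine ⟨o⁻¹, inv_mem ho, T, hT.2.1, hPT, ?_⟩
  rw [← hmT] at hNR
  have h1 := cj_mono o⁻¹ hNR
  rwa [cj_inv_cj] at h1

/-- the **nil trick** -/
theorem RW.nil_comm (w : RW Om U) (hR : R1 Om H) (hN : N ∈ Om) (hN' : N' ∈ Om) (hNH : N ≤ H) (hNH' : N' ≤ H)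
    (hne : N ≠ N') (hz : zz N = zz N') (hK : K ∈ Om) (hv : v ∈ U K) (hv4 : orderOf v = 4) (hvH : v ∈ H) :
    v * zz N * v⁻¹ * (zz N)⁻¹ ∈ OO H := by
  haveI : Fact (Nat.Prime 2) := ⟨Nat.prime_two⟩
  have w' := w.restr H
  have hn1 : N.subgroupOf H ∈ Cit.restr Om H := subgroupOf_mem_restr hN hNH
  have hn2 : N'.subgroupOf H ∈ Cit.restr Om H := subgroupOf_mem_restr hN' hNH'
  have hv2 : IsPGroup 2 (zpowers v) := (w.two K hK).to_le (zpowers_le.2 (w.vch.le K hK hv))
  have hne' : N.subgroupOf H ≠ N'.subgroupOf H := by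
    intro h
    apply hne
    rw [← map_subgroupOf_eq_of_le hNH, h, map_subgroupOf_eq_of_le hNH']
  have hzH : ∀ {N : Subgroup G}, N ∈ Om → N ≤ H → ((zz (N.subgroupOf H) : H) : G) = zz N := by
    intro N hN hNH
    have h1 := zz_map w.hyp (subgroupOf_mem_restr hN hNH)
    rwa [map_subgroupOf_eq_of_le hNH] at h1
  obtain ⟨⟨o, hoH⟩, ho, T, hT, hvT, hNT⟩ := w'.exists_le_two (r1_restr_top.2 hR) hn1 hn2 hne'
    (Subtype.ext (by rw [hzH hN hNH, hzH hN' hNH', hz])) (P := (zpowers v).subgroupOf H) hv2.comap_subtype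
  -- back in `G`
  have ho' : o ∈ OO H := by
    have h1 := OO_map H.subtype H.subtype_injective (⊤ : Subgroup H)
    rw [top_map_subtype] at h1
    rw [h1]
    exact ⟨_, ho, rfl⟩
  have hT' : IsPGroup 2 (T.map H.subtype) := hT.map _
  have hvT' : v ∈ T.map H.subtype := ⟨⟨v, hvH⟩, hvT (mem_zpowers v), rfl⟩
  have hNT' : cj o N ≤ T.map H.subtype := by
    have h1 := Subgroup.map_mono (f := H.subtype) hNT
    rw [cj_map, map_subgroupOf_eq_of_le hNH] at h1
    exact h1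
  have hoN := w.hyp.conj N hN o
  obtain ⟨u, hu, hu4⟩ := w.exists_v hoN
  have hc : v * u = u * v :=
    w.vch.commute w.hyp hT' hK hoN hv hu hv4 hu4 hvT' (hNT' (w.vch.le _ hoN hu))
  have hzo : v * (o * zz N * o⁻¹) = (o * zz N * o⁻¹) * v := by
    rw [← w.hyp.zz_cj hN, ← w.sq_eq hoN hu hu4, ← mul_assoc, hc, mul_assoc, hc, mul_assoc]
  -- modulo `O(H)`
  set s := zz N with hs
  have hsH : s ∈ H := hNH (w.hyp.zz_mem hN)
  have hnm : ∀ g ∈ H, ∀ x ∈ OO H, g * x * g⁻¹ ∈ OO H := fun g hg x hx =>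
    (mem_normalizer_iff.1 (le_normalizer_OO H hg) x).1 hx
  have e : v * s * v⁻¹ * s⁻¹ = (v * o⁻¹ * v⁻¹) * (v * (o * s * o⁻¹) * v⁻¹) * (v * o * v⁻¹) * s⁻¹ := by group
  rw [e, hzo]
  have e2 : (v * o⁻¹ * v⁻¹) * (o * s * o⁻¹ * v * v⁻¹) * (v * o * v⁻¹) * s⁻¹ =
      (v * o⁻¹ * v⁻¹) * o * (s * (o⁻¹ * (v * o * v⁻¹)) * s⁻¹) := by group
  rw [e2]
  exact mul_mem (mul_mem (hnm v hvH _ (inv_mem ho')) ho')
    (hnm s hsH _ (mul_mem (inv_mem ho') (hnm v hvH _ ho')))

/-- **(tau)** -/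
theorem RW.tau (w : RW Om U) (hR : R1 Om H) (hN : N ∈ Om) (hN' : N' ∈ Om) (hNH : N ≤ H) (hNH' : N' ≤ H)
    (hne : N ≠ N') (hz : zz N = zz N') (hK : K ∈ Om) (ht : TT U K (zz N)) (hv : v ∈ U K) (hv4 : orderOf v = 4) :
    v ∉ H := by
  intro hvH
  have h1 := w.nil_comm hR hN hN' hNH hNH' hne hz hK hv hv4 hvH
  obtain ⟨s, hs⟩ : ∃ s, s = zz N := ⟨_, rfl⟩
  rw [← hs] at h1 ht
  have hss : s * s = 1 := by rw [hs]; exact w.hyp.zz_mul hN
  have hvv : v * v = zz K := w.sq_eq hK hv hv4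
  -- `v' = s v s⁻¹` commutes with `v`
  have hK' := w.hyp.conj K hK s
  have hv' : s * v * s⁻¹ ∈ U (cj s K) := w.vch.conj_mem hK hv s
  have hzK' : zz (cj s K) = zz K := by rw [w.hyp.zz_cj hK, ht.1, mul_inv_cancel_right]
  have hc : v * (s * v * s⁻¹) = s * v * s⁻¹ * v := by
    by_cases hKK : cj s K = K
    · rw [hKK] at hv'
      rcases w.eq_or_inv hK hv hv4 hv' (orderOf_conj_four hv4 s) with h2 | h2
      · rw [h2]
      · rw [h2]; group
    · exact w.comm_of_zz_eq hK hK' hzK'.symm (Ne.symm hKK) (w.vch.le K hK hv) (w.vch.le _ hK' hv')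
  have hvs : s * v * s⁻¹ * (s * v * s⁻¹) = zz K := by
    rw [w.sq_eq hK' hv' (orderOf_conj_four hv4 s), hzK']
  have e : v * s * v⁻¹ * s⁻¹ = v * (s * v * s⁻¹)⁻¹ := by group
  rw [e] at h1
  have h2 : v * (s * v * s⁻¹)⁻¹ * (v * (s * v * s⁻¹)⁻¹) = 1 := by
    have hc' : Commute v (s * v * s⁻¹) := hc
    have h3 : (s * v * s⁻¹)⁻¹ * v = v * (s * v * s⁻¹)⁻¹ := (hc'.inv_right).eq.symm
    calc v * (s * v * s⁻¹)⁻¹ * (v * (s * v * s⁻¹)⁻¹) = v * ((s * v * s⁻¹)⁻¹ * v) * (s * v * s⁻¹)⁻¹ := by group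
      _ = v * v * (s * v * s⁻¹ * (s * v * s⁻¹))⁻¹ := by rw [h3]; group
      _ = 1 := by rw [hvs, hvv, mul_inv_cancel]
  have h3 := eq_one_of_odd (odd_OO H) h1 (a := 1) (by rw [pow_one, pow_two]; exact h2)
  obtain ⟨-, v₀, hv₀, hv₀4, hne₀⟩ := ht
  rw [mul_inv_eq_one] at h3
  have h4 : s * v = v * s := by
    rw [← mul_inv_eq_iff_eq_mul]
    exact h3.symm
  apply hne₀
  rcases w.eq_or_inv hK hv hv4 hv₀ hv₀4 with rfl | rfl
  · exact h4
  · exact (Commute.inv_right (show Commute s v from h4)).eq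

end Cfsg.Agent.Cit.CV1
end

-- part: Cit/Nil/CV1/LemT/XLem
section
/-!
# (6b)(CV), rank one, LEMMA T: T-lines, (W), lemma X, the reduction to M/M pairs

`TW Om U` : the world with R1 for all centralisers of elements `≠ 1`.
`MM Om z s` : M/M pairs: `s` moves every member over `z` and conversely.
`RW.lemX` : `zz M = zz N * w`, `w` commutes with `q ∈ K` of order 4 and not with `K`: `w` centralises all members over
`zz N`, or `(zz N, zz N * w)` is an M/M pair.
`TW.lemT_of` : LEMMA T if there are no M/M pairs.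
-/

set_option autoImplicit false
set_option linter.style.haveILetI false
set_option linter.unusedSectionVars false

namespace Cfsg.Agent.Cit.CV1

open Subgroup Cfsg Cit Tau CV

variable {G : Type*} [Group G] {Om : Set (Subgroup G)} {U : Subgroup G → Subgroup G}
  {H K K' L M N N' P S : Subgroup G} {g q s t u v w y z : G}

/-- the world with R1 for centralisers -/
structure TW (Om : Set (Subgroup G)) (U : Subgroup G → Subgroup G) : Prop extends RW Om U where
  r1 : ∀ e : G, e ≠ 1 → R1 Om (centralizer {e})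

/-- M/M pairs -/
structure MM (Om : Set (Subgroup G)) (z s : G) : Prop where
  comm : z * s = s * z
  exz : ∃ K ∈ Om, zz K = z
  exs : ∃ N ∈ Om, zz N = s
  mz : ∀ K ∈ Om, zz K = z → cj s K ≠ K
  ms : ∀ N ∈ Om, zz N = s → cj z N ≠ N

theorem MM.symm (h : MM Om z s) : MM Om s z := ⟨h.comm.symm, h.exs, h.exz, h.ms, h.mz⟩

variable [Finite G]

namespace RW

variable (h : RW Om U)
include h

theorem tt_all (hK : K ∈ Om) (ht : TT U K s) (hv : v ∈ U K) (hv4 : orderOf v = 4) : s * v ≠ v * s := by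
  obtain ⟨-, u, hu, hu4, hne⟩ := ht
  intro hc
  apply hne
  rcases h.eq_or_inv hK hv hv4 hu hu4 with rfl | rfl
  · exact hc
  · exact (Commute.inv_right (show Commute s v from hc)).eq

theorem tt_of_zz (hK : K ∈ Om) (hK' : K' ∈ Om) (hz : zz K' = zz K) (hN : N ∈ Om) (ht : TT U K (zz N)) :
    TT U K' (zz N) := by
  have h1 := h.tt_symm hK hN ht
  rw [← hz] at h1
  exact h.tt_symm hN hK' h1

/-- a T-partner normalising `K` inverts `V_K` -/
theorem inv_of_norm (hK : K ∈ Om) (ht : TT U K s) (hn : cj s K = K) (hv : v ∈ U K) (hv4 : orderOf v = 4) :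
    s * v * s⁻¹ = v⁻¹ := by
  rcases h.conj_or hK (mem_normalizer_iff_cj.2 hn) hv hv4 with h1 | h1
  · exact absurd (mul_inv_eq_iff_eq_mul.1 h1) (h.tt_all hK ht hv hv4)
  · exact h1

theorem zz_inv' (hK : K ∈ Om) : (zz K)⁻¹ = zz K := h.hyp.zz_inv hK

/-- T-line -/
theorem zz_cj_line (hK : K ∈ Om) (hN : N ∈ Om) (hv : v ∈ U K) (hv4 : orderOf v = 4)
    (hi : zz N * v * (zz N)⁻¹ = v⁻¹) : zz (cj v N) = zz N * zz K := by
  rw [h.hyp.zz_cj hN]
  have h1 : zz N * v⁻¹ * (zz N)⁻¹ = v := by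
    calc zz N * v⁻¹ * (zz N)⁻¹ = (zz N * v * (zz N)⁻¹)⁻¹ := by group
      _ = v := by rw [hi, inv_inv]
  have h2 : v * zz N = zz N * v⁻¹ := (mul_inv_eq_iff_eq_mul.1 h1).symm
  rw [h2, mul_assoc, ← mul_inv_rev, h.sq_eq hK hv hv4, h.zz_inv' hK]

theorem tline (hK : K ∈ Om) (hN : N ∈ Om) (ht : TT U K (zz N)) (hn : cj (zz N) K = K) :
    ∃ L ∈ Om, zz L = zz N * zz K := by
  obtain ⟨v, hv, hv4⟩ := h.exists_v hK
  exact ⟨cj v N, h.hO N hN v, h.zz_cj_line hK hN hv hv4 (h.inv_of_norm hK ht hn hv hv4)⟩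

/-- **(W)** -/
theorem lemW (hK : K ∈ Om) (hL : L ∈ Om) (hq : q ∈ K) (hq4 : orderOf q = 4) (hc : q * zz L = zz L * q) :
    ∀ x ∈ K, x * zz L = zz L * x := by
  have h1 : q ∈ normalizer (L : Set G) := h.norm_h3 hK hL hq hq4.ge hc
  obtain ⟨u, hu, hu4⟩ := h.exists_v hL
  have h2 : q * q = zz K := h.hyp.sq_eq_zz hK hq hq4
  have h3 : zz K * u = u * zz K := by
    rw [← mul_inv_eq_iff_eq_mul, ← h2]
    rcases h.conj_or hL h1 hu hu4 with h3 | h3
    · calc q * q * u * (q * q)⁻¹ = q * (q * u * q⁻¹) * q⁻¹ := by group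
        _ = u := by rw [h3, h3]
    · calc q * q * u * (q * q)⁻¹ = q * (q * u * q⁻¹) * q⁻¹ := by group
        _ = q * u⁻¹ * q⁻¹ := by rw [h3]
        _ = (q * u * q⁻¹)⁻¹ := by group
        _ = u := by rw [h3, inv_inv]
  rcases h.comm_of_zz hL hK hu hu4 h3 with h4 | h4
  · subst h4
    exact fun x hx => h.hyp.comm_zz hL (le_normalizer hx)
  · exact fun x hx => (h4 _ (h.hyp.zz_mem hL) x hx).symm

/-- **lemma X** -/
theorem lemX (hN : N ∈ Om) (hM : M ∈ Om) (hzM : zz M = zz N * w) (hw2 : w * w = 1) (hsw : zz N * w = w * zz N)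
    (hK : K ∈ Om) (hq : q ∈ K) (hq4 : orderOf q = 4) (hqw : q * w = w * q) (hy : y ∈ K) (hyw : y * w ≠ w * y) :
    (∀ N₁ ∈ Om, zz N₁ = zz N → ∀ x ∈ N₁, x * w = w * x) ∨ MM Om (zz N) (zz N * w) := by
  have hss : zz N * zz N = 1 := h.hyp.zz_mul hN
  have hw1 : w ≠ 1 := by
    rintro rfl
    exact hyw (by rw [mul_one, one_mul])
  -- `w` is not a `zz L`
  have hW : ∀ L ∈ Om, zz L ≠ w := by
    intro L hL hz
    rw [← hz] at hqw hyw
    exact hyw (h.lemW hK hL hq hq4 hqw y hy)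
  have hc : zz M * zz N = zz N * zz M := by rw [hzM, mul_assoc, ← hsw]
  by_cases hA : ∃ N₁ ∈ Om, zz N₁ = zz N ∧ ¬ TT U N₁ (zz M)
  · left
    obtain ⟨N₁, hN₁, hz₁, ht₁⟩ := hA
    intro N₂ hN₂ hz₂ x hx
    have ht₂ : ¬ TT U N₂ (zz M) := fun ht => ht₁ (h.tt_of_zz hN₂ hN₁ (hz₁.trans hz₂.symm) hM ht)
    rcases h.comm_of_not_tt hN₂ hM (by rw [hz₂]; exact hc) ht₂ with h1 | h1
    · exfalso
      rw [h1] at hz₂
      rw [hz₂] at hzM
      exact hw1 (left_eq_mul.1 hzM)
    · have h2 := h1 x hx _ (h.hyp.zz_mem hM)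
      have h3 : x * zz N = zz N * x := by rw [← hz₂]; exact h.hyp.comm_zz hN₂ (le_normalizer hx)
      have h4 : w = zz N * zz M := by rw [hzM, ← mul_assoc, hss, one_mul]
      rw [h4, ← mul_assoc, h3, mul_assoc, h2, mul_assoc]
  · right
    push Not at hA
    refine ⟨by rw [← hzM]; exact hc.symm, ⟨N, hN, rfl⟩, ⟨M, hM, hzM⟩, ?_, ?_⟩
    · intro N₁ hN₁ hz₁ hcj
      rw [← hzM] at hcj
      obtain ⟨L, hL, hzL⟩ := h.tline hN₁ hM (hA N₁ hN₁ hz₁) hcj
      refine hW L hL ?_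
      rw [hzL, hz₁, hzM, hsw, mul_assoc, hss, mul_one]
    · intro M₁ hM₁ hz₁ hcj
      have ht : TT U M₁ (zz N) := by
        have h1 : TT U N (zz M₁) := by
          rw [hz₁, ← hzM]
          exact hA N hN rfl
        exact h.tt_symm hN hM₁ h1
      obtain ⟨L, hL, hzL⟩ := h.tline hM₁ hN ht hcj
      refine hW L hL ?_
      rw [hzL, hz₁, ← mul_assoc, hss, one_mul]

/-- **lemma S** -/
theorem exists_conj_mul (hK : K ∈ Om) (hN : N ∈ Om) (ht : TT U K (zz N)) (hn : cj (zz N) K = K) :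
    ∃ g ∈ K, ∃ v ∈ U K, orderOf v = 4 ∧ g⁻¹ * zz N * g = zz N * v := by
  obtain ⟨c, y, n, hc, hcU, hc4, hcX, hyX, hcov⟩ := h.exists_coord hK
  have hinv := h.inv_of_norm hK ht hn hcU hc4
  have hsi := h.zz_inv' hN
  rcases n with - | m
  · rw [pow_zero, pow_one] at hcU hc4 hinv
    obtain ⟨h1, h2⟩ := Cit.Nil.CV.XLevel.inv_y h.toCVW hN hK hcU hc4 hinv hc.v_mem hyX
    obtain ⟨i, hi⟩ := Cit.Nil.CV.XLevel.gen_of_odd h.toCVW hK h1 h2 hcX
    set d := (zz N * y * (zz N)⁻¹)⁻¹ * y with hd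
    obtain ⟨j, hj⟩ := hcov d h1
    refine ⟨y, hc.v_mem, d, ?_, ?_, ?_⟩
    · rw [hj]; exact (U K).pow_mem hcU j
    · apply Nat.dvd_antisymm
      · rw [hj, ← hc4]
        exact orderOf_pow_dvd j
      · rw [← hc4, hi]
        exact orderOf_dvd_of_mem_zpowers ⟨i, rfl⟩
    · rw [hd]
      have : zz N * ((zz N * y * (zz N)⁻¹)⁻¹ * y) = (zz N * zz N) * y⁻¹ * (zz N)⁻¹ * y := by group
      rw [this, h.hyp.zz_mul hN, hsi, one_mul]
  · set x := c ^ 2 ^ m with hx
    have hxX : x ∈ XX U K := (XX U K).pow_mem hcX _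
    have h1 := Cit.Nil.CV.XLevel.inv_xx h.toCVW hN hK hcU hc4 hinv hxX
    refine ⟨x, XX_le K hxX, c ^ 2 ^ (m + 1), hcU, hc4, ?_⟩
    have h2 : zz N * x⁻¹ * (zz N)⁻¹ = x := by
      calc zz N * x⁻¹ * (zz N)⁻¹ = (zz N * x * (zz N)⁻¹)⁻¹ := by group
        _ = x := by rw [h1, inv_inv]
    have h3 : x⁻¹ * zz N = zz N * x := by
      have h4 : zz N * x = x⁻¹ * zz N := mul_inv_eq_iff_eq_mul.1 h1
      exact h4.symm
    rw [h3, mul_assoc, hx, ← pow_add, ← two_mul, ← pow_succ']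

end RW

/-- the second form of (tau) -/
theorem TW.tau' (h : TW Om U) (hw : w ≠ 1) (hN : N ∈ Om) (hN' : N' ∈ Om) (hne : N ≠ N') (hz : zz N = zz N')
    (h1 : ∀ x ∈ N, x * w = w * x) (h2 : ∀ x ∈ N', x * w = w * x) (hK : K ∈ Om) (ht : TT U K (zz N)) (hv : v ∈ U K)
    (hv4 : orderOf v = 4) : v * w ≠ w * v := fun hc =>
  h.tau (h.r1 w hw) hN hN' (le_centralizer_singleton h1) (le_centralizer_singleton h2) hne hz hK ht hv hv4
    (mem_centralizer_singleton_iff.2 hc)

/-- `y ∈ K` does not commute with `v` -/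
theorem RW.exists_ny (h : RW Om U) (hK : K ∈ Om) (hv : v ∈ U K) (hv4 : orderOf v = 4) :
    ∃ y ∈ K, y * v * y⁻¹ = v⁻¹ ∧ y * v ≠ v * y := by
  obtain ⟨y, hy, hyX⟩ := h.exists_y hK
  refine ⟨y, hy, h.y_inv hK hy hyX hv, fun hc => hyX ?_⟩
  exact (h.mem_XX_iff hK hv hv4 hy).2 hc

/-- **LEMMA T** without M/M pairs -/
theorem TW.unique_of (h : TW Om U) (hMM : ∀ z s : G, ¬ MM Om z s) (hK : K ∈ Om) (hN : N ∈ Om) (ht : TT U K (zz N))
    (hN' : N' ∈ Om) (hz' : zz N' = zz N) : N' = N := by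
  by_contra hne
  obtain ⟨s, hs⟩ : ∃ s, s = zz N := ⟨_, rfl⟩
  have hss : s * s = 1 := by rw [hs]; exact h.hyp.zz_mul hN
  have hsi : s⁻¹ = s := inv_eq_of_mul_eq_one_right hss
  -- the final contradiction for the cases (i), (ii)
  have key : ∀ {w : G} {K₁ : Subgroup G} {v g : G}, K₁ ∈ Om → TT U K₁ s → v ∈ U K₁ → orderOf v = 4 →
      g⁻¹ * s * g = s * w → w * w = 1 → s * w = w * s → v * w = w * v → (∃ y ∈ K₁, y * w ≠ w * y) → False := by
    intro w K₁ v g hK₁ ht₁ hv hv4 hg hw2 hsw hvw ⟨y, hy, hyw⟩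
    have hw1 : w ≠ 1 := by
      rintro rfl
      exact hyw (by rw [mul_one, one_mul])
    have hM := h.hO N hN g⁻¹
    have hzM : zz (cj g⁻¹ N) = zz N * w := by rw [h.hyp.zz_cj hN, inv_inv, ← hs, hg]
    rcases h.lemX hN hM hzM hw2 (by rw [← hs]; exact hsw) hK₁ (h.vch.le _ hK₁ hv) hv4 hvw hy hyw with h1 | h1
    · exact h.tau' hw1 hN hN' (Ne.symm hne) hz'.symm (h1 N hN rfl) (h1 N' hN' hz') hK₁ (by rw [← hs]; exact ht₁)
        hv hv4 hvw
    · exact hMM _ _ h1
  rw [← hs] at ht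
  have htt : ∀ K₁ ∈ Om, zz K₁ = zz K → TT U K₁ s := fun K₁ hK₁ hz₁ => by
    rw [hs] at ht ⊢
    exact h.tt_of_zz hK hK₁ hz₁ hN ht
  by_cases hi : ∃ K₁ ∈ Om, zz K₁ = zz K ∧ cj s K₁ ≠ K₁
  · -- (i)
    obtain ⟨K₁, hK₁, hz₁, hmv⟩ := hi
    obtain ⟨v, hv, hv4⟩ := h.exists_v hK₁
    obtain ⟨y, hy, hyv, hyv'⟩ := h.exists_ny hK₁ hv hv4
    have ht₁ := htt K₁ hK₁ hz₁
    have hvK := h.vch.le K₁ hK₁ hv
    have hK' := h.hO K₁ hK₁ s
    have hzK' : zz (cj s K₁) = zz K₁ := by rw [h.hyp.zz_cj hK₁, ht₁.1, mul_inv_cancel_right]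
    have hcom : ∀ x ∈ K₁, ∀ y ∈ cj s K₁, x * y = y * x := fun x hx y hy =>
      h.comm_of_zz_eq hK₁ hK' hzK'.symm (Ne.symm hmv) hx hy
    obtain ⟨v', hv'⟩ : ∃ v', v' = s * v * s⁻¹ := ⟨_, rfl⟩
    have hv'K : v' ∈ cj s K₁ := by rw [hv']; exact conj_mem_cj hvK
    have hvv : v * v = zz K₁ := h.sq_eq hK₁ hv hv4
    have hvv' : v' * v' = zz K₁ := by
      rw [← hzK', hv', ← h.sq_eq hK' (h.vch.conj_mem hK₁ hv s) (orderOf_conj_four hv4 s)]
    have hc1 : ∀ x ∈ K₁, Commute x v' := fun x hx => hcom x hx _ hv'K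
    have hcv : Commute v v' := hc1 v hvK
    refine key (w := v'⁻¹ * v) (g := v) hK₁ ht₁ hv hv4 ?_ ?_ ?_ ?_ ⟨y, hy, ?_⟩
    · rw [hv', hsi]
      calc v⁻¹ * s * v = (s * s) * v⁻¹ * s * v := by rw [hss, one_mul]
        _ = s * ((s * v * s)⁻¹ * v) := by rw [mul_inv_rev, mul_inv_rev, hsi]; group
    · calc v'⁻¹ * v * (v'⁻¹ * v) = v'⁻¹ * (v * v'⁻¹) * v := by group
        _ = (v' * v')⁻¹ * (v * v) := by rw [hcv.inv_right.eq]; group
        _ = 1 := by rw [hvv', hvv, inv_mul_cancel]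
    · have e1 : s * v' * s⁻¹ = v := by
        rw [hv']
        calc s * (s * v * s⁻¹) * s⁻¹ = (s * s) * v * (s * s)⁻¹ := by group
          _ = v := by rw [hss]; group
      have e2 : s * (v'⁻¹ * v) * s⁻¹ = v'⁻¹ * v := by
        calc s * (v'⁻¹ * v) * s⁻¹ = (s * v' * s⁻¹)⁻¹ * (s * v * s⁻¹) := by group
          _ = v⁻¹ * v' := by rw [e1, ← hv']
          _ = v'⁻¹ * v := by
            have h1 : v'⁻¹ * v * (v'⁻¹ * v) = 1 := by
              calc v'⁻¹ * v * (v'⁻¹ * v) = v'⁻¹ * (v * v'⁻¹) * v := by group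
                _ = (v' * v')⁻¹ * (v * v) := by rw [hcv.inv_right.eq]; group
                _ = 1 := by rw [hvv', hvv, inv_mul_cancel]
            have h2 := eq_inv_of_mul_eq_one_right h1
            rw [mul_inv_rev, inv_inv] at h2
            exact h2.symm
      exact mul_inv_eq_iff_eq_mul.1 e2
    · exact ((hcv.inv_right).mul_right (Commute.refl v)).eq
    · intro hc
      apply hyv'
      have h1 : y * v'⁻¹ = v'⁻¹ * y := (hc1 y hy).inv_right.eq
      have h2 : v'⁻¹ * (y * v) = v'⁻¹ * (v * y) := by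
        rw [← mul_assoc, ← h1, mul_assoc, hc, mul_assoc]
      exact mul_left_cancel h2
  push Not at hi
  have hn : ∀ K₁ ∈ Om, zz K₁ = zz K → cj s K₁ = K₁ := hi
  by_cases hii : ∃ K' ∈ Om, zz K' = zz K ∧ K' ≠ K
  · -- (ii)
    obtain ⟨K', hK', hzK', hneK⟩ := hii
    have ht' := htt K' hK' hzK'
    have hcom : ∀ x ∈ K, ∀ y ∈ K', x * y = y * x := fun x hx y hy =>
      h.comm_of_zz_eq hK hK' hzK'.symm (Ne.symm hneK) hx hy
    obtain ⟨g, hg, v, hv, hv4, hgv⟩ := h.exists_conj_mul hK hN (by rw [← hs]; exact ht) (by rw [← hs]; exact hn K hK rfl)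
    obtain ⟨g', hg', v', hv', hv4', hgv'⟩ := h.exists_conj_mul hK' hN (by rw [← hs]; exact ht')
      (by rw [← hs]; exact hn K' hK' hzK')
    obtain ⟨y, hy, hyv, hyv'⟩ := h.exists_ny hK hv hv4
    rw [← hs] at hgv hgv'
    have hvK := h.vch.le K hK hv
    have hvK' := h.vch.le K' hK' hv'
    have i1 := h.inv_of_norm hK ht (hn K hK rfl) hv hv4
    have i2 := h.inv_of_norm hK' ht' (hn K' hK' hzK') hv' hv4'
    have hcv : Commute v v' := hcom v hvK v' hvK'
    have hvv : v * v = zz K := h.sq_eq hK hv hv4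
    have hvv' : v' * v' = zz K := by rw [h.sq_eq hK' hv' hv4', hzK']
    have hw2 : v' * v * (v' * v) = 1 := by
      calc v' * v * (v' * v) = v' * (v * v') * v := by group
        _ = (v' * v') * (v * v) := by rw [hcv.eq]; group
        _ = 1 := by rw [hvv', hvv, h.hyp.zz_mul hK]
    refine key (w := v' * v) (g := g * g') hK ht hv hv4 ?_ hw2 ?_ ?_ ⟨y, hy, ?_⟩
    · have e1 : g'⁻¹ * v * g' = v := by
        have := hcom v hvK g' hg'
        rw [mul_assoc, this, inv_mul_cancel_left]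
      calc (g * g')⁻¹ * s * (g * g') = g'⁻¹ * (g⁻¹ * s * g) * g' := by group
        _ = (g'⁻¹ * s * g') * (g'⁻¹ * v * g') := by rw [hgv]; group
        _ = s * (v' * v) := by rw [hgv', e1, mul_assoc]
    · rw [← mul_inv_eq_iff_eq_mul]
      have h1 := eq_inv_of_mul_eq_one_right hw2
      calc s * (v' * v) * s⁻¹ = (s * v' * s⁻¹) * (s * v * s⁻¹) := by group
        _ = (v * v')⁻¹ := by rw [i1, i2, mul_inv_rev]
        _ = (v' * v)⁻¹ := by rw [hcv.eq]
        _ = v' * v := h1.symm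
    · exact ((hcv).mul_right (Commute.refl v)).eq
    · intro hc
      apply hyv'
      have h1 : y * v' = v' * y := hcom y hy v' hvK'
      have h2 : v' * (y * v) = v' * (v * y) := by
        rw [← mul_assoc, ← h1, mul_assoc, hc, mul_assoc]
      exact mul_left_cancel h2
  -- (iii) `K` is the only member over `z`
  push Not at hii
  obtain ⟨z, hz⟩ : ∃ z, z = zz K := ⟨_, rfl⟩
  have hzz : z * z = 1 := by rw [hz]; exact h.hyp.zz_mul hK
  have hzi : z⁻¹ = z := inv_eq_of_mul_eq_one_right hzz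
  have hsz : s * z = z * s := by rw [hz]; exact ht.1
  have htN : ∀ N₁ ∈ Om, zz N₁ = zz N → TT U N₁ z := fun N₁ hN₁ hz₁ => by
    rw [hz]
    rw [hs] at ht
    exact h.tt_of_zz hN hN₁ hz₁ hK (h.tt_symm hK hN ht)
  -- the common part
  have key2 : ∀ {w : G} {N₁ : Subgroup G} {u y g : G}, N₁ ∈ Om → zz N₁ = zz N → u ∈ N₁ → orderOf u = 4 → y ∈ N₁ →
      g * s = s * g → g⁻¹ * z * g = z * w → w * w = 1 → z * w = w * z → s * w = w * s → u * w = w * u →
      y * w ≠ w * y → False := by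
    intro w N₁ u y g hN₁ hz₁ hu hu4 hy hgs hg hw2 hzw hsw huw hyw
    have hw1 : w ≠ 1 := by
      rintro rfl
      exact hyw (by rw [mul_one, one_mul])
    have hK₂ := h.hO K hK g⁻¹
    have hzK₂ : zz (cj g⁻¹ K) = zz K * w := by rw [h.hyp.zz_cj hK, inv_inv, ← hz, hg]
    obtain ⟨v, hv, hv4⟩ := h.exists_v hK
    have hsv := h.inv_of_norm hK ht (hn K hK rfl) hv hv4
    rcases h.lemX hK hK₂ hzK₂ hw2 (by rw [← hz]; exact hzw) hN₁ hu hu4 huw hy hyw with h1 | h1
    swap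
    · exact hMM _ _ h1
    have hcK : ∀ x ∈ K, x * w = w * x := h1 K hK rfl
    -- `K ⊥ K₂`
    have hKK : ∀ x ∈ K, ∀ y ∈ cj g⁻¹ K, x * y = y * x := by
      rcases h.comm_of_zz hK hK₂ hv hv4 (by
        have h2 : v * zz K = zz K * v := h.hyp.comm_zz hK (le_normalizer (h.vch.le K hK hv))
        rw [hzK₂, mul_assoc, ← hcK v (h.vch.le K hK hv), ← mul_assoc, ← h2, mul_assoc]) with h2 | h2
      · exfalso
        rw [← h2] at hzK₂
        exact hw1 (left_eq_mul.1 hzK₂)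
      · exact h2
    obtain ⟨v₂, hv₂⟩ : ∃ v₂, v₂ = g⁻¹ * v * g := ⟨_, rfl⟩
    have hv₂K : v₂ ∈ U (cj g⁻¹ K) := by
      have := h.vch.conj_mem hK hv g⁻¹
      rwa [inv_inv, ← hv₂] at this
    have hv₂4 : orderOf v₂ = 4 := by
      have := orderOf_conj_four hv4 g⁻¹
      rwa [inv_inv, ← hv₂] at this
    have hgs' : g⁻¹ * s = s * g⁻¹ := by
      rw [inv_mul_eq_iff_eq_mul, ← mul_assoc, hgs, mul_inv_cancel_right]
    have hsv₂ : s * v₂ * s⁻¹ = v₂⁻¹ := by
      rw [hv₂]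
      calc s * (g⁻¹ * v * g) * s⁻¹ = (s * g⁻¹) * v * (g * s⁻¹) := by group
        _ = g⁻¹ * (s * v * s⁻¹) * g := by
          rw [← hgs']
          have : g * s⁻¹ = s⁻¹ * g := by rw [hsi]; exact hgs
          rw [this]; group
        _ = (g⁻¹ * v * g)⁻¹ := by rw [hsv]; group
    -- `s z`, then `s w`
    have hN₃ := h.hO N₁ hN₁ v
    have hzN₃ : zz (cj v N₁) = s * z := by
      rw [h.zz_cj_line hK hN₁ hv hv4 (by rw [hz₁, ← hs]; exact hsv), hz₁, ← hs, ← hz]
    have hN₄ := h.hO _ hN₃ v₂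
    have hvv₂ : Commute v v₂ := hKK v (h.vch.le K hK hv) v₂ (h.vch.le _ hK₂ hv₂K)
    have hzv₂ : z * v₂ = v₂ * z := by
      rw [hz]; exact hKK _ (h.hyp.zz_mem hK) v₂ (h.vch.le _ hK₂ hv₂K)
    have hzN₄ : zz (cj v₂ (cj v N₁)) = zz N₁ * w := by
      rw [h.zz_cj_line hK₂ hN₃ hv₂K hv₂4, hzN₃, hzK₂, hz₁, ← hs, ← hz]
      · calc s * z * (z * w) = s * (z * z) * w := by group
          _ = s * w := by rw [hzz, mul_one]
      · rw [hzN₃]
        calc s * z * v₂ * (s * z)⁻¹ = s * (z * v₂) * z⁻¹ * s⁻¹ := by group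
          _ = s * v₂ * s⁻¹ := by rw [hzv₂]; group
          _ = v₂⁻¹ := hsv₂
    rcases h.lemX hN₁ hN₄ hzN₄ hw2 (by rw [hz₁, ← hs]; exact hsw) hN₁ hu hu4 huw hy hyw with h2 | h2
    · exact hyw (h2 N₁ hN₁ rfl y hy)
    · exact hMM _ _ h2
  by_cases hmv : ∃ N₁ ∈ Om, zz N₁ = zz N ∧ cj z N₁ ≠ N₁
  · obtain ⟨N₁, hN₁, hz₁, hmv⟩ := hmv
    obtain ⟨u, hu, hu4⟩ := h.exists_v hN₁
    obtain ⟨y, hy, hyu, hyu'⟩ := h.exists_ny hN₁ hu hu4
    have huN := h.vch.le N₁ hN₁ hu
    have hN₁' := h.hO N₁ hN₁ z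
    have hzN' : zz (cj z N₁) = zz N₁ := by
      rw [h.hyp.zz_cj hN₁, hz₁, ← hs, ← hsz, mul_inv_cancel_right]
    have hcom : ∀ x ∈ N₁, ∀ y ∈ cj z N₁, x * y = y * x := fun x hx y hy =>
      h.comm_of_zz_eq hN₁ hN₁' hzN'.symm (Ne.symm hmv) hx hy
    obtain ⟨u', hu'⟩ : ∃ u', u' = z * u * z⁻¹ := ⟨_, rfl⟩
    have hu'N : u' ∈ cj z N₁ := by rw [hu']; exact conj_mem_cj huN
    have huu : u * u = s := by rw [h.sq_eq hN₁ hu hu4, hz₁, hs]
    have huu' : u' * u' = s := by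
      rw [hu', h.sq_eq hN₁' (h.vch.conj_mem hN₁ hu z) (orderOf_conj_four hu4 z), hzN', hz₁, hs]
    have hc1 : ∀ x ∈ N₁, Commute x u' := fun x hx => hcom x hx _ hu'N
    have hcu : Commute u u' := hc1 u huN
    have hw2 : u'⁻¹ * u * (u'⁻¹ * u) = 1 := by
      calc u'⁻¹ * u * (u'⁻¹ * u) = u'⁻¹ * (u * u'⁻¹) * u := by group
        _ = (u' * u')⁻¹ * (u * u) := by rw [hcu.inv_right.eq]; group
        _ = 1 := by rw [huu', huu, inv_mul_cancel]
    refine key2 (w := u'⁻¹ * u) (g := u) hN₁ hz₁ huN hu4 hy ?_ ?_ hw2 ?_ ?_ ?_ ?_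
    · rw [← huu, mul_assoc]
    · rw [hu', hzi]
      calc u⁻¹ * z * u = (z * z) * u⁻¹ * z * u := by rw [hzz, one_mul]
        _ = z * ((z * u * z)⁻¹ * u) := by rw [mul_inv_rev, mul_inv_rev, hzi]; group
    · have e1 : z * u' * z⁻¹ = u := by
        rw [hu']
        calc z * (z * u * z⁻¹) * z⁻¹ = (z * z) * u * (z * z)⁻¹ := by group
          _ = u := by rw [hzz]; group
      rw [← mul_inv_eq_iff_eq_mul]
      calc z * (u'⁻¹ * u) * z⁻¹ = (z * u' * z⁻¹)⁻¹ * (z * u * z⁻¹) := by group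
        _ = u⁻¹ * u' := by rw [e1, ← hu']
        _ = u'⁻¹ * u := by
          have h2 := eq_inv_of_mul_eq_one_right hw2
          rw [mul_inv_rev, inv_inv] at h2
          exact h2.symm
    · have e1 : Commute s u := by rw [← huu]; exact ((Commute.refl u).mul_left (Commute.refl u))
      have e2 : Commute s u' := by rw [← huu']; exact ((Commute.refl u').mul_left (Commute.refl u'))
      exact (e2.inv_right.mul_right e1).eq
    · exact ((hcu.inv_right).mul_right (Commute.refl u)).eq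
    · intro hc
      apply hyu'
      have h1 : y * u'⁻¹ = u'⁻¹ * y := (hc1 y hy).inv_right.eq
      have h2 : u'⁻¹ * (y * u) = u'⁻¹ * (u * y) := by
        rw [← mul_assoc, ← h1, mul_assoc, hc, mul_assoc]
      exact mul_left_cancel h2
  · push Not at hmv
    have hcN := hmv N hN rfl
    have hcN' := hmv N' hN' hz'
    have htN1 := htN N hN rfl
    have htN2 := htN N' hN' hz'
    rw [hz] at htN1 htN2 hcN hcN'
    have hcom : ∀ x ∈ N, ∀ y ∈ N', x * y = y * x := fun x hx y hy =>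
      h.comm_of_zz_eq hN hN' hz'.symm (Ne.symm hne) hx hy
    obtain ⟨g, hg, v, hv, hv4, hgv⟩ := h.exists_conj_mul hN hK htN1 hcN
    obtain ⟨g', hg', v', hv', hv4', hgv'⟩ := h.exists_conj_mul hN' hK htN2 hcN'
    obtain ⟨y, hy, hyv, hyv'⟩ := h.exists_ny hN hv hv4
    rw [← hz] at hgv hgv'
    have hvK := h.vch.le N hN hv
    have hvK' := h.vch.le N' hN' hv'
    have i1 := h.inv_of_norm hN htN1 hcN hv hv4
    have i2 := h.inv_of_norm hN' htN2 hcN' hv' hv4'
    rw [← hz] at i1 i2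
    have hcv : Commute v v' := hcom v hvK v' hvK'
    have hvv : v * v = s := by rw [hs]; exact h.sq_eq hN hv hv4
    have hvv' : v' * v' = s := by rw [h.sq_eq hN' hv' hv4', hz', hs]
    have hw2 : v' * v * (v' * v) = 1 := by
      calc v' * v * (v' * v) = v' * (v * v') * v := by group
        _ = (v' * v') * (v * v) := by rw [hcv.eq]; group
        _ = 1 := by rw [hvv', hvv, hss]
    refine key2 (w := v' * v) (g := g * g') hN rfl hvK hv4 hy ?_ ?_ hw2 ?_ ?_ ?_ ?_
    · have e1 : g * s = s * g := by rw [hs]; exact h.hyp.comm_zz hN (le_normalizer hg)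
      have e2 : g' * s = s * g' := by rw [hs, ← hz']; exact h.hyp.comm_zz hN' (le_normalizer hg')
      rw [mul_assoc, e2, ← mul_assoc, e1, mul_assoc]
    · have e1 : g'⁻¹ * v * g' = v := by
        have := hcom v hvK g' hg'
        rw [mul_assoc, this, inv_mul_cancel_left]
      calc (g * g')⁻¹ * z * (g * g') = g'⁻¹ * (g⁻¹ * z * g) * g' := by group
        _ = (g'⁻¹ * z * g') * (g'⁻¹ * v * g') := by rw [hgv]; group
        _ = z * (v' * v) := by rw [hgv', e1, mul_assoc]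
    · rw [← mul_inv_eq_iff_eq_mul]
      have h1 := eq_inv_of_mul_eq_one_right hw2
      calc z * (v' * v) * z⁻¹ = (z * v' * z⁻¹) * (z * v * z⁻¹) := by group
        _ = (v * v')⁻¹ := by rw [i1, i2, mul_inv_rev]
        _ = (v' * v)⁻¹ := by rw [hcv.eq]
        _ = v' * v := h1.symm
    · have e1 : Commute s v := by rw [← hvv]; exact ((Commute.refl v).mul_left (Commute.refl v))
      have e2 : Commute s v' := by rw [← hvv']; exact ((Commute.refl v').mul_left (Commute.refl v'))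
      exact (e2.mul_right e1).eq
    · exact ((hcv).mul_right (Commute.refl v)).eq
    · intro hc
      apply hyv'
      have h1 : y * v' = v' * y := hcom y hy v' hvK'
      have h2 : v' * (y * v) = v' * (v * y) := by
        rw [← mul_assoc, ← h1, mul_assoc, hc, mul_assoc]
      exact mul_left_cancel h2

/-- **LEMMA T** without M/M pairs -/
theorem TW.lemT_of (h : TW Om U) (hMM : ∀ z s : G, ¬ MM Om z s) : LemT Om U := by
  intro K hK N hN v hv hv4 hc hne
  have ht : TT U K (zz N) := ⟨hc, v, hv, hv4, hne⟩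
  exact ⟨fun K' hK' hz => h.unique_of hMM hN hK (h.tt_symm hK hN ht) hK' hz,
    fun N' hN' hz => h.unique_of hMM hK hN ht hN' hz⟩

end Cfsg.Agent.Cit.CV1
end

-- part: Cit/Nil/CV1/LemT/Delta
section
/-!
# (6b)(CV), rank one, LEMMA T: M/M pairs, the maps `dl s q = q * q^s`

For an M/M pair `(z, s)` and `K` over `z`: `dl s` is a homomorphism on `K`, `q⁻¹ s q = s (z dl s q)` for `q` of order 4.
`TW.w_dich` : `z dl s q` centralises all members over `s` or moves all of them.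
`TW.tau2` : the second form of (tau).
-/

set_option autoImplicit false
set_option linter.style.haveILetI false
set_option linter.unusedSectionVars false

namespace Cfsg.Agent.Cit.CV1

open Subgroup Cfsg Cit Tau CV

variable {G : Type*} [Group G] [Finite G] {Om : Set (Subgroup G)} {U : Subgroup G → Subgroup G}
  {H K K' L M N N' P S : Subgroup G} {e g q s t u v w x y z : G}

/-- `q q^s` -/
def dl (s q : G) : G := q * (s * q * s⁻¹)

namespace MM

variable (h : RW Om U) (m : MM Om z s)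
include h m

theorem ss : s * s = 1 := by
  obtain ⟨N, hN, rfl⟩ := m.exs
  exact h.hyp.zz_mul hN

theorem zz' : z * z = 1 := by
  obtain ⟨N, hN, rfl⟩ := m.exz
  exact h.hyp.zz_mul hN

theorem z_ne : z ≠ 1 := by
  obtain ⟨N, hN, rfl⟩ := m.exz
  exact h.hyp.zz_ne hN

theorem s_ne : s ≠ 1 := by
  obtain ⟨N, hN, rfl⟩ := m.exs
  exact h.hyp.zz_ne hN

theorem si : s⁻¹ = s := inv_eq_of_mul_eq_one_right (m.ss h)

theorem zz_cj_s (hK : K ∈ Om) (hz : zz K = z) : zz (cj s K) = z := by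
  rw [h.hyp.zz_cj hK, hz, ← m.comm, mul_inv_cancel_right]

theorem mem_cj_s (hK : K ∈ Om) : cj s K ∈ Om := h.hO K hK s

/-- `K` and `K^s` commute -/
theorem comm_cj_s (hK : K ∈ Om) (hz : zz K = z) (hx : x ∈ K) (hy : y ∈ cj s K) : x * y = y * x :=
  h.comm_of_zz_eq hK (m.mem_cj_s h hK) (by rw [m.zz_cj_s h hK hz, hz]) (Ne.symm (m.mz K hK hz)) hx hy

theorem tt (hK : K ∈ Om) (hz : zz K = z) : TT U K s := by
  obtain ⟨v, hv, hv4⟩ := h.exists_v hK
  refine ⟨by rw [hz]; exact m.comm.symm, v, hv, hv4, fun hc => m.mz K hK hz ?_⟩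
  have h1 := h.vch.conj_mem hK hv s
  rw [hc, mul_inv_cancel_right] at h1
  exact h.eq_of_mem (m.mem_cj_s h hK) hK h1 hv hv4

theorem z_comm (hK : K ∈ Om) (hz : zz K = z) (hx : x ∈ K) : x * z = z * x := by
  rw [← hz]
  exact h.hyp.comm_zz hK (le_normalizer hx)

theorem dl_one : dl s (1 : G) = 1 := by rw [dl]; group

theorem dl_mul (hK : K ∈ Om) (hz : zz K = z) (hx : x ∈ K) (hy : y ∈ K) : dl s (x * y) = dl s x * dl s y := by
  have h1 := m.comm_cj_s h hK hz hy (conj_mem_cj (g := s) hx)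
  rw [dl, dl, dl]
  calc x * y * (s * (x * y) * s⁻¹) = x * (y * (s * x * s⁻¹)) * (s * y * s⁻¹) := by group
    _ = x * (s * x * s⁻¹) * (y * (s * y * s⁻¹)) := by rw [h1]; group

theorem dl_z : dl s z = 1 := by
  rw [dl, ← m.comm, mul_inv_cancel_right, m.zz' h]

theorem s_dl (hK : K ∈ Om) (hz : zz K = z) (hx : x ∈ K) : s * dl s x = dl s x * s := by
  have h1 := m.comm_cj_s h hK hz hx (conj_mem_cj (g := s) hx)
  have h2 : dl s x = (s * x * s⁻¹) * x := h1
  calc s * dl s x = s * (s * x * s⁻¹ * x) := by rw [h2]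
    _ = (s * s) * x * s⁻¹ * x := by group
    _ = x * s * x := by rw [m.ss h, one_mul, m.si h]
    _ = dl s x * s := by rw [dl]; group

theorem z_dl (hK : K ∈ Om) (hz : zz K = z) (hx : x ∈ K) : z * dl s x = dl s x * z := by
  have h1 : Commute z x := (m.z_comm h hK hz hx).symm
  have h2 : Commute z s := m.comm
  exact (h1.mul_right ((h2.mul_right h1).mul_right h2.inv_right)).eq

/-- `y ∈ K` acts on `dl s x` as on `x` -/
theorem comm_dl_iff (hK : K ∈ Om) (hz : zz K = z) (hx : x ∈ K) (hy : y ∈ K) :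
    y * dl s x = dl s x * y ↔ y * x = x * y := by
  have h1 : Commute y (s * x * s⁻¹) := m.comm_cj_s h hK hz hy (conj_mem_cj (g := s) hx)
  rw [dl]
  constructor
  · intro hc
    have h2 : y * x * (s * x * s⁻¹) = x * y * (s * x * s⁻¹) := by
      calc y * x * (s * x * s⁻¹) = y * (x * (s * x * s⁻¹)) := by group
        _ = x * (s * x * s⁻¹) * y := hc
        _ = x * ((s * x * s⁻¹) * y) := by group
        _ = x * (y * (s * x * s⁻¹)) := by rw [h1.eq]
        _ = x * y * (s * x * s⁻¹) := by group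
    exact mul_right_cancel h2
  · intro hc
    exact ((show Commute y x from hc).mul_right h1).eq

theorem conj_dl (hK : K ∈ Om) (hz : zz K = z) (hx : x ∈ K) (hy : y ∈ K) :
    y * dl s x * y⁻¹ = (y * x * y⁻¹) * (s * x * s⁻¹) := by
  have h1 := m.comm_cj_s h hK hz hy (conj_mem_cj (g := s) hx)
  rw [dl]
  calc y * (x * (s * x * s⁻¹)) * y⁻¹ = y * x * y⁻¹ * (y * (s * x * s⁻¹)) * y⁻¹ := by group
    _ = (y * x * y⁻¹) * (s * x * s⁻¹) := by rw [h1]; group

/-- `dl s x` commutes with the members over `z` other than `K`, `K^s` -/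
theorem comm_dl_of_ne (hK : K ∈ Om) (hz : zz K = z) (hL : L ∈ Om) (hzL : zz L = z) (h1 : L ≠ K) (h2 : L ≠ cj s K)
    (hx : x ∈ K) (hy : y ∈ L) : y * dl s x = dl s x * y := by
  have c1 : Commute y x := h.comm_of_zz_eq hL hK (by rw [hz, hzL]) h1 hy hx
  have c2 : Commute y (s * x * s⁻¹) := h.comm_of_zz_eq hL (m.mem_cj_s h hK) (by rw [m.zz_cj_s h hK hz, hzL]) h2 hy
    (conj_mem_cj hx)
  exact (c1.mul_right c2).eq

section four

variable (hK : K ∈ Om) (hz : zz K = z) (hq : q ∈ K) (hq4 : orderOf q = 4)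
include hK hz hq hq4

theorem qq : q * q = z := by rw [← hz]; exact h.hyp.sq_eq_zz hK hq hq4

theorem dl_dl : dl s q * dl s q = 1 := by
  rw [← m.dl_mul h hK hz hq hq, m.qq h hK hz hq hq4, m.dl_z h]

theorem w_w : z * dl s q * (z * dl s q) = 1 := by
  calc z * dl s q * (z * dl s q) = z * (dl s q * z) * dl s q := by group
    _ = z * z * (dl s q * dl s q) := by rw [← m.z_dl h hK hz hq]; group
    _ = 1 := by rw [m.zz' h, m.dl_dl h hK hz hq hq4, one_mul]

theorem s_w : s * (z * dl s q) = z * dl s q * s := by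
  rw [← mul_assoc, ← m.comm, mul_assoc, m.s_dl h hK hz hq, mul_assoc]

/-- `q⁻¹ s q = s (z dl s q)` -/
theorem conj_s : q⁻¹ * s * q = s * (z * dl s q) := by
  have h0 := m.qq h hK hz hq hq4
  have h1 : q⁻¹ = z * q := by
    rw [inv_eq_iff_mul_eq_one, ← mul_assoc, m.z_comm h hK hz hq, mul_assoc, h0]
    exact m.zz' h
  have h2 := m.comm_cj_s h hK hz hq (conj_mem_cj (g := s) hq)
  calc q⁻¹ * s * q = z * (q * (s * q * s⁻¹)) * s := by rw [h1]; group
    _ = z * ((s * q * s⁻¹) * q) * s := by rw [h2]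
    _ = s * (z * dl s q) := by
      rw [m.s_w h hK hz hq hq4, dl, h2]

theorem conj_s' : q * s * q⁻¹ = s * (z * dl s q) := by
  have h0 := m.qq h hK hz hq hq4
  have h1 := m.conj_s h hK hz hq hq4
  have h2 : q * q * s * (q * q)⁻¹ = s := by
    rw [h0, m.comm, mul_inv_cancel_right]
  calc q * s * q⁻¹ = q⁻¹ * (q * q * s * (q * q)⁻¹) * q := by group
    _ = _ := by rw [h2, h1]

theorem q_dl : q * dl s q = dl s q * q := (m.comm_dl_iff h hK hz hq hq).2 rfl

theorem q_w : q * (z * dl s q) = z * dl s q * q := by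
  rw [← mul_assoc, m.z_comm h hK hz hq, mul_assoc, m.q_dl h hK hz hq hq4, mul_assoc]

theorem comm_w_iff (hy : y ∈ K) : y * (z * dl s q) = z * dl s q * y ↔ y * q = q * y := by
  rw [← m.comm_dl_iff h hK hz hq hy, ← mul_assoc, m.z_comm h hK hz hy, mul_assoc, mul_assoc, mul_right_inj]

/-- some element of `K` does not commute with `q` -/
theorem exists_nc : ∃ y ∈ K, y * q ≠ q * y := by
  by_contra hcon
  push Not at hcon
  obtain ⟨v, hv, hv4⟩ := h.exists_v hK
  have hvK := h.vch.le K hK hv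
  have hqv : q ∈ U K := by
    apply h.mem_U_of_pow_four hK ((h.mem_XX_iff hK hv hv4 hq).2 (hcon v hvK).symm)
    rw [← hq4]; exact pow_orderOf_eq_one q
  obtain ⟨y, hy, -, hy'⟩ := h.exists_ny hK hqv hq4
  exact hy' (hcon y hy)

theorem w_ne : z * dl s q ≠ 1 := by
  intro h1
  obtain ⟨y, hy, hyq⟩ := m.exists_nc h hK hz hq hq4
  apply hyq
  rw [← m.comm_w_iff h hK hz hq hq4 hy, h1, mul_one, one_mul]

theorem dl_ne : dl s q ≠ 1 := by
  intro h1
  obtain ⟨y, hy, hyq⟩ := m.exists_nc h hK hz hq hq4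
  apply hyq
  rw [← m.comm_dl_iff h hK hz hq hy, h1, mul_one, one_mul]

/-- `s (z dl s q) = zz N'`, `N' = N^q` -/
theorem zz_cj_q (hN : N ∈ Om) (hzN : zz N = s) : zz (cj q⁻¹ N) = zz N * (z * dl s q) := by
  rw [h.hyp.zz_cj hN, inv_inv, hzN, m.conj_s h hK hz hq hq4]

/-- `z dl s q` centralises all members over `s` or moves all of them -/
theorem w_dich : (∀ N ∈ Om, zz N = s → ∀ x ∈ N, x * (z * dl s q) = z * dl s q * x) ∨
    ((∀ N ∈ Om, zz N = s → cj (z * dl s q) N ≠ N) ∧ MM Om s (s * (z * dl s q))) := by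
  obtain ⟨N, hN, hzN⟩ := m.exs
  obtain ⟨y, hy, hyq⟩ := m.exists_nc h hK hz hq hq4
  rcases h.lemX hN (h.hO N hN q⁻¹) (m.zz_cj_q h hK hz hq hq4 hN hzN) (m.w_w h hK hz hq hq4)
    (by rw [hzN]; exact m.s_w h hK hz hq hq4) hK hq hq4 (m.q_w h hK hz hq hq4) hy
    (fun hc => hyq ((m.comm_w_iff h hK hz hq hq4 hy).1 hc)) with h1 | h1
  · left
    intro N₁ hN₁ hz₁
    exact h1 N₁ hN₁ (hz₁.trans hzN.symm)
  · right
    rw [hzN] at h1
    refine ⟨fun N₁ hN₁ hz₁ hc => h1.mz N₁ hN₁ hz₁ ?_, h1⟩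
    rw [cj_mul, hc, ← hz₁, mem_normalizer_iff_cj.1 (le_normalizer (h.hyp.zz_mem hN₁))]

end four

end MM

/-- (tau) for M/M pairs -/
theorem TW.tau_mm (h : TW Om U) (m : MM Om z s) (he : e ≠ 1)
    (hc : ∀ N ∈ Om, zz N = s → ∀ x ∈ N, x * e = e * x) (hK : K ∈ Om) (ht : TT U K s) (hv : v ∈ U K)
    (hv4 : orderOf v = 4) : v * e ≠ e * v := by
  obtain ⟨N, hN, hzN⟩ := m.exs
  have hN' := m.symm.mem_cj_s h.toRW hN
  have hzN' := m.symm.zz_cj_s h.toRW hN hzN
  exact h.tau' he hN hN' (Ne.symm (m.ms N hN hzN)) (by rw [hzN, hzN']) (hc N hN hzN) (hc _ hN' hzN') hK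
    (by rw [hzN]; exact ht) hv hv4

/-- `z dl s v`, `v ∈ U K` of order 4, moves all members over `s` -/
theorem TW.mm_v (h : TW Om U) (m : MM Om z s) (hK : K ∈ Om) (hz : zz K = z) (hv : v ∈ U K) (hv4 : orderOf v = 4) :
    (∀ N ∈ Om, zz N = s → cj (z * dl s v) N ≠ N) ∧ MM Om s (s * (z * dl s v)) := by
  have hvK := h.vch.le K hK hv
  rcases m.w_dich h.toRW hK hz hvK hv4 with h1 | h1
  · exfalso
    exact h.tau_mm m (m.w_ne h.toRW hK hz hvK hv4) h1 hK (m.tt h.toRW hK hz) hv hv4 (m.q_w h.toRW hK hz hvK hv4)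
  · exact h1

/-- **(tau), second form**: `e ≠ 1` centralises all members over `s` and commutes with `q ∈ K` of order 4: `z dl s q`
centralises the members over `s` -/
theorem TW.tau2 (h : TW Om U) (m : MM Om z s) (he : e ≠ 1)
    (hc : ∀ N ∈ Om, zz N = s → ∀ x ∈ N, x * e = e * x) (hK : K ∈ Om) (hz : zz K = z) (hq : q ∈ K)
    (hq4 : orderOf q = 4) (hqe : q * e = e * q) (hN : N ∈ Om) (hzN : zz N = s) :
    ∀ x ∈ N, x * (z * dl s q) = z * dl s q * x := by
  have hM := h.hO N hN q⁻¹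
  have hzM := m.zz_cj_q h.toRW hK hz hq hq4 hN hzN
  rw [hzN] at hzM
  have hw := m.s_w h.toRW hK hz hq hq4
  have hMe : ∀ x ∈ cj q⁻¹ N, x * e = e * x := by
    intro x hx
    rw [mem_cj, inv_inv] at hx
    have h1 := hc N hN hzN _ hx
    have h2 : q⁻¹ * e = e * q⁻¹ := by
      rw [inv_mul_eq_iff_eq_mul, ← mul_assoc, hqe, mul_inv_cancel_right]
    calc x * e = q⁻¹ * (q * x * q⁻¹) * (q * e) := by group
      _ = q⁻¹ * ((q * x * q⁻¹) * e) * q := by rw [hqe]; group
      _ = (q⁻¹ * e) * (q * x) := by rw [h1]; group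
      _ = e * x := by rw [h2]; group
  have hcomm : zz N * zz (cj q⁻¹ N) = zz (cj q⁻¹ N) * zz N := by
    rw [hzN, hzM, mul_assoc, ← hw]
  have ht : ¬ TT U (cj q⁻¹ N) (zz N) := by
    intro ht
    obtain ⟨v, hv, hv4⟩ := h.exists_v hM
    rw [hzN] at ht
    exact h.tau_mm m he hc hM ht hv hv4 (hMe v (h.vch.le _ hM hv))
  intro x hx
  rcases h.comm_of_not_tt hM hN hcomm ht with h1 | h1
  · exfalso
    rw [h1, hzN] at hzM
    exact m.w_ne h.toRW hK hz hq hq4 (left_eq_mul.1 hzM)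
  · have h2 := h1 _ (h.hyp.zz_mem hM) x hx
    rw [hzM] at h2
    have h3 : x * s = s * x := by rw [← hzN]; exact h.hyp.comm_zz hN (le_normalizer hx)
    have h4 : s * (x * (z * dl s q)) = s * (z * dl s q * x) := by
      calc s * (x * (z * dl s q)) = (x * s) * (z * dl s q) := by rw [h3]; group
        _ = x * (s * (z * dl s q)) := by group
        _ = s * (z * dl s q) * x := h2.symm
        _ = s * (z * dl s q * x) := by group
    exact mul_left_cancel h4

end Cfsg.Agent.Cit.CV1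
end

-- part: Cit/Nil/CV1/LemT/Count
section
/-!
# (6b)(CV), rank one, LEMMA T: counting

`(z, s)` an M/M pair.  `ov Om z` = the members over `z`.  `WF U s z F` = `⟨z dl s v_K | K ∈ F⟩`.
`TW.card_le` : `2 ^ |F| ≤ |ov Om s|` for `F ⊆ ov Om z` with `F ∩ F^s = ∅`; `TW.ncard_le_four`.
`TW.two_of_four` : `|ov Om s| ≤ 4` implies `ov Om z = {K, K^s}`.
-/

set_option autoImplicit false
set_option linter.style.haveILetI false
set_option linter.unusedSectionVars false

namespace Cfsg.Agent.Cit.CV1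

open Subgroup Cfsg Cit Tau CV

variable {G : Type*} [Group G] [Finite G] {Om : Set (Subgroup G)} {U : Subgroup G → Subgroup G}
  {H K K' L M N N' P S : Subgroup G} {e g q s t u v w x y z : G} {F : Set (Subgroup G)}

/-- the members over `z` -/
def ov (Om : Set (Subgroup G)) (z : G) : Set (Subgroup G) := {K | K ∈ Om ∧ zz K = z}

/-- the subgroup generated by the `V_K`, `K` over `z` -/
def AV (Om : Set (Subgroup G)) (U : Subgroup G → Subgroup G) (z : G) : Subgroup G :=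
  closure {v | ∃ K ∈ ov Om z, v ∈ U K}

/-- generated by the `z dl s v_K`, `K ∈ F` -/
def WV (U : Subgroup G → Subgroup G) (z s : G) (F : Set (Subgroup G)) : Subgroup G :=
  closure {w | ∃ K ∈ F, ∃ v ∈ U K, orderOf v = 4 ∧ w = z * dl s v}

/-- admissible sets -/
def Adm (Om : Set (Subgroup G)) (z s : G) (F : Set (Subgroup G)) : Prop :=
  ∀ K ∈ F, K ∈ ov Om z ∧ cj s K ∉ F

theorem Adm.mono (h : Adm Om z s F) {F' : Set (Subgroup G)} (hF : F' ⊆ F) : Adm Om z s F' :=
  fun K hK => ⟨(h K (hF hK)).1, fun h1 => (h K (hF hK)).2 (hF h1)⟩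

section

variable (h : RW Om U) (m : MM Om z s)
include h

theorem RW.av_comm {a b : G} (ha : a ∈ AV Om U z) (hb : b ∈ AV Om U z) : a * b = b * a := by
  have h0 : ∀ K ∈ ov Om z, ∀ L ∈ ov Om z, ∀ v ∈ U K, ∀ w ∈ U L, v * w = w * v := by
    intro K hK L hL v hv w hw
    by_cases hKL : K = L
    · subst hKL
      obtain ⟨v₀, hv₀, hv₀4⟩ := h.exists_v hK.1
      obtain ⟨i, rfl⟩ := h.exists_pw_U hK.1 hv₀ hv₀4 hv
      obtain ⟨j, rfl⟩ := h.exists_pw_U hK.1 hv₀ hv₀4 hw
      exact pw_pw_comm i j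
    · exact h.comm_of_zz_eq hK.1 hL.1 (hK.2.trans hL.2.symm) hKL (h.vch.le K hK.1 hv) (h.vch.le L hL.1 hw)
  have h1 : AV Om U z ≤ centralizer {v | ∃ K ∈ ov Om z, v ∈ U K} := by
    rw [AV, closure_le]
    rintro v ⟨K, hK, hv⟩
    rw [SetLike.mem_coe, mem_centralizer_iff]
    rintro w ⟨L, hL, hw⟩
    exact h0 L hL K hK w hw v hv
  have h2 : AV Om U z ≤ centralizer ({a} : Set G) := by
    rw [AV, closure_le]
    intro v hv
    rw [SetLike.mem_coe, mem_centralizer_singleton_iff]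
    exact mem_centralizer_iff.1 (h1 ha) v hv
  exact (mem_centralizer_singleton_iff.1 (h2 hb)).symm

include m

theorem MM.cj_cj_s (K : Subgroup G) : cj s (cj s K) = K := by
  rw [← cj_mul, m.ss h, cj_one]

theorem MM.cj_mem_ov (hK : K ∈ ov Om z) : cj s K ∈ ov Om z := ⟨m.mem_cj_s h hK.1, m.zz_cj_s h hK.1 hK.2⟩

theorem MM.w_mem_av (hK : K ∈ ov Om z) (hv : v ∈ U K) (hv4 : orderOf v = 4) : z * dl s v ∈ AV Om U z := by
  have h1 : v ∈ AV Om U z := subset_closure ⟨K, hK, hv⟩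
  have h2 : s * v * s⁻¹ ∈ AV Om U z := subset_closure ⟨cj s K, m.cj_mem_ov h hK, h.vch.conj_mem hK.1 hv s⟩
  have h3 : z ∈ AV Om U z := by
    have h4 := mul_mem h1 h1
    rwa [m.qq h hK.1 hK.2 (h.vch.le K hK.1 hv) hv4] at h4
  exact mul_mem h3 (mul_mem h1 h2)

theorem MM.wv_le (hF : Adm Om z s F) : WV U z s F ≤ AV Om U z := by
  rw [WV, closure_le]
  rintro w ⟨K, hK, v, hv, hv4, rfl⟩
  exact m.w_mem_av h (hF K hK).1 hv hv4

/-- the elements of `WV U z s F` -/
theorem MM.wv_spec (hF : Adm Om z s F) (hw : w ∈ WV U z s F) :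
    w * w = 1 ∧ s * w = w * s ∧ ∃ a ∈ AV Om U z, a⁻¹ * s * a = s * w := by
  induction hw using closure_induction with
  | mem w hw =>
    obtain ⟨K, hK, v, hv, hv4, rfl⟩ := hw
    obtain ⟨⟨hK, hz⟩, -⟩ := hF K hK
    have hvK := h.vch.le K hK hv
    exact ⟨m.w_w h hK hz hvK hv4, m.s_w h hK hz hvK hv4, v, subset_closure ⟨K, ⟨hK, hz⟩, hv⟩, m.conj_s h hK hz hvK hv4⟩
  | one => exact ⟨one_mul 1, by rw [mul_one, one_mul], 1, one_mem _, by group⟩
  | mul w₁ w₂ hw₁ hw₂ ih₁ ih₂ =>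
    obtain ⟨h1, h2, a₁, ha₁, h3⟩ := ih₁
    obtain ⟨h1', h2', a₂, ha₂, h3'⟩ := ih₂
    have hA₁ := m.wv_le h hF hw₁
    have hA₂ := m.wv_le h hF hw₂
    have hc := h.av_comm hA₁ hA₂
    refine ⟨?_, ?_, a₁ * a₂, mul_mem ha₁ ha₂, ?_⟩
    · calc w₁ * w₂ * (w₁ * w₂) = w₁ * (w₂ * w₁) * w₂ := by group
        _ = (w₁ * w₁) * (w₂ * w₂) := by rw [← hc]; group
        _ = 1 := by rw [h1, h1', one_mul]
    · rw [← mul_assoc, h2, mul_assoc, h2', mul_assoc]
    · calc (a₁ * a₂)⁻¹ * s * (a₁ * a₂) = a₂⁻¹ * (a₁⁻¹ * s * a₁) * a₂ := by group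
        _ = (a₂⁻¹ * s * a₂) * (a₂⁻¹ * (w₁ * a₂)) := by rw [h3]; group
        _ = s * w₂ * w₁ := by rw [h3', h.av_comm hA₁ ha₂, inv_mul_cancel_left]
        _ = s * (w₁ * w₂) := by rw [hc, mul_assoc]
  | inv w hw ih =>
    obtain ⟨h1, h2, a, ha, h3⟩ := ih
    have h4 : w⁻¹ = w := inv_eq_of_mul_eq_one_right h1
    rw [h4]
    exact ⟨h1, h2, a, ha, h3⟩

/-- `WV F` centralises `K` if `K, K^s ∉ F` -/
theorem MM.wv_comm (hF : Adm Om z s F) (hK : K ∈ ov Om z) (h1 : K ∉ F) (h2 : cj s K ∉ F) (hw : w ∈ WV U z s F)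
    (hy : y ∈ K) : y * w = w * y := by
  induction hw using closure_induction with
  | mem w hw =>
    obtain ⟨L, hL, v, hv, hv4, rfl⟩ := hw
    obtain ⟨⟨hLO, hz⟩, -⟩ := hF L hL
    have h3 := m.comm_dl_of_ne h hLO hz hK.1 hK.2 (by rintro rfl; exact h1 hL)
      (by rintro rfl; rw [m.cj_cj_s h L] at h2; exact h2 hL) (h.vch.le L hLO hv) hy
    rw [← mul_assoc, m.z_comm h hK.1 hK.2 hy, mul_assoc, h3, mul_assoc]
  | one => rw [mul_one, one_mul]
  | mul w₁ w₂ _ _ ih₁ ih₂ => rw [← mul_assoc, ih₁, mul_assoc, ih₂, mul_assoc]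
  | inv w _ ih => exact (Commute.inv_right (show Commute y w from ih)).eq

end

/-- the elements `≠ 1` of `WV F` do not centralise all `K ∈ F`, and `2 ^ |F| ≤ |WV F|` -/
theorem MM.wv_main (h : RW Om U) (m : MM Om z s) (hfin : F.Finite) : Adm Om z s F →
    (∀ w ∈ WV U z s F, w ≠ 1 → ∃ K ∈ F, ∃ y ∈ K, y * w ≠ w * y) ∧ 2 ^ F.ncard ≤ Nat.card (WV U z s F) := by
  induction F, hfin using Set.Finite.induction_on with
  | empty =>
    intro _
    have h1 : WV U z s ∅ = ⊥ := by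
      rw [WV, closure_eq_bot_iff]
      rintro w ⟨K, hK, -⟩
      exact absurd hK (Set.notMem_empty K)
    rw [h1]
    refine ⟨fun w hw hw1 => absurd (mem_bot.1 hw) hw1, ?_⟩
    rw [Set.ncard_empty, pow_zero]
    exact Nat.card_pos
  | @insert K F hKF hF ih =>
    intro hA
    have hAF : Adm Om z s F := hA.mono (Set.subset_insert _ _)
    obtain ⟨ih1, ih2⟩ := ih hAF
    obtain ⟨⟨hK, hz⟩, hKs⟩ := hA K (Set.mem_insert _ _)
    have hKs' : cj s K ∉ F := fun h1 => hKs (Set.mem_insert_of_mem _ h1)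
    obtain ⟨v, hv, hv4⟩ := h.exists_v hK
    have hvK := h.vch.le K hK hv
    obtain ⟨y, hy, -, hyv⟩ := h.exists_ny hK hv hv4
    obtain ⟨w₀, hw₀⟩ : ∃ w₀, w₀ = z * dl s v := ⟨_, rfl⟩
    have hyw : y * w₀ ≠ w₀ * y := fun hc => hyv ((m.comm_w_iff h hK hz hvK hv4 hy).1 (by rw [← hw₀]; exact hc))
    have hw₀w : w₀ * w₀ = 1 := by rw [hw₀]; exact m.w_w h hK hz hvK hv4
    have hcF : ∀ w ∈ WV U z s F, y * w = w * y := fun w hw => m.wv_comm h hAF ⟨hK, hz⟩ hKF hKs' hw hy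
    have hle : WV U z s F ≤ WV U z s (insert K F) := by
      apply Subgroup.closure_mono
      rintro w ⟨L, hL, hw⟩
      exact ⟨L, Set.mem_insert_of_mem _ hL, hw⟩
    have hw₀' : w₀ ∈ WV U z s (insert K F) := subset_closure ⟨K, Set.mem_insert _ _, v, hv, hv4, hw₀⟩
    have hw₀n : w₀ ∉ WV U z s F := fun h1 => hyw (hcF w₀ h1)
    -- the elements
    have helt : ∀ w ∈ WV U z s (insert K F), w ∈ WV U z s F ∨ ∃ w' ∈ WV U z s F, w = w₀ * w' := by
      have hcomm : ∀ w' ∈ WV U z s F, w' * w₀ = w₀ * w' := fun w' hw' =>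
        h.av_comm (m.wv_le h hAF hw') (by rw [hw₀]; exact m.w_mem_av h ⟨hK, hz⟩ hv hv4)
      intro w hw
      induction hw using closure_induction with
      | mem w hw =>
        obtain ⟨L, hL, v', hv', hv'4, rfl⟩ := hw
        rcases hL with rfl | hL
        · right
          refine ⟨1, one_mem _, ?_⟩
          rw [mul_one, hw₀]
          rcases h.eq_or_inv hK hv hv4 hv' hv'4 with rfl | rfl
          · rfl
          · have h1 : v⁻¹ = v * z := by
              rw [inv_eq_iff_mul_eq_one, ← mul_assoc, m.qq h hK hz hvK hv4, m.zz' h]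
            have hzK : z ∈ L := by rw [← hz]; exact h.hyp.zz_mem hK
            rw [h1, m.dl_mul h hK hz hvK hzK, m.dl_z h, mul_one]
        · left
          exact subset_closure ⟨L, hL, v', hv', hv'4, rfl⟩
      | one => exact Or.inl (one_mem _)
      | mul a b _ _ iha ihb =>
        rcases iha with iha | ⟨a', ha', rfl⟩
        · rcases ihb with ihb | ⟨b', hb', rfl⟩
          · exact Or.inl (mul_mem iha ihb)
          · exact Or.inr ⟨a * b', mul_mem iha hb', by rw [← mul_assoc, hcomm a iha, mul_assoc]⟩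
        · rcases ihb with ihb | ⟨b', hb', rfl⟩
          · exact Or.inr ⟨a' * b, mul_mem ha' ihb, by rw [mul_assoc]⟩
          · left
            have h1 : w₀ * a' * (w₀ * b') = a' * b' := by
              calc w₀ * a' * (w₀ * b') = w₀ * (a' * w₀) * b' := by group
                _ = (w₀ * w₀) * (a' * b') := by rw [hcomm a' ha']; group
                _ = a' * b' := by rw [hw₀w, one_mul]
            rw [h1]
            exact mul_mem ha' hb'
      | inv a _ iha =>
        rcases iha with iha | ⟨a', ha', rfl⟩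
        · exact Or.inl (inv_mem iha)
        · refine Or.inr ⟨a'⁻¹, inv_mem ha', ?_⟩
          rw [mul_inv_rev, inv_eq_of_mul_eq_one_right hw₀w]
          exact hcomm _ (inv_mem ha')
    refine ⟨?_, ?_⟩
    · intro w hw hw1
      rcases helt w hw with h1 | ⟨w', hw', rfl⟩
      · obtain ⟨L, hL, h2⟩ := ih1 w h1 hw1
        exact ⟨L, Set.mem_insert_of_mem _ hL, h2⟩
      · refine ⟨K, Set.mem_insert _ _, y, hy, fun hc => hyw ?_⟩
        have h2 := hcF w' hw'
        have h3 : y * w₀ * w' = w₀ * y * w' := by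
          calc y * w₀ * w' = y * (w₀ * w') := by group
            _ = w₀ * w' * y := hc
            _ = w₀ * (w' * y) := by group
            _ = w₀ * y * w' := by rw [← h2]; group
        exact mul_right_cancel h3
    · rw [Set.ncard_insert_of_notMem hKF hF, pow_succ]
      have h1 : Nat.card (WV U z s F) * (WV U z s F).relIndex (WV U z s (insert K F)) =
          Nat.card (WV U z s (insert K F)) := by
        rw [← relIndex_bot_left (WV U z s F), relIndex_mul_relIndex ⊥ _ _ bot_le hle, relIndex_bot_left]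
      rw [← h1]
      refine Nat.mul_le_mul ih2 ?_
      by_contra h2
      have h3 : (WV U z s F).relIndex (WV U z s (insert K F)) ≠ 0 :=
        index_ne_zero_of_finite (H := (WV U z s F).subgroupOf (WV U z s (insert K F)))
      have h4 : (WV U z s F).relIndex (WV U z s (insert K F)) = 1 := by omega
      rw [relIndex_eq_one] at h4
      exact hw₀n (h4 hw₀')

/-- `WV F` acts semiregularly on the members over `s` -/
theorem TW.wv_move (h : TW Om U) (m : MM Om z s) (hF : Adm Om z s F) (hw : w ∈ WV U z s F) (hw1 : w ≠ 1)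
    (hN : N ∈ ov Om s) : cj w N ≠ N := by
  obtain ⟨K, hKF, y, hy, hyw⟩ := (m.wv_main h.toRW (Set.toFinite F) hF).1 w hw hw1
  obtain ⟨⟨hK, hz⟩, -⟩ := hF K hKF
  obtain ⟨h1, h2, a, ha, h3⟩ := m.wv_spec h.toRW hF hw
  obtain ⟨v, hv, hv4⟩ := h.exists_v hK
  have hvw : v * w = w * v := h.av_comm (subset_closure ⟨K, ⟨hK, hz⟩, hv⟩) (m.wv_le h.toRW hF hw)
  have hzM : zz (cj a⁻¹ N) = zz N * w := by rw [h.hyp.zz_cj hN.1, inv_inv, hN.2, h3]
  rcases h.lemX hN.1 (h.hO N hN.1 a⁻¹) hzM h1 (by rw [hN.2]; exact h2) hK (h.vch.le K hK hv) hv4 hvw hy hyw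
    with h4 | h4
  · exfalso
    refine h.tau_mm m hw1 (fun N₁ hN₁ hz₁ => h4 N₁ hN₁ (hz₁.trans hN.2.symm)) hK (m.tt h.toRW hK hz) hv hv4 hvw
  · intro hc
    apply h4.mz N hN.1 rfl
    rw [cj_mul, hc, mem_normalizer_iff_cj.1 (le_normalizer (h.hyp.zz_mem hN.1))]

theorem TW.card_le (h : TW Om U) (m : MM Om z s) (hF : Adm Om z s F) : 2 ^ F.ncard ≤ (ov Om s).ncard := by
  refine ((m.wv_main h.toRW (Set.toFinite F) hF).2).trans ?_
  obtain ⟨N, hN, hzN⟩ := m.exs
  rw [← Nat.card_coe_set_eq]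
  refine Nat.card_le_card_of_injective (fun w : WV U z s F => (⟨cj (w : G) N, h.hO N hN _, ?_⟩ : ov Om s)) ?_
  · have h1 := (m.wv_spec h.toRW hF w.2).2.1
    rw [h.hyp.zz_cj hN, hzN, ← h1, mul_inv_cancel_right]
  · intro w₁ w₂ hw
    have h1 : cj (w₁ : G) N = cj (w₂ : G) N := congrArg Subtype.val hw
    by_contra hne
    refine h.wv_move m hF (mul_mem (inv_mem w₂.2) w₁.2) ?_ ⟨hN, hzN⟩ (w := (w₂ : G)⁻¹ * (w₁ : G)) ?_
    · intro h2
      exact hne (Subtype.ext (inv_mul_eq_one.1 h2).symm)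
    · rw [cj_mul, h1, cj_inv_cj]

/-- a maximal admissible set -/
theorem MM.exists_adm (h : RW Om U) (m : MM Om z s) : ∃ F, Adm Om z s F ∧ (ov Om z).ncard ≤ 2 * F.ncard := by
  obtain ⟨F, hF⟩ := (Set.toFinite {F : Set (Subgroup G) | Adm Om z s F}).exists_maximal
    ⟨∅, fun K hK => absurd hK (Set.notMem_empty K)⟩
  refine ⟨F, hF.1, ?_⟩
  have h1 : ov Om z ⊆ F ∪ cj s '' F := by
    intro K hK
    by_contra hcon
    rw [Set.mem_union, not_or] at hcon
    obtain ⟨h2, h3⟩ := hcon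
    have h4 : Adm Om z s (insert K F) := by
      rintro L (rfl | hL)
      · refine ⟨hK, ?_⟩
        rintro (h5 | h5)
        · exact m.mz L hK.1 hK.2 h5
        · exact h3 ⟨cj s L, h5, m.cj_cj_s h L⟩
      · obtain ⟨h5, h6⟩ := hF.1 L hL
        refine ⟨h5, ?_⟩
        rintro (h7 | h7)
        · apply h3
          exact ⟨L, hL, h7⟩
        · exact h6 h7
    exact h2 (hF.2 h4 (Set.subset_insert _ _) (Set.mem_insert _ _))
  calc (ov Om z).ncard ≤ (F ∪ cj s '' F).ncard := Set.ncard_le_ncard h1 (Set.toFinite _)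
    _ ≤ F.ncard + (cj s '' F).ncard := Set.ncard_union_le _ _
    _ ≤ F.ncard + F.ncard := by
      have := Set.ncard_image_le (f := cj s) (Set.toFinite F)
      omega
    _ = 2 * F.ncard := by ring

theorem TW.ncard_le_four (h : TW Om U) (m : MM Om z s) (heq : (ov Om z).ncard = (ov Om s).ncard) :
    (ov Om s).ncard ≤ 4 := by
  obtain ⟨F, hF, h1⟩ := m.exists_adm h.toRW
  have h2 := h.card_le m hF
  have h3 : 2 ^ F.ncard ≤ 2 * F.ncard := by omega
  have h4 : F.ncard ≤ 2 := by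
    by_contra h5
    obtain ⟨k, hk⟩ : ∃ k, F.ncard = k + 3 := ⟨F.ncard - 3, by omega⟩
    rw [hk] at h3
    have h6 : k < 2 ^ k := Nat.lt_two_pow_self
    have h7 : 2 ^ (k + 3) = 8 * 2 ^ k := by ring
    omega
  omega

/-- replacing `(z, s)` by `(s, s^v)` -/
theorem TW.exists_mm_eq (h : TW Om U) (m : MM Om z s) : ∃ z' s' : G, MM Om z' s' ∧ (ov Om z').ncard = (ov Om s').ncard := by
  obtain ⟨K, hK, hz⟩ := m.exz
  obtain ⟨v, hv, hv4⟩ := h.exists_v hK
  have hvK := h.vch.le K hK hv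
  obtain ⟨-, m'⟩ := h.mm_v m hK hz hv hv4
  refine ⟨_, _, m', ?_⟩
  rw [← m.conj_s h.toRW hK hz hvK hv4]
  have h1 : ov Om (v⁻¹ * s * v) = cj v⁻¹ '' ov Om s := by
    ext N
    constructor
    · rintro ⟨hN, hzN⟩
      refine ⟨cj v N, ⟨h.hO N hN v, ?_⟩, cj_inv_cj v N⟩
      rw [h.hyp.zz_cj hN, hzN]
      group
    · rintro ⟨N, ⟨hN, hzN⟩, rfl⟩
      refine ⟨h.hO N hN _, ?_⟩
      rw [h.hyp.zz_cj hN, hzN, inv_inv]
  rw [h1, Set.ncard_image_of_injective _ (cj_injective v⁻¹)]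

/-! ### `|ov Om s| ≤ 4` implies `ov Om z = {K, K^s}` -/

/-- if there are further members over `z`, all `z dl s q` move all members over `s` -/
theorem TW.mv_of_ne (h : TW Om U) (m : MM Om z s) (hK : K ∈ ov Om z) (hL : L ∈ ov Om z) (h1 : L ≠ K)
    (h2 : L ≠ cj s K) (hq : q ∈ K) (hq4 : orderOf q = 4) (hN : N ∈ ov Om s) : cj (z * dl s q) N ≠ N := by
  rcases m.w_dich h.toRW hK.1 hK.2 hq hq4 with h3 | h3
  · exfalso
    obtain ⟨u, hu, hu4⟩ := h.exists_v hL.1
    have huL := h.vch.le L hL.1 hu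
    refine h.tau_mm m (m.w_ne h.toRW hK.1 hK.2 hq hq4) h3 hL.1 (m.tt h.toRW hL.1 hL.2) hu hu4 ?_
    rw [← mul_assoc, m.z_comm h.toRW hL.1 hL.2 huL, mul_assoc,
      m.comm_dl_of_ne h.toRW hK.1 hK.2 hL.1 hL.2 h1 h2 hq huL, mul_assoc]
  · exact h3.1 N hN.1 hN.2

theorem MM.cj_dl_mem (h : RW Om U) (m : MM Om z s) (hK : K ∈ ov Om z) (hx : x ∈ K) (hN : N ∈ ov Om s) :
    cj (dl s x) N ∈ ov Om s := by
  refine ⟨h.hO N hN.1 _, ?_⟩
  rw [h.hyp.zz_cj hN.1, hN.2, ← m.s_dl h hK.1 hK.2 hx, mul_inv_cancel_right]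

/-- some `dl s q`, `q ∈ K` of order 4, fixes `N` -/
theorem TW.exists_fix (h : TW Om U) (m : MM Om z s) (h4 : (ov Om s).ncard ≤ 4) (hK : K ∈ ov Om z)
    (hL : L ∈ ov Om z) (h1 : L ≠ K) (h2 : L ≠ cj s K) (hN : N ∈ ov Om s) :
    ∃ q ∈ K, orderOf q = 4 ∧ cj (dl s q) N = N := by
  by_contra hcon
  push Not at hcon
  obtain ⟨v, hv, hv4⟩ := h.exists_v hK.1
  obtain ⟨y, hy, hyX⟩ := h.exists_y hK.1
  have hvK := h.vch.le K hK.1 hv
  have hy4 := (h.y_facts hK.1 hy hyX).2.1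
  have hvyX : v * y ∉ XX U K := fun hh => hyX (by
    have := (XX U K).mul_mem ((XX U K).inv_mem (h.U_le_XX hK.1 hv)) hh
    rwa [inv_mul_cancel_left] at this)
  have hvy := K.mul_mem hvK hy
  have hvy4 := (h.y_facts hK.1 hvy hvyX).2.1
  have hd := m.dl_mul h.toRW hK.1 hK.2 hvK hy
  obtain ⟨a, ha⟩ : ∃ a, a = dl s v := ⟨_, rfl⟩
  obtain ⟨b, hb⟩ : ∃ b, b = dl s y := ⟨_, rfl⟩
  have a1 := hcon v hvK hv4
  have a2 := hcon y hy hy4
  have a3 := hcon _ hvy hvy4
  have b1 := h.mv_of_ne m hK hL h1 h2 hvK hv4 hN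
  have b2 := h.mv_of_ne m hK hL h1 h2 hy hy4 hN
  have b3 := h.mv_of_ne m hK hL h1 h2 hvy hvy4 hN
  have c1 := m.cj_dl_mem h.toRW hK hvK hN
  have c2 := m.cj_dl_mem h.toRW hK hy hN
  have haa := m.dl_dl h.toRW hK.1 hK.2 hvK hv4
  have hza := m.z_dl h.toRW hK.1 hK.2 hvK
  rw [hd] at a3 b3
  rw [← ha] at a1 b1 c1 haa hza a3 b3
  rw [← hb] at a2 b2 c2 a3 b3
  have hzz := m.zz' h.toRW
  have hcz : ∀ M : Subgroup G, cj z (cj z M) = M := fun M => by rw [← cj_mul, hzz, cj_one]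
  have hca : ∀ M : Subgroup G, cj a (cj a M) = M := fun M => by rw [← cj_mul, haa, cj_one]
  have hzca : ∀ M : Subgroup G, cj z (cj a M) = cj a (cj z M) := fun M => by rw [← cj_mul, ← cj_mul, hza]
  have hov : ∀ M ∈ ov Om s, cj z M ∈ ov Om s := fun M hM => m.symm.cj_mem_ov h.toRW hM
  have hmv : ∀ M ∈ ov Om s, cj z M ≠ M := fun M hM => m.ms M hM.1 hM.2
  have hmv2 : ∀ {x : G}, cj (z * x) N ≠ N → cj x N ≠ cj z N := by
    intro x hx hh
    apply hx
    rw [cj_mul, hh, hcz]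
  have b1' := hmv2 b1
  have b2' := hmv2 b2
  have b3' := hmv2 b3
  obtain ⟨N₁, hN₁⟩ : ∃ N₁, N₁ = cj a N := ⟨_, rfl⟩
  rw [← hN₁] at a1 b1' c1
  -- four members
  have hall : ∀ M ∈ ov Om s, M = N ∨ M = cj z N ∨ M = N₁ ∨ M = cj z N₁ := by
    intro M hM
    by_contra hh
    push Not at hh
    obtain ⟨e1, e2, e3, e4⟩ := hh
    have n1 : N₁ ≠ N := a1
    have n2 : N₁ ≠ cj z N := b1'
    have n3 : cj z N₁ ≠ N := fun hh => n2 (by rw [← hcz N₁, hh])
    have n4 : cj z N₁ ≠ cj z N := fun hh => n1 (cj_inj.1 hh)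
    have hS : ({M, N, cj z N, N₁, cj z N₁} : Set (Subgroup G)) ⊆ ov Om s := by
      rintro A (rfl | rfl | rfl | rfl | rfl)
      · exact hM
      · exact hN
      · exact hov N hN
      · exact c1
      · exact hov N₁ c1
    have hc := Set.ncard_le_ncard hS (Set.toFinite _)
    have h5 : ({M, N, cj z N, N₁, cj z N₁} : Set (Subgroup G)).ncard = 5 := by
      rw [Set.ncard_insert_of_notMem, Set.ncard_insert_of_notMem, Set.ncard_insert_of_notMem,
        Set.ncard_pair (hmv N₁ c1).symm]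
      · simp only [Set.mem_insert_iff, Set.mem_singleton_iff, not_or]
        exact ⟨n2.symm, n4.symm⟩
      · simp only [Set.mem_insert_iff, Set.mem_singleton_iff, not_or]
        exact ⟨(hmv N hN).symm, n1.symm, n3.symm⟩
      · simp only [Set.mem_insert_iff, Set.mem_singleton_iff, not_or]
        exact ⟨e1, e2, e3, e4⟩
    omega
  have d3 : cj (a * b) N ∈ ov Om s := by
    have := m.cj_dl_mem h.toRW hK hvy hN
    rwa [hd, ← ha, ← hb] at this
  have f2 : cj b N = N₁ ∨ cj b N = cj z N₁ := by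
    rcases hall _ c2 with hh | hh | hh | hh
    · exact absurd hh a2
    · exact absurd hh b2'
    · exact Or.inl hh
    · exact Or.inr hh
  have f3 : cj (a * b) N = N ∨ cj (a * b) N = cj z N := by
    rw [cj_mul]
    rcases f2 with hh | hh
    · left; rw [hh, hN₁, hca]
    · right; rw [hh, hN₁, ← hzca, hca]
  rcases f3 with hh | hh
  · exact a3 hh
  · exact b3' hh

/-- `|ov Om s| ≤ 4` : `ov Om z = {K, K^s}` -/
theorem TW.two_of_four (h : TW Om U) (m : MM Om z s) (h4 : (ov Om s).ncard ≤ 4) (hK : K ∈ ov Om z) (hL : L ∈ ov Om z) :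
    L = K ∨ L = cj s K := by
  by_contra hcon
  push Not at hcon
  obtain ⟨h1, h2⟩ := hcon
  obtain ⟨N, hN, hzN⟩ := m.exs
  have h1' : K ≠ L := h1.symm
  have h2' : K ≠ cj s L := fun hh => h2 (by rw [hh, m.cj_cj_s h.toRW])
  obtain ⟨q₁, hq₁, hq₁4, hf₁⟩ := h.exists_fix m h4 hK hL h1 h2 ⟨hN, hzN⟩
  obtain ⟨q₂, hq₂, hq₂4, hf₂⟩ := h.exists_fix m h4 hL hK h1' h2' ⟨hN, hzN⟩
  have hmv := h.mv_of_ne m hK hL h1 h2 hq₁ hq₁4 ⟨hN, hzN⟩
  obtain ⟨a, ha⟩ : ∃ a, a = dl s q₁ := ⟨_, rfl⟩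
  obtain ⟨b, hb⟩ : ∃ b, b = dl s q₂ := ⟨_, rfl⟩
  have hLs := m.cj_mem_ov h.toRW hL
  -- `b` commutes with `K`
  have hbK : ∀ x ∈ K, x * b = b * x := fun x hx => by
    rw [hb]; exact m.comm_dl_of_ne h.toRW hL.1 hL.2 hK.1 hK.2 h1' h2' hq₂ hx
  have haL : ∀ x ∈ L, x * a = a * x := fun x hx => by
    rw [ha]; exact m.comm_dl_of_ne h.toRW hK.1 hK.2 hL.1 hL.2 h1 h2 hq₁ hx
  have hsb : s * b = b * s := by rw [hb]; exact m.s_dl h.toRW hL.1 hL.2 hq₂
  have hsa : s * a = a * s := by rw [ha]; exact m.s_dl h.toRW hK.1 hK.2 hq₁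
  have hzb : z * b = b * z := by rw [hb]; exact m.z_dl h.toRW hL.1 hL.2 hq₂
  have hab : a * b = b * a := by
    have c1 : Commute b q₁ := (hbK q₁ hq₁).symm
    have c2 : Commute b s := hsb.symm
    have c3 : Commute b a := by
      rw [ha, dl]
      exact c1.mul_right ((c2.mul_right c1).mul_right c2.inv_right)
    exact c3.eq.symm
  have haa : a * a = 1 := by rw [ha]; exact m.dl_dl h.toRW hK.1 hK.2 hq₁ hq₁4
  have hbb : b * b = 1 := by rw [hb]; exact m.dl_dl h.toRW hL.1 hL.2 hq₂ hq₂4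
  have hw2 : a * b * (a * b) = 1 := by
    calc a * b * (a * b) = a * (b * a) * b := by group
      _ = (a * a) * (b * b) := by rw [← hab]; group
      _ = 1 := by rw [haa, hbb, one_mul]
  have hsw : s * (a * b) = a * b * s := by rw [← mul_assoc, hsa, mul_assoc, hsb, mul_assoc]
  have hfix : cj (a * b) N = N := by rw [cj_mul, hb, hf₂, ha, hf₁]
  have hqw : q₁ * (a * b) = a * b * q₁ := by
    have e1 : q₁ * a = a * q₁ := by rw [ha]; exact m.q_dl h.toRW hK.1 hK.2 hq₁ hq₁4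
    rw [← mul_assoc, e1, mul_assoc, hbK q₁ hq₁, mul_assoc]
  obtain ⟨y, hy, hyq⟩ := m.exists_nc h.toRW hK.1 hK.2 hq₁ hq₁4
  have hyw : y * (a * b) ≠ a * b * y := by
    intro hc
    apply hyq
    rw [← m.comm_dl_iff h.toRW hK.1 hK.2 hq₁ hy, ← ha]
    have e1 : y * a * b = a * y * b := by
      calc y * a * b = y * (a * b) := by group
        _ = a * (b * y) := by rw [hc]; group
        _ = a * y * b := by rw [← hbK y hy]; group
    exact mul_right_cancel e1
  have hw1 : a * b ≠ 1 := by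
    intro hh
    rw [hh] at hyw
    exact hyw (by rw [mul_one, one_mul])
  have hg : (q₁ * q₂)⁻¹ * s * (q₁ * q₂) = s * (a * b) := by
    have e1 := m.conj_s h.toRW hK.1 hK.2 hq₁ hq₁4
    have e2 := m.conj_s h.toRW hL.1 hL.2 hq₂ hq₂4
    rw [← ha] at e1
    rw [← hb] at e2
    have e3 : q₂⁻¹ * (z * a) * q₂ = z * a := by
      have c1 : Commute q₂ a := haL q₂ hq₂
      have c2 : Commute q₂ z := m.z_comm h.toRW hL.1 hL.2 hq₂
      have c3 := c2.mul_right c1
      rw [mul_assoc, ← c3.eq, inv_mul_cancel_left]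
    calc (q₁ * q₂)⁻¹ * s * (q₁ * q₂) = q₂⁻¹ * (q₁⁻¹ * s * q₁) * q₂ := by group
      _ = (q₂⁻¹ * s * q₂) * (q₂⁻¹ * (z * a) * q₂) := by rw [e1]; group
      _ = s * (z * b) * (z * a) := by rw [e2, e3]
      _ = s * (b * (z * z) * a) := by rw [hzb]; group
      _ = s * (a * b) := by rw [m.zz' h.toRW, mul_one, hab]
  have hzM : zz (cj (q₁ * q₂)⁻¹ N) = zz N * (a * b) := by
    rw [h.hyp.zz_cj hN, inv_inv, hzN, hg]
  rcases h.lemX hN (h.hO N hN _) hzM hw2 (by rw [hzN]; exact hsw) hK.1 hq₁ hq₁4 hqw hy hyw with h5 | h5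
  · have h6 := h.tau2 m hw1 (fun N₁ hN₁ hz₁ => h5 N₁ hN₁ (hz₁.trans hzN.symm)) hK.1 hK.2 hq₁ hq₁4 hqw hN hzN
    apply hmv
    rw [← mem_normalizer_iff_cj]
    exact mem_normalizer_of_comm fun k hk => (h6 k hk).symm
  · apply h5.mz N hN rfl
    rw [cj_mul, hfix, mem_normalizer_iff_cj.1 (le_normalizer (h.hyp.zz_mem hN))]

/-- an M/M pair with exactly two members over `z` and `s` -/
structure M2 (Om : Set (Subgroup G)) (z s : G) (K N : Subgroup G) : Prop extends MM Om z s where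
  hK : K ∈ Om
  hN : N ∈ Om
  zK : zz K = z
  zN : zz N = s
  aK : ∀ L ∈ Om, zz L = z → L = K ∨ L = cj s K
  aN : ∀ L ∈ Om, zz L = s → L = N ∨ L = cj z N

omit [Finite G] in
theorem M2.symm (m : M2 Om z s K N) : M2 Om s z N K :=
  { m.toMM.symm with hK := m.hN, hN := m.hK, zK := m.zN, zN := m.zK, aK := m.aN, aN := m.aK }

theorem TW.exists_m2 (h : TW Om U) (m : MM Om z s) : ∃ z' s' K' N', M2 Om z' s' K' N' := by
  obtain ⟨z', s', m', heq⟩ := h.exists_mm_eq m
  have h4 := h.ncard_le_four m' heq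
  obtain ⟨K, hK, hzK⟩ := m'.exz
  obtain ⟨N, hN, hzN⟩ := m'.exs
  exact ⟨z', s', K, N, { m' with
    hK := hK, hN := hN, zK := hzK, zN := hzN
    aK := fun L hL hzL => h.two_of_four m' h4 ⟨hK, hzK⟩ ⟨hL, hzL⟩
    aN := fun L hL hzL => h.two_of_four m'.symm (by rw [heq]; exact h4) ⟨hN, hzN⟩ ⟨hL, hzL⟩ }⟩

end Cfsg.Agent.Cit.CV1
end

-- part: Cit/Nil/CV1/LemT/TwoA
section
/-!
# (6b)(CV), rank one, LEMMA T: two members over `z` and over `s`, part A

`M2 Om z s K N` : `K, K^s` are the members over `z`, `N, N^z` those over `s`.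
`M2.cent` : an element commuting with `z` and `s` commutes with `dl s v`, `v ∈ U K` of order 4.
`TW.fix` : `dl s q` normalises `N`, `TW.f5`, `TW.f6`, `TW.final`.
-/

set_option autoImplicit false
set_option linter.style.haveILetI false
set_option linter.unusedSectionVars false

namespace Cfsg.Agent.Cit.CV1

open Subgroup Cfsg Cit Tau CV

variable {G : Type*} [Group G] {Om : Set (Subgroup G)} {U : Subgroup G → Subgroup G}
  {H K K' L M N N' P S : Subgroup G} {a b e g p q r s t u v w x y z : G}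

/-- `g` acts on `N` trivially modulo `s` -/
def TM (s : G) (N : Subgroup G) (g : G) : Prop :=
  g * s = s * g ∧ ∀ p ∈ N, g * p * g⁻¹ = p ∨ g * p * g⁻¹ = p * s

theorem TM.mul (hss : s * s = 1) (hg : TM s N g) (he : TM s N e) : TM s N (g * e) := by
  refine ⟨by rw [mul_assoc, he.1, ← mul_assoc, hg.1, mul_assoc], fun p hp => ?_⟩
  have h1 : g * s * g⁻¹ = s := by rw [hg.1, mul_inv_cancel_right]
  have h2 : g * e * p * (g * e)⁻¹ = g * (e * p * e⁻¹) * g⁻¹ := by group
  rw [h2]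
  rcases he.2 p hp with h3 | h3
  · rw [h3]
    exact hg.2 p hp
  · rw [h3]
    have h4 : g * (p * s) * g⁻¹ = (g * p * g⁻¹) * (g * s * g⁻¹) := by group
    rw [h4, h1]
    rcases hg.2 p hp with h5 | h5
    · right; rw [h5]
    · left; rw [h5, mul_assoc, hss, mul_one]

theorem TM.inv (hss : s * s = 1) (hg : TM s N g) : TM s N g⁻¹ := by
  have h1 : Commute g s := hg.1
  refine ⟨h1.inv_left.eq, fun p hp => ?_⟩
  rcases hg.2 p hp with h3 | h3
  · left
    calc g⁻¹ * p * g⁻¹⁻¹ = g⁻¹ * (g * p * g⁻¹) * g := by rw [h3]; group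
      _ = p := by group
  · right
    have h4 : g⁻¹ * (p * s) * g = p := by rw [← h3]; group
    have h5 : s * g = g * s := hg.1.symm
    calc g⁻¹ * p * g⁻¹⁻¹ = g⁻¹ * p * g * (s * s) := by rw [hss]; group
      _ = g⁻¹ * p * (g * s) * s := by group
      _ = g⁻¹ * (p * s) * g * s := by rw [← h5]; group
      _ = p * s := by rw [h4]

/-- the square acts trivially -/
theorem TM.sq (hss : s * s = 1) (hg : TM s N g) (hp : p ∈ N) : g * g * p = p * (g * g) := by
  have h1 : g * s * g⁻¹ = s := by rw [hg.1, mul_inv_cancel_right]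
  have h2 : g * g * p * (g * g)⁻¹ = g * (g * p * g⁻¹) * g⁻¹ := by group
  rw [← mul_inv_eq_iff_eq_mul, h2]
  rcases hg.2 p hp with h3 | h3
  · rw [h3, h3]
  · have h4 : g * (p * s) * g⁻¹ = (g * p * g⁻¹) * (g * s * g⁻¹) := by group
    rw [h3, h4, h1, h3, mul_assoc, hss, mul_one]

set_option linter.unusedSimpArgs false in
set_option linter.unusedVariables false in
/-- the final computation -/
theorem comp_rel (zz' : z * z = 1) (ss : s * s = 1) (aa : a * a = 1) (bb : b * b = 1)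
    (sz : s * z = z * s) (az : a * z = z * a) (bz : b * z = z * b) (as' : a * s = s * a) (bs : b * s = s * b)
    (ba : b * a = a * b)
    (us : u * s = s * u) (uz : u * z = z * s * a * u) (ua : u * a = a * u) (ub : u * b = s * b * u)
    (qz : q * z = z * q) (qs : q * s = z * s * a * q) (qa : q * a = a * q) (qb : q * b = z * b * q)
    (rz : r * z = z * r) (rs : r * s = z * s * b * r) (ra : r * a = z * a * r) (rb : r * b = b * r) :
    (u * (q * r) * u * r * u⁻¹) * z = z * (u * (q * r) * u * r * u⁻¹) ∧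
    (u * (q * r) * u * r * u⁻¹) * s = s * (u * (q * r) * u * r * u⁻¹) ∧
    (u * (q * r) * u * r * u⁻¹) * a = a * b * (u * (q * r) * u * r * u⁻¹) ∧
    (u * (q * r) * u * r * u⁻¹) * b = a * (u * (q * r) * u * r * u⁻¹) := by
  have lift : ∀ {x y X : G}, x * y = X → ∀ w, x * (y * w) = X * w := fun h w => by rw [← mul_assoc, h]
  have ius : u⁻¹ * s = s * u⁻¹ := (Commute.inv_left (show Commute u s from us)).eq
  have iua : u⁻¹ * a = a * u⁻¹ := (Commute.inv_left (show Commute u a from ua)).eq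
  have iub : u⁻¹ * b = s * b * u⁻¹ := by
    rw [inv_mul_eq_iff_eq_mul]
    have : u * (s * b * u⁻¹) = (u * s) * b * u⁻¹ := by group
    rw [this, us]
    have : s * u * b * u⁻¹ = s * (u * b) * u⁻¹ := by group
    rw [this, ub]
    have : s * (s * b * u) * u⁻¹ = (s * s) * b := by group
    rw [this, ss, one_mul]
  have iuz : u⁻¹ * z = z * s * a * u⁻¹ := by
    rw [inv_mul_eq_iff_eq_mul]
    have h1 : u * (z * s * a * u⁻¹) = (u * z) * s * a * u⁻¹ := by group
    rw [h1, uz]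
    have h2 : z * s * a * u * s * a * u⁻¹ = z * s * a * (u * s) * a * u⁻¹ := by group
    rw [h2, us]
    have h3 : z * s * a * (s * u) * a * u⁻¹ = z * s * (a * s) * (u * a) * u⁻¹ := by group
    rw [h3, ua, as']
    have h4 : z * s * (s * a) * (a * u) * u⁻¹ = z * (s * s) * (a * a) := by group
    rw [h4, ss, aa, mul_one, mul_one]
  refine ⟨?_, ?_, ?_, ?_⟩ <;>
  simp only [mul_assoc] at * <;>
  simp only [mul_assoc, iuz, ius, iua, iub, us, uz, ua, ub, qz, qs, qa, qb, rz, rs, ra, rb, lift us, lift uz, lift ua,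
    lift ub, lift qz, lift qs, lift qa, lift qb, lift rz, lift rs, lift ra, lift rb, zz', ss, aa, bb, lift zz', lift ss,
    lift aa, lift bb, sz, az, bz, as', bs, ba, lift sz, lift az, lift bz, lift as', lift bs, lift ba, one_mul]

variable [Finite G]

/-- `g` commuting with `z` permutes `K`, `K^s` -/
theorem M2.act (h : RW Om U) (m : M2 Om z s K N) (hz : g * z = z * g) : cj g K = K ∨ cj g K = cj s K :=
  m.aK _ (h.hO K m.hK g) (by rw [h.hyp.zz_cj m.hK, m.zK, hz, mul_inv_cancel_right])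

theorem M2.act' (h : RW Om U) (m : M2 Om z s K N) (hs : g * s = s * g) : cj g N = N ∨ cj g N = cj z N :=
  m.symm.act h hs

theorem M2.cent_aux (h : RW Om U) (m : M2 Om z s K N) (hv : v ∈ U K) (hv4 : orderOf v = 4) (hs : g * s = s * g)
    (hg : cj g K = K) : g * dl s v = dl s v * g := by
  have h1 : Commute g s := hs
  rw [← mul_inv_eq_iff_eq_mul]
  have hvK := h.vch.le K m.hK hv
  have h2 : g * dl s v * g⁻¹ = dl s (g * v * g⁻¹) := by
    rw [dl, dl]
    have e1 : g * (v * (s * v * s⁻¹)) * g⁻¹ = (g * v * g⁻¹) * ((g * s) * v * (g * s)⁻¹) := by group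
    have e2 : (g * s) * v * (g * s)⁻¹ = s * (g * v * g⁻¹) * s⁻¹ := by rw [hs]; group
    rw [e1, e2]
  rw [h2]
  rcases h.conj_or m.hK (mem_normalizer_iff_cj.2 hg) hv hv4 with h3 | h3
  · rw [h3]
  · rw [h3]
    have h4 := m.dl_mul h m.hK m.zK hvK (K.inv_mem hvK)
    rw [mul_inv_cancel, m.dl_one h] at h4
    have h5 := m.dl_dl h m.hK m.zK hvK hv4
    rw [eq_comm] at h4
    rw [← h5] at h4
    exact mul_left_cancel h4

/-- an element commuting with `z` and `s` commutes with `dl s v` -/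
theorem M2.cent (h : RW Om U) (m : M2 Om z s K N) (hv : v ∈ U K) (hv4 : orderOf v = 4) (hz : g * z = z * g)
    (hs : g * s = s * g) : g * dl s v = dl s v * g := by
  have hvK := h.vch.le K m.hK hv
  rcases m.act h hz with h1 | h1
  · exact m.cent_aux h hv hv4 hs h1
  · have h2 : cj (s * g) K = K := by rw [cj_mul, h1, ← cj_mul, m.ss h, cj_one]
    have h3 : s * g * s = s * (s * g) := by rw [mul_assoc, hs]
    have h4 := m.cent_aux h hv hv4 h3 h2
    have h5 := m.s_dl h m.hK m.zK hvK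
    have h6 : s * (g * dl s v) = s * (dl s v * g) := by
      rw [← mul_assoc, h4, ← mul_assoc, ← h5, mul_assoc]
    exact mul_left_cancel h6

theorem dl_inv_four (h : RW Om U) (m : MM Om z s) (hK : K ∈ Om) (hz : zz K = z) (hq : q ∈ K) (hq4 : orderOf q = 4) :
    (dl s q)⁻¹ = dl s q := inv_eq_of_mul_eq_one_right (m.dl_dl h hK hz hq hq4)

theorem dl_inv (h : RW Om U) (m : MM Om z s) (hK : K ∈ Om) (hz : zz K = z) (hq : q ∈ K) :
    dl s q⁻¹ = (dl s q)⁻¹ := by
  have h4 := m.dl_mul h hK hz (K.inv_mem hq) hq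
  rw [inv_mul_cancel, m.dl_one h] at h4
  exact eq_inv_of_mul_eq_one_left h4.symm

/-- `dl s q` normalises `N` or exchanges `N`, `N^z` -/
theorem M2.dl_or (h : RW Om U) (m : M2 Om z s K N) (hq : q ∈ K) : cj (dl s q) N = N ∨ cj (dl s q) N = cj z N :=
  m.act' h (m.s_dl h m.hK m.zK hq).symm

theorem M2.zcj (h : RW Om U) (m : M2 Om z s K N) (L : Subgroup G) : cj z (cj z L) = L := by
  rw [← cj_mul, m.zz' h, cj_one]

/-- if `dl s q` moves `N` then `z dl s q` centralises the members over `s` -/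
theorem M2.cent_of_move (h : RW Om U) (m : M2 Om z s K N) (hq : q ∈ K) (hq4 : orderOf q = 4)
    (hc : cj (dl s q) N = cj z N) : ∀ N ∈ Om, zz N = s → ∀ x ∈ N, x * (z * dl s q) = z * dl s q * x := by
  rcases m.w_dich h m.hK m.zK hq hq4 with h1 | h1
  · exact h1
  · exfalso
    apply h1.1 N m.hN m.zN
    rw [cj_mul, hc, m.zcj h]

/-- `dl s q`, `q ∈ K`, normalises `N` -/
theorem TW.fix (h : TW Om U) (m : M2 Om z s K N) (hq : q ∈ K) : cj (dl s q) N = N := by
  have hK := m.hK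
  obtain ⟨v, hv, hv4⟩ := h.exists_v hK
  have hvK := h.vch.le K hK hv
  have hvX := h.U_le_XX hK hv
  have key : ∀ y ∈ K, y ∉ XX U K → cj (dl s y) N = N := by
    intro y hy hyX
    rcases m.dl_or h.toRW hy with h1 | h1
    · exact h1
    · exfalso
      have hy4 := (h.y_facts hK hy hyX).2.1
      have hvyX : v * y ∉ XX U K := fun hh => hyX (by
        have := (XX U K).mul_mem ((XX U K).inv_mem hvX) hh
        rwa [inv_mul_cancel_left] at this)
      have hvy := K.mul_mem hvK hy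
      have hvy4 := (h.y_facts hK hvy hvyX).2.1
      have h2 := m.cent_of_move h.toRW hy hy4 h1
      have hd := m.dl_mul h.toRW hK m.zK hvK hy
      have hfv : cj (dl s v) N = N := by
        rcases m.dl_or h.toRW hvK with h3 | h3
        · exact h3
        · exfalso
          apply (h.mm_v m.toMM hK m.zK hv hv4).1 N m.hN m.zN
          rw [cj_mul, h3, m.zcj h.toRW]
      have hzv := m.z_dl h.toRW hK m.zK hvK
      have hzy := m.z_dl h.toRW hK m.zK hy
      have h3 : cj (dl s (v * y)) N = cj z N := by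
        rw [hd, cj_mul, h1, ← cj_mul, ← hzv, cj_mul, hfv]
      have h4 := m.cent_of_move h.toRW hvy hvy4 h3
      have h5 : dl s v = (z * dl s (v * y)) * (z * dl s y) := by
        rw [hd]
        symm
        calc z * (dl s v * dl s y) * (z * dl s y) = z * dl s v * (dl s y * z) * dl s y := by group
          _ = z * (dl s v * z) * (dl s y * dl s y) := by rw [← hzy]; group
          _ = dl s v := by
            rw [← hzv, m.dl_dl h.toRW hK m.zK hy hy4, mul_one, ← mul_assoc, m.zz' h.toRW, one_mul]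
      refine h.tau_mm m.toMM (m.dl_ne h.toRW hK m.zK hvK hv4) ?_ hK (m.tt h.toRW hK m.zK) hv hv4
        (m.q_dl h.toRW hK m.zK hvK hv4)
      intro N₁ hN₁ hz₁ x hx
      rw [h5, ← mul_assoc, h4 N₁ hN₁ hz₁ x hx, mul_assoc, h2 N₁ hN₁ hz₁ x hx, ← mul_assoc]
  by_cases hqX : q ∈ XX U K
  · obtain ⟨y, hy, hyX⟩ := h.exists_y hK
    have hqy : q * y ∉ XX U K := fun hh => hyX (by
        have := (XX U K).mul_mem ((XX U K).inv_mem hqX) hh
        rwa [inv_mul_cancel_left] at this)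
    have h1 := key y hy hyX
    have h2 := key _ (K.mul_mem hq hy) hqy
    rwa [m.dl_mul h.toRW hK m.zK hq hy, cj_mul, h1] at h2
  · exact key q hq hqX

/-- `z dl s q` moves `N` -/
theorem TW.mv (h : TW Om U) (m : M2 Om z s K N) (hq : q ∈ K) : cj (z * dl s q) N ≠ N := by
  rw [cj_mul, h.fix m hq]
  exact m.ms N m.hN m.zN

/-- `r ∈ N` with `dl z r = 1` -/
theorem M2.of_dl_eq (h : RW Om U) (m : M2 Om z s K N) (hr : r ∈ N) (h1 : dl z r = 1) : r = 1 ∨ r = s := by
  have hN := m.hN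
  have hc : ∀ p ∈ N, p * r = r * p := by
    intro p hp
    rw [← m.symm.comm_dl_iff h hN m.zN hr hp, h1, mul_one, one_mul]
  have hrX : r ∈ XX U N := by
    obtain ⟨u, hu, hu4⟩ := h.exists_v hN
    exact (h.mem_XX_iff hN hu hu4 hr).2 (hc u (h.vch.le N hN hu)).symm
  obtain ⟨y, hy, hyX⟩ := h.exists_y hN
  have h2 := (h.y_facts hN hy hyX).2.2 r hrX
  rw [hc y hy, mul_inv_cancel_right] at h2
  by_cases hr1 : r = 1
  · exact Or.inl hr1
  · right
    have h3 : r * r = 1 := by nth_rw 2 [h2]; exact mul_inv_cancel r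
    rw [h.hyp.uniq N hN r hr (orderOf_eq_prime (by rw [pow_two]; exact h3) hr1), m.zN]

/-- an element `g` normalising `N` and commuting with `dl z p`, `p ∈ N` and with `s` acts trivially modulo `s` -/
theorem M2.tm_of (h : RW Om U) (m : M2 Om z s K N) (hgN : cj g N = N) (hs : g * s = s * g) (hz : g * z = z * g)
    (hc : ∀ p ∈ N, g * dl z p = dl z p * g) : TM s N g := by
  refine ⟨hs, fun p hp => ?_⟩
  have h1 : g * p * g⁻¹ ∈ N := by
    have := conj_mem_cj (g := g) hp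
    rwa [hgN] at this
  have h2 : dl z (g * p * g⁻¹) = dl z p := by
    have e2 : dl z (g * p * g⁻¹) = g * dl z p * g⁻¹ := by
      rw [dl, dl]
      have e1 : g * (p * (z * p * z⁻¹)) * g⁻¹ = (g * p * g⁻¹) * ((g * z) * p * (g * z)⁻¹) := by group
      have e3 : (g * z) * p * (g * z)⁻¹ = z * (g * p * g⁻¹) * z⁻¹ := by rw [hz]; group
      rw [e1, e3]
    rw [e2, hc p hp, mul_inv_cancel_right]
  have h3 : dl z (p⁻¹ * (g * p * g⁻¹)) = 1 := by
    rw [m.symm.dl_mul h m.hN m.zN (N.inv_mem hp) h1, h2, dl_inv h m.symm.toMM m.hN m.zN hp, inv_mul_cancel]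
  rcases m.of_dl_eq h (N.mul_mem (N.inv_mem hp) h1) h3 with h4 | h4
  · left; exact (inv_mul_eq_one.1 h4).symm
  · right; exact inv_mul_eq_iff_eq_mul.1 h4

/-- **(F5)** -/
theorem TW.f5 (h : TW Om U) (m : M2 Om z s K N) (hv : v ∈ U K) (hv4 : orderOf v = 4) : TM s N (dl s v) := by
  have hvK := h.vch.le K m.hK hv
  refine m.tm_of h.toRW (h.fix m hvK) (m.s_dl h.toRW m.hK m.zK hvK).symm (m.z_dl h.toRW m.hK m.zK hvK).symm ?_
  intro p hp
  exact (m.cent h.toRW hv hv4 (m.symm.s_dl h.toRW m.hN m.zN hp).symm (m.symm.z_dl h.toRW m.hN m.zN hp).symm).symm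

/-- elements trivial modulo `s` commute with an element of order 4 -/
theorem RW.exists_comm_four (h : RW Om U) (hN : N ∈ Om) (hzN : zz N = s) (ht : TM s N g) :
    ∃ p ∈ N, orderOf p = 4 ∧ g * p = p * g := by
  obtain ⟨u, hu, hu4⟩ := h.exists_v hN
  have huN := h.vch.le N hN hu
  obtain ⟨y, hy, hyX⟩ := h.exists_y hN
  have hy4 := (h.y_facts hN hy hyX).2.1
  have huyX : u * y ∉ XX U N := fun hh => hyX (by
    have := (XX U N).mul_mem ((XX U N).inv_mem (h.U_le_XX hN hu)) hh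
    rwa [inv_mul_cancel_left] at this)
  have huy := N.mul_mem huN hy
  have huy4 := (h.y_facts hN huy huyX).2.1
  rcases ht.2 u huN with h1 | h1
  · exact ⟨u, huN, hu4, mul_inv_eq_iff_eq_mul.1 h1⟩
  · rcases ht.2 y hy with h2 | h2
    · exact ⟨y, hy, hy4, mul_inv_eq_iff_eq_mul.1 h2⟩
    · refine ⟨u * y, huy, huy4, ?_⟩
      rw [← mul_inv_eq_iff_eq_mul]
      have h3 : y * s = s * y := by rw [← hzN]; exact h.hyp.comm_zz hN (le_normalizer hy)
      have h4 : s * s = 1 := by rw [← hzN]; exact h.hyp.zz_mul hN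
      calc g * (u * y) * g⁻¹ = (g * u * g⁻¹) * (g * y * g⁻¹) := by group
        _ = u * s * (s * y) := by rw [h1, h2, h3]
        _ = u * (s * s) * y := by group
        _ = u * y := by rw [h4, mul_one]

/-- **(F6)** -/
theorem TW.f6 (h : TW Om U) (m : M2 Om z s K N) (he : e ≠ 1) (hc : ∀ p ∈ N, p * e = e * p) (hze : z * e = e * z)
    (hq : q ∈ K) (hq4 : orderOf q = 4) : q * e ≠ e * q := by
  intro hqe
  have hc' : ∀ N ∈ Om, zz N = s → ∀ x ∈ N, x * e = e * x := by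
    intro L hL hzL x hx
    rcases m.aN L hL hzL with rfl | rfl
    · exact hc x hx
    · rw [mem_cj] at hx
      have h1 := hc _ hx
      have h2 : Commute z e := hze
      have h3 : x = z * (z⁻¹ * x * z) * z⁻¹ := by group
      have h4 : Commute (z⁻¹ * x * z) e := h1
      have h5 : Commute x e := by
        rw [h3]
        exact (h2.mul_left h4).mul_left h2.inv_left
      exact h5.eq
  have h1 := h.tau2 m.toMM he hc' m.hK m.zK hq hq4 hqe m.hN m.zN
  apply h.mv m hq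
  rw [← mem_normalizer_iff_cj]
  exact mem_normalizer_of_comm fun k hk => (h1 k hk).symm

/-- `dl s q` does not centralise `N` -/
theorem TW.f6' (h : TW Om U) (m : M2 Om z s K N) (hq : q ∈ K) (hq4 : orderOf q = 4) :
    ¬ ∀ p ∈ N, p * dl s q = dl s q * p := fun hc =>
  h.f6 m (m.dl_ne h.toRW m.hK m.zK hq hq4) hc (m.z_dl h.toRW m.hK m.zK hq) hq hq4
    (m.q_dl h.toRW m.hK m.zK hq hq4)

/-- the end -/
theorem TW.final (h : TW Om U) (m : M2 Om z s K N) (hu : u ∈ N) (hu4 : orderOf u = 4) (hq : q ∈ K)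
    (hq4 : orderOf q = 4) (hr : r ∈ K) (hr4 : orderOf r = 4) (hqr : q * r * q⁻¹ = r⁻¹) (hrq : r * q * r⁻¹ = q⁻¹)
    (hqr4 : orderOf (q * r) = 4) (ha : dl s q = dl z u) (hb : u * dl s r * u⁻¹ = dl s r * s)
    (hv : q ∈ U K ∨ r ∈ U K) : False := by
  have hK := m.hK
  have hN := m.hN
  have hzs := m.comm
  have m' := m.symm.toMM
  have az := m.z_dl h.toRW hK m.zK hq
  have bz := m.z_dl h.toRW hK m.zK hr
  have as' := m.s_dl h.toRW hK m.zK hq
  have bs := m.s_dl h.toRW hK m.zK hr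
  have aa := m.dl_dl h.toRW hK m.zK hq hq4
  have bb := m.dl_dl h.toRW hK m.zK hr hr4
  have hqrK := K.mul_mem hq hr
  have dqr := m.dl_mul h.toRW hK m.zK hq hr
  have drq := m.dl_mul h.toRW hK m.zK hr hq
  have ba : dl s r * dl s q = dl s q * dl s r := by
    have h1 : r * q = q⁻¹ * r := by rw [← hrq]; group
    rw [← drq, h1, m.dl_mul h.toRW hK m.zK (K.inv_mem hq) hr, dl_inv h.toRW m.toMM hK m.zK hq,
      dl_inv_four h.toRW m.toMM hK m.zK hq hq4]
  have us : u * s = s * u := m'.z_comm h.toRW hN m.zN hu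
  have uz : u * z = z * s * dl s q * u := by
    have h1 := m'.conj_s' h.toRW hN m.zN hu hu4
    rw [mul_inv_eq_iff_eq_mul, ← ha, ← mul_assoc] at h1
    exact h1
  have ua : u * dl s q = dl s q * u := by rw [ha]; exact m'.q_dl h.toRW hN m.zN hu hu4
  have ub : u * dl s r = s * dl s r * u := by
    rw [mul_inv_eq_iff_eq_mul] at hb
    rw [hb, bs]
  have qz : q * z = z * q := m.z_comm h.toRW hK m.zK hq
  have rz : r * z = z * r := m.z_comm h.toRW hK m.zK hr
  have qs : q * s = z * s * dl s q * q := by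
    have h1 := m.conj_s' h.toRW hK m.zK hq hq4
    rw [mul_inv_eq_iff_eq_mul, ← mul_assoc, ← hzs] at h1
    exact h1
  have rs : r * s = z * s * dl s r * r := by
    have h1 := m.conj_s' h.toRW hK m.zK hr hr4
    rw [mul_inv_eq_iff_eq_mul, ← mul_assoc, ← hzs] at h1
    exact h1
  have qa := m.q_dl h.toRW hK m.zK hq hq4
  have rb := m.q_dl h.toRW hK m.zK hr hr4
  have qq := m.qq h.toRW hK m.zK hq hq4
  have rr := m.qq h.toRW hK m.zK hr hr4
  have hinv : ∀ {x : G}, x ∈ K → x * x = z → x⁻¹ = z * x := by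
    intro x hx hxx
    rw [inv_eq_iff_mul_eq_one, ← mul_assoc, m.z_comm h.toRW hK m.zK hx, mul_assoc, hxx]
    exact m.zz' h.toRW
  have qb : q * dl s r = z * dl s r * q := by
    have h1 := m.conj_dl h.toRW hK m.zK hr hq
    rw [hqr, hinv hr rr, mul_inv_eq_iff_eq_mul] at h1
    rw [h1, dl]
    group
  have ra : r * dl s q = z * dl s q * r := by
    have h1 := m.conj_dl h.toRW hK m.zK hq hr
    rw [hrq, hinv hq qq, mul_inv_eq_iff_eq_mul] at h1
    rw [h1, dl]
    group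
  obtain ⟨c1, c2, c3, c4⟩ := comp_rel (m.zz' h.toRW) (m.ss h.toRW) aa bb hzs.symm az.symm bz.symm as'.symm bs.symm ba us uz ua ub
    qz qs qa qb rz rs ra rb
  rcases hv with hv | hv
  · have h1 := m.cent h.toRW hv hq4 c1 c2
    rw [c3] at h1
    have h2 := mul_right_cancel h1
    exact m.dl_ne h.toRW hK m.zK hr hr4 (mul_eq_left.1 h2)
  · have h1 := m.cent h.toRW hv hr4 c1 c2
    rw [c4] at h1
    have h2 := mul_right_cancel h1
    apply m.dl_ne h.toRW hK m.zK hqrK hqr4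
    rw [dqr, h2, bb]

end Cfsg.Agent.Cit.CV1
end

-- part: Cit/Nil/CV1/LemT/TwoB
section
/-!
# (6b)(CV), rank one, LEMMA T: two members over `z` and over `s`, part B: the contradiction

`TW.eq_of_comm` : if `dl s v` commutes with `X_N` then `dl s v = dl z u`.
`TW.exists_q1`, `TW.case_one`; `TW.comm_or_eight`; `TW.m2_false`.
-/

set_option autoImplicit false
set_option linter.style.haveILetI false
set_option linter.unusedSectionVars false

namespace Cfsg.Agent.Cit.CV1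

open Subgroup Cfsg Cit Tau CV Cfsg.Agent.Cit.Nil.CV.XLevel

variable {G : Type*} [Group G] [Finite G] {Om : Set (Subgroup G)} {U : Subgroup G → Subgroup G}
  {H K K' L M N N' P S : Subgroup G} {a b c d e g p q r s t u v w x y z : G}

/-! ### members -/

namespace RW

variable (h : RW Om U)
include h

theorem v_y (hK : K ∈ Om) (hv : v ∈ U K) (hv4 : orderOf v = 4) (hy : y ∈ K) (hyX : y ∉ XX U K) :
    v * y * v⁻¹ = y * zz K := by
  have h1 := h.y_inv hK hy hyX hv
  have h2 : v * y = y * v⁻¹ := by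
    rw [mul_inv_eq_iff_eq_mul] at h1
    calc v * y = v * (y * v) * v⁻¹ := by group
      _ = y * v⁻¹ := by rw [h1]; group
  have h3 : v⁻¹ * v⁻¹ = zz K := by
    have : v⁻¹ * v⁻¹ = (v * v)⁻¹ := by group
    rw [this, h.sq_eq hK hv hv4, h.zz_inv' hK]
  rw [h2, mul_assoc, h3]

theorem y_zz (hK : K ∈ Om) (hy : y ∈ K) (hyX : y ∉ XX U K) : y * zz K = y⁻¹ := by
  have h1 := (h.y_facts hK hy hyX).1
  rw [eq_inv_iff_mul_eq_one, mul_assoc]
  have h2 : y * zz K = zz K * y := h.hyp.comm_zz hK (le_normalizer hy)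
  rw [← h2, ← mul_assoc, h1]
  exact h.hyp.zz_mul hK

theorem mul_not_mem (hx : x ∈ XX U K) (hyX : y ∉ XX U K) : x * y ∉ XX U K := fun hh => hyX (by
  have := (XX U K).mul_mem ((XX U K).inv_mem hx) hh
  rwa [inv_mul_cancel_left] at this)

theorem mul_not_mem' (hx : x ∈ XX U K) (hyX : y ∉ XX U K) : y * x ∉ XX U K := fun hh => hyX (by
  have := (XX U K).mul_mem hh ((XX U K).inv_mem hx)
  rwa [mul_inv_cancel_right] at this)

/-- an element commuting with `X_N` and an element outside -/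
theorem comm_of (hN : N ∈ Om) (hX : ∀ x ∈ XX U N, g * x = x * g) (hy : y ∈ N) (hyX : y ∉ XX U N)
    (hc : g * y = y * g) (hp : p ∈ N) : g * p = p * g := by
  by_cases hpX : p ∈ XX U N
  · exact hX p hpX
  · have h1 := hX _ (inv_mul_mem_XX h.vch hN hy hp hyX hpX)
    have h2 : p = y * (y⁻¹ * p) := by group
    have h3 : Commute g (y * (y⁻¹ * p)) := (show Commute g y from hc).mul_right h1
    rw [← h2] at h3
    exact h3.eq

/-- the elements of `U N` -/
theorem mem_four (hN : N ∈ Om) (hu : u ∈ U N) (hu4 : orderOf u = 4) (hx : x ∈ U N) :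
    x = 1 ∨ x = u ∨ x = zz N ∨ x = u⁻¹ := by
  obtain ⟨n, rfl⟩ := h.exists_pw_U hN hu hu4 hx
  have h2 := h.pw_two_eq hN hu hu4
  have h3 : pw u 3 = u⁻¹ := pw_neg_one hu4
  fin_cases n
  · left; exact pw_zero
  · right; left; exact pw_one
  · right; right; left; exact h2
  · right; right; right; exact h3

theorem tm_of_gen (hN : N ∈ Om) (hzN : zz N = s) (hs : g * s = s * g)
    (hX : ∀ x ∈ XX U N, g * x * g⁻¹ = x ∨ g * x * g⁻¹ = x * s) (hy : y ∈ N) (hyX : y ∉ XX U N)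
    (hyg : g * y * g⁻¹ = y ∨ g * y * g⁻¹ = y * s) : TM s N g := by
  refine ⟨hs, fun p hp => ?_⟩
  by_cases hpX : p ∈ XX U N
  · exact hX p hpX
  · obtain ⟨x, hx⟩ : ∃ x, x = y⁻¹ * p := ⟨_, rfl⟩
    have h1 : x ∈ XX U N := by rw [hx]; exact inv_mul_mem_XX h.vch hN hy hp hyX hpX
    have h2 : p = y * x := by rw [hx]; group
    have h3 : s * x = x * s := by
      rw [← hzN]; exact (h.hyp.comm_zz hN (le_normalizer (XX_le N h1))).symm
    have h4 : s * s = 1 := by rw [← hzN]; exact h.hyp.zz_mul hN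
    have h5 : g * p * g⁻¹ = (g * y * g⁻¹) * (g * x * g⁻¹) := by rw [h2]; group
    rw [h5, h2]
    rcases hX x h1 with h6 | h6 <;> rcases hyg with h7 | h7 <;> rw [h6, h7]
    · exact Or.inl rfl
    · right; rw [mul_assoc, h3, mul_assoc]
    · right; rw [mul_assoc]
    · left
      calc y * s * (x * s) = y * (s * x) * s := by group
        _ = y * x * (s * s) := by rw [h3]; group
        _ = y * x := by rw [h4, mul_one]

/-- an involution normalising `N`, centralising `V_N`, acts trivially modulo `s` -/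
theorem inv_tm (hN : N ∈ Om) (hzN : zz N = s) (hs : d * s = s * d) (hdd : d * d = 1) (hdN : cj d N = N)
    (hu : u ∈ U N) (hu4 : orderOf u = 4) (hdu : d * u = u * d) : TM s N d := by
  have hdn := mem_normalizer_iff_cj.2 hdN
  have hdX := le_normalizer_XX h.vch hN hdn
  have hss : s * s = 1 := by rw [← hzN]; exact h.hyp.zz_mul hN
  have hdi : d⁻¹ = d := inv_eq_of_mul_eq_one_right hdd
  have key : ∀ y ∈ N, y ∉ XX U N → d * y * d⁻¹ = y ∨ d * y * d⁻¹ = y * s := by
    intro y hy hyX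
    have h1 : d * y * d⁻¹ ∈ N := (mem_normalizer_iff.1 hdn y).1 hy
    have h2 : d * y * d⁻¹ ∉ XX U N := fun hh => hyX ((mem_normalizer_iff.1 hdX y).2 hh)
    obtain ⟨g, hg⟩ : ∃ g, g = y⁻¹ * (d * y * d⁻¹) := ⟨_, rfl⟩
    have h3 : g ∈ XX U N := by rw [hg]; exact inv_mul_mem_XX h.vch hN hy h1 hyX h2
    have h4 : d * y * d⁻¹ = y * g := by rw [hg]; group
    have h5 : g * (d * g * d⁻¹) = 1 := by
      have e1 : d * (y * g) * d⁻¹ = y := by
        rw [← h4]
        calc d * (d * y * d⁻¹) * d⁻¹ = (d * d) * y * (d * d)⁻¹ := by group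
          _ = y := by rw [hdd]; group
      have e2 : d * (y * g) * d⁻¹ = (d * y * d⁻¹) * (d * g * d⁻¹) := by group
      rw [e2, h4, mul_assoc] at e1
      exact mul_eq_left.1 e1
    have h6 : d * g * d⁻¹ = g⁻¹ := (inv_eq_of_mul_eq_one_right h5).symm
    have h7 : g * g = 1 := by
      by_contra hgg
      obtain ⟨k, hk⟩ := h.two N hN ⟨g, XX_le N h3⟩
      have hk' : g ^ 2 ^ k = 1 := by
        have := congrArg Subtype.val hk
        simpa using this
      obtain ⟨j, -, hj⟩ := (Nat.dvd_prime_pow Nat.prime_two).1 (orderOf_dvd_of_pow_eq_one hk')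
      have hj2 : 2 ≤ j := by
        by_contra hlt
        have hj1 : j ≤ 1 := by omega
        apply hgg
        rw [← pow_two]
        apply orderOf_dvd_iff_pow_eq_one.1
        rw [hj]
        have h8 : 2 ^ j ∣ 2 ^ 1 := pow_dvd_pow 2 hj1
        rwa [pow_one] at h8
      obtain ⟨i, rfl⟩ : ∃ i, j = i + 2 := ⟨j - 2, by omega⟩
      obtain ⟨u', hu'⟩ : ∃ u', u' = g ^ 2 ^ i := ⟨_, rfl⟩
      have hu'4 : orderOf u' = 4 := by
        rw [hu', orderOf_pow_of_dvd (by positivity) (by rw [hj]; exact pow_dvd_pow 2 (by omega)), hj, pow_add,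
          Nat.mul_div_cancel_left _ (by positivity)]
        norm_num
      have hu'U : u' ∈ U N := by
        apply h.mem_U_of_pow_four hN (by rw [hu']; exact (XX U N).pow_mem h3 _)
        rw [← hu'4]
        exact pow_orderOf_eq_one u'
      have e1 : d * u' * d⁻¹ = u'⁻¹ := by rw [hu', ← conj_pow, h6, inv_pow]
      have e2 : d * u' * d⁻¹ = u' := by
        rcases h.eq_or_inv hN hu hu4 hu'U hu'4 with e3 | e3
        · rw [e3, hdu, mul_inv_cancel_right]
        · have : Commute d u := hdu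
          rw [e3, this.inv_right.eq, mul_inv_cancel_right]
      exact inv_ne_of_four hu'4 (e1.symm.trans e2)
    rw [h4]
    by_cases hg1 : g = 1
    · left; rw [hg1, mul_one]
    · right
      rw [h.hyp.uniq N hN g (XX_le N h3) (orderOf_eq_prime (by rw [pow_two]; exact h7) hg1), hzN]
  obtain ⟨y, hy, hyX⟩ := h.exists_y hN
  refine h.tm_of_gen hN hzN hs (fun x hx => ?_) hy hyX (key y hy hyX)
  have h1 := key _ (N.mul_mem (XX_le N hx) hy) (h.mul_not_mem hx hyX)
  have h2 := key y hy hyX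
  have hcs : ∀ {p : G}, p ∈ N → s * p = p * s := fun {p} hp => by
    rw [← hzN]; exact (h.hyp.comm_zz hN (le_normalizer hp)).symm
  have h3 : d * x * d⁻¹ = (d * (x * y) * d⁻¹) * (d * y * d⁻¹)⁻¹ := by group
  have hsi : s⁻¹ = s := inv_eq_of_mul_eq_one_right hss
  have e1 : x * y * s * y⁻¹ = x * s := by
    rw [mul_assoc x y s, ← hcs hy]; group
  rw [h3]
  rcases h1 with h1 | h1 <;> rcases h2 with h2 | h2 <;> rw [h1, h2]
  · left; group
  · right; rw [mul_inv_rev, hsi, ← mul_assoc]; exact e1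
  · right; exact e1
  · left; rw [mul_inv_rev, hsi, ← mul_assoc, mul_assoc (x * y) s s, hss, mul_one, mul_inv_cancel_right]

end RW

/-! ### `dl s v` commutes with `X_N` -/

/-- `dl s x` acts on `K` as `x` -/
theorem MM.dl_act (h : RW Om U) (m : MM Om z s) (hK : K ∈ Om) (hz : zz K = z) (hx : x ∈ K) (hy : y ∈ K) :
    dl s x * y * (dl s x)⁻¹ = x * y * x⁻¹ := by
  have h1 := m.comm_cj_s h hK hz hy (conj_mem_cj (g := s) hx)
  rw [dl]
  calc x * (s * x * s⁻¹) * y * (x * (s * x * s⁻¹))⁻¹ = x * ((s * x * s⁻¹) * y) * (s * x * s⁻¹)⁻¹ * x⁻¹ := by group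
    _ = x * y * x⁻¹ := by rw [← h1]; group

theorem M2.tm_self (h : RW Om U) (m : M2 Om z s K N) (hv : v ∈ U K) (hv4 : orderOf v = 4) : TM z K (dl s v) := by
  have hvK := h.vch.le K m.hK hv
  refine ⟨(m.z_dl h m.hK m.zK hvK).symm, fun p hp => ?_⟩
  rw [m.dl_act h m.hK m.zK hvK hp]
  by_cases hpX : p ∈ XX U K
  · left
    rw [(h.mem_XX_iff m.hK hv hv4 hp).1 hpX |>.symm, mul_inv_cancel_right]
  · right
    rw [h.v_y m.hK hv hv4 hp hpX, m.zK]

/-- `dl s v` and `dl z u` -/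
theorem TW.eq_of_comm (h : TW Om U) (m : M2 Om z s K N) (hv : v ∈ U K) (hv4 : orderOf v = 4) (hu : u ∈ U N)
    (hu4 : orderOf u = 4) (hX : ∀ x ∈ XX U N, dl s v * x = x * dl s v) : dl s v = dl z u := by
  have hvK := h.vch.le K m.hK hv
  have huN := h.vch.le N m.hN hu
  have m' := m.symm
  have hss := m.ss h.toRW
  obtain ⟨a, ha⟩ : ∃ a, a = dl s v := ⟨_, rfl⟩
  obtain ⟨b, hb⟩ : ∃ b, b = dl z u := ⟨_, rfl⟩
  have hfa : TM s N a := by rw [ha]; exact h.f5 m hv hv4
  have hfb : TM z K b := by rw [hb]; exact h.f5 m' hu hu4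
  have hsa : TM z K a := by rw [ha]; exact m.tm_self h.toRW hv hv4
  have hsb : TM s N b := by rw [hb]; exact m'.tm_self h.toRW hu hu4
  have hay : ∀ y ∈ N, y ∉ XX U N → a * y * a⁻¹ = y * s := by
    intro y hy hyX
    rcases hfa.2 y hy with h1 | h1
    · exfalso
      apply h.f6' m hvK hv4
      intro p hp
      rw [mul_inv_eq_iff_eq_mul, ha] at h1
      exact (h.comm_of m.hN hX hy hyX h1 hp).symm
    · exact h1
  have hby : ∀ y ∈ N, y ∉ XX U N → b * y * b⁻¹ = y * s := by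
    intro y hy hyX
    rw [hb, m'.dl_act h.toRW m.hN m.zN huN hy, h.v_y m.hN hu hu4 hy hyX, m.zN]
  have hbx : ∀ x ∈ XX U N, b * x * b⁻¹ = x := by
    intro x hx
    rw [hb, m'.dl_act h.toRW m.hN m.zN huN (XX_le N hx), ((h.mem_XX_iff m.hN hu hu4 (XX_le N hx)).1 hx).symm,
      mul_inv_cancel_right]
  have hec : ∀ p ∈ N, p * (a * b) = a * b * p := by
    intro p hp
    symm
    rw [← mul_inv_eq_iff_eq_mul]
    have e1 : a * b * p * (a * b)⁻¹ = a * (b * p * b⁻¹) * a⁻¹ := by group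
    rw [e1]
    by_cases hpX : p ∈ XX U N
    · rw [hbx p hpX, ha, hX p hpX, mul_inv_cancel_right]
    · have e2 : a * (p * s) * a⁻¹ = (a * p * a⁻¹) * (a * s * a⁻¹) := by group
      rw [hby p hp hpX, e2, hay p hp hpX, hfa.1, mul_inv_cancel_right, mul_assoc, hss, mul_one]
  have hze : z * (a * b) = a * b * z := by
    rw [← mul_assoc, ← hsa.1, mul_assoc, ← hfb.1, mul_assoc]
  obtain ⟨q, hq, hq4, hqe⟩ := h.exists_comm_four m.hK m.zK (hsa.mul (m.zz' h.toRW) hfb)
  have he1 : a * b = 1 := by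
    by_contra hne
    exact h.f6 m hne hec hze hq hq4 hqe.symm
  rw [← ha, ← hb]
  have hbb : b * b = 1 := by rw [hb]; exact m'.dl_dl h.toRW m.hN m.zN huN hu4
  have : a * b * b = b := by rw [he1, one_mul]
  rwa [mul_assoc, hbb, mul_one] at this

theorem TW.exists_q1 (h : TW Om U) (m : M2 Om z s K N) (hv : v ∈ U K) (hv4 : orderOf v = 4) (hu : u ∈ U N)
    (hu4 : orderOf u = 4) (hX : ∀ x ∈ XX U N, dl s v * x = x * dl s v) :
    ∃ y ∈ K, y ∉ XX U K ∧ dl s y * u * (dl s y)⁻¹ = u⁻¹ := by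
  by_contra hcon
  push Not at hcon
  have hss := m.ss h.toRW
  have hvK := h.vch.le K m.hK hv
  have huN := h.vch.le N m.hN hu
  have hcu : ∀ y ∈ K, y ∉ XX U K → dl s y * u = u * dl s y := by
    intro y hy hyX
    rcases h.conj_or m.hN (mem_normalizer_iff_cj.2 (h.fix m hy)) hu hu4 with h1 | h1
    · exact mul_inv_eq_iff_eq_mul.1 h1
    · exact absurd h1 (hcon y hy hyX)
  have htm : ∀ y ∈ K, y ∉ XX U K → TM s N (dl s y) := by
    intro y hy hyX
    exact h.inv_tm m.hN m.zN (m.s_dl h.toRW m.hK m.zK hy).symm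
      (m.dl_dl h.toRW m.hK m.zK hy (h.y_facts m.hK hy hyX).2.1) (h.fix m hy) hu hu4 (hcu y hy hyX)
  obtain ⟨c, y₀, n, hc, hcU, hc4, hcX, hyX₀, hcov⟩ := h.exists_coord m.hK
  obtain ⟨c', y', n', hc', hcU', hc4', hcX', hyX', hcov'⟩ := h.exists_coord m.hN
  have hnn : n = n' := by
    have h4 := h.eqc K m.hK N m.hN
    rw [hc.card, hc'.card] at h4
    have := Nat.pow_right_injective (le_refl 2) h4
    simp only [Nat.add_right_cancel_iff] at this
    exact this
  subst hnn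
  have hy₀ := hc.v_mem
  rcases Nat.eq_zero_or_pos n with hn | hn
  · subst hn
    rw [pow_zero, pow_one] at hcU' hc4'
    -- `X_N = V_N`
    have hXU : ∀ g : G, g * u = u * g → ∀ x ∈ XX U N, g * x = x * g := by
      intro g hg x hx
      obtain ⟨i, rfl⟩ := hcov' x hx
      have h1 : Commute g c' := by
        rcases h.eq_or_inv m.hN hu hu4 hcU' hc4' with h2 | h2
        · rw [h2]; exact hg
        · rw [h2]; exact (show Commute g u from hg).inv_right
      exact (h1.pow_right i).eq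
    have hmv : ∀ y ∈ K, y ∉ XX U K → dl s y * y' * (dl s y)⁻¹ = y' * s := by
      intro y hy hyX
      rcases (htm y hy hyX).2 y' hc'.v_mem with h1 | h1
      · exfalso
        apply h.f6' m hy (h.y_facts m.hK hy hyX).2.1
        intro p hp
        exact (h.comm_of m.hN (hXU _ (hcu y hy hyX)) hc'.v_mem hyX' (mul_inv_eq_iff_eq_mul.1 h1) hp).symm
      · exact h1
    have h1 := hmv y₀ hy₀ hyX₀
    have h2 := hmv _ (K.mul_mem hvK hy₀) (h.mul_not_mem (h.U_le_XX m.hK hv) hyX₀)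
    rw [m.dl_mul h.toRW m.hK m.zK hvK hy₀] at h2
    have h3 : dl s v * dl s y₀ * y' * (dl s v * dl s y₀)⁻¹ = dl s v * (dl s y₀ * y' * (dl s y₀)⁻¹) * (dl s v)⁻¹ := by
      group
    have hva : dl s v * s * (dl s v)⁻¹ = s := by rw [← m.s_dl h.toRW m.hK m.zK hvK, mul_inv_cancel_right]
    have h4 : dl s v * (y' * s) * (dl s v)⁻¹ = (dl s v * y' * (dl s v)⁻¹) * (dl s v * s * (dl s v)⁻¹) := by group
    rw [h3, h1, h4, hva] at h2
    have h5 := mul_right_cancel h2
    apply h.f6' m hvK hv4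
    intro p hp
    exact (h.comm_of m.hN hX hc'.v_mem hyX' (mul_inv_eq_iff_eq_mul.1 h5) hp).symm
  · obtain ⟨k, rfl⟩ : ∃ k, n = k + 1 := ⟨n - 1, by omega⟩
    have h1 : TM s N (dl s c) := by
      have e1 : c = (c * y₀) * y₀⁻¹ := by group
      have hcy := h.mul_not_mem hcX hyX₀
      have hcyK := K.mul_mem hc.c_mem hy₀
      rw [e1, m.dl_mul h.toRW m.hK m.zK hcyK (K.inv_mem hy₀), dl_inv h.toRW m.toMM m.hK m.zK hy₀]
      exact (htm _ hcyK hcy).mul hss ((htm y₀ hy₀ hyX₀).inv hss)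
    have hcp : ∀ i : ℕ, dl s (c ^ i) = dl s c ^ i := by
      intro i
      induction i with
      | zero => rw [pow_zero, pow_zero, m.dl_one h.toRW]
      | succ i ih => rw [pow_succ, pow_succ, m.dl_mul h.toRW m.hK m.zK (K.pow_mem hc.c_mem i) hc.c_mem, ih]
    apply h.f6' m (K.pow_mem hc.c_mem _) hc4
    intro p hp
    have h2 : Commute (dl s c * dl s c) p := h1.sq hss hp
    have h3 : dl s (c ^ 2 ^ (k + 1)) = (dl s c * dl s c) ^ 2 ^ k := by
      rw [hcp, pow_succ', pow_mul, pow_two]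
    rw [h3]
    exact (h2.symm.pow_right _).eq

theorem conj_of_inv (huu : u * u = s) (h1 : d * u * d⁻¹ = u⁻¹) (hs : d * s = s * d) : u * d * u⁻¹ = d * s := by
  have h2 : d * u = u⁻¹ * d := mul_inv_eq_iff_eq_mul.1 h1
  have h3 : d * u⁻¹ = u * d := by
    calc d * u⁻¹ = u * (u⁻¹ * d) * u⁻¹ := by group
      _ = u * d := by rw [← h2]; group
  calc u * d * u⁻¹ = u * (d * u⁻¹) := by group
    _ = (u * u) * d := by rw [h3]; group
    _ = d * s := by rw [huu, hs]

/-- Case I -/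
theorem TW.case_one (h : TW Om U) (m : M2 Om z s K N) (hv : v ∈ U K) (hv4 : orderOf v = 4)
    (hX : ∀ x ∈ XX U N, dl s v * x = x * dl s v) : False := by
  obtain ⟨u, hu, hu4⟩ := h.exists_v m.hN
  have hvK := h.vch.le K m.hK hv
  have huN := h.vch.le N m.hN hu
  obtain ⟨y, hy, hyX, h1⟩ := h.exists_q1 m hv hv4 hu hu4 hX
  have hvy := h.mul_not_mem (h.U_le_XX m.hK hv) hyX
  refine h.final m huN hu4 hvK hv4 hy (h.y_facts m.hK hy hyX).2.1 ?_ (h.y_inv m.hK hy hyX hv)
    (h.y_facts m.hK (K.mul_mem hvK hy) hvy).2.1 (h.eq_of_comm m hv hv4 hu hu4 hX) ?_ (Or.inl hv)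
  · rw [h.v_y m.hK hv hv4 hy hyX, h.y_zz m.hK hy hyX]
  · exact conj_of_inv (m.symm.qq h.toRW m.hN m.zN huN hu4) h1 (m.s_dl h.toRW m.hK m.zK hy).symm

/-! ### Case II -/

theorem pow_sub_one_dvd {j : ℕ} (hj : Odd j) (k : ℕ) : 2 ^ (k + 3) ∣ j ^ 2 ^ (k + 1) - 1 := by
  induction k with
  | zero => simpa using Nat.eight_dvd_sq_sub_one_of_odd hj
  | succ k ih =>
    have h1 : j ^ 2 ^ (k + 1 + 1) - 1 = (j ^ 2 ^ (k + 1) + 1) * (j ^ 2 ^ (k + 1) - 1) := by
      rw [pow_succ 2 (k + 1), pow_mul, ← Nat.sq_sub_sq, one_pow]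
    have h2 : 2 ∣ j ^ 2 ^ (k + 1) + 1 := by
      have h3 : Odd (j ^ 2 ^ (k + 1)) := hj.pow
      exact even_iff_two_dvd.1 (h3.add_odd odd_one)
    rw [h1, show k + 1 + 3 = 1 + (k + 3) by ring, pow_add, pow_one]
    exact Nat.mul_dvd_mul h2 ih

/-- `dl s v` commutes with `X_N`, or `|K| = 8` -/
theorem TW.comm_or_eight (h : TW Om U) (m : M2 Om z s K N) (hv : v ∈ U K) (hv4 : orderOf v = 4) :
    (∀ x ∈ XX U N, dl s v * x = x * dl s v) ∨ (XX U K = U K ∧ XX U N = U N) := by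
  obtain ⟨c, y₀, n, hc, hcU, hc4, hcX, hyX₀, hcov⟩ := h.exists_coord m.hK
  obtain ⟨c', y', n', hc', hcU', hc4', hcX', hyX', hcov'⟩ := h.exists_coord m.hN
  have hnn : n = n' := by
    have h4 := h.eqc K m.hK N m.hN
    rw [hc.card, hc'.card] at h4
    have := Nat.pow_right_injective (le_refl 2) h4
    simp only [Nat.add_right_cancel_iff] at this
    exact this
  subst hnn
  rcases Nat.eq_zero_or_pos n with hn | hn
  · subst hn
    rw [pow_zero, pow_one] at hcU' hcU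
    right
    constructor
    · refine le_antisymm (fun x hx => ?_) (h.U_le_XX m.hK)
      obtain ⟨i, rfl⟩ := hcov x hx
      exact (U K).pow_mem hcU i
    · refine le_antisymm (fun x hx => ?_) (h.U_le_XX m.hN)
      obtain ⟨i, rfl⟩ := hcov' x hx
      exact (U N).pow_mem hcU' i
  · obtain ⟨k, rfl⟩ : ∃ k, n = k + 1 := ⟨n - 1, by omega⟩
    left
    obtain ⟨d, hd⟩ : ∃ d, d = dl s c := ⟨_, rfl⟩
    have hdn : d ∈ normalizer (N : Set G) := by
      rw [hd]; exact mem_normalizer_iff_cj.2 (h.fix m hc.c_mem)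
    have hdX := le_normalizer_XX h.vch m.hN hdn
    obtain ⟨j, hj⟩ := hcov' _ ((mem_normalizer_iff.1 hdX c').1 hcX')
    have hodd : Odd j := by
      by_contra hje
      rw [Nat.not_odd_iff_even] at hje
      have h1 : orderOf (c' ^ j) = orderOf c' := by
        rw [← hj, ← MulAut.conj_apply]
        exact MulEquiv.orderOf_eq (MulAut.conj d) c'
      obtain ⟨i, rfl⟩ := hje
      have h2 : (c' ^ (i + i)) ^ 2 ^ (k + 1 + 1) = 1 := by
        rw [← pow_mul, ← two_mul, mul_comm 2 i, mul_assoc, ← pow_succ', mul_comm, pow_mul]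
        have h3 := hc'.ord
        rw [show k + 1 + 2 = k + 1 + 1 + 1 by ring] at h3
        rw [← h3, pow_orderOf_eq_one, one_pow]
      have h3 := Nat.le_of_dvd (by positivity) (orderOf_dvd_of_pow_eq_one h2)
      rw [h1, hc'.ord] at h3
      have h4 : 2 ^ (k + 1 + 1) < 2 ^ (k + 1 + 2) := Nat.pow_lt_pow_right (by norm_num) (by omega)
      omega
    have hpow : ∀ i : ℕ, d ^ i * c' * (d ^ i)⁻¹ = c' ^ j ^ i := by
      intro i
      induction i with
      | zero => simp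
      | succ i ih =>
        calc d ^ (i + 1) * c' * (d ^ (i + 1))⁻¹ = d ^ i * (d * c' * d⁻¹) * (d ^ i)⁻¹ := by rw [pow_succ]; group
          _ = (d ^ i * c' * (d ^ i)⁻¹) ^ j := by rw [hj, conj_pow]
          _ = c' ^ j ^ (i + 1) := by rw [ih, ← pow_mul, ← pow_succ]
    have hcp : ∀ i : ℕ, dl s (c ^ i) = dl s c ^ i := by
      intro i
      induction i with
      | zero => rw [pow_zero, pow_zero, m.dl_one h.toRW]
      | succ i ih => rw [pow_succ, pow_succ, m.dl_mul h.toRW m.hK m.zK (K.pow_mem hc.c_mem i) hc.c_mem, ih]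
    have hav : dl s v = d ^ 2 ^ (k + 1) := by
      rw [hd, ← hcp]
      rcases h.eq_or_inv m.hK hv hv4 hcU hc4 with h1 | h1
      · rw [h1]
      · rw [h1, dl_inv h.toRW m.toMM m.hK m.zK (h.vch.le K m.hK hv),
          dl_inv_four h.toRW m.toMM m.hK m.zK (h.vch.le K m.hK hv) hv4]
    have hcc : Commute (dl s v) c' := by
      have h1 := hpow (2 ^ (k + 1))
      rw [← hav] at h1
      have h2 : c' ^ j ^ 2 ^ (k + 1) = c' := by
        obtain ⟨l, hl⟩ := pow_sub_one_dvd hodd k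
        have h3 : 1 ≤ j ^ 2 ^ (k + 1) := Nat.one_le_iff_ne_zero.2 (by
          have : j ≠ 0 := by rintro rfl; exact absurd hodd (by decide)
          positivity)
        have h4 : j ^ 2 ^ (k + 1) = 2 ^ (k + 3) * l + 1 := by omega
        have h5 := hc'.ord
        rw [show k + 1 + 2 = k + 3 by ring] at h5
        rw [h4, pow_succ, pow_mul, ← h5, pow_orderOf_eq_one, one_pow, one_mul]
      rw [h2] at h1
      exact mul_inv_eq_iff_eq_mul.1 h1
    intro x hx
    obtain ⟨i, rfl⟩ := hcov' x hx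
    exact (hcc.pow_right i).eq

/-- if `b` inverts `v` and acts trivially modulo `z` then it commutes with an element outside `X_K` -/
theorem RW.exists_comm_out (h : RW Om U) (hK : K ∈ Om) (hz : zz K = z) (ht : TM z K b) (hv : v ∈ U K) (hv4 : orderOf v = 4)
    (hbv : b * v * b⁻¹ = v⁻¹) : ∃ y ∈ K, y ∉ XX U K ∧ b * y = y * b := by
  obtain ⟨y, hy, hyX⟩ := h.exists_y hK
  have hvK := h.vch.le K hK hv
  rcases ht.2 y hy with h1 | h1
  · exact ⟨y, hy, hyX, mul_inv_eq_iff_eq_mul.1 h1⟩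
  · refine ⟨v * y, K.mul_mem hvK hy, h.mul_not_mem (h.U_le_XX hK hv) hyX, ?_⟩
    rw [← mul_inv_eq_iff_eq_mul]
    have h2 : y * z = z * y := by rw [← hz]; exact h.hyp.comm_zz hK (le_normalizer hy)
    have h3 : v * v = z := by rw [← hz]; exact h.sq_eq hK hv hv4
    calc b * (v * y) * b⁻¹ = (b * v * b⁻¹) * (b * y * b⁻¹) := by group
      _ = v⁻¹ * (v * v * y) := by rw [hbv, h1, h2, h3]
      _ = v * y := by group

/-- **two members over `z` and over `s`: contradiction** -/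
theorem TW.m2_false (h : TW Om U) (m : M2 Om z s K N) : False := by
  obtain ⟨v, hv, hv4⟩ := h.exists_v m.hK
  obtain ⟨u, hu, hu4⟩ := h.exists_v m.hN
  have m' := m.symm
  have hvK := h.vch.le K m.hK hv
  have huN := h.vch.le N m.hN hu
  have hss := m.ss h.toRW
  rcases h.comm_or_eight m hv hv4 with hX | ⟨hXK, hXN⟩
  · exact h.case_one m hv hv4 hX
  obtain ⟨a, ha⟩ : ∃ a, a = dl s v := ⟨_, rfl⟩
  obtain ⟨b, hb⟩ : ∃ b, b = dl z u := ⟨_, rfl⟩
  have hfa : TM s N a := by rw [ha]; exact h.f5 m hv hv4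
  have hfb : TM z K b := by rw [hb]; exact h.f5 m' hu hu4
  have hsb : TM s N b := by rw [hb]; exact m'.tm_self h.toRW hu hu4
  have hau : a * u * a⁻¹ = u⁻¹ := by
    rcases h.conj_or m.hN (mem_normalizer_iff_cj.2 (h.fix m hvK)) hu hu4 with h1 | h1
    · exfalso
      apply h.case_one m hv hv4
      intro x hx
      rw [hXN] at hx
      obtain ⟨i, rfl⟩ := h.exists_pw_U m.hN hu hu4 hx
      exact pw_comm (mul_inv_eq_iff_eq_mul.1 h1) i
    · rw [ha]; exact h1
  have hbv : b * v * b⁻¹ = v⁻¹ := by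
    rcases h.conj_or m.hK (mem_normalizer_iff_cj.2 (h.fix m' huN)) hv hv4 with h1 | h1
    · exfalso
      apply h.case_one m' hu hu4
      intro x hx
      rw [hXK] at hx
      obtain ⟨i, rfl⟩ := h.exists_pw_U m.hK hv hv4 hx
      exact pw_comm (mul_inv_eq_iff_eq_mul.1 h1) i
    · rw [hb]; exact h1
  obtain ⟨q, hq, hqX, hbq⟩ := h.exists_comm_out m.hK m.zK hfb hv hv4 hbv
  have hq4 := (h.y_facts m.hK hq hqX).2.1
  obtain ⟨p, hp, hpX, hap⟩ := h.exists_comm_out m.hN m.zN hfa hu hu4 hau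
  obtain ⟨d, hd⟩ : ∃ d, d = dl s q := ⟨_, rfl⟩
  have hdn : d ∈ normalizer (N : Set G) := by rw [hd]; exact mem_normalizer_iff_cj.2 (h.fix m hq)
  have hds : s * d = d * s := by rw [hd]; exact m.s_dl h.toRW m.hK m.zK hq
  have hdz : z * d = d * z := by rw [hd]; exact m.z_dl h.toRW m.hK m.zK hq
  have hqv : q * v * q⁻¹ = v⁻¹ := h.y_inv m.hK hq hqX hv
  -- `d` commutes with `a`
  have hda : d * a = a * d := by
    have h1 : q * v = v⁻¹ * q := mul_inv_eq_iff_eq_mul.1 hqv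
    rw [hd, ha, ← m.dl_mul h.toRW m.hK m.zK hq hvK, h1, m.dl_mul h.toRW m.hK m.zK (K.inv_mem hvK) hq,
      dl_inv h.toRW m.toMM m.hK m.zK hvK, dl_inv_four h.toRW m.toMM m.hK m.zK hvK hv4]
  have huinv : u⁻¹ = u * s := by
    rw [inv_eq_iff_mul_eq_one, ← mul_assoc, m'.qq h.toRW m.hN m.zN huN hu4, hss]
  -- `d` acts trivially modulo `s` on `N`
  have htd : TM s N d := by
    have hdX := le_normalizer_XX h.vch m.hN hdn
    refine h.tm_of_gen m.hN m.zN hds.symm ?_ hp hpX ?_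
    · intro x hx
      rw [hXN] at hx
      have hu' : d * u * d⁻¹ = u ∨ d * u * d⁻¹ = u⁻¹ := h.conj_or m.hN hdn hu hu4
      rcases hu' with h1 | h1
      · left
        obtain ⟨i, rfl⟩ := h.exists_pw_U m.hN hu hu4 hx
        rw [conj_pw, h1]
      · rcases h.mem_four m.hN hu hu4 hx with rfl | rfl | rfl | rfl
        · left; group
        · right; rw [h1, huinv]
        · left; rw [m.zN, ← hds, mul_inv_cancel_right]
        · right
          have h2 : d * u⁻¹ * d⁻¹ = (d * u * d⁻¹)⁻¹ := by group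
          rw [h2, h1, huinv, mul_assoc, hss, mul_one, ← huinv, inv_inv]
    · have h1 : d * p * d⁻¹ ∈ N := (mem_normalizer_iff.1 hdn p).1 hp
      have h2 : d * p * d⁻¹ ∉ XX U N := fun hh => hpX ((mem_normalizer_iff.1 hdX p).2 hh)
      obtain ⟨x, hx⟩ : ∃ x, x = p⁻¹ * (d * p * d⁻¹) := ⟨_, rfl⟩
      have h3 : x ∈ XX U N := by rw [hx]; exact inv_mul_mem_XX h.vch m.hN hp h1 hpX h2
      have h4 : d * p * d⁻¹ = p * x := by rw [hx]; group
      have h5 : a * x * a⁻¹ = x := by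
        have c1 : Commute a p := hap
        have c2 : Commute a d := hda.symm
        have c3 : Commute a x := by
          rw [hx]
          exact c1.inv_right.mul_right ((c2.mul_right c1).mul_right c2.inv_right)
        rw [c3.eq, mul_inv_cancel_right]
      rw [hXN] at h3
      rw [h4]
      rcases h.mem_four m.hN hu hu4 h3 with rfl | rfl | rfl | rfl
      · left; rw [mul_one]
      · exfalso
        rw [hau] at h5
        exact inv_ne_of_four hu4 h5
      · right; rw [m.zN]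
      · exfalso
        have h6 : a * u⁻¹ * a⁻¹ = (a * u * a⁻¹)⁻¹ := by group
        rw [h6, hau, inv_inv] at h5
        exact inv_ne_of_four hu4 h5.symm
  -- `e = b d` centralises `K`
  have hec : ∀ x ∈ K, x * (b * d) = b * d * x := by
    intro x hx
    symm
    refine h.comm_of m.hK ?_ hq hqX ?_ hx
    · intro x hx
      rw [hXK] at hx
      obtain ⟨i, rfl⟩ := h.exists_pw_U m.hK hv hv4 hx
      apply pw_comm
      rw [← mul_inv_eq_iff_eq_mul]
      calc b * d * v * (b * d)⁻¹ = b * (d * v * d⁻¹) * b⁻¹ := by group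
        _ = b * v⁻¹ * b⁻¹ := by rw [hd, m.dl_act h.toRW m.hK m.zK hq hvK, hqv]
        _ = (b * v * b⁻¹)⁻¹ := by group
        _ = v := by rw [hbv, inv_inv]
    · have c1 : d * q = q * d := by rw [hd]; exact (m.q_dl h.toRW m.hK m.zK hq hq4).symm
      rw [mul_assoc, c1, ← mul_assoc, hbq, mul_assoc]
  have hes : s * (b * d) = b * d * s := by
    rw [← mul_assoc, ← hsb.1, mul_assoc, hds, mul_assoc]
  obtain ⟨r, hr, hr4, hre⟩ := h.exists_comm_four m.hN m.zN (hsb.mul hss htd)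
  have he1 : b * d = 1 := by
    by_contra hne
    exact h.f6 m' hne hec hes hr hr4 hre.symm
  have hdb : dl s q = dl z u := by
    have hdd : d * d = 1 := by rw [hd]; exact m.dl_dl h.toRW m.hK m.zK hq hq4
    rw [← hd, ← hb]
    have : b * d * d = d := by rw [he1, one_mul]
    rw [mul_assoc, hdd, mul_one] at this
    exact this.symm
  refine h.final m huN hu4 hq hq4 hvK hv4 hqv ?_
    (h.y_facts m.hK (K.mul_mem hq hvK) (h.mul_not_mem' (h.U_le_XX m.hK hv) hqX)).2.1 hdb ?_ (Or.inr hv)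
  · rw [h.v_y m.hK hv hv4 hq hqX, h.y_zz m.hK hq hqX]
  · rw [← ha]
    exact conj_of_inv (m'.qq h.toRW m.hN m.zN huN hu4) hau hfa.1

end Cfsg.Agent.Cit.CV1
end

-- part: Cit/Nil/CV1/LemT
section
/-!
# (6b)(CV), rank one: LEMMA T

`TW.no_mm` : there are no M/M pairs.  `lemT` : LEMMA T.
-/

set_option autoImplicit false
set_option linter.style.haveILetI false
set_option linter.unusedSectionVars false

namespace Cfsg.Agent.Cit.CV1

open Subgroup Cfsg Cit Tau CV

variable {G : Type*} [Group G] [Finite G] {Om : Set (Subgroup G)} {U : Subgroup G → Subgroup G}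

/-- there are no M/M pairs -/
theorem TW.no_mm (h : TW Om U) (z s : G) : ¬ MM Om z s := fun m => by
  obtain ⟨z', s', K, N, m'⟩ := h.exists_m2 m
  exact h.m2_false m'

/-- **LEMMA T** -/
theorem lemT (w : RW Om U) (hR : ∀ e : G, e ≠ 1 → R1 Om (centralizer {e})) : LemT Om U :=
  TW.lemT_of ⟨w, hR⟩ (TW.no_mm ⟨w, hR⟩)

end Cfsg.Agent.Cit.CV1
end

private theorem dce_f72fb071fc3f : _root_.True := by
  try have : _root_.True := by simp only [_root_.Cfsg.Agent.Cit.CV1.dl.eq_1]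
  try have : _root_.True := by simp only [_root_.Cfsg.Agent.Cit.CV1.WV.eq_1]
  try have : _root_.True := by simp only [_root_.Cfsg.Agent.Cit.CV1.AV.eq_1]
  try have : _root_.True := by simp only [_root_.Cfsg.Agent.Cit.CV1.WF.eq_1]
  exact _root_.True.intro
end

-- part: Cit/Nil/CV1/TPartA
section
prune_inst 0x1004040022000000000000200000201000000200400000004000000100004000400000200003100000a0002000002003980000420000002a00000040040c050000120080480000200000008000000000000000000000000000008000000000200000000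
set_option linter.all false
open scoped Cfsg.Agent.FastGrp

/-!
# (6b)(CV), rank one, T-type end: the parts

`exists_cj_mul` : (B3) `s` T-type to `K`, `x ∈ X_K`: `s x` is a conjugate of `s` under `K`.
`PP Om U S K` : `X_K` and all `s ∈ ZZ ∩ S` T-type to `K`.
-/

set_option autoImplicit false
set_option linter.style.haveILetI false
set_option linter.unusedSectionVars false

namespace Cfsg.Agent.Cit.CV1

open Subgroup Cfsg Cit Tau CV Cfsg.Agent.Cit.Nil.CV.XLevel

variable {G : Type*} [Group G]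

/-- `X_K` and all `s ∈ ZZ ∩ S` T-type to `K` -/
def PP (Om : Set (Subgroup G)) (U : Subgroup G → Subgroup G) (S K : Subgroup G) : Subgroup G :=
  closure {x | x ∈ XX U K ∨ (x ∈ S ∧ ∃ N ∈ Om, zz N = x ∧ TT U K x)}

variable [Finite G] {Om : Set (Subgroup G)} {U : Subgroup G → Subgroup G} {K K' L M N N' S S' T : Subgroup G}
  {a b c e g s t u v w x y z : G}

namespace LW

variable (h : LW Om U)
include h

theorem zz_mem_XX (hK : K ∈ Om) : zz K ∈ XX U K := by
  obtain ⟨v, hv, hv4⟩ := h.exists_v hK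
  rw [← h.sq hK hv hv4]
  exact mul_mem (h.U_le_XX hK hv) (h.U_le_XX hK hv)

theorem inv_XX (hK : K ∈ Om) (hN : N ∈ Om) (ht : TT U K (zz N)) (hx : x ∈ XX U K) :
    zz N * x * (zz N)⁻¹ = x⁻¹ := by
  obtain ⟨v, hv, hv4⟩ := h.exists_v hK
  exact inv_xx h.toCVW hN hK hv hv4 (h.tt_inv hK hN ht hv hv4) hx

/-- **(B3)** -/
theorem exists_cj_mul (hK : K ∈ Om) (hN : N ∈ Om) (ht : TT U K (zz N)) (hx : x ∈ XX U K) :
    ∃ k ∈ K, zz (cj k N) = zz N * x := by
  obtain ⟨v, hv, hv4⟩ := h.exists_v hK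
  obtain ⟨y, hy, hyX⟩ := h.exists_y hK
  obtain ⟨hd, hodd⟩ := inv_y h.toCVW hN hK hv hv4 (h.tt_inv hK hN ht hv hv4) hy hyX
  obtain ⟨d, hdd⟩ : ∃ d, d = (zz N * y * (zz N)⁻¹)⁻¹ * y := ⟨_, rfl⟩
  rw [← hdd] at hd hodd
  have hinv : ∀ x ∈ XX U K, zz N * x = x⁻¹ * zz N := fun x hx =>
    mul_inv_eq_iff_eq_mul.1 (h.inv_XX hK hN ht hx)
  have hinv' : ∀ x ∈ XX U K, x * zz N = zz N * x⁻¹ := fun x hx => by
    rw [hinv _ ((XX U K).inv_mem hx), inv_inv]
  have hyd : y⁻¹ * zz N * y = zz N * d := by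
    rw [hdd, hinv _ (by rw [← hdd]; exact hd)]
    group
  by_cases hW : W2 U K x
  · obtain ⟨k, hk, rfl⟩ := (h.W2_iff hK).1 hW
    refine ⟨k⁻¹, K.inv_mem (XX_le K hk), ?_⟩
    rw [h.hyp.zz_cj hN, hinv' _ ((XX U K).inv_mem hk), inv_inv, mul_assoc]
  · have hW' : W2 U K (d⁻¹ * x) := by
      rw [h.W2_mul hK ((XX U K).inv_mem hd) hx, h.W2_inv hK hd]
      tauto
    obtain ⟨k, hk, hkk⟩ := (h.W2_iff hK).1 hW'
    refine ⟨k⁻¹ * y⁻¹, K.mul_mem (K.inv_mem (XX_le K hk)) (K.inv_mem hy), ?_⟩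
    rw [h.hyp.zz_cj hN]
    have hx' : x = d * (k * k) := by rw [← hkk]; group
    calc k⁻¹ * y⁻¹ * zz N * (k⁻¹ * y⁻¹)⁻¹ = k⁻¹ * (y⁻¹ * zz N * y) * k := by group
      _ = k⁻¹ * zz N * d * k := by rw [hyd]; group
      _ = zz N * k * d * k := by rw [hinv' _ ((XX U K).inv_mem hk), inv_inv]
      _ = zz N * (d * k) * k := by
          rw [mul_assoc (zz N) k d, xx_comm_self h.toCVW hK hk hd]
      _ = zz N * x := by rw [hx']; group

theorem tt_mul (hK : K ∈ Om) (hN : N ∈ Om) (ht : TT U K (zz N)) (hx : x ∈ XX U K) : TT U K (zz N * x) := by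
  obtain ⟨k, hk, hkz⟩ := h.exists_cj_mul hK hN ht hx
  have h1 := h.tt_cj hK ht k
  rwa [mem_normalizer_iff_cj.1 (le_normalizer hk), ← h.hyp.zz_cj hN, hkz] at h1

/-- an element commuting with `zz K` and with `V_K` does not change T-type -/
theorem tt_mul_of_comm (ht : TT U K s) (h1 : c * zz K = zz K * c) (h2 : ∀ v ∈ U K, c * v = v * c) :
    TT U K (s * c) := by
  obtain ⟨h3, v, hv, hv4, hne⟩ := ht
  refine ⟨by rw [mul_assoc, h1, ← mul_assoc, h3, mul_assoc], v, hv, hv4, fun hh => hne ?_⟩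
  rw [mul_assoc, h2 v hv, ← mul_assoc, ← mul_assoc] at hh
  exact mul_right_cancel hh

/-- **(6.1)**: the T-partners of `K` in `S` form one coset of `X_K` -/
theorem tt_coset (hS : Syl S ⊤) (hK : K ∈ Phi Om S) (hN : N ∈ Om) (hN' : N' ∈ Om) (hs : zz N ∈ S) (hs' : zz N' ∈ S)
    (ht : TT U K (zz N)) (ht' : TT U K (zz N')) : ∃ x ∈ XX U K, zz N' = zz N * x := by
  haveI : Fact (Nat.Prime 2) := ⟨Nat.prime_two⟩
  obtain ⟨v, hv, hv4⟩ := h.exists_v hK.1
  obtain ⟨y, hy, hyX⟩ := h.exists_y hK.1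
  have hvX := h.U_le_XX hK.1 hv
  obtain ⟨hd, hodd⟩ := inv_y h.toCVW hN hK.1 hv hv4 (h.tt_inv hK.1 hN ht hv hv4) hy hyX
  obtain ⟨hd', hodd'⟩ := inv_y h.toCVW hN' hK.1 hv hv4 (h.tt_inv hK.1 hN' ht' hv hv4) hy hyX
  obtain ⟨s, hsd⟩ : ∃ s, s = zz N := ⟨_, rfl⟩
  obtain ⟨s', hsd'⟩ : ∃ s', s' = zz N' := ⟨_, rfl⟩
  have hss : s * s = 1 := by rw [hsd]; exact h.zz_zz hN
  have hss' : s' * s' = 1 := by rw [hsd']; exact h.zz_zz hN'
  have hsi : s⁻¹ = s := inv_eq_of_mul_eq_one_right hss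
  rw [← hsd] at hd hodd
  rw [← hsd'] at hd' hodd'
  obtain ⟨d, hdd⟩ : ∃ d, d = (s * y * s⁻¹)⁻¹ * y := ⟨_, rfl⟩
  obtain ⟨d', hdd'⟩ : ∃ d, d = (s' * y * s'⁻¹)⁻¹ * y := ⟨_, rfl⟩
  rw [← hdd] at hd hodd
  rw [← hdd'] at hd' hodd'
  have hX : ∀ x ∈ XX U K, s * x * s⁻¹ = x⁻¹ := fun x hx => by rw [hsd]; exact h.inv_XX hK.1 hN ht hx
  have hX' : ∀ x ∈ XX U K, s' * x * s'⁻¹ = x⁻¹ := fun x hx => by rw [hsd']; exact h.inv_XX hK.1 hN' ht' hx
  have hys : s * y * s⁻¹ = y * d⁻¹ := by rw [hdd]; group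
  have hys' : s' * y * s'⁻¹ = y * d'⁻¹ := by rw [hdd']; group
  have hW : W2 U K (d⁻¹ * d') := by
    rw [h.W2_mul hK.1 ((XX U K).inv_mem hd) hd', h.W2_inv hK.1 hd]
    tauto
  obtain ⟨k, hk, hkk⟩ := (h.W2_iff hK.1).1 hW
  -- the element `c`
  obtain ⟨c, hcd⟩ : ∃ c, c = k * (s * s') := ⟨_, rfl⟩
  have hyk : ∀ x ∈ XX U K, y * x * y⁻¹ = x⁻¹ := (h.y_facts hK.1 hy hyX).2.2
  have hcX : ∀ x ∈ XX U K, c * x = x * c := by
    intro x hx
    have h1 : s * s' * x * (s * s')⁻¹ = x := by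
      calc s * s' * x * (s * s')⁻¹ = s * (s' * x * s'⁻¹) * s⁻¹ := by group
        _ = x := by rw [hX' x hx, hX _ ((XX U K).inv_mem hx), inv_inv]
    have h2 : s * s' * x = x * (s * s') := mul_inv_eq_iff_eq_mul.1 h1
    rw [hcd, mul_assoc, h2, ← mul_assoc, xx_comm_self h.toCVW hK.1 hk hx, mul_assoc]
  have hcy : c * y = y * c := by
    have h1 : s * s' * y * (s * s')⁻¹ = y * (k * k) := by
      calc s * s' * y * (s * s')⁻¹ = s * (s' * y * s'⁻¹) * s⁻¹ := by group
        _ = (s * y * s⁻¹) * (s * d'⁻¹ * s⁻¹) := by rw [hys']; group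
        _ = y * (d⁻¹ * d') := by rw [hys, hX _ ((XX U K).inv_mem hd'), inv_inv, mul_assoc]
        _ = _ := by rw [hkk]
    have h2 : s * s' * y = y * (k * k) * (s * s') := mul_inv_eq_iff_eq_mul.1 h1
    have h3 : k * y = y * k⁻¹ := by
      have h4 := hyk k⁻¹ ((XX U K).inv_mem hk)
      rw [inv_inv] at h4
      exact (mul_inv_eq_iff_eq_mul.1 h4).symm
    calc c * y = k * (s * s' * y) := by rw [hcd]; group
      _ = (k * y) * k * k * (s * s') := by rw [h2]; group
      _ = y * c := by rw [h3, hcd]; group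
  have hkS : k ∈ S := hK.2 (XX_le K hk)
  have hcS : c ∈ S := by
    rw [hcd]
    exact S.mul_mem hkS (S.mul_mem (by rw [hsd]; exact hs) (by rw [hsd']; exact hs'))
  -- `s c = s' k`-type element
  have hsc : s * c = s' * k := by
    have h1 : s * k * s⁻¹ = k⁻¹ := hX k hk
    have h2 : s' * k * s'⁻¹ = k⁻¹ := hX' k hk
    calc s * c = (s * k * s⁻¹) * (s * s) * s' := by rw [hcd]; group
      _ = k⁻¹ * s' := by rw [h1, hss, mul_one]
      _ = s' * k := by rw [← h2]; group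
  obtain ⟨k', hk', hzk'⟩ := h.exists_cj_mul hK.1 hN' ht' hk
  have hN'' : cj k' N' ∈ Om := h.hO N' hN' k'
  rw [← hsd', ← hsc] at hzk'
  have hscsc : s * c * (s * c) = 1 := by rw [← hzk']; exact h.zz_zz hN''
  have hci : s * c * s⁻¹ = c⁻¹ := by
    rw [hsi]
    exact (inv_eq_of_mul_eq_one_left (by rw [← hscsc]; group)).symm
  have hcj : ∀ j : ℤ, s * c ^ j * s⁻¹ = c ^ (-j) := fun j => by
    rw [← conj_zpow, hci, inv_zpow, zpow_neg]
  have hcs : ∀ j : ℤ, c ^ j * s = s * c ^ (-j) := fun j => by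
    rw [← hcj j, hsi]
    calc c ^ j * s = s * s * c ^ j * s := by rw [hss, one_mul]
      _ = _ := by group
  have hzc : c * zz K = zz K * c := hcX _ (h.zz_mem_XX hK.1)
  have hTc : ∀ (M : Subgroup G) (j : ℤ), TT U K (zz M) → TT U K (zz M * c ^ j) := by
    intro M j hM
    refine h.tt_mul_of_comm hM ?_ fun v hv => ?_
    · exact ((show Commute c (zz K) from hzc).zpow_left j).eq
    · exact ((show Commute c v from hcX v (h.U_le_XX hK.1 hv)).zpow_left j).eq
  -- all `s c^j` are in ZZ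
  have hall : ∀ j : ℤ, ∃ M ∈ Om, zz M = s * c ^ j := by
    intro j
    rcases Int.even_or_odd' j with ⟨i, rfl | rfl⟩
    · refine ⟨cj (c ^ (-i)) N, h.hO N hN _, ?_⟩
      rw [h.hyp.zz_cj hN, ← hsd, hcs, mul_assoc, ← zpow_neg, ← zpow_add]
      congr 2; ring
    · refine ⟨cj (c ^ (-i)) (cj k' N'), h.hO _ hN'' _, ?_⟩
      rw [h.hyp.zz_cj hN'', hzk', ← mul_assoc, hcs, ← zpow_neg]
      calc s * c ^ (- -i) * c * c ^ (- -i) = s * (c ^ (- -i) * c ^ (1 : ℤ) * c ^ (- -i)) := by rw [zpow_one]; group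
        _ = s * c ^ (2 * i + 1) := by rw [← zpow_add, ← zpow_add]; congr 2; ring
  have hcjS : ∀ j : ℤ, c ^ j ∈ S := fun j => S.zpow_mem hcS j
  have hTs : TT U K s := by rw [hsd]; exact ht
  -- `(eps)`
  have heps : ∀ q : G, q ∈ S → (∃ M ∈ Om, zz M = s * q) → TT U K (s * q) → s * q = q * s → q = 1 ∨ q = zz K := by
    intro q hq hM hT hc
    obtain ⟨M, hM, hMq⟩ := hM
    have h1 := h.tt_two hS hK hN hM hs (by rw [hMq]; exact S.mul_mem (by rw [hsd]; exact hs) hq) ht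
      (by rw [hMq]; exact hT) (by rw [hMq, ← hsd, mul_assoc, ← hc])
    rw [hMq, ← hsd] at h1
    rcases h1 with h1 | h1
    · exact Or.inl (mul_eq_left.1 h1)
    · exact Or.inr (mul_left_cancel h1)
  have hTT0 : ∀ j : ℤ, TT U K (s * c ^ j) := fun j => by rw [hsd]; exact hTc N j ht
  -- `c ∈ ⟨z⟩`
  have hcz : c = 1 ∨ c = zz K := by
    by_cases hcc : c * c = 1
    · have hcinv : c⁻¹ = c := inv_eq_of_mul_eq_one_right hcc
      have h1 := hall 1
      have h2 := hTT0 1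
      rw [zpow_one] at h1 h2
      refine heps c hcS h1 h2 ?_
      rw [hcinv] at hci
      exact mul_inv_eq_iff_eq_mul.1 hci
    · exfalso
      -- an element of order four
      obtain ⟨m, hm⟩ := (IsPGroup.iff_orderOf.1 hS.2.1) ⟨c, hcS⟩
      rw [Subgroup.orderOf_mk] at hm
      have hm2 : 2 ≤ m := by
        by_contra hlt
        have h1 : m = 0 ∨ m = 1 := by omega
        rcases h1 with rfl | rfl
        · rw [pow_zero, orderOf_eq_one_iff] at hm
          exact hcc (by rw [hm, one_mul])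
        · rw [pow_one] at hm
          exact hcc (by rw [← pow_two, ← hm]; exact pow_orderOf_eq_one c)
      obtain ⟨f, hf⟩ : ∃ f, f = c ^ ((2 ^ (m - 2) : ℕ) : ℤ) := ⟨_, rfl⟩
      have hff : f * f = c ^ (2 ^ (m - 1)) := by
        rw [hf, zpow_natCast, ← pow_add]
        congr 1
        have : m - 1 = (m - 2) + 1 := by omega
        rw [this, pow_succ]; ring
      have hff1 : f * f ≠ 1 := by
        rw [hff]
        intro hh
        have h1 := orderOf_dvd_of_pow_eq_one hh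
        rw [hm, Nat.pow_dvd_pow_iff_le_right (by norm_num)] at h1
        omega
      have hff4 : f * f * (f * f) = 1 := by
        rw [hff, ← pow_add, ← two_mul, ← pow_succ', show m - 1 + 1 = m by omega, ← hm, pow_orderOf_eq_one]
      have hfS : f ∈ S := by rw [hf]; exact hcjS _
      have hfX : ∀ x ∈ XX U K, f * x = x * f := fun x hx => by
        rw [hf]; exact ((show Commute c x from hcX x hx).zpow_left _).eq
      have hfy : f * y = y * f := by rw [hf]; exact ((show Commute c y from hcy).zpow_left _).eq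
      have hsf : s * f * s⁻¹ = f⁻¹ := by rw [hf, hcj, zpow_neg]
      -- `f² = z`
      have hfz : f * f = zz K := by
        have e1 : f * f = c ^ ((2 ^ (m - 2) : ℕ) + (2 ^ (m - 2) : ℕ) : ℤ) := by rw [hf, zpow_add]
        have h1 := hall ((2 ^ (m - 2) : ℕ) + (2 ^ (m - 2) : ℕ) : ℤ)
        have h2 := hTT0 ((2 ^ (m - 2) : ℕ) + (2 ^ (m - 2) : ℕ) : ℤ)
        rw [← e1] at h1 h2
        have h3 : s * (f * f) = f * f * s := by
          have h4 : s * (f * f) * s⁻¹ = f * f := by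
            calc s * (f * f) * s⁻¹ = (s * f * s⁻¹) * (s * f * s⁻¹) := by group
              _ = (f * f)⁻¹ := by rw [hsf]; group
              _ = f * f := inv_eq_of_mul_eq_one_right hff4
          exact mul_inv_eq_iff_eq_mul.1 h4
        rcases heps (f * f) (S.mul_mem hfS hfS) h1 h2 h3 with h4 | h4
        · exact absurd h4 hff1
        · exact h4
      -- `b = f v`
      have hfv : f * v = v * f := hfX v hvX
      have hvv := h.sq hK.1 hv hv4
      have hbb : f * v * (f * v) = 1 := by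
        calc f * v * (f * v) = f * (v * f) * v := by group
          _ = (f * f) * (v * v) := by rw [← hfv]; group
          _ = 1 := by rw [hfz, hvv, h.zz_zz hK.1]
      have hsb : s * (f * v) * s⁻¹ = f * v := by
        calc s * (f * v) * s⁻¹ = (s * f * s⁻¹) * (s * v * s⁻¹) := by group
          _ = (v * f)⁻¹ := by rw [hsf, hX v hvX]; group
          _ = f * v := by rw [← hfv]; exact inv_eq_of_mul_eq_one_right hbb
      obtain ⟨M, hM, hMf⟩ := hall ((2 ^ (m - 2) : ℕ) : ℤ)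
      have hTf : TT U K (zz M) := by rw [hMf]; exact hTT0 _
      obtain ⟨q, hq, hzq⟩ := h.exists_cj_mul hK.1 hM hTf hvX
      have hTq := h.tt_mul hK.1 hM hTf hvX
      rw [hMf, ← hf, mul_assoc] at hzq hTq
      have h5 := heps (f * v) (S.mul_mem hfS (hK.2 (h.vch.le K hK.1 hv))) ⟨_, h.hO M hM q, hzq⟩ hTq
        (mul_inv_eq_iff_eq_mul.1 hsb)
      -- `f ∈ {v, v⁻¹}`
      have h6 : f = v⁻¹ ∨ f = v := by
        rcases h5 with h5 | h5
        · exact Or.inl (eq_inv_of_mul_eq_one_left h5)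
        · right
          rw [← hvv] at h5
          exact mul_right_cancel h5
      have h7 : y * v * y⁻¹ = v⁻¹ := hyk v hvX
      have h8 : v * y = y * v := by
        rcases h6 with h6 | h6
        · rw [h6] at hfy
          calc v * y = v * (y * v⁻¹) * v := by group
            _ = y * v := by rw [← hfy]; group
        · rw [h6] at hfy; exact hfy
      rw [← h8, mul_inv_cancel_right] at h7
      exact inv_ne_of_four hv4 h7.symm
  -- end
  have hs'e : s' = s * (c * k⁻¹) := by rw [← mul_assoc, hsc]; group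
  refine ⟨c * k⁻¹, mul_mem ?_ ((XX U K).inv_mem hk), by rw [← hsd, ← hsd']; exact hs'e⟩
  rcases hcz with h1 | h1
  · rw [h1]; exact one_mem _
  · rw [h1]; exact h.zz_mem_XX hK.1

end LW

end Cfsg.Agent.Cit.CV1
end

-- part: Cit/Nil/CV1/TPartB
section
prune_inst 0x201004040000000000000000200000001000000200400000004000000101004100400000320003100100a0202008002003100009420000002a00020040000c050000328080480000200000008800000000000000000000000000008000000000200000000
set_option linter.all false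
open scoped Cfsg.Agent.FastGrp

/-!
# (6b)(CV), rank one, T-type end: T-partners

`exists_tt` : (6.0) a member of `S` with a T-partner has a T-partner in `S`;
`tt_orth`   : (6.2) T-partners of different members of `S` commute, as members.
-/

set_option autoImplicit false
set_option linter.style.haveILetI false
set_option linter.unusedSectionVars false

namespace Cfsg.Agent.Cit.CV1

open Subgroup Cfsg Cit Tau CV

variable {G : Type*} [Group G] [Finite G] {Om : Set (Subgroup G)} {U : Subgroup G → Subgroup G}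
  {K K' L M N N' S S' T : Subgroup G} {a b c e g s t u v w x y z : G}

/-- the kernel of the action on the members of `S` -/
def KP (Om : Set (Subgroup G)) (S : Subgroup G) : Subgroup G where
  carrier := {g | ∀ K ∈ Phi Om S, cj g K = K}
  one_mem' := fun K _ => cj_one K
  mul_mem' := fun {a b} ha hb K hK => by rw [cj_mul, hb K hK, ha K hK]
  inv_mem' := fun {a} ha K hK => by
    have h1 := congrArg (cj a⁻¹) (ha K hK)
    rw [cj_inv_cj] at h1
    exact h1.symm

theorem mem_KP : g ∈ KP Om S ↔ ∀ K ∈ Phi Om S, cj g K = K := Iff.rfl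

namespace LW

variable (h : LW Om U)
include h

theorem le_norm_D {A : Subgroup G} (hA : ∀ g ∈ A, ∀ K ∈ Phi Om S, cj g K ∈ Phi Om S) :
    A ≤ normalizer ((sSup (Phi Om S) : Subgroup G) : Set G) := by
  have key : ∀ g ∈ A, sSup (Phi Om S) ≤ cj g (sSup (Phi Om S)) := by
    intro g hg
    refine sSup_le fun K hK => ?_
    have h1 := cj_mono g (le_sSup (hA g⁻¹ (A.inv_mem hg) K hK))
    rwa [cj_cj_inv] at h1
  intro g hg
  rw [mem_normalizer_iff_cj]
  refine le_antisymm ?_ (key g hg)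
  have h1 := cj_mono g (key g⁻¹ (A.inv_mem hg))
  rwa [cj_cj_inv] at h1

theorem cj_mem_Phi_of_norm (hg : g ∈ normalizer ((sSup (Phi Om S) : Subgroup G) : Set G)) (hK : K ∈ Phi Om S) :
    cj g K ∈ Phi Om S := by
  refine ⟨h.hO K hK.1 g, ?_⟩
  have h1 := cj_mono g (le_sSup hK)
  rw [mem_normalizer_iff_cj.1 hg] at h1
  exact h1.trans (sSup_le fun L hL => hL.2)

/-- **(6.0)** -/
theorem exists_tt (hS : Syl S ⊤) (hK : K ∈ II Om U S) : ∃ N ∈ Om, zz N ∈ S ∧ TT U K (zz N) := by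
  obtain ⟨hK, N, hN, ht⟩ := hK
  have hun : ∀ L ∈ Om, zz L = zz K → L = K := fun L hL hz => h.tt_unique hK.1 hN ht hL hz
  have h1 : IsPGroup 2 (zpowers (zz N)) := (h.two N hN).to_le (zpowers_le.2 (h.hyp.zz_mem hN))
  obtain ⟨R, hR, hle⟩ := exists_syl_ge h1 (show zpowers (zz N) ≤ centralizer {zz K} from
    zpowers_le.2 (mem_centralizer_singleton_iff.2 ht.1))
  have hD : IsPGroup 2 (sSup (Phi Om S) : Subgroup G) := hS.2.1.to_le (sSup_le fun K hK => hK.2)
  obtain ⟨R', hR', hle'⟩ := exists_syl_ge hD (show sSup (Phi Om S) ≤ centralizer {zz K} from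
    sSup_le fun L hL => by
      by_cases hKL : L = K
      · rw [hKL]; exact h.hyp.le_centralizer hK.1
      · exact le_centralizer_singleton fun l hl => (h.orth_of_Phi hS hL hK hKL).2 l hl _ (h.hyp.zz_mem hK.1))
  obtain ⟨c, hc, rfl⟩ := hR.exists_conj hR'
  have hcK : cj c K = K := mem_normalizer_iff_cj.1 (h.norm_of_unique hK.1 hun (mem_centralizer_singleton_iff.1 hc))
  have ht1 : TT U K (zz (cj c N)) := by
    have := h.tt_cj hK.1 ht c
    rwa [hcK, ← h.hyp.zz_cj hN] at this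
  have hN1 : cj c N ∈ Om := h.hO N hN c
  obtain ⟨S', hS', hRS⟩ := exists_top hR'.2.1
  have hPhi : Phi Om S' = Phi Om S :=
    Phi_eq_of_le h.hO hS hS'.2.1 fun L hL => (le_sSup hL).trans (hle'.trans hRS)
  have hz1 : zz (cj c N) ∈ S' := by
    rw [h.hyp.zz_cj hN]
    exact hRS (conj_mem_cj (hle (mem_zpowers _)))
  -- the kernel
  have hSn : S ≤ normalizer ((sSup (Phi Om S) : Subgroup G) : Set G) :=
    h.le_norm_D fun g hg K hK => cj_mem_Phi h.hO hg hK
  have hS'n : S' ≤ normalizer ((sSup (Phi Om S) : Subgroup G) : Set G) :=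
    h.le_norm_D fun g hg K hK => by
      rw [← hPhi] at hK ⊢
      exact cj_mem_Phi h.hO hg hK
  have hMn : KP Om S ≤ normalizer ((sSup (Phi Om S) : Subgroup G) : Set G) :=
    h.le_norm_D fun g hg K hK => by rw [mem_KP.1 hg K hK]; exact hK
  have hnM : normalizer ((sSup (Phi Om S) : Subgroup G) : Set G) ≤ normalizer (KP Om S : Set G) := by
    have key : ∀ g ∈ normalizer ((sSup (Phi Om S) : Subgroup G) : Set G), ∀ m ∈ KP Om S, g * m * g⁻¹ ∈ KP Om S := by
      intro g hg m hm K hK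
      have h2 := h.cj_mem_Phi_of_norm (inv_mem hg) hK
      rw [cj_mul, cj_mul, mem_KP.1 hm _ h2, cj_cj_inv]
    intro g hg
    rw [mem_normalizer_iff]
    intro m
    refine ⟨key g hg m, fun hm => ?_⟩
    have h2 := key g⁻¹ (inv_mem hg) _ hm
    have h3 : g⁻¹ * (g * m * g⁻¹) * g⁻¹⁻¹ = m := by group
    rwa [h3] at h2
  have a1 : Syl (S ⊓ KP Om S) (KP Om S) := LB.syl_inf_normal (LB.syl_of_le hS hSn le_top) hMn hnM
  have a2 : Syl (S' ⊓ KP Om S) (KP Om S) := LB.syl_inf_normal (LB.syl_of_le hS' hS'n le_top) hMn hnM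
  obtain ⟨m, hm, hmc⟩ := a2.exists_conj a1
  have hz2 : zz (cj c N) ∈ S' ⊓ KP Om S := by
    refine ⟨hz1, fun L hL => ?_⟩
    rw [← hPhi] at hL
    exact mem_normalizer_iff_cj.1 (h.norm_mem hS'.2.1 hL.1 hL.2 hN1 hz1)
  refine ⟨cj m (cj c N), h.hO _ hN1 m, ?_, ?_⟩
  · rw [h.hyp.zz_cj hN1]
    have h2 := conj_mem_cj (g := m) hz2
    rw [hmc] at h2
    exact h2.1
  · have h2 := h.tt_cj hK.1 ht1 m
    rwa [mem_KP.1 hm K hK, ← h.hyp.zz_cj hN1] at h2

/-- first part of (6.2) -/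
theorem tt_tt_zz (hS : Syl S ⊤) (hK : K ∈ Phi Om S) (hK' : K' ∈ Phi Om S) (hne : K ≠ K') (hN : N ∈ Om)
    (hN' : N' ∈ Om) (hs : zz N ∈ S) (hs' : zz N' ∈ S) (ht : TT U K (zz N)) (ht' : TT U K' (zz N')) :
    zz N * zz N' = zz N' * zz N := by
  haveI : Fact (Nat.Prime 2) := ⟨Nat.prime_two⟩
  by_contra hcon
  have hn1 : ¬ TT U K (zz N') := fun hh => hne (h.tt_eq hS.2.1 hK.1 hK.2 hK'.1 hK'.2 hN' hh ht')
  have hn2 : ¬ TT U K' (zz N) := fun hh => hne (h.tt_eq hS.2.1 hK.1 hK.2 hK'.1 hK'.2 hN ht hh)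
  have c1 := h.le_cent_of_not_tt hK.1 hN' (h.comm_zz_of_mem hS.2.1 hK.1 hK.2 hN' hs') hn1
  have c2 := h.le_cent_of_not_tt hK'.1 hN (h.comm_zz_of_mem hS.2.1 hK'.1 hK'.2 hN hs) hn2
  obtain ⟨s, hsd⟩ : ∃ s, s = zz N := ⟨_, rfl⟩
  obtain ⟨s', hsd'⟩ : ∃ s', s' = zz N' := ⟨_, rfl⟩
  have hss : s * s = 1 := by rw [hsd]; exact h.zz_zz hN
  have hss' : s' * s' = 1 := by rw [hsd']; exact h.zz_zz hN'
  have hsi : s⁻¹ = s := inv_eq_of_mul_eq_one_right hss
  have hsi' : s'⁻¹ = s' := inv_eq_of_mul_eq_one_right hss'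
  rw [← hsd, ← hsd'] at hcon
  obtain ⟨p, hpd⟩ : ∃ p, p = s * s' := ⟨_, rfl⟩
  have hpS : p ∈ S := by rw [hpd, hsd, hsd']; exact S.mul_mem hs hs'
  have hp1 : s * p * s⁻¹ = p⁻¹ := by
    rw [hpd, mul_inv_rev, hsi, hsi']
    calc s * (s * s') * s = (s * s) * (s' * s) := by group
      _ = s' * s := by rw [hss, one_mul]
  have hp2 : s' * p * s'⁻¹ = p⁻¹ := by
    rw [hpd, mul_inv_rev, hsi, hsi']
    calc s' * (s * s') * s' = s' * s * (s' * s') := by group
      _ = s' * s := by rw [hss', mul_one]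
  have hpp : p * p ≠ 1 := by
    intro hh
    apply hcon
    have h1 : p⁻¹ = p := inv_eq_of_mul_eq_one_right hh
    rw [← hpd, ← h1, hpd, mul_inv_rev, hsi, hsi']
  obtain ⟨m, hm⟩ := (IsPGroup.iff_orderOf.1 hS.2.1) ⟨p, hpS⟩
  rw [Subgroup.orderOf_mk] at hm
  have hm2 : 2 ≤ m := by
    by_contra hlt
    have h1 : m = 0 ∨ m = 1 := by omega
    rcases h1 with rfl | rfl
    · rw [pow_zero, orderOf_eq_one_iff] at hm
      exact hpp (by rw [hm, one_mul])
    · rw [pow_one] at hm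
      exact hpp (by rw [← pow_two, ← hm]; exact pow_orderOf_eq_one p)
  obtain ⟨f, hf⟩ : ∃ f, f = p ^ (2 ^ (m - 2)) := ⟨_, rfl⟩
  have hff : f * f = p ^ (2 ^ (m - 1)) := by
    rw [hf, ← pow_add]
    congr 1
    have : m - 1 = (m - 2) + 1 := by omega
    rw [this, pow_succ]; ring
  have hff1 : f * f ≠ 1 := by
    rw [hff]
    intro hh
    have h1 := orderOf_dvd_of_pow_eq_one hh
    rw [hm, Nat.pow_dvd_pow_iff_le_right (by norm_num)] at h1
    omega
  have hff4 : f * f * (f * f) = 1 := by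
    rw [hff, ← pow_add, ← two_mul, ← pow_succ', show m - 1 + 1 = m by omega, ← hm, pow_orderOf_eq_one]
  have hff2 : f * f = (p * p) ^ (2 ^ (m - 2)) := by
    rw [hf, ← pow_add, ← pow_two, ← pow_mul]; congr 1; ring
  have hfS : f ∈ S := by rw [hf]; exact S.pow_mem hpS _
  have hf1 : s * f * s⁻¹ = f⁻¹ := by rw [hf, ← conj_pow, hp1, inv_pow]
  have hf2 : s' * f * s'⁻¹ = f⁻¹ := by rw [hf, ← conj_pow, hp2, inv_pow]
  -- the general step
  have key : ∀ (A B : Subgroup G) (q : G), A ∈ Phi Om S → B ∈ Om → zz B = q → q ∈ S → q * q = 1 →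
      TT U A (zz B) → q * f * q⁻¹ = f⁻¹ → (∀ v ∈ U A, orderOf v = 4 → p * v * p⁻¹ = v⁻¹) →
      (p * zz A = zz A * p) → f * f = zz A := by
    intro A B q hA hB hBq hqS hqq htA hqf hpv hpz
    obtain ⟨v, hv, hv4⟩ := h.exists_v hA.1
    have hqi : q⁻¹ = q := inv_eq_of_mul_eq_one_right hqq
    have e1 : f⁻¹ * q * f = q * (f * f) := by
      calc f⁻¹ * q * f = (q * f * q⁻¹) * q * f := by rw [hqf]
        _ = q * (f * f) := by group
    have e2 : zz (cj f⁻¹ B) = q * (f * f) := by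
      rw [h.hyp.zz_cj hB, hBq, inv_inv, e1]
    have hcv : ∀ w ∈ U A, p * p * w = w * (p * p) := by
      have h0 : p * p * v = v * (p * p) := by
        have h1 : p * p * v * (p * p)⁻¹ = v := by
          calc p * p * v * (p * p)⁻¹ = p * (p * v * p⁻¹) * p⁻¹ := by group
            _ = p * v⁻¹ * p⁻¹ := by rw [hpv v hv hv4]
            _ = (p * v * p⁻¹)⁻¹ := by group
            _ = v := by rw [hpv v hv hv4, inv_inv]
        exact mul_inv_eq_iff_eq_mul.1 h1
      intro w hw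
      obtain ⟨n, rfl⟩ := h.exists_pw_U hA.1 hv hv4 hw
      exact pw_comm h0 n
    have hcz : p * p * zz A = zz A * (p * p) := by
      rw [mul_assoc, hpz, ← mul_assoc, hpz, mul_assoc]
    have hTT : TT U A (zz B * (f * f)) := by
      rw [hff2]
      refine h.tt_mul_of_comm htA ?_ fun w hw => ?_
      · exact ((show Commute (p * p) (zz A) from hcz).pow_left _).eq
      · exact ((show Commute (p * p) w from hcv w hw).pow_left _).eq
    rw [hBq, ← e2] at hTT
    have hcm : q * (f * f) = f * f * q := by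
      have h4 : q * (f * f) * q⁻¹ = f * f := by
        calc q * (f * f) * q⁻¹ = (q * f * q⁻¹) * (q * f * q⁻¹) := by group
          _ = (f * f)⁻¹ := by rw [hqf]; group
          _ = f * f := inv_eq_of_mul_eq_one_right hff4
      exact mul_inv_eq_iff_eq_mul.1 h4
    have h5 := h.tt_two hS hA hB (h.hO B hB f⁻¹) (by rw [hBq]; exact hqS)
      (by rw [e2]; exact S.mul_mem hqS (S.mul_mem hfS hfS)) htA hTT (by
        rw [e2, hBq, mul_assoc, ← hcm])
    rw [e2, hBq] at h5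
    rcases h5 with h5 | h5
    · exact absurd (mul_eq_left.1 h5) hff1
    · exact mul_left_cancel h5
  have i1 : ∀ v ∈ U K, orderOf v = 4 → p * v * p⁻¹ = v⁻¹ := by
    intro v hv hv4
    have h1 : s' * v = v * s' := by
      rw [hsd']; exact (mem_centralizer_singleton_iff.1 (c1 (h.vch.le K hK.1 hv))).symm
    calc p * v * p⁻¹ = s * (s' * v) * s'⁻¹ * s⁻¹ := by rw [hpd]; group
      _ = s * v * s⁻¹ := by rw [h1]; group
      _ = v⁻¹ := by rw [hsd]; exact h.tt_inv hK.1 hN ht hv hv4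
  have i2 : ∀ v ∈ U K', orderOf v = 4 → p * v * p⁻¹ = v⁻¹ := by
    intro v hv hv4
    have h1 : s * v⁻¹ = v⁻¹ * s := by
      rw [hsd]; exact (mem_centralizer_singleton_iff.1 (c2 (K'.inv_mem (h.vch.le K' hK'.1 hv)))).symm
    calc p * v * p⁻¹ = s * (s' * v * s'⁻¹) * s⁻¹ := by rw [hpd]; group
      _ = s * v⁻¹ * s⁻¹ := by rw [hsd', h.tt_inv hK'.1 hN' ht' hv hv4]
      _ = v⁻¹ := by rw [h1, mul_inv_cancel_right]
  have z1 : ∀ A ∈ Phi Om S, p * zz A = zz A * p := by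
    intro A hA
    have h1 : s * zz A = zz A * s := by rw [hsd]; exact h.comm_zz_of_mem hS.2.1 hA.1 hA.2 hN hs
    have h2 : s' * zz A = zz A * s' := by rw [hsd']; exact h.comm_zz_of_mem hS.2.1 hA.1 hA.2 hN' hs'
    rw [hpd, mul_assoc, h2, ← mul_assoc, h1, mul_assoc]
  have k1 := key K N s hK hN hsd.symm (by rw [hsd]; exact hs) hss ht hf1 i1 (z1 K hK)
  have k2 := key K' N' s' hK' hN' hsd'.symm (by rw [hsd']; exact hs') hss' ht' hf2 i2 (z1 K' hK')
  exact hne (h.tt_unique hK'.1 hN' ht' hK.1 (k1.symm.trans k2))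

/-- **(6.2)** -/
theorem tt_orth (hS : Syl S ⊤) (hK : K ∈ Phi Om S) (hK' : K' ∈ Phi Om S) (hne : K ≠ K') (hN : N ∈ Om)
    (hN' : N' ∈ Om) (hs : zz N ∈ S) (hs' : zz N' ∈ S) (ht : TT U K (zz N)) (ht' : TT U K' (zz N')) :
    ∀ x ∈ N, ∀ y ∈ N', x * y = y * x := by
  have hc := h.tt_tt_zz hS hK hK' hne hN hN' hs hs' ht ht'
  have hun : ∀ L ∈ Om, zz L = zz N → L = N := fun L hL hz => h.tt_unique' hK.1 hN ht hL hz
  have hP : IsPGroup 2 (zpowers (zz N')) := (h.two N' hN').to_le (zpowers_le.2 (h.hyp.zz_mem hN'))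
  obtain ⟨S', hS', hF, hle⟩ := h.exists_swap hS hK hN hs ht hP
    (zpowers_le.2 (h.norm_of_unique hN hun hc.symm))
    (fun L hL _ => zpowers_le.2 (h.norm_mem hS.2.1 hL.1 hL.2 hN' hs'))
  have hNS : N ∈ Phi Om S' := by rw [hF]; exact Set.mem_insert _ _
  have hK'S : K' ∈ Phi Om S' := by rw [hF]; exact Set.mem_insert_of_mem _ ⟨hK', fun hh => hne hh.symm⟩
  have hzS : zz N' ∈ S' := hle (mem_zpowers _)
  have h1 : ¬ TT U N (zz N') := by
    intro hh
    have h2 := h.tt_eq hS'.2.1 hNS.1 hNS.2 hK'S.1 hK'S.2 hN' hh ht'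
    subst h2
    exact h.not_tt_of_comm hK.1 hN (Or.inr (h.orth_of_Phi hS hK hK' hne).2) ht
  rcases h.comm_of_not_tt hN hN' hc.symm h1 with h2 | h2
  · subst h2
    exact absurd (h.tt_eq hS.2.1 hK.1 hK.2 hK'.1 hK'.2 hN ht ht') hne
  · exact h2

theorem tt_comm (hS : Syl S ⊤) (hK : K ∈ Phi Om S) (hK' : K' ∈ Phi Om S) (hne : K ≠ K') (hN : N ∈ Om)
    (hN' : N' ∈ Om) (hs : zz N ∈ S) (hs' : zz N' ∈ S) (ht : TT U K (zz N)) (ht' : TT U K' (zz N')) :
    ∀ x ∈ N, zz N' * x = x * zz N' := fun x hx =>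
  (h.tt_orth hS hK hK' hne hN hN' hs hs' ht ht' x hx _ (h.hyp.zz_mem hN')).symm

end LW

end Cfsg.Agent.Cit.CV1
end

-- part: Cit/Nil/CV1/PPart
section
set_option linter.all false
open scoped Cfsg.Agent.FastGrp

/-!
# (6b)(CV), rank one, T-type end: the parts `PP Om U S K`

`mem_PP` : the elements of `PP Om U S K`;
`PP_inf_WF` : `PP Om U S K` meets `WF Om U S` trivially.
-/

set_option autoImplicit false
set_option linter.style.haveILetI false
set_option linter.unusedSectionVars false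

namespace Cfsg.Agent.Cit.CV1

open Subgroup Cfsg Cit Tau CV

variable {G : Type*} [Group G] [Finite G] {Om : Set (Subgroup G)} {U : Subgroup G → Subgroup G}
  {K K' L M N N' S S' T : Subgroup G} {a b c e g s t u v w x y z : G}

namespace LW

variable (h : LW Om U)
include h

theorem mem_PP (hS : Syl S ⊤) (hK : K ∈ Phi Om S) (hx : x ∈ PP Om U S K) :
    x ∈ XX U K ∨ (x ∈ S ∧ ∃ N ∈ Om, zz N = x ∧ TT U K x) := by
  have hmul : ∀ N ∈ Om, zz N ∈ S → TT U K (zz N) → ∀ x ∈ XX U K,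
      zz N * x ∈ S ∧ ∃ N' ∈ Om, zz N' = zz N * x ∧ TT U K (zz N * x) := by
    intro N hN hs ht x hx
    obtain ⟨k, hk, hkz⟩ := h.exists_cj_mul hK.1 hN ht hx
    exact ⟨S.mul_mem hs (hK.2 (XX_le K hx)), cj k N, h.hO N hN k, hkz, h.tt_mul hK.1 hN ht hx⟩
  induction hx using closure_induction with
  | mem x hx => exact hx
  | one => exact Or.inl (one_mem _)
  | mul x y _ _ hx hy =>
    rcases hx with hx | ⟨hxS, N, hN, rfl, htx⟩
    · rcases hy with hy | ⟨hyS, N, hN, rfl, hty⟩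
      · exact Or.inl (mul_mem hx hy)
      · right
        have h1 : x * zz N = zz N * x⁻¹ := by
          have h2 := h.inv_XX hK.1 hN hty ((XX U K).inv_mem hx)
          rw [inv_inv] at h2
          exact (mul_inv_eq_iff_eq_mul.1 h2).symm
        rw [h1]
        exact hmul N hN hyS hty _ ((XX U K).inv_mem hx)
    · rcases hy with hy | ⟨hyS, N', hN', rfl, hty⟩
      · exact Or.inr (hmul N hN hxS htx _ hy)
      · obtain ⟨c, hc, hcz⟩ := h.tt_coset hS hK hN hN' hxS hyS htx hty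
        left
        rw [hcz, ← mul_assoc, h.zz_zz hN, one_mul]
        exact hc
  | inv x _ hx =>
    rcases hx with hx | ⟨hxS, N, hN, rfl, htx⟩
    · exact Or.inl ((XX U K).inv_mem hx)
    · rw [h.hyp.zz_inv hN]
      exact Or.inr ⟨hxS, N, hN, rfl, htx⟩

theorem PP_le (hK : K ∈ Phi Om S) : PP Om U S K ≤ S := by
  refine (closure_le _).2 ?_
  rintro x (hx | hx)
  · exact hK.2 (XX_le K hx)
  · exact hx.1

/-- an element of the part commuting with `K` is `1` or `zz K` -/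
theorem PP_cent (hS : Syl S ⊤) (hK : K ∈ Phi Om S) (hx : x ∈ PP Om U S K) (hc : ∀ k ∈ K, k * x = x * k) :
    x = 1 ∨ x = zz K := by
  rcases h.mem_PP hS hK hx with hx | ⟨-, N, hN, rfl, ht⟩
  · obtain ⟨y, hy, hyX⟩ := h.exists_y hK.1
    have h1 := (h.y_facts hK.1 hy hyX).2.2 x hx
    rw [hc y hy, mul_inv_cancel_right] at h1
    by_cases hx1 : x = 1
    · exact Or.inl hx1
    · right
      refine h.hyp.eq_zz hK.1 (XX_le K hx) ?_ hx1
      nth_rw 1 [h1]; exact inv_mul_cancel x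
  · exfalso
    obtain ⟨-, v, hv, -, hne⟩ := ht
    exact hne (hc v (h.vch.le K hK.1 hv)).symm

/-- `WF` commutes with the T-partners in `S` -/
theorem WF_comm_tt (hS : Syl S ⊤) (hK : K ∈ Phi Om S) (hN : N ∈ Om) (hs : zz N ∈ S) (ht : TT U K (zz N))
    (hx : x ∈ WF Om U S) (hy : y ∈ N) : y * x = x * y := by
  have h1 : WF Om U S ≤ centralizer {y} := by
    rw [WF, closure_le]
    rintro _ ⟨L, hL, rfl⟩
    refine mem_centralizer_singleton_iff.2 ?_
    rcases h.comm_of_not_tt hL.1.1 hN (h.comm_zz_of_mem hS.2.1 hL.1.1 hL.1.2 hN hs) (hL.2 N hN) with h2 | h2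
    · subst h2
      exact absurd (h.tt_symm hK.1 hN ht) (hL.2 K hK.1)
    · exact h2 _ (h.hyp.zz_mem hL.1.1) y hy
  exact (mem_centralizer_singleton_iff.1 (h1 hx)).symm

theorem PP_inf_WF (hS : Syl S ⊤) (hK : K ∈ II Om U S) : PP Om U S K ⊓ WF Om U S = ⊥ := by
  rw [eq_bot_iff]
  rintro x ⟨hxP, hxW⟩
  rw [mem_bot]
  rcases h.PP_cent hS hK.1 hxP (fun k hk => h.WF_comm hS hxW hK.1 hk) with h1 | h1
  · exact h1
  · exfalso
    obtain ⟨N, hN, hs, ht⟩ := h.exists_tt hS hK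
    obtain ⟨-, w, hw, -, hne⟩ := h.tt_symm hK.1.1 hN ht
    rw [← h1] at hne
    exact hne (h.WF_comm_tt hS hK.1 hN hs ht hxW (h.vch.le N hN hw)).symm

end LW

end Cfsg.Agent.Cit.CV1
end

-- part: Cit/Nil/RTwoM/Pairs
section
prune_inst 0x10000400200000001800002000000010000002004000000040000000400040204500012040031000108c402000000001900000022000002a00000040000c050000020280480000210000008000000000000000000000000000008000000000200000000
set_option linter.all false
open scoped Cfsg.Agent.FastGrp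

-- part: Cit/Nil/RTwoM/TypeI
section
/-!
# `r = 2`, any `m`: the language `As K t y`; type I pairs (from `RI/TypeI.lean`)

* `As K t y` : `y ∈ K` and `t` acts on `K` as `y`;
* `TI.exists_as` : a type I neighbour `t` of `z` acts on `K` (over `z`) as some `y` with `y² = z`;
* `TI.rot` : the quarter turn: `y ∈ K` acts on `L` (over `t`) as an automorphism of order 4 about `x`;
* `TI.conj_z`, `TI.conj_y`, `TI.mul_right`, `TI.mul_left`;
* `RZ_center`, `eq_or_of_as`, `exists_as_of_mem`, `TI.of_mem_RZ`.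
-/

set_option autoImplicit false
set_option linter.style.haveILetI false
set_option linter.unusedSectionVars false

namespace Cfsg.Agent.Cit.Nil.RTwoM

open Subgroup Cfsg Cfsg.Agent.Cit

open RTwo (Q3 Act i11 i12 i21 i22 i_ne1 i_ne2 i_ne12 i_cases i_cases3)

variable {G : Type*} [Group G]

/-- `t` acts on `K` as `y ∈ K` -/
def As (K : Subgroup G) (t y : G) : Prop := y ∈ K ∧ ∀ k ∈ K, t * k * t⁻¹ = y * k * y⁻¹

namespace As

variable {K L : Subgroup G} {s t y x g : G}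

theorem self (hy : y ∈ K) : As K y y := ⟨hy, fun _ _ => rfl⟩

theorem one_iff : As K t 1 ↔ ∀ k ∈ K, t * k = k * t := by
  constructor
  · intro h k hk
    have := h.2 k hk
    rw [one_mul, inv_one, mul_one, mul_inv_eq_iff_eq_mul] at this
    exact this
  · intro h
    refine ⟨one_mem _, fun k hk => ?_⟩
    rw [h k hk, mul_inv_cancel_right, one_mul, inv_one, mul_one]

theorem mul (h : As K s x) (h' : As K t y) : As K (s * t) (x * y) := by
  refine ⟨mul_mem h.1 h'.1, fun k hk => ?_⟩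
  have h1 : t * k * t⁻¹ ∈ K := by
    rw [h'.2 k hk]; exact mul_mem (mul_mem h'.1 hk) (inv_mem h'.1)
  calc s * t * k * (s * t)⁻¹ = s * (t * k * t⁻¹) * s⁻¹ := by group
    _ = x * (t * k * t⁻¹) * x⁻¹ := h.2 _ h1
    _ = x * (y * k * y⁻¹) * x⁻¹ := by rw [h'.2 k hk]
    _ = _ := by group

theorem inv (h : As K t y) : As K t⁻¹ y⁻¹ := by
  refine ⟨inv_mem h.1, fun k hk => ?_⟩
  have h1 : y⁻¹ * k * y ∈ K := mul_mem (mul_mem (inv_mem h.1) hk) h.1
  have h2 := h.2 _ h1
  have h3 : y * (y⁻¹ * k * y) * y⁻¹ = k := by group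
  rw [h3] at h2
  calc t⁻¹ * k * t⁻¹⁻¹ = t⁻¹ * (t * (y⁻¹ * k * y) * t⁻¹) * t⁻¹⁻¹ := by rw [h2]
    _ = _ := by group

theorem conj (h : As K t y) (g : G) : As (cj g K) (g * t * g⁻¹) (g * y * g⁻¹) := by
  refine ⟨conj_mem_cj h.1, fun k hk => ?_⟩
  rw [mem_cj] at hk
  have h1 := h.2 _ hk
  calc g * t * g⁻¹ * k * (g * t * g⁻¹)⁻¹ = g * (t * (g⁻¹ * k * g) * t⁻¹) * g⁻¹ := by group
    _ = g * (y * (g⁻¹ * k * g) * y⁻¹) * g⁻¹ := by rw [h1]
    _ = _ := by group

theorem conj_comm (h : As K t y) (hg : g * t = t * g) : As (cj g K) t (g * y * g⁻¹) := by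
  have := h.conj g
  rwa [hg, mul_inv_cancel_right] at this

/-- `t` acts as `y`, so it commutes with `y` -/
theorem comm (h : As K t y) : t * y = y * t := by
  have h1 := h.2 y h.1
  rw [mul_inv_cancel_right, mul_inv_eq_iff_eq_mul] at h1
  exact h1

theorem cj_eq (h : As K t y) : Cit.cj t K = K := by
  refine le_antisymm ?_ ?_
  · rintro _ ⟨k, hk, rfl⟩
    change t * k * t⁻¹ ∈ K
    rw [h.2 k hk]
    exact mul_mem (mul_mem h.1 hk) (inv_mem h.1)
  · intro k hk
    rw [mem_cj]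
    have h1 := h.inv.2 k hk
    rw [inv_inv] at h1
    rw [h1]
    exact mul_mem (mul_mem (inv_mem h.1) hk) (inv_mem (inv_mem h.1))

end As

section

variable [Finite G] {Om : Set (Subgroup G)} {K K' L L' M : Subgroup G} {z t g n x x' y y' u s : G} {a b c d : Fin 3 → G}

theorem Mem.as_z (hK : Mem Om z K) (h : WM Om) : As K z 1 :=
  As.one_iff.2 fun _ hk => (hK.comm_z h hk).symm

theorem Mem.as_one (hK : Mem Om z K) (hL : Mem Om z L) (h : WM Om) (hne : K ≠ L) (hx : x ∈ L) : As K x 1 :=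
  As.one_iff.2 fun _ hk => (hK.comm hL h hne hk hx).symm

theorem Mem.as_center (hK : Mem Om z K) (h : WM Om) (h1 : As K t y) (h2 : As K t 1) : y = 1 ∨ y = z := by
  obtain ⟨a, qa⟩ := h.exists_q3 hK
  have h3 : ∀ k ∈ K, y * k = k * y := by
    intro k hk
    have := h1.2 k hk
    rw [As.one_iff.1 h2 k hk, mul_inv_cancel_right, eq_mul_inv_iff_mul_eq] at this
    exact this.symm
  exact qa.center h1.1 (h3 _ (qa.mem 0)) (h3 _ (qa.mem 1))

theorem Mem.as_unique (hK : Mem Om z K) (h : WM Om) (h1 : As K t y) (h2 : As K t y') : y' = y ∨ y' = z * y := by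
  have h3 := h2.mul h1.inv
  rw [mul_inv_cancel] at h3
  have h4 : As K (1 : G) 1 := As.self (one_mem _)
  rcases hK.as_center h h3 h4 with h5 | h5
  · left; exact mul_inv_eq_one.1 h5
  · right; rw [mul_inv_eq_iff_eq_mul] at h5; exact h5

/-- `y² = z` excludes the trivial action -/
theorem Mem.not_as_one (hK : Mem Om z K) (h : WM Om) (h1 : As K t y) (hy : y * y = z) : ¬ As K t 1 := by
  intro h2
  have hz1 := hK.inZ.z1 h
  rcases hK.as_center h h1 h2 with h3 | h3
  · rw [h3, one_mul] at hy; exact hz1 hy.symm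
  · rw [h3, hK.inZ.z2 h] at hy; exact hz1 hy.symm

theorem Mem.sq_cases (hK : Mem Om z K) (h : WM Om) (hx : x ∈ K) : x = 1 ∨ x = z ∨ x * x = z := by
  obtain ⟨a, qa⟩ := h.exists_q3 hK
  rcases qa.cov x hx with h1 | h1 | ⟨i, h1⟩
  · exact Or.inl h1
  · exact Or.inr (Or.inl h1)
  · right; right
    rcases h1 with rfl | rfl
    · exact qa.sq i
    · calc z * a i * (z * a i) = z * (a i * z) * a i := by group
        _ = z * (z * a i) * a i := by rw [qa.zc]
        _ = z := by rw [qa.zzx, qa.sq]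

theorem Mem.inv_eq (hK : Mem Om z K) (h : WM Om) (hx : x ∈ K) (hxx : x * x = z) : x⁻¹ = z * x := by
  apply inv_eq_of_mul_eq_one_right
  rw [← mul_assoc, hK.comm_z h hx, mul_assoc, hxx, hK.inZ.z2 h]

theorem TI.exists_as (hti : TI Om z t) (h : WM Om) (hK : Mem Om z K) : ∃ y, As K t y ∧ y * y = z := by
  obtain ⟨a, qa⟩ := h.exists_q3 hK
  rcases qa.inner_cases (hti.inn K hK) with h1 | ⟨j, h1⟩
  · exfalso
    exact hti.nc hK fun k hk => by
      have := h1 k hk
      rwa [mul_inv_eq_iff_eq_mul] at this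
  · exact ⟨a j, ⟨qa.mem j, h1⟩, qa.sq j⟩

/-- the action of a type I neighbour is nontrivial -/
theorem TI.sq_of_as (hti : TI Om z t) (h : WM Om) (hK : Mem Om z K) (hy : As K t y) : y * y = z := by
  obtain ⟨y', h1, h2⟩ := hti.exists_as h hK
  rcases hK.as_unique h h1 hy with rfl | rfl
  · exact h2
  · calc z * y' * (z * y') = z * (y' * z) * y' := by group
      _ = z * (z * y') * y' := by rw [hK.comm_z h h1.1]
      _ = (z * z) * (y' * y') := by group
      _ = z := by rw [hK.inZ.z2 h, h2, one_mul]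

/-- coordinates of `K` starting with a given element -/
theorem Mem.exists_q (hK : Mem Om z K) (h : WM Om) (hy : y ∈ K) (hyy : y * y = z) :
    ∃ a, Q3 K z a ∧ a 0 = y := by
  obtain ⟨a, qa⟩ := h.exists_q3 hK
  obtain ⟨i, hi⟩ := qa.of_sq hy hyy
  have h1 := qa.rot i
  have h2 : a (0 + i) = a i := by rw [zero_add]
  rcases hi with hi | hi
  · exact ⟨_, h1, by rw [hi]; exact h2⟩
  · refine ⟨_, h1.flip, ?_⟩
    simp only [Fin.isValue, zero_ne_one, if_false]
    rw [hi, h2]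

/-- coordinates starting with two given elements -/
theorem Mem.exists_q2 (hK : Mem Om z K) (h : WM Om) (hy : y ∈ K) (hyy : y * y = z) (hu : u ∈ K) (huu : u * u = z)
    (hne : y * u ≠ u * y) : ∃ a, Q3 K z a ∧ a 0 = y ∧ a 1 = u := by
  obtain ⟨a, qa⟩ := h.exists_q3 hK
  exact ⟨_, qa.of_pair hy hu hyy huu hne, rfl, rfl⟩

/-- an element of `K` commuting with `y` -/
theorem Mem.of_comm (hK : Mem Om z K) (h : WM Om) (hy : y ∈ K) (hyy : y * y = z) (hu : u ∈ K)
    (hc : y * u = u * y) : u = 1 ∨ u = z ∨ u = y ∨ u = z * y := by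
  obtain ⟨a, qa, rfl⟩ := hK.exists_q h hy hyy
  rcases qa.cov u hu with h1 | h1 | ⟨i, h1⟩
  · exact Or.inl h1
  · exact Or.inr (Or.inl h1)
  by_cases hi : i = 0
  · subst hi; exact Or.inr (Or.inr h1)
  exfalso
  have h2 := qa.anti (Ne.symm hi)
  rcases h1 with rfl | rfl
  · rw [hc, mul_assoc] at h2
    exact qa.zne _ h2.symm
  · have h3 : a 0 * (z * a i) = z * (a 0 * a i) := by
      rw [← mul_assoc, ← qa.zc, mul_assoc]
    rw [h3, mul_assoc z (a i)] at hc
    have h4 := mul_left_cancel hc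
    rw [h4, mul_assoc] at h2
    exact qa.zne _ h2.symm

/-- an element of order 4 not commuting with `y` inverts it -/
theorem Mem.anti (hK : Mem Om z K) (h : WM Om) (hy : y ∈ K) (hyy : y * y = z) (hu : u ∈ K) (huu : u * u = z)
    (hne : y * u ≠ u * y) : u * y * u⁻¹ = z * y := by
  obtain ⟨a, qa, rfl, rfl⟩ := hK.exists_q2 h hy hyy hu huu hne
  exact qa.conj_ne (by decide)

theorem Mem.comm_or (hK : Mem Om z K) (h : WM Om) (hy : y ∈ K) (hu : u ∈ K) : u * y * u⁻¹ = y ∨ u * y * u⁻¹ = z * y := by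
  rcases hK.sq_cases h hy with h1 | h1 | h1
  · left; rw [h1]; group
  · left; rw [h1, hK.comm_z h hu, mul_inv_cancel_right]
  rcases hK.sq_cases h hu with h2 | h2 | h2
  · left; rw [h2]; group
  · left; rw [h2, ← hK.comm_z h hy, mul_inv_cancel_right]
  by_cases hc : y * u = u * y
  · left; rw [← hc, mul_inv_cancel_right]
  · right; exact hK.anti h hy h1 hu h2 hc

/-! ### The quarter turn -/

/-- `y ∈ K` (the action of `t`) acts on `L` as a quarter turn about `x` (the action of `z`) -/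
theorem TI.rot (hti : TI Om z t) (h : WM Om) (hK : Mem Om z K) (hL : Mem Om t L) (hy : As K t y) (hx : As L z x) :
    cj y L = L ∧ y * x = x * y ∧ ∀ u ∈ L, u * u = t → x * u ≠ u * x →
      y * u * y⁻¹ = x * u ∨ y * u * y⁻¹ = t * (x * u) := by
  have hyy := hti.sq_of_as h hK hy
  have hxx := (hti.symm h).sq_of_as h hL hx
  have h1 := h.h3 hK hL hy.1 hyy hy.comm.symm
  obtain ⟨c, qc, hc0⟩ := hL.exists_q h hx.1 hxx
  have key : ∀ c : Fin 3 → G, Q3 L t c → c 0 = x → y * c 0 * y⁻¹ = c 0 ∧ (y * c 1 * y⁻¹ = c 2 ∨ y * c 1 * y⁻¹ = t * c 2) := by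
    intro c qc hc0
    refine qc.quarter (fun k hk => ?_) fun k hk => ?_
    · have := conj_mem_cj (g := y) hk
      rwa [h1] at this
    · rw [hc0, ← hx.2 k hk]
      have : y * (y * k * y⁻¹) * y⁻¹ = (y * y) * k * (y * y)⁻¹ := by group
      rw [this, hyy]
  refine ⟨h1, ?_, fun u hu huu hxu => ?_⟩
  · have h2 := (key c qc hc0).1
    rw [hc0, mul_inv_eq_iff_eq_mul] at h2
    exact h2
  · obtain ⟨c, qc, hc0, hc1⟩ := hL.exists_q2 h hx.1 hxx hu huu hxu
    have h2 := (key c qc hc0).2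
    have h3 : c 2 = x * u := by
      have := qc.mul 0
      rw [hc0] at this
      simp only [zero_add] at this
      rw [hc1] at this
      exact this.symm
    rw [hc1, h3] at h2
    exact h2

theorem TI.yx (hti : TI Om z t) (h : WM Om) (hK : Mem Om z K) (hL : Mem Om t L) (hy : As K t y) (hx : As L z x) :
    y * x = x * y := (hti.rot h hK hL hy hx).2.1

/-- an element of `L` not commuting with `x` -/
theorem Mem.exists_nc (hL : Mem Om t L) (h : WM Om) (hx : x ∈ L) (hxx : x * x = t) :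
    ∃ u ∈ L, u * u = t ∧ x * u ≠ u * x := by
  obtain ⟨c, qc, rfl⟩ := hL.exists_q h hx hxx
  refine ⟨c 1, qc.mem 1, qc.sq 1, fun h1 => ?_⟩
  have h2 := qc.anti (i_ne1 0)
  simp only [zero_add] at h2
  rw [h1, mul_assoc] at h2
  exact qc.zne _ h2.symm

/-- `u z u⁻¹ = z t` -/
theorem As.conj_z (hL : Mem Om t L) (h : WM Om) (hx : As L z x) (hxx : x * x = t) (hu : u ∈ L)
    (huu : u * u = t) (hxu : x * u ≠ u * x) : u * z * u⁻¹ = z * t := by
  have h1 := hx.2 u hu
  have h2 : x * u * x⁻¹ = t * u := hL.anti h hu huu hx.1 hxx (fun h3 => hxu h3.symm)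
  rw [h2, mul_inv_eq_iff_eq_mul] at h1
  -- `z u = t u z`
  have h3 : t * u = u * t := (hL.comm_z h hu).symm
  have htt := hL.inZ.z2 h
  have h4 : u * z = z * t * u := by
    calc u * z = (t * t) * u * z := by rw [htt, one_mul]
      _ = t * (t * u * z) := by group
      _ = t * (z * u) := by rw [h1]
      _ = t * (z * u) := rfl
      _ = (t * z) * u := by group
      _ = z * t * u := by
        have h5 : t * z = z * t := by
          -- `z` commutes with `t = u²`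
          have h6 : z * (u * u) = (u * u) * z := by
            calc z * (u * u) = (z * u) * u := by group
              _ = t * u * z * u := by rw [h1]
              _ = t * u * (z * u) := by group
              _ = t * u * (t * u * z) := by rw [h1]
              _ = t * (u * t) * u * z := by group
              _ = t * (t * u) * u * z := by rw [h3]
              _ = (t * t) * (u * u) * z := by group
              _ = (u * u) * z := by rw [htt, one_mul]
          rw [huu] at h6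
          exact h6.symm
        rw [h5]
  rw [h4, mul_inv_cancel_right]

theorem TI.conj_z (hti : TI Om z t) (h : WM Om) (hL : Mem Om t L) (hx : As L z x) (hu : u ∈ L)
    (huu : u * u = t) (hxu : x * u ≠ u * x) : u * z * u⁻¹ = z * t :=
  As.conj_z hL h hx ((hti.symm h).sq_of_as h hL hx) hu huu hxu

/-- `u y u⁻¹ = x^{±1} y` -/
theorem TI.conj_y (hti : TI Om z t) (h : WM Om) (hK : Mem Om z K) (hL : Mem Om t L) (hy : As K t y) (hx : As L z x)
    (hu : u ∈ L) (huu : u * u = t) (hxu : x * u ≠ u * x) :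
    u * y * u⁻¹ = x * y ∨ u * y * u⁻¹ = t * (x * y) := by
  obtain ⟨-, h1, h2⟩ := hti.rot h hK hL hy hx
  have hxx := (hti.symm h).sq_of_as h hL hx
  have ht : t * u = u * t := (hL.comm_z h hu).symm
  have htx : t * x = x * t := (hL.comm_z h hx.1).symm
  have htt := hL.inZ.z2 h
  have h3 : x * u * x⁻¹ = t * u := hL.anti h hu huu hx.1 hxx (fun h3 => hxu h3.symm)
  have h4 : x * u = t * u * x := by rwa [mul_inv_eq_iff_eq_mul] at h3
  have h5 : t * (t * (x * y)) = x * y := by rw [← mul_assoc, htt, one_mul]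
  have hxu' : u * x = t * (x * u) := by
    rw [h4]
    calc u * x = (t * t) * u * x := by rw [htt, one_mul]
      _ = _ := by group
  rcases h2 u hu huu hxu with h6 | h6
  · -- `y u = x u y`
    right
    rw [mul_inv_eq_iff_eq_mul] at h6 ⊢
    calc u * y = (t * t) * (u * y) := by rw [htt, one_mul]
      _ = t * (t * (x * x)⁻¹) * (x * x) * (u * y) := by group
      _ = t * (t * t⁻¹) * (x * x) * (u * y) := by rw [hxx]
      _ = t * x * (x * u * y) := by group
      _ = t * x * (y * u) := by rw [h6]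
      _ = t * (x * y) * u := by group
  · left
    rw [mul_inv_eq_iff_eq_mul] at h6 ⊢
    calc u * y = (t * t) * (u * y) := by rw [htt, one_mul]
      _ = (x * x) * t * (u * y) := by rw [hxx]
      _ = x * (x * t) * (u * y) := by group
      _ = x * (t * x) * (u * y) := by rw [htx]
      _ = x * (t * (x * u) * y) := by group
      _ = x * (y * u) := by rw [h6]
      _ = x * y * u := by group

/-! ### The third involution -/

theorem TI.mul_right (hti : TI Om z t) (h : WM Om) : TI Om z (z * t) := by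
  obtain ⟨K, hK⟩ := hti.inZ
  obtain ⟨y, hy, hyy⟩ := hti.exists_as h hK
  obtain ⟨v, hv, hvv, hyv⟩ := hK.exists_nc h hy.1 hyy
  have h1 := (hti.symm h).conj_z h hK hy hv hvv hyv
  have h2 := hti.conj h v
  rw [h1, hK.comm_z h hv, mul_inv_cancel_right, ← hti.comm] at h2
  exact h2

theorem TI.mul_left (hti : TI Om z t) (h : WM Om) : TI Om t (z * t) := by
  have := (hti.symm h).mul_right h
  rwa [← hti.comm] at this

theorem TI.inZ_mul (hti : TI Om z t) (h : WM Om) : InZ Om (z * t) := (hti.mul_right h).inT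

/-! ### (H) -/

/-- `V = {1, z, t, zt}` -/
def VV (z t v : G) : Prop := v = 1 ∨ v = z ∨ v = t ∨ v = z * t

theorem VV.one : VV z t 1 := Or.inl rfl

/-- elements of `V` are trivial on all members over `z`, or act as `t` on all members -/
theorem VV.act {v : G} (hv : VV z t v) (hti : TI Om z t) (h : WM Om) :
    (∀ K, Mem Om z K → As K v 1) ∨ (∀ K, Mem Om z K → ∀ y, As K t y → As K v y) := by
  rcases hv with rfl | rfl | rfl | rfl
  · exact Or.inl fun K _ => As.self (one_mem _)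
  · exact Or.inl fun K hK => hK.as_z h
  · exact Or.inr fun K _ y hy => hy
  · refine Or.inr fun K hK y hy => ?_
    have := (hK.as_z h).mul hy
    rwa [one_mul] at this

/-! ### `R_z` -/

/-- an element of `R_z` which centralises both members is `1` or `z` -/
theorem RZ_center (h : WM Om) (hz : InZ Om z) (hr : g ∈ RZ Om z) (hc : ∀ K, Mem Om z K → As K g 1) :
    g = 1 ∨ g = z := by
  obtain ⟨K, hK⟩ := hz
  obtain ⟨L, hL, hne, -⟩ := hK.other h
  obtain ⟨k, hk, l, hl, rfl⟩ := (mem_RZ hK hL h hne).1 hr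
  have h1 : As K (k * l) k := by
    have := (As.self hk).mul (hK.as_one hL h hne hl)
    rwa [mul_one] at this
  have h2 : As L (k * l) l := by
    have := (hL.as_one hK h hne.symm hk).mul (As.self hl)
    rwa [one_mul] at this
  have hzz := hK.inZ.z2 h
  rcases hK.as_center h h1 (hc K hK) with h3 | h3 <;> rcases hL.as_center h h2 (hc L hL) with h4 | h4 <;>
    rw [h3, h4] <;> simp [hzz]

/-- `t ∈ Z ∩ R_z`, `t ≠ z` is of type I -/
theorem TI.of_mem_RZ (h : WM Om) (hz : InZ Om z) (ht : InZ Om t) (hne : z ≠ t) (hr : t ∈ RZ Om z) : TI Om z t := by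
  refine ⟨hz, ht, hne, (RZ_le_centralizer h hr).symm, Inn.of_RZ hz h hr, fun K hK hc => ?_⟩
  rcases RZ_center h hz hr (fun M hM => As.one_iff.2 (InZ.cent_all hK ht h hne hc hM)) with h1 | h1
  · exact ht.z1 h h1
  · exact hne h1.symm

theorem VV.mem_of {v : G} (hv : VV z t v) (hz : InZ Om z) (h : WM Om) (ht : t ∈ RZ Om z) : v ∈ RZ Om z := by
  rcases hv with rfl | rfl | rfl | rfl
  · exact one_mem _
  · exact z_mem_RZ hz h
  · exact ht
  · exact mul_mem (z_mem_RZ hz h) ht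

theorem VV.mul {v w : G} (hzz : z * z = 1) (htt : t * t = 1) (hzt : z * t = t * z) (hv : VV z t v) (hw : VV z t w) :
    VV z t (v * w) := by
  have e1 : ∀ g : G, z * (z * g) = g := fun g => by rw [← mul_assoc, hzz, one_mul]
  have e2 : ∀ g : G, t * (t * g) = g := fun g => by rw [← mul_assoc, htt, one_mul]
  have e3 : ∀ g : G, t * (z * g) = z * (t * g) := fun g => by rw [← mul_assoc, ← hzt, mul_assoc]
  rcases hv with rfl | rfl | rfl | rfl <;> rcases hw with rfl | rfl | rfl | rfl <;>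
    simp only [VV, one_mul, mul_one, mul_assoc, hzz, htt, e1, e3, ← hzt, true_or, or_true]

end

end Cfsg.Agent.Cit.Nil.RTwoM
end

-- part: Cit/Nil/RTwoM/Pairs
section
/-!
# S1309, (6b), (C3), `r = 2`, any `m`: pairs, cliques, `T_S`, AN

* `WM.wr`, `RR_eq` : bridge to `RG` (helper488), `CP := RG.CP`; `tri` : the trichotomy C / type I / `Out`;
* `cp_comm`, `cp_RZ`, `cp_conj`, `cp_of_cen`, `cen_iff`;
* `Swp Om z x` : `x` interchanges the members over `z`; `Ff Om z x` : `x` fixes both and is outer on both;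
  `out_cases` : a commuting pair which is not C and not I;
* `CS := RI.CS`, `RZ_le_of_CS`, `le_of_clique`, `mem_CS_of_clique`, `CS_cp'`, `exists_sylow_of_cp`;
* `TT Om S = ⟨CS⟩` : `TT_cen`, `TT_comm`, `TT_sq`, `mem_CS_of_mem_TT`;
* `ANt Om s`, `ANT Om`, `OneCl Om`.
-/

set_option autoImplicit false
set_option linter.style.haveILetI false
set_option linter.unusedSectionVars false

namespace Cfsg.Agent.Cit.Nil.RTwoM

open Subgroup Cfsg Cfsg.Agent.Cit

open RTwo (Q3 Act i11 i12 i21 i22 i_ne1 i_ne2 i_ne12 i_cases i_cases3)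
open RG (WR CP Ov InO)
open RI (CS)

variable {G : Type*} [Group G] {Om : Set (Subgroup G)} {K L M : Subgroup G} {a c d s t u v x y z g k : G}

/-- `x` interchanges the members over `z` -/
def Swp (Om : Set (Subgroup G)) (z x : G) : Prop := x * z = z * x ∧ ∀ K, Mem Om z K → cj x K ≠ K

/-- `x` fixes the members over `z` and acts on none of them as an inner automorphism -/
def Ff (Om : Set (Subgroup G)) (z x : G) : Prop :=
  x * z = z * x ∧ ∀ K, Mem Om z K → cj x K = K ∧ ¬ ∀ k ∈ K, x * k * x⁻¹ = k ∨ x * k * x⁻¹ = z * k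

/-- `x` commutes with `z` and is not inner on the members over `z` -/
def Out (Om : Set (Subgroup G)) (z x : G) : Prop := x * z = z * x ∧ (Swp Om z x ∨ ∀ K, Mem Om z K →
  cj x K = K ∧ ¬ ∀ k ∈ K, x * k * x⁻¹ = k ∨ x * k * x⁻¹ = z * k)

/-- `T_S` -/
def TT (Om : Set (Subgroup G)) (S : Subgroup G) : Subgroup G := closure (CS Om S)

/-- `AN(s)` -/
def ANt (Om : Set (Subgroup G)) (s : G) : Prop := ∀ K ∈ Om, (∀ k ∈ K, s * k = k * s) → InO (centralizer {s}) (zz K)

/-- `AN(s)` for `s ∈ T_S#` -/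
def ANT (Om : Set (Subgroup G)) : Prop :=
  ∀ (S : Sylow 2 G), ∀ s ∈ TT Om (S : Subgroup G), s ≠ 1 → ANt Om s

/-- `Z` is a class -/
def OneCl (Om : Set (Subgroup G)) : Prop := ∀ u v, InZ Om u → InZ Om v → ∃ g, g * u * g⁻¹ = v

section Fin

variable [Finite G]

/-! ### The bridge -/

theorem WM.wr (h : WM Om) : WR Om := WR.of_hyp h.hyp h.card

theorem RR_eq (z : G) : RG.RR Om z = RZ Om z := by
  refine le_antisymm (RG.SS_le fun K hK => Mem.le_RZ (z := z) hK) (RZ_le fun K hK => WR.le_RR (z := z) hK)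

theorem InZ.zz (hz : InZ Om z) : z ∈ RG.ZZ Om := hz

theorem inZ_of_zz (hz : z ∈ RG.ZZ Om) : InZ Om z := hz

/-- centralising a member over `z ≠ t` : C-pair -/
theorem cp_of_cen (h : WM Om) (hK : Mem Om z K) (_ : InZ Om t) (hne : z ≠ t) (hc : ∀ k ∈ K, t * k = k * t) :
    CP Om z t := h.wr.CP_of_cen hK hc hne

theorem cp_comm (h : WM Om) (hz : InZ Om z) (ht : InZ Om t) (hc : CP Om z t) : z * t = t * z :=
  h.wr.CP_comm hc hz ht

/-- the groups `R` of a C-pair commute -/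
theorem cp_RZ (h : WM Om) (hc : CP Om z t) (hx : x ∈ RZ Om z) (hy : y ∈ RZ Om t) : x * y = y * x := by
  rw [← RR_eq] at hx hy
  exact h.wr.CP_RR hc hx hy

theorem cp_conj (h : WM Om) (hc : CP Om z t) (g : G) : CP Om (g * z * g⁻¹) (g * t * g⁻¹) := h.wr.CP_cj hc g

theorem cp_cx (h : WM Om) (ht : InZ Om t) (hc : CP Om z t) : t ∈ CX Om z := by
  rw [mem_CX]
  exact fun K hK k hk => (cp_RZ h hc (hK.le_RZ hk) (z_mem_RZ ht h)).symm

/-- `t ∈ Z` centralises the members over `z` iff `t = z` or C-pair -/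
theorem cen_iff (h : WM Om) (hz : InZ Om z) (ht : InZ Om t) : t ∈ CX Om z ↔ z = t ∨ CP Om z t := by
  constructor
  · intro h1
    by_cases hne : z = t
    · exact Or.inl hne
    · obtain ⟨K, hK⟩ := hz
      exact Or.inr (cp_of_cen h hK ht hne (mem_CX.1 h1 K hK))
  · rintro (rfl | h1)
    · exact z_mem_CX h
    · exact cp_cx h ht h1

/-- if `t` centralises one member over `z ≠ t`: C-pair -/
theorem TI.not_cp (h : WM Om) (hti : TI Om z t) : ¬ CP Om z t := by
  intro hc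
  obtain ⟨K, hK⟩ := hti.inZ
  exact hti.nc hK fun k hk => (cp_RZ h hc (hK.le_RZ hk) (z_mem_RZ hti.inT h)).symm

/-- `x ∈ Z` inner on a member over `z` -/
theorem inn_cases (h : WM Om) (hK : Mem Om z K) (ht : InZ Om t)
    (hi : ∀ k ∈ K, t * k * t⁻¹ = k ∨ t * k * t⁻¹ = z * k) : z = t ∨ CP Om z t ∨ TI Om z t := by
  by_cases hne : z = t
  · exact Or.inl hne
  by_cases hn : ∀ k ∈ K, t * k = k * t
  · exact Or.inr (Or.inl (cp_of_cen h hK ht hne hn))
  · exact Or.inr (Or.inr (TI.of_one h hK ht hne hi hn))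

/-- `x ∈ Z` with `Inn Om z x` -/
theorem Inn.cases (hi : Inn Om z t) (h : WM Om) (hz : InZ Om z) (ht : InZ Om t) : z = t ∨ CP Om z t ∨ TI Om z t := by
  obtain ⟨K, hK⟩ := hz
  exact inn_cases h hK ht (hi K hK)

theorem inn_of_cp (h : WM Om) (ht : InZ Om t) (hc : CP Om z t) : Inn Om z t := Inn.of_CX (cp_cx h ht hc)

/-- **the trichotomy** for commuting elements of `Z` -/
theorem tri (h : WM Om) (hz : InZ Om z) (ht : InZ Om t) (hne : z ≠ t) (hc : z * t = t * z) :
    CP Om z t ∨ TI Om z t ∨ (Out Om z t ∧ Out Om t z) := by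
  by_cases h1 : CP Om z t
  · exact Or.inl h1
  by_cases h2 : TI Om z t
  · exact Or.inr (Or.inl h2)
  have key : ∀ {z t : G}, InZ Om z → InZ Om t → z ≠ t → z * t = t * z → ¬ CP Om z t → ¬ TI Om z t →
      Out Om z t := by
    intro z t hz ht hne hc h1 h2
    refine ⟨hc.symm, ?_⟩
    by_cases h3 : ∃ K, Mem Om z K ∧ cj t K = K
    · right
      obtain ⟨K, hK, hK'⟩ := h3
      obtain ⟨L, hL, hKL, hall⟩ := hK.other h
      have h4 : cj t L = L := by
        rcases hall _ (hL.cj_comm h hc.symm) with h5 | h5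
        · exfalso
          apply hKL
          rw [← hK'] at h5
          exact (cj_inj.1 h5).symm
        · exact h5
      intro M hM
      refine ⟨?_, fun h5 => ?_⟩
      · rcases hall M hM with rfl | rfl
        · exact hK'
        · exact h4
      · rcases inn_cases h hM ht h5 with h6 | h6 | h6
        · exact hne h6
        · exact h1 h6
        · exact h2 h6
    · left
      push Not at h3
      exact ⟨hc.symm, h3⟩
  exact Or.inr (Or.inr ⟨key hz ht hne hc h1 h2, key ht hz hne.symm hc.symm (fun h3 => h1 h3.symm)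
    (fun h3 => h2 (h3.symm h))⟩)

theorem Out.cases (ho : Out Om z x) : Swp Om z x ∨ Ff Om z x := ho.2.imp id fun h => ⟨ho.1, h⟩

theorem Swp.conj (hs : Swp Om z x) (h : WM Om) (g : G) : Swp Om (g * z * g⁻¹) (g * x * g⁻¹) := by
  refine ⟨?_, fun K hK h1 => ?_⟩
  · calc g * x * g⁻¹ * (g * z * g⁻¹) = g * (x * z) * g⁻¹ := by group
      _ = g * (z * x) * g⁻¹ := by rw [hs.1]
      _ = _ := by group
  · have h2 := hK.cj h g⁻¹
    rw [show g⁻¹ * (g * z * g⁻¹) * g⁻¹⁻¹ = z by group] at h2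
    apply hs.2 _ h2
    have h3 : cj x (cj g⁻¹ K) = cj g⁻¹ (cj (g * x * g⁻¹) K) := by
      rw [← cj_mul, ← cj_mul]
      congr 1
      group
    rw [h3, h1]

theorem Ff.conj (hs : Ff Om z x) (h : WM Om) (g : G) : Ff Om (g * z * g⁻¹) (g * x * g⁻¹) := by
  refine ⟨?_, fun K hK => ?_⟩
  · calc g * x * g⁻¹ * (g * z * g⁻¹) = g * (x * z) * g⁻¹ := by group
      _ = g * (z * x) * g⁻¹ := by rw [hs.1]
      _ = _ := by group
  · have h2 := hK.cj h g⁻¹
    rw [show g⁻¹ * (g * z * g⁻¹) * g⁻¹⁻¹ = z by group] at h2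
    obtain ⟨h3, h4⟩ := hs.2 _ h2
    constructor
    · have h5 : cj (g * x * g⁻¹) K = cj g (cj x (cj g⁻¹ K)) := by
        rw [← cj_mul, ← cj_mul]
      rw [h5, h3, ← cj_mul, mul_inv_cancel, cj_one]
    · intro h5
      apply h4
      intro k hk
      rw [mem_cj, inv_inv] at hk
      have h6 : x * k * x⁻¹ = g⁻¹ * (g * x * g⁻¹ * (g * k * g⁻¹) * (g * x * g⁻¹)⁻¹) * g := by group
      rcases h5 _ hk with h7 | h7
      · left; rw [h6, h7]; group
      · right; rw [h6, h7]; group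

theorem Out.conj (hs : Out Om z x) (h : WM Om) (g : G) : Out Om (g * z * g⁻¹) (g * x * g⁻¹) := by
  rcases hs.cases with h1 | h1
  · exact ⟨(h1.conj h g).1, Or.inl (h1.conj h g)⟩
  · exact ⟨(h1.conj h g).1, Or.inr (h1.conj h g).2⟩

theorem Out.not_inn (hs : Out Om z x) (h : WM Om) (hz : InZ Om z) : ¬ Inn Om z x := by
  intro hi
  obtain ⟨K, hK⟩ := hz
  rcases hs.cases with h1 | h1
  · exact h1.2 K hK (hi.cj_eq hK h)
  · exact (h1.2 K hK).2 (hi K hK)

theorem Out.not_cp (hs : Out Om z t) (h : WM Om) (hz : InZ Om z) (ht : InZ Om t) : ¬ CP Om z t := fun hc =>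
  hs.not_inn h hz (inn_of_cp h ht hc)

theorem Out.not_ti (hs : Out Om z t) (h : WM Om) : ¬ TI Om z t := fun hc => hs.not_inn h hc.inZ hc.inn

theorem Swp.not_ff (hs : Swp Om z x) (hz : InZ Om z) : ¬ Ff Om z x := by
  obtain ⟨K, hK⟩ := hz
  exact fun h1 => hs.2 K hK (h1.2 K hK).1

theorem Swp.of_one (h : WM Om) (hK : Mem Om z K) (hx : x * z = z * x) (hn : cj x K ≠ K) : Swp Om z x := by
  refine ⟨hx, fun M hM h1 => ?_⟩
  by_cases hMK : M = K
  · subst hMK; exact hn h1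
  · rcases hK.cases hM h (fun h2 => hMK h2.symm) (hK.cj_comm h hx) with h2 | h2
    · exact hn h2
    · rw [← h1] at h2
      exact hMK (cj_inj.1 h2).symm

/-! ### Cliques -/

/-- pairwise commuting members generate a 2-group -/
theorem isPGroup_clique (h : WM Om) (A : Finset (Subgroup G)) (hA : ∀ K ∈ A, K ∈ Om)
    (hc : ∀ K ∈ A, ∀ L ∈ A, K ≠ L → ∀ a ∈ K, ∀ b ∈ L, a * b = b * a) :
    IsPGroup 2 (⨆ K ∈ A, K : Subgroup G) := by
  classical
  induction A using Finset.induction_on with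
  | empty =>
    have h1 : (⨆ K ∈ (∅ : Finset (Subgroup G)), K : Subgroup G) = ⊥ := by simp
    rw [h1]
    exact IsPGroup.of_bot
  | insert a A ha ih =>
    rw [Finset.iSup_insert]
    have h1 := ih (fun z hz => hA z (Finset.mem_insert_of_mem hz)) fun z hz u hu =>
      hc z (Finset.mem_insert_of_mem hz) u (Finset.mem_insert_of_mem hu)
    refine IsPGroup.to_sup_of_normal_right' (h.isPGroup (hA a (Finset.mem_insert_self a A))) h1 ?_
    have h2 : (⨆ K ∈ A, K : Subgroup G) ≤ centralizer (a : Set G) := by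
      refine iSup₂_le fun z hz b hb => mem_centralizer_iff.2 fun c hcK => ?_
      exact hc a (Finset.mem_insert_self a A) z (Finset.mem_insert_of_mem hz) (by
        rintro rfl; exact ha hz) c hcK b hb
    intro c hcK
    rw [mem_normalizer_iff]
    intro x
    have h3 : ∀ x ∈ (⨆ K ∈ A, K : Subgroup G), c * x * c⁻¹ = x := fun x hx => by
      rw [mem_centralizer_iff.1 (h2 hx) c hcK, mul_inv_cancel_right]
    constructor
    · intro hx
      rw [h3 x hx]; exact hx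
    · intro hx
      have h4 : x = c⁻¹ * (c * x * c⁻¹) * c := by group
      have h5 : c⁻¹ * (c * x * c⁻¹) * c = c * x * c⁻¹ := by
        have h6 := mem_centralizer_iff.1 (h2 hx) c⁻¹ (inv_mem hcK)
        rw [h6, inv_mul_cancel_right]
      rw [h4, h5]; exact hx

/-- members in a 2-group commute -/
theorem com (h : WM Om) {S : Subgroup G} (hS : IsPGroup 2 S) (hK : K ∈ Om) (hL : L ∈ Om) (hKS : K ≤ S) (hLS : L ≤ S)
    (hne : K ≠ L) : ∀ a ∈ K, ∀ b ∈ L, a * b = b * a := h.wr.pg K hK L hL S hS hKS hLS hne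

theorem ncard_cj (h : WM Om) (g : G) (S : Subgroup G) :
    {K | K ∈ Om ∧ K ≤ cj g S}.ncard = {K | K ∈ Om ∧ K ≤ S}.ncard := by
  have h1 : {K | K ∈ Om ∧ K ≤ cj g S} = cj g '' {K | K ∈ Om ∧ K ≤ S} := by
    ext K
    constructor
    · rintro ⟨hK, hKS⟩
      refine ⟨cj g⁻¹ K, ⟨h.hyp.conj K hK g⁻¹, ?_⟩, cj_cj_inv g K⟩
      have h2 := cj_mono g⁻¹ hKS
      rwa [← cj_mul, inv_mul_cancel, cj_one] at h2
    · rintro ⟨L, ⟨hL, hLS⟩, rfl⟩
      exact ⟨h.hyp.conj L hL g, cj_mono g hLS⟩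
  rw [h1]
  exact Set.ncard_image_of_injective _ fun a b hab => cj_inj.1 hab

/-- **the members in `S` are a maximal set of commuting members** -/
theorem le_of_clique (h : WM Om) (S : Sylow 2 G) (hK : K ∈ Om)
    (hc : ∀ L ∈ Om, L ≤ (S : Subgroup G) → L ≠ K → ∀ a ∈ K, ∀ b ∈ L, a * b = b * a) : K ≤ S := by
  classical
  haveI : Fact (Nat.Prime 2) := ⟨Nat.prime_two⟩
  by_contra hn
  have hfin : {K | K ∈ Om ∧ K ≤ (S : Subgroup G)}.Finite := Set.toFinite _
  set A : Finset (Subgroup G) := insert K hfin.toFinset with hA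
  have hAO : ∀ L ∈ A, L ∈ Om := by
    intro z hz
    rw [hA, Finset.mem_insert, Set.Finite.mem_toFinset] at hz
    rcases hz with rfl | hz
    · exact hK
    · exact hz.1
  have hAc : ∀ L ∈ A, ∀ M ∈ A, L ≠ M → ∀ a ∈ L, ∀ b ∈ M, a * b = b * a := by
    intro z hz v hv hne
    rw [hA, Finset.mem_insert, Set.Finite.mem_toFinset] at hz hv
    rcases hz with rfl | hz <;> rcases hv with rfl | hv
    · exact absurd rfl hne
    · exact hc v hv.1 hv.2 hne.symm
    · exact fun a ha b hb => (hc z hz.1 hz.2 hne b hb a ha).symm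
    · exact com h S.isPGroup' hz.1 hv.1 hz.2 hv.2 hne
  obtain ⟨S', hS'⟩ := (isPGroup_clique h A hAO hAc).exists_le_sylow
  obtain ⟨g, hg⟩ := MulAction.exists_smul_eq G S S'
  have hgS : (S' : Subgroup G) = cj g S := by
    rw [← hg]
    rfl
  have h1 := ncard_cj h g (S : Subgroup G)
  rw [← hgS] at h1
  have h2 : (A : Set (Subgroup G)) ⊆ {K | K ∈ Om ∧ K ≤ (S' : Subgroup G)} := fun z hz =>
    ⟨hAO z hz, (le_iSup₂ (f := fun z (_ : z ∈ A) => z) z hz).trans hS'⟩
  have h3 := Set.ncard_le_ncard h2 (Set.toFinite _)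
  rw [Set.ncard_coe_finset, hA, Finset.card_insert_of_notMem (by
    rw [Set.Finite.mem_toFinset]; exact fun h4 => hn h4.2), h1, Set.ncard_eq_toFinset_card _ hfin] at h3
  omega

theorem CS.inZ {S : Subgroup G} (hz : z ∈ CS Om S) : InZ Om z := RI.CS_zz hz

/-- the elements of `CS` : C-pairs -/
theorem CS.cp {S : Subgroup G} (hz : z ∈ CS Om S) (h : WM Om) (hS : IsPGroup 2 S) (hu : u ∈ CS Om S) (hne : z ≠ u) :
    CP Om z u := RI.CS_cp h.wr hS hz hu hne

theorem CS.comm {S : Subgroup G} (hz : z ∈ CS Om S) (h : WM Om) (hS : IsPGroup 2 S) (hu : u ∈ CS Om S) :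
    z * u = u * z := RI.CS_comm h.wr hS hz hu

theorem CS.conj {S : Subgroup G} (hz : z ∈ CS Om S) (h : WM Om) (hs : s ∈ S) : s * z * s⁻¹ ∈ CS Om S :=
  RI.CS_conj h.wr hz hs

/-- a member commuting with the members in `S` over the other involutions is in `S` -/
theorem le_of_cp (h : WM Om) (S : Sylow 2 G) (hK : Mem Om z K) (hc : ∀ u ∈ CS Om (S : Subgroup G), u ≠ z → CP Om z u) :
    K ≤ S := by
  refine le_of_clique h S hK.1 fun L hL hLS hne a ha b hb => ?_
  by_cases hz : zz L = z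
  · exact hK.comm ⟨hL, hz⟩ h hne.symm ha hb
  · exact (hc (zz L) ⟨L, ⟨hL, rfl⟩, hLS⟩ hz).2 K hK L ⟨hL, rfl⟩ a ha b hb

/-- `z ∈ CS` : all members over `z` are in `S` -/
theorem CS.le {z : G} {S : Sylow 2 G} (hz : z ∈ CS Om (S : Subgroup G)) (h : WM Om) (hK : Mem Om z K) : K ≤ S :=
  le_of_cp h S hK fun _ hu hne => CS.cp hz h S.isPGroup' hu hne.symm

/-- `z ∈ CS` : `R_z ≤ S` -/
theorem CS.RZ_le {z : G} {S : Sylow 2 G} (hz : z ∈ CS Om (S : Subgroup G)) (h : WM Om) : RZ Om z ≤ S :=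
  RTwoM.RZ_le fun _ hK => CS.le hz h hK

/-- `C_S` is a maximal clique -/
theorem mem_CS_of_clique (h : WM Om) (S : Sylow 2 G) (hu : InZ Om u)
    (hc : ∀ z ∈ CS Om (S : Subgroup G), z = u ∨ CP Om z u) : u ∈ CS Om (S : Subgroup G) := by
  obtain ⟨K, hK⟩ := hu
  exact ⟨K, hK, le_of_cp h S hK fun z hz hne => ((hc z hz).resolve_left hne).symm⟩

/-- a C-pair lies in a Sylow subgroup -/
theorem exists_sylow_of_cp (h : WM Om) (hz : InZ Om z) (hu : InZ Om u) (hc : CP Om z u) :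
    ∃ S : Sylow 2 G, z ∈ CS Om (S : Subgroup G) ∧ u ∈ CS Om (S : Subgroup G) := by
  classical
  obtain ⟨K, hK⟩ := hz
  obtain ⟨L, hL⟩ := hu
  obtain ⟨S, hS⟩ := (isPGroup_clique h {K, L} (by
    intro x hx
    rw [Finset.mem_insert, Finset.mem_singleton] at hx
    rcases hx with rfl | rfl
    · exact hK.1
    · exact hL.1) (by
    intro x hx y hy hne
    rw [Finset.mem_insert, Finset.mem_singleton] at hx hy
    rcases hx with rfl | rfl <;> rcases hy with rfl | rfl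
    · exact absurd rfl hne
    · exact hc.2 _ hK _ hL
    · exact fun a ha b hb => (hc.2 _ hK _ hL b hb a ha).symm
    · exact absurd rfl hne)).exists_le_sylow
  exact ⟨S, ⟨K, hK, (le_iSup₂ (f := fun x (_ : x ∈ ({K, L} : Finset (Subgroup G))) => x) K (by simp)).trans hS⟩,
    ⟨L, hL, (le_iSup₂ (f := fun x (_ : x ∈ ({K, L} : Finset (Subgroup G))) => x) L (by simp)).trans hS⟩⟩

/-- `z` lies in some `C_S` -/
theorem exists_sylow (h : WM Om) (hz : InZ Om z) : ∃ S : Sylow 2 G, z ∈ CS Om (S : Subgroup G) := by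
  obtain ⟨K, hK⟩ := hz
  obtain ⟨S, hS⟩ := (h.isPGroup hK.1).exists_le_sylow
  exact ⟨S, K, hK, hS⟩

/-! ### `T_S` -/

theorem CS.mem_TT {S : Subgroup G} (hz : z ∈ CS Om S) : z ∈ TT Om S := subset_closure hz

/-- `T_S` centralises `R_z`, `z ∈ C_S` -/
theorem TT_cx {S : Subgroup G} (h : WM Om) (hS : IsPGroup 2 S) (hz : z ∈ CS Om S) (hx : x ∈ TT Om S) :
    x ∈ CX Om z := by
  have h1 : TT Om S ≤ CX Om z := by
    refine (closure_le _).2 fun u hu => ?_
    by_cases hne : z = u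
    · subst hne; exact z_mem_CX h
    · exact cp_cx h (CS.inZ hu) (CS.cp hz h hS hu hne)
  exact h1 hx

theorem TT_cen {S : Subgroup G} (h : WM Om) (hS : IsPGroup 2 S) (hz : z ∈ CS Om S) (hx : x ∈ TT Om S)
    (hy : y ∈ RZ Om z) : x * y = y * x := CX_comm hy (TT_cx h hS hz hx)

theorem TT_comm {S : Subgroup G} (h : WM Om) (hS : IsPGroup 2 S) (hx : x ∈ TT Om S) (hy : y ∈ TT Om S) :
    x * y = y * x := by
  have h1 : TT Om S ≤ centralizer ({x} : Set G) := by
    refine (closure_le _).2 fun u hu => mem_centralizer_singleton_iff.2 ?_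
    exact (TT_cen h hS hu hx (z_mem_RZ (CS.inZ hu) h)).symm
  exact (mem_centralizer_singleton_iff.1 (h1 hy)).symm

theorem TT_sq {S : Subgroup G} (h : WM Om) (hS : IsPGroup 2 S) (hx : x ∈ TT Om S) : x * x = 1 := by
  refine closure_induction (p := fun x _ => x * x = 1) ?_ ?_ ?_ ?_ hx
  · exact fun u hu => (CS.inZ hu).z2 h
  · rw [one_mul]
  · intro a b ha hb h1 h2
    calc a * b * (a * b) = a * (b * a) * b := by group
      _ = (a * a) * (b * b) := by rw [TT_comm h hS hb ha]; group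
      _ = 1 := by rw [h1, h2, one_mul]
  · intro a _ h1
    rw [← mul_inv_rev, h1, inv_one]

theorem TT_le {S : Subgroup G} (h : WM Om) : TT Om S ≤ S := by
  refine (closure_le _).2 fun u hu => ?_
  obtain ⟨K, hK, hKS⟩ := hu
  exact hKS (Mem.zmem hK h)

theorem TT_two {S : Subgroup G} (h : WM Om) (hS : IsPGroup 2 S) : IsPGroup 2 (TT Om S) := hS.to_le (TT_le h)

/-- `T_S ⊓ Z = C_S` -/
theorem mem_CS_of_mem_TT (h : WM Om) (S : Sylow 2 G) (hu : InZ Om u) (hT : u ∈ TT Om (S : Subgroup G)) :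
    u ∈ CS Om (S : Subgroup G) :=
  mem_CS_of_clique h S hu fun _ hz => (cen_iff h (CS.inZ hz) hu).1 (TT_cx h S.isPGroup' hz hT)

theorem cj_CS (h : WM Om) (g : G) {S : Subgroup G} (hz : z ∈ CS Om S) : g * z * g⁻¹ ∈ CS Om (cj g S) := by
  obtain ⟨K, hK, hKS⟩ := hz
  exact ⟨cj g K, Mem.cj hK h g, cj_mono g hKS⟩

theorem TT_cj (h : WM Om) (g : G) (S : Subgroup G) : TT Om (cj g S) = cj g (TT Om S) := by
  have key : ∀ (g : G) (S : Subgroup G), cj g (TT Om S) ≤ TT Om (cj g S) := by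
    intro g S
    rw [cj, map_le_iff_le_comap]
    exact (closure_le _).2 fun u hu => subset_closure (cj_CS h g hu)
  refine le_antisymm ?_ (key g S)
  have h1 := cj_mono g (key g⁻¹ (cj g S))
  rwa [← cj_mul g⁻¹ g, inv_mul_cancel, cj_one, cj_cj_inv] at h1

/-- `S ≤ N(T_S)` -/
theorem TT_norm {S : Subgroup G} (h : WM Om) (hs : s ∈ S) (hx : x ∈ TT Om S) : s * x * s⁻¹ ∈ TT Om S := by
  have h1 := conj_mem_cj (g := s) hx
  rwa [← TT_cj h, show cj s S = S from mem_normalizer_iff_cj.1 (le_normalizer hs)] at h1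

theorem ANt.conj (ha : ANt Om s) (h : WM Om) (g : G) : ANt Om (g * s * g⁻¹) := by
  intro K hK hc
  have h0 : Mem Om (zz K) K := ⟨hK, rfl⟩
  have h1 := h0.cj h g⁻¹
  obtain ⟨N, n1, n2, n3, n4⟩ := ha (cj g⁻¹ K) h1.1 (fun k hk => by
    rw [mem_cj, inv_inv] at hk
    have h3 := hc _ hk
    calc s * k = g⁻¹ * (g * s * g⁻¹ * (g * k * g⁻¹)) * g := by group
      _ = g⁻¹ * (g * k * g⁻¹ * (g * s * g⁻¹)) * g := by rw [h3]
      _ = k * s := by group)
  rw [h1.2, inv_inv] at n4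
  have hcj : cj g (centralizer {s}) = centralizer {g * s * g⁻¹} := by
    ext x
    rw [mem_cj, mem_centralizer_singleton_iff, mem_centralizer_singleton_iff]
    constructor
    · intro h3
      calc x * (g * s * g⁻¹) = g * (g⁻¹ * x * g * s) * g⁻¹ := by group
        _ = g * (s * (g⁻¹ * x * g)) * g⁻¹ := by rw [h3]
        _ = _ := by group
    · intro h3
      calc g⁻¹ * x * g * s = g⁻¹ * (x * (g * s * g⁻¹)) * g := by group
        _ = g⁻¹ * (g * s * g⁻¹ * x) * g := by rw [h3]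
        _ = _ := by group
  refine ⟨cj g N, ?_, ?_, n3.map _, ?_⟩
  · rw [← hcj]; exact cj_mono g n1
  · rw [← hcj]
    rintro _ ⟨x, hx, rfl⟩
    rw [mem_normalizer_iff_cj]
    have h3 := mem_normalizer_iff_cj.1 (n2 hx)
    change cj (g * x * g⁻¹) (cj g N) = cj g N
    rw [← cj_mul, show g * x * g⁻¹ * g = g * x by group, cj_mul, h3]
  · have h3 := conj_mem_cj (g := g) n4
    rwa [show g * (g⁻¹ * zz K * g) * g⁻¹ = zz K by group] at h3

end Fin

end Cfsg.Agent.Cit.Nil.RTwoM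
end

private theorem dce_4ccbd2cec36d : _root_.True := by
  try have : _root_.True := by simp only [_root_.Cfsg.Agent.Cit.Nil.RTwoM.VV.eq_1]
  exact _root_.True.intro
end
end
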