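import Cfsg.Agent.Cit.Nil.RTwoM.ELay_m3
import Cfsg.Agent.Cit.Nil.RI.Closed_m3
import Cfsg.Agent.Cit.Nil.LO.FormQ_m3
import Mathlib.Data.ZMod.Basic
import Mathlib.Algebra.Group.Subgroup.Basic
import Mathlib.Data.Fintype.Option
import Mathlib.SetTheory.Cardinal.Finite
import Mathlib.Tactic.FinCases
import Mathlib.Data.Fin.VecNotation
import Mathlib.Logic.Equiv.Fin.Basic
import Mathlib.Algebra.BigOperators.Fin
import Mathlib.Tactic.Group
import Mathlib.Tactic.Abel
import Cfsg.Agent.Cit.Nil.RTwoM.Base_m3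
import Cfsg.Agent.Cit.Nil.RFour.Gen_m3
import Cfsg.Agent.Cit.Nil.RG.Closed
import Cfsg.Prelude.Def_TwoFusion
import Cfsg.Agent.Cit.Nil.RTwoM.L1.SwapN_m3
import Cfsg.Agent.FastGrp
import Cfsg.Agent.Prune
set_option linter.all false

section
prune_inst 0x7fbcfffbaffcaddfffff7e7ffefddffdfdfcffffffffffcbffe1e9ffcfdf4befffe5fb8f1fec5aff9ff6e2bc30f87b53fdffcf7fea6bdc7ffffd5ff45fffff9fedffbf8871d79c3e1ffe6ffffbfa7fee7f3fffffffffffffffffffffffffffffffffffffffff

-- part: Cit/Nil/RTwoM/LZero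
section
set_option linter.all false
open scoped Cfsg.Agent.FastGrp

/-!
# S1309, (6b), (C3), `r = 2`, any `m`: `LAMBDA0` (no C-swaps)

* `L0 Om` : no C-swaps; `ZS Om s = Z(s)` : the `z ∈ Z` with `[s, R_z] = 1`;
* `mem_ZS_of_one` : `s ≠ 1` a product of elements of `C_S`;
* `NC_mem_or` (2.4) : `x ∈ Z(s)`: `x ∈ ⟨y^{C(s)}⟩` or `R_x` centralises `⟨y^{C(s)}⟩`;
* `NC_comm` : `LAMBDA0`: `⟨y^{C(s)}⟩` is commutative;
* **`ZS_comm`** : `LAMBDA0`: the elements of `Z(s)` commute;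
* `NCS Om S x` : `x` normalises `C_S`; `cent_of_NCS` : `LAMBDA0`, `x ∈ Z`: then `x` centralises `T_S`.
-/

set_option autoImplicit false
set_option linter.style.haveILetI false
set_option linter.unusedSectionVars false

namespace Cfsg.Agent.Cit.Nil.RTwoM

open Subgroup Cfsg Cfsg.Agent.Cit

open RG (WR CP Ov InO)
open RI (CS)
open ROne (NC self_mem_NC conj_mem_NC cj_NC mem_NC_conj NC_le)

variable {G : Type*} [Group G] {Om : Set (Subgroup G)} {K L M : Subgroup G} {a c d s t u v x y z g k n : G}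

/-- no C-swaps -/
def L0 (Om : Set (Subgroup G)) : Prop := ∀ u v, InZ Om u → InZ Om v → ¬ CP Om u (v * u * v⁻¹)

/-- `Z(s)` -/
def ZS (Om : Set (Subgroup G)) (s : G) : Set G := {z | InZ Om z ∧ s ∈ CX Om z}

/-- `x` normalises `C_S` -/
def NCS (Om : Set (Subgroup G)) (S : Subgroup G) (x : G) : Prop := ∀ z ∈ CS Om S, x * z * x⁻¹ ∈ CS Om S

theorem mem_ZS : z ∈ ZS Om s ↔ InZ Om z ∧ s ∈ CX Om z := Iff.rfl

section Fin

variable [Finite G]

theorem ZS_comm_s (h : WM Om) (hz : z ∈ ZS Om s) : s * z = z * s := CX_comm (z_mem_RZ hz.1 h) hz.2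

theorem ZS_conj (h : WM Om) (hz : z ∈ ZS Om s) (hg : g * s = s * g) : g * z * g⁻¹ ∈ ZS Om s := by
  refine ⟨hz.1.conj h g, ?_⟩
  have h1 := (CX_conj h g (x := s) (z := z)).2 hz.2
  rwa [hg, mul_inv_cancel_right] at h1

theorem Mem.le_cent (hK : Mem Om z K) (hz : z ∈ ZS Om s) : K ≤ centralizer {s} := fun k hk => by
  rw [mem_centralizer_singleton_iff]
  exact (mem_CX.1 hz.2 K hK k hk).symm

/-- `AN(s)` for `z ∈ Z(s)` -/
theorem ANt.inO (ha : ANt Om s) (hz : z ∈ ZS Om s) : InO (centralizer {s}) z := by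
  obtain ⟨⟨K, hK⟩, hs⟩ := hz
  have h1 := ha K hK.1 (mem_CX.1 hs K hK)
  rwa [hK.2] at h1

/-- `C_S ⊆ Z(s)` for `s ∈ T_S` -/
theorem CS_subset_ZS (h : WM Om) {S : Subgroup G} (hS : IsPGroup 2 S) (hs : s ∈ TT Om S) (hz : z ∈ CS Om S) :
    z ∈ ZS Om s := ⟨CS.inZ hz, TT_cx h hS hz hs⟩

/-- `⟨y^{C(s)}⟩` is a 2-group -/
theorem NC_two (_ : WM Om) (ha : ANt Om s) (hy : y ∈ ZS Om s) : IsPGroup 2 (NC s y) := by
  obtain ⟨N, -, hN, h2, hyN⟩ := ha.inO hy
  refine h2.to_le ((closure_le _).2 ?_)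
  rintro _ ⟨g, hg, rfl⟩
  exact (mem_normalizer_iff.1 (hN (mem_centralizer_singleton_iff.2 hg)) y).1 hyN

theorem NC_norm : centralizer {s} ≤ normalizer (NC s y : Set G) := fun g hg => by
  rw [mem_normalizer_iff_cj]
  exact cj_NC (mem_centralizer_singleton_iff.1 hg)

/-- the orbit of the member `K` over `y` under `C(s)` -/
theorem NC_orb (h : WM Om) (ha : ANt Om s) (hy : y ∈ ZS Om s) (hK : Mem Om y K) :
    Cit.ROne.Orb Om (centralizer {s}) (NC s y) {L | ∃ g ∈ centralizer {s}, cj g K = L} := by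
  have hS : (zz '' {L | ∃ g ∈ centralizer {s}, cj g K = L}) = {t | ∃ g, g * s = s * g ∧ t = g * y * g⁻¹} := by
    ext t
    constructor
    · rintro ⟨_, ⟨g, hg, rfl⟩, rfl⟩
      exact ⟨g, mem_centralizer_singleton_iff.1 hg, (hK.cj h g).2⟩
    · rintro ⟨g, hg, rfl⟩
      exact ⟨_, ⟨g, mem_centralizer_singleton_iff.2 hg, rfl⟩, (hK.cj h g).2⟩
  have h2 : ∀ L ∈ Om, IsPGroup 2 L := fun L hL => h.isPGroup hL
  have := Cit.ROne.Orb.of_orbit h.hyp h2 hK.1 (H := centralizer {s}) (Mem.le_cent hK hy) (by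
    rw [hS]; exact NC_two h ha hy)
  rwa [hS] at this

/-- **(2.4)** -/
theorem NC_mem_or (h : WM Om) (ha : ANt Om s) (hy : y ∈ ZS Om s) (hx : x ∈ ZS Om s) :
    x ∈ NC s y ∨ ∀ n ∈ NC s y, ∀ r ∈ RZ Om x, r * n = n * r := by
  by_cases hxN : x ∈ NC s y
  · exact Or.inl hxN
  right
  intro n hn r hr
  have key : RZ Om x ≤ centralizer {n} := by
    refine RZ_le fun K hK k hk => ?_
    rw [mem_centralizer_singleton_iff]
    exact h.hyp.lemma_one hK.1 (h.isPGroup hK.1) (NC_two h ha hy) ((Mem.le_cent hK hx).trans NC_norm)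
      (by rw [hK.2]; exact hxN) k hk n hn
  exact mem_centralizer_singleton_iff.1 (key hr)

/-- a noncommutative `⟨y^{C(s)}⟩` : some conjugate moves `y` -/
theorem NC_exists_move (h : WM Om) (ha : ANt Om s) (hy : y ∈ ZS Om s)
    (hn : ¬ ∀ a ∈ NC s y, ∀ b ∈ NC s y, a * b = b * a) : ∃ x ∈ NC s y, InZ Om x ∧ x * y ≠ y * x := by
  by_contra hcon
  push Not at hcon
  obtain ⟨K, hK⟩ := hy.1
  have o := NC_orb h ha hy hK
  apply o.zz_not_central hn ⟨1, one_mem _, cj_one _⟩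
  have h1 : NC s y ≤ centralizer {y} := by
    refine (closure_le _).2 ?_
    rintro _ ⟨g, hg, rfl⟩
    rw [SetLike.mem_coe, mem_centralizer_singleton_iff]
    exact hcon _ (conj_mem_NC hg) (hy.1.conj h g)
  intro x hx
  rw [hK.2]
  exact (mem_centralizer_singleton_iff.1 (h1 hx)).symm

/-- moving elements of `⟨y^{C(s)}⟩` : C-pair -/
theorem NC_cp (h : WM Om) (ha : ANt Om s) (hy : y ∈ ZS Om s) (hn : n ∈ NC s y) (hny : n * y ≠ y * n)  :
    CP Om y (n * y * n⁻¹) := by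
  obtain ⟨K, hK⟩ := hy.1
  have o := NC_orb h ha hy hK
  have hne : y ≠ n * y * n⁻¹ := fun h1 => hny (by rw [eq_mul_inv_iff_mul_eq] at h1; exact h1.symm)
  have hnc : ¬ ∀ a ∈ NC s y, ∀ b ∈ NC s y, a * b = b * a := fun h1 => hny (h1 n hn y self_mem_NC)
  have hKn := hK.cj h n
  have hKne : K ≠ cj n K := by
    intro h1
    rw [← h1] at hKn
    exact hne (hK.2.symm.trans hKn.2)
  have h1 := o.comm_cj hnc ⟨1, one_mem _, cj_one _⟩ hn hKne
  exact cp_of_cen h hK (hy.1.conj h n) hne fun k hk => (h1 k hk _ (hKn.zmem h)).symm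

/-- `LAMBDA0` : `⟨y^{C(s)}⟩` is commutative -/
theorem NC_comm (h : WM Om) (l0 : L0 Om) (ha : ANt Om s) (hy : y ∈ ZS Om s) :
    ∀ a ∈ NC s y, ∀ b ∈ NC s y, a * b = b * a := by
  by_contra hn
  obtain ⟨x, hx, hxZ, hxy⟩ := NC_exists_move h ha hy hn
  exact l0 y x hy.1 hxZ (NC_cp h ha hy hx hxy)

/-- **`LAMBDA0` : the elements of `Z(s)` commute** -/
theorem ZS_comm (h : WM Om) (l0 : L0 Om) (ha : ANt Om s) (hx : x ∈ ZS Om s) (hy : y ∈ ZS Om s) : x * y = y * x := by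
  rcases NC_mem_or h ha hy hx with h1 | h1
  · exact NC_comm h l0 ha hy x h1 y self_mem_NC
  · exact h1 y self_mem_NC x (z_mem_RZ hx.1 h)

theorem NC_sq (h : WM Om) (l0 : L0 Om) (ha : ANt Om s) (hy : y ∈ ZS Om s) (hn : n ∈ NC s y) : n * n = 1 := by
  obtain ⟨K, hK⟩ := hy.1
  exact (NC_orb h ha hy hK).sq_of_comm (NC_comm h l0 ha hy) n hn

/-! ### The normaliser of `C_S` -/

theorem NCS_of_mem (h : WM Om) {S : Subgroup G} (hs : s ∈ S) : NCS Om S s := fun _ hz => CS.conj hz h hs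

/-- `LAMBDA0` : an element of `Z` normalising `C_S` centralises `C_S` -/
theorem comm_CS_of_NCS (h : WM Om) (l0 : L0 Om) {S : Subgroup G} (hS : IsPGroup 2 S) (hx : InZ Om x)
    (hn : NCS Om S x) (hz : z ∈ CS Om S) : x * z = z * x := by
  by_contra hne
  refine l0 z x (CS.inZ hz) hx (CS.cp hz h hS (hn z hz) fun h1 => hne ?_)
  rw [eq_mul_inv_iff_mul_eq] at h1
  exact h1.symm

/-- `LAMBDA0` : an element of `Z` normalising `C_S` centralises `T_S` -/
theorem comm_TT_of_NCS (h : WM Om) (l0 : L0 Om) {S : Subgroup G} (hS : IsPGroup 2 S) (hx : InZ Om x)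
    (hn : NCS Om S x) (ht : t ∈ TT Om S) : x * t = t * x := by
  have h1 : TT Om S ≤ centralizer ({x} : Set G) := by
    refine (closure_le _).2 fun u hu => mem_centralizer_singleton_iff.2 ?_
    exact (comm_CS_of_NCS h l0 hS hx hn hu).symm
  exact (mem_centralizer_singleton_iff.1 (h1 ht)).symm

/-- an element centralising `C_S` normalises `C_S` -/
theorem NCS_of_comm {S : Subgroup G} (hc : ∀ z ∈ CS Om S, x * z = z * x) : NCS Om S x := fun z hz => by
  rw [hc z hz, mul_inv_cancel_right]; exact hz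

end Fin

end Cfsg.Agent.Cit.Nil.RTwoM
end

-- part: Cit/Nil/RTwoM/Act
section
prune_inst 0x4000004001122000000180010220020001000000000030001e160030202400001a0470e013840060091102c70280a802003080159423800002a008a0000040120040270c282081000010000405801180c00000000000000000000000000000000000000000
set_option linter.all false
open scoped Cfsg.Agent.FastGrp

/-!
# S1309, (6b), (C3), `r = 2`, any `m`: fixed points of swaps and of `f`, T-triples

`x` is an involution commuting with `z`, `K` a member over `z`.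

* `qq x k = k · x k x⁻¹`; `x` a swap (`Swp Om z x`): `qq_mul`, `qq_mem`, `qq_comm`, `qq_sq`, `qq_eq_one`,
  **`Swp.fix`** : `C_{R_z}(x) = {qq x k, z qq x k}`; `Swp.as_qq`; **`Swp.cent`** : an element of `C(z)` centralising
  `C_{R_z}(x)` acts as some `qq x a`, or as `qq x a · x`;
* `x` of type `f`: `Ff.exists_tr`, **`Ff.fix`** : `C_{R_z}(x) = {1, z, a b, z a b}`;
* `triple_key` : `(u, e)` C-pair, `(x, e)` not, `r ∈ C_{R_x}(e)`: `[u, r] ∈ C(R_e)`, `[u, r] ≠ x`;
* `tt_II`, `tt_II_cx`, `tt_If`, `tt_ff` : the list of T-triples (helper762, #15764); `Tr.same`, `Tr.mul_cases`, `tt_as`;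
* `not_ff_of_NC`, `mem_NC_of_inv`.
-/

set_option autoImplicit false
set_option linter.style.haveILetI false
set_option linter.unusedSectionVars false

namespace Cfsg.Agent.Cit.Nil.RTwoM

open Subgroup Cfsg Cfsg.Agent.Cit

open RTwo (Q3)
open RG (WR CP Ov InO Tr)
open RI (CS)
open ROne (NC self_mem_NC conj_mem_NC cj_NC mem_NC_conj NC_le)

variable {G : Type*} [Group G] {Om : Set (Subgroup G)} {K L M : Subgroup G}
  {a b c d e g k l n r s t u v w x y z : G}

/-- `k · k^x` -/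
def qq (x k : G) : G := k * (x * k * x⁻¹)

section Fin

variable [Finite G]

/-! ### Swaps -/

theorem Swp.mem (hs : Swp Om z x) (h : WM Om) (hK : Mem Om z K) : Mem Om z (cj x K) := hK.cj_comm h hs.1

theorem Swp.ne (hs : Swp Om z x) (hK : Mem Om z K) : K ≠ cj x K := fun h1 => hs.2 K hK h1.symm

theorem Swp.cm (hs : Swp Om z x) (h : WM Om) (hK : Mem Om z K) (hk : k ∈ K) (hl : l ∈ K) :
    k * (x * l * x⁻¹) = (x * l * x⁻¹) * k := hK.comm (hs.mem h hK) h (hs.ne hK) hk (conj_mem_cj hl)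

theorem qq_mul (hs : Swp Om z x) (h : WM Om) (hK : Mem Om z K) (hk : k ∈ K) (hl : l ∈ K) :
    qq x (k * l) = qq x k * qq x l := by
  have h1 := hs.cm h hK hl hk
  calc k * l * (x * (k * l) * x⁻¹) = k * (l * (x * k * x⁻¹)) * (x * l * x⁻¹) := by group
    _ = k * ((x * k * x⁻¹) * l) * (x * l * x⁻¹) := by rw [h1]
    _ = _ := by simp only [qq, mul_assoc]

theorem qq_mem (hs : Swp Om z x) (h : WM Om) (hK : Mem Om z K) (hk : k ∈ K) : qq x k ∈ RZ Om z :=
  mul_mem (hK.le_RZ hk) ((hs.mem h hK).le_RZ (conj_mem_cj hk))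

theorem qq_one : qq x 1 = 1 := by simp [qq]

theorem qq_z (hs : Swp Om z x) (hz : InZ Om z) (h : WM Om) : qq x z = 1 := by
  rw [qq, hs.1, mul_inv_cancel_right, hz.z2 h]

/-- `x` commutes with `qq x k` -/
theorem qq_comm (hs : Swp Om z x) (h : WM Om) (hx : x * x = 1) (hK : Mem Om z K) (hk : k ∈ K) :
    x * qq x k = qq x k * x := by
  have h1 := hs.cm h hK hk hk
  have hx' : x⁻¹ = x := inv_eq_of_mul_eq_one_right hx
  calc x * (k * (x * k * x⁻¹)) = x * ((x * k * x⁻¹) * k) := by rw [h1]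
    _ = (x * x) * k * x⁻¹ * k := by group
    _ = k * x⁻¹ * k := by rw [hx, one_mul]
    _ = k * x * k := by rw [hx']
    _ = (k * (x * k * x⁻¹)) * x := by group

theorem qq_sq (hs : Swp Om z x) (h : WM Om) (hK : Mem Om z K) (hk : k ∈ K) : qq x k * qq x k = 1 := by
  rw [← qq_mul hs h hK hk hk]
  rcases hK.sq_cases h hk with rfl | rfl | h1
  · rw [one_mul, qq_one]
  · rw [hK.inZ.z2 h, qq_one]
  · rw [h1, qq_z hs hK.inZ h]

theorem qq_eq_one (hs : Swp Om z x) (h : WM Om) (hK : Mem Om z K) (hk : k ∈ K) (h1 : qq x k = 1) :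
    k = 1 ∨ k = z := by
  have h2 : k = (x * k * x⁻¹)⁻¹ := eq_inv_of_mul_eq_one_left h1
  refine hK.inf (hs.mem h hK) h (hs.ne hK) hk ?_
  rw [h2]
  exact inv_mem (conj_mem_cj hk)

/-- an element of both `K` and its swap -/
theorem Swp.inf (hs : Swp Om z x) (h : WM Om) (hK : Mem Om z K) (hk : k ∈ K) (hl : l ∈ cj x K) (he : k = l) :
    k = 1 ∨ k = z := hK.inf (hs.mem h hK) h (hs.ne hK) hk (by rw [he]; exact hl)

/-- **the fixed points of a swap** -/
theorem Swp.fix (hs : Swp Om z x) (h : WM Om) (hx : x * x = 1) (hK : Mem Om z K) (hr : r ∈ RZ Om z)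
    (hxr : x * r = r * x) : ∃ k ∈ K, r = qq x k ∨ r = z * qq x k := by
  have hL := hs.mem h hK
  obtain ⟨k, hk, l, hl, rfl⟩ := (mem_RZ hK hL h (hs.ne hK)).1 hr
  have hx' : x⁻¹ = x := inv_eq_of_mul_eq_one_right hx
  obtain ⟨k', hk', rfl⟩ : ∃ k' ∈ K, x * k' * x⁻¹ = l := hl
  -- `x (k l) x⁻¹ = k l`
  have h1 : (x * k * x⁻¹) * k' = k * (x * k' * x⁻¹) := by
    have h2 : x * (k * (x * k' * x⁻¹)) * x⁻¹ = k * (x * k' * x⁻¹) := by rw [hxr, mul_inv_cancel_right]
    have h3 : x * (k * (x * k' * x⁻¹)) * x⁻¹ = (x * k * x⁻¹) * ((x * x) * k' * (x * x)⁻¹) := by group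
    rw [h3, hx, one_mul, inv_one, mul_one] at h2
    exact h2
  have h2 := hs.cm h hK hk' hk
  rw [← h2] at h1
  -- `k' k^x = k k'^x`
  have h3 : k⁻¹ * k' = (x * k' * x⁻¹) * (x * k * x⁻¹)⁻¹ := by
    rw [eq_mul_inv_iff_mul_eq, mul_assoc, h1, inv_mul_cancel_left]
  have hkk : x * k' * x⁻¹ * (x * k * x⁻¹)⁻¹ ∈ cj x K := mul_mem (conj_mem_cj hk') (inv_mem (conj_mem_cj hk))
  rcases hs.inf h hK (mul_mem (inv_mem hk) hk') hkk h3 with h4 | h4
  · refine ⟨k, hk, Or.inl ?_⟩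
    rw [inv_mul_eq_one] at h4
    rw [← h4]; rfl
  · refine ⟨k, hk, Or.inr ?_⟩
    have h5 : k' = z * k := by rw [inv_mul_eq_iff_eq_mul] at h4; rw [h4, hK.comm_z h hk]
    rw [h5, qq]
    have h6 : x * (z * k) * x⁻¹ = z * (x * k * x⁻¹) := by
      calc x * (z * k) * x⁻¹ = (x * z) * k * x⁻¹ := by group
        _ = z * (x * k * x⁻¹) := by rw [hs.1]; group
    rw [h6, ← mul_assoc, hK.comm_z h hk, mul_assoc]

/-- the action of `qq x k` -/
theorem Swp.as_qq (hs : Swp Om z x) (h : WM Om) (hK : Mem Om z K) (hk : k ∈ K) :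
    As K (qq x k) k ∧ As (cj x K) (qq x k) (x * k * x⁻¹) := by
  have hL := hs.mem h hK
  have hl : x * k * x⁻¹ ∈ cj x K := conj_mem_cj hk
  constructor
  · have := (As.self hk).mul (hK.as_one hL h (hs.ne hK) hl)
    rwa [mul_one] at this
  · have := (hL.as_one hK h (hs.ne hK).symm hk).mul (As.self hl)
    rwa [one_mul] at this

/-- `g ∈ C(z)` fixes both members or interchanges them -/
theorem cj_cases (h : WM Om) (hK : Mem Om z K) (hL : Mem Om z L) (hne : K ≠ L) (hg : g * z = z * g) :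
    (cj g K = K ∧ cj g L = L) ∨ (cj g K = L ∧ cj g L = K) := by
  rcases hK.cases hL h hne (hK.cj_comm h hg) with h1 | h1 <;> rcases hK.cases hL h hne (hL.cj_comm h hg) with h2 | h2
  · exfalso
    rw [← h1] at h2
    exact hne (cj_inj.1 h2).symm
  · exact Or.inl ⟨h1, h2⟩
  · exact Or.inr ⟨h1, h2⟩
  · exfalso
    rw [← h2] at h1
    exact hne (cj_inj.1 h1)

/-- an element fixing `K` and centralising the `qq x k` -/
theorem Swp.cent_fix (hs : Swp Om z x) (h : WM Om) (hK : Mem Om z K) (hgK : cj g K = K)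
    (hc : ∀ k ∈ K, g * qq x k = qq x k * g) :
    ∃ a ∈ K, As K g a ∧ As (cj x K) g (x * a * x⁻¹) := by
  have hL := hs.mem h hK
  have hgz : g * z = z * g := hK.of_cj h hgK
  have hgL : cj g (cj x K) = cj x K := by
    rcases cj_cases h hK hL (hs.ne hK) hgz with h1 | h1
    · exact h1.2
    · exact absurd (hgK.symm.trans h1.1) (hs.ne hK)
  have key : ∀ k ∈ K, (g * k * g⁻¹ = k ∧ g * (x * k * x⁻¹) * g⁻¹ = x * k * x⁻¹) ∨
      (g * k * g⁻¹ = z * k ∧ g * (x * k * x⁻¹) * g⁻¹ = z * (x * k * x⁻¹)) := by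
    intro k hk
    obtain ⟨k1, hk1⟩ : ∃ k1, k1 = g * k * g⁻¹ := ⟨_, rfl⟩
    obtain ⟨l1, hl1⟩ : ∃ l1, l1 = g * (x * k * x⁻¹) * g⁻¹ := ⟨_, rfl⟩
    have mk1 : k1 ∈ K := by
      have := conj_mem_cj (g := g) hk
      rw [hgK] at this; rw [hk1]; exact this
    have ml : x * k * x⁻¹ ∈ cj x K := conj_mem_cj hk
    have ml1 : l1 ∈ cj x K := by
      have := conj_mem_cj (g := g) ml
      rw [hgL] at this; rw [hl1]; exact this
    have h1 : k1 * l1 = k * (x * k * x⁻¹) := by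
      have h2 := hc k hk
      have h3 : k1 * l1 = g * qq x k * g⁻¹ := by rw [hk1, hl1, qq]; group
      rw [h3, h2, mul_inv_cancel_right]; rfl
    have h2 : k⁻¹ * k1 = (x * k * x⁻¹) * l1⁻¹ := by
      rw [eq_mul_inv_iff_mul_eq, mul_assoc, h1, inv_mul_cancel_left]
    rw [← hk1, ← hl1]
    rcases hs.inf h hK (mul_mem (inv_mem hk) mk1) (mul_mem ml (inv_mem ml1)) h2 with h3 | h3
    · left
      rw [h3] at h2
      rw [inv_mul_eq_one] at h3
      exact ⟨h3.symm, (mul_inv_eq_one.1 h2.symm).symm⟩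
    · right
      rw [h3] at h2
      rw [inv_mul_eq_iff_eq_mul] at h3
      refine ⟨by rw [h3, hK.comm_z h hk], ?_⟩
      rw [eq_mul_inv_iff_mul_eq] at h2
      have hzz := hK.inZ.z2 h
      calc l1 = (z * z) * l1 := by rw [hzz, one_mul]
        _ = z * (z * l1) := by group
        _ = z * (x * k * x⁻¹) := by rw [h2]
  obtain ⟨q, qa⟩ := h.exists_q3 hK
  obtain ⟨a, ha⟩ : ∃ a, As K g a := by
    rcases qa.inner_cases (fun k hk => (key k hk).imp And.left And.left) with h1 | ⟨j, h1⟩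
    · exact ⟨1, one_mem _, fun k hk => by rw [h1 k hk]; group⟩
    · exact ⟨q j, qa.mem j, h1⟩
  refine ⟨a, ha.1, ha, conj_mem_cj ha.1, ?_⟩
  rintro _ ⟨k, hk, rfl⟩
  have h1 := ha.2 k hk
  change g * (x * k * x⁻¹) * g⁻¹ = x * a * x⁻¹ * (x * k * x⁻¹) * (x * a * x⁻¹)⁻¹
  have h2 : x * a * x⁻¹ * (x * k * x⁻¹) * (x * a * x⁻¹)⁻¹ = x * (a * k * a⁻¹) * x⁻¹ := by group
  rw [h2, ← h1]
  rcases key k hk with ⟨h3, h4⟩ | ⟨h3, h4⟩
  · rw [h3, h4]
  · rw [h3, h4]
    calc z * (x * k * x⁻¹) = (z * x) * k * x⁻¹ := by group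
      _ = (x * z) * k * x⁻¹ := by rw [hs.1]
      _ = _ := by group

/-- **the centraliser of `C_{R_z}(x)`** -/
theorem Swp.cent (hs : Swp Om z x) (h : WM Om) (hx : x * x = 1) (hK : Mem Om z K) (hgz : g * z = z * g)
    (hc : ∀ k ∈ K, g * qq x k = qq x k * g) :
    (∃ a ∈ K, As K g a ∧ As (cj x K) g (x * a * x⁻¹)) ∨
      (Swp Om z g ∧ ∃ a ∈ K, As K (g * x) a ∧ As (cj x K) (g * x) (x * a * x⁻¹)) := by
  rcases cj_cases h hK (hs.mem h hK) (hs.ne hK) hgz with h1 | h1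
  · exact Or.inl (hs.cent_fix h hK h1.1 hc)
  · right
    refine ⟨Swp.of_one h hK hgz (by rw [h1.1]; exact (hs.ne hK).symm), hs.cent_fix h hK ?_ ?_⟩
    · rw [cj_mul, h1.2]
    · intro k hk
      rw [mul_assoc, qq_comm hs h hx hK hk, ← mul_assoc, hc k hk, mul_assoc]

/-! ### Type `f` -/

theorem Ff.exists_tr (hf : Ff Om z x) (h : WM Om) (hx : x * x = 1) (hK : Mem Om z K) : ∃ a, Tr x K a := by
  obtain ⟨h1, h2⟩ := hf.2 K hK
  refine (h.wr.inn_or_tr hK.1 h1 hx).resolve_left fun h3 => h2 fun k hk => ?_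
  obtain ⟨y, hy, h4⟩ := h3
  rw [h4 k hk]
  exact hK.comm_or h hk hy

theorem Tr.sq' (ht : Tr x K a) (hK : Mem Om z K) : a * a = z := by rw [ht.sq, hK.2]

theorem Tr.inv' (ht : Tr x K a) (hK : Mem Om z K) (h : WM Om) : x * a * x⁻¹ = z * a := by
  rw [ht.inv, hK.inv_eq h ht.mem (Tr.sq' ht hK)]

/-- the elements of `K` moved by `1` or `z` under a transposition -/
theorem Tr.cases (ht : Tr x K a) (hK : Mem Om z K) (h : WM Om) (hk : k ∈ K)
    (hc : x * k * x⁻¹ = k ∨ x * k * x⁻¹ = z * k) : k = 1 ∨ k = z ∨ k = a ∨ k = z * a := by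
  rcases hK.sq_cases h hk with h1 | h1 | h1
  · exact Or.inl h1
  · exact Or.inr (Or.inl h1)
  by_contra hcon
  push Not at hcon
  have h2 : k ≠ a⁻¹ := by rw [hK.inv_eq h ht.mem (Tr.sq' ht hK)]; exact hcon.2.2.2
  have h3 := ht.ne k hk (by rw [h1, hK.2]) hcon.2.2.1 h2
  rw [hK.inv_eq h hk h1] at h3
  rcases hc with hc | hc
  · exact h3.1 hc
  · exact h3.2 hc

theorem Tr.comm_iff (ht : Tr x K a) (hK : Mem Om z K) (h : WM Om) (hk : k ∈ K) (hc : x * k * x⁻¹ = k) :
    k = 1 ∨ k = z := by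
  rcases Tr.cases ht hK h hk (Or.inl hc) with h1 | h1 | h1 | h1
  · exact Or.inl h1
  · exact Or.inr h1
  · exfalso
    rw [h1, Tr.inv' ht hK h] at hc
    exact hK.inZ.z1 h (mul_eq_right.1 hc)
  · exfalso
    have hxz : x * z = z * x := by
      have h2 : x * (a * a) * x⁻¹ = a * a := by
        calc x * (a * a) * x⁻¹ = (x * a * x⁻¹) * (x * a * x⁻¹) := by group
          _ = (z * a) * (z * a) := by rw [Tr.inv' ht hK h]
          _ = z * (a * z) * a := by group
          _ = z * (z * a) * a := by rw [hK.comm_z h ht.mem]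
          _ = (z * z) * (a * a) := by group
          _ = a * a := by rw [hK.inZ.z2 h, one_mul]
      rw [Tr.sq' ht hK, mul_inv_eq_iff_eq_mul] at h2
      exact h2
    rw [h1, show x * (z * a) * x⁻¹ = (x * z) * a * x⁻¹ by group, hxz,
      show z * x * a * x⁻¹ = z * (x * a * x⁻¹) by group, Tr.inv' ht hK h] at hc
    have h3 := mul_left_cancel hc
    exact hK.inZ.z1 h (mul_eq_right.1 h3)

/-- **the fixed points of an element of type `f`** -/
theorem Ff.fix (hf : Ff Om z x) (h : WM Om) (hK : Mem Om z K) (hL : Mem Om z L) (hne : K ≠ L) (ha : Tr x K a)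
    (hb : Tr x L b) (hr : r ∈ RZ Om z) (hxr : x * r = r * x) : r = 1 ∨ r = z ∨ r = a * b ∨ r = z * (a * b) := by
  obtain ⟨k, hk, l, hl, rfl⟩ := (mem_RZ hK hL h hne).1 hr
  obtain ⟨k1, hk1⟩ : ∃ k1, k1 = x * k * x⁻¹ := ⟨_, rfl⟩
  obtain ⟨l1, hl1⟩ : ∃ l1, l1 = x * l * x⁻¹ := ⟨_, rfl⟩
  have mk1 : k1 ∈ K := by
    have := conj_mem_cj (g := x) hk
    rw [(hf.2 K hK).1] at this; rw [hk1]; exact this
  have ml1 : l1 ∈ L := by
    have := conj_mem_cj (g := x) hl
    rw [(hf.2 L hL).1] at this; rw [hl1]; exact this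
  have h1 : k1 * l1 = k * l := by
    have h3 : k1 * l1 = x * (k * l) * x⁻¹ := by rw [hk1, hl1]; group
    rw [h3, hxr, mul_inv_cancel_right]
  have h2 : k⁻¹ * k1 = l * l1⁻¹ := by
    rw [eq_mul_inv_iff_mul_eq, mul_assoc, h1, inv_mul_cancel_left]
  have hzz := hK.inZ.z2 h
  have e1 : ∀ g : G, z * (z * g) = g := fun g => by rw [← mul_assoc, hzz, one_mul]
  have hkz : k * z = z * k := hK.comm_z h hk
  have haz : a * z = z * a := hK.comm_z h ha.mem
  rcases hK.inf hL h hne (mul_mem (inv_mem hk) mk1) (by rw [h2]; exact mul_mem hl (inv_mem ml1)) with h3 | h3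
  · -- both fixed
    rw [h3] at h2
    rw [inv_mul_eq_one] at h3
    have h4 := mul_inv_eq_one.1 h2.symm
    rw [hk1] at h3
    rw [hl1] at h4
    rcases Tr.comm_iff ha hK h hk h3.symm with rfl | rfl <;> rcases Tr.comm_iff hb hL h hl h4.symm with rfl | rfl
    · left; rw [one_mul]
    · right; left; rw [one_mul]
    · right; left; rw [mul_one]
    · left; exact hzz
  · rw [h3] at h2
    rw [inv_mul_eq_iff_eq_mul, hkz] at h3
    have h4 : l1 = z * l := by
      rw [eq_mul_inv_iff_mul_eq] at h2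
      rw [← h2, e1]
    rw [hk1] at h3
    rw [hl1] at h4
    have nk : ¬ (k = 1 ∨ k = z) := by
      intro h5
      have h6 : x * k * x⁻¹ = k := by
        rcases h5 with rfl | rfl
        · group
        · rw [hf.1, mul_inv_cancel_right]
      rw [h6] at h3
      exact hK.inZ.z1 h (mul_eq_right.1 h3.symm)
    have nl : ¬ (l = 1 ∨ l = z) := by
      intro h5
      have h6 : x * l * x⁻¹ = l := by
        rcases h5 with rfl | rfl
        · group
        · rw [hf.1, mul_inv_cancel_right]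
      rw [h6] at h4
      exact hK.inZ.z1 h (mul_eq_right.1 h4.symm)
    have h5 : k = a ∨ k = z * a := by
      rcases Tr.cases ha hK h hk (Or.inr h3) with h6 | h6 | h6 | h6
      · exact absurd (Or.inl h6) nk
      · exact absurd (Or.inr h6) nk
      · exact Or.inl h6
      · exact Or.inr h6
    have h7 : l = b ∨ l = z * b := by
      rcases Tr.cases hb hL h hl (Or.inr h4) with h6 | h6 | h6 | h6
      · exact absurd (Or.inl h6) nl
      · exact absurd (Or.inr h6) nl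
      · exact Or.inl h6
      · exact Or.inr h6
    rcases h5 with rfl | rfl <;> rcases h7 with rfl | rfl
    · exact Or.inr (Or.inr (Or.inl rfl))
    · refine Or.inr (Or.inr (Or.inr ?_))
      rw [← mul_assoc, haz, mul_assoc]
    · exact Or.inr (Or.inr (Or.inr (by rw [mul_assoc])))
    · refine Or.inr (Or.inr (Or.inl ?_))
      calc z * a * (z * b) = z * (a * z) * b := by group
        _ = z * (z * a) * b := by rw [haz]
        _ = a * b := by rw [← mul_assoc, hzz, one_mul]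

/-! ### T-triples -/

/-- `(u, e)` a C-pair, `(x, e)` not, `r ∈ C_{R_x}(e)` : `[u, r]` centralises `R_e`, and it is not `x` -/
theorem triple_key (h : WM Om) (he : InZ Om e) (hu : InZ Om u) (hx : InZ Om x) (hc : CP Om u e) (hne : x ≠ e)
    (hnc : ¬ CP Om x e) (hre : r * e = e * r) :
    (∀ g ∈ RZ Om e, (u * r * u⁻¹ * r⁻¹) * g = g * (u * r * u⁻¹ * r⁻¹)) ∧ u * r * u⁻¹ * r⁻¹ ≠ x := by
  have h1 : ∀ g ∈ RZ Om e, (u * r * u⁻¹ * r⁻¹) * g = g * (u * r * u⁻¹ * r⁻¹) := by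
    intro g hg
    have c1 : u * g = g * u := cp_RZ h hc (z_mem_RZ hu h) hg
    have h2 := cp_conj h hc r
    rw [hre, mul_inv_cancel_right] at h2
    have c2 : (r * u * r⁻¹) * g = g * (r * u * r⁻¹) := cp_RZ h h2 (z_mem_RZ (hu.conj h r) h) hg
    have h3 : u * r * u⁻¹ * r⁻¹ = u * (r * u * r⁻¹)⁻¹ := by group
    have c3 : (r * u * r⁻¹)⁻¹ * g = g * (r * u * r⁻¹)⁻¹ := by
      rw [inv_mul_eq_iff_eq_mul, ← mul_assoc, c2, mul_inv_cancel_right]
    rw [h3, mul_assoc, c3, ← mul_assoc, c1, mul_assoc]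
  refine ⟨h1, fun h2 => hnc ?_⟩
  obtain ⟨E, hE⟩ := he
  refine (cp_of_cen h hE hx hne.symm fun k hk => ?_).symm
  have := h1 k (hE.le_RZ hk)
  rwa [h2] at this

/-- (I, I) : the same inner automorphism -/
theorem tt_II (h : WM Om) (hc : CP Om u e) (hu : TI Om x u) (he : TI Om x e) (hK : Mem Om x K) (ha : As K u a)
    (hb : As K e b) : b = a ∨ b = x * a := by
  have haa := hu.sq_of_as h hK ha
  have hbb := he.sq_of_as h hK hb
  by_cases hab : a * b = b * a
  · rcases hK.of_comm h ha.1 haa hb.1 hab with h1 | h1 | h1 | h1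
    · rw [h1, one_mul] at hbb; exact absurd hbb.symm (hK.inZ.z1 h)
    · rw [h1, hK.inZ.z2 h] at hbb; exact absurd hbb.symm (hK.inZ.z1 h)
    · exact Or.inl h1
    · exact Or.inr h1
  exfalso
  refine (triple_key h he.inT hu.inT hK.inZ hc he.ne (he.not_cp h) (r := b) hb.comm.symm).2 ?_
  have h1 : a * b * a⁻¹ = x * b := hK.anti h hb.1 hbb ha.1 haa (fun h2 => hab h2.symm)
  rw [ha.2 b hb.1, h1, mul_inv_cancel_right]

theorem tt_II_cx (h : WM Om) (hc : CP Om u e) (hu : TI Om x u) (he : TI Om x e) : u * e ∈ CX Om x := by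
  rw [mem_CX]
  intro K hK k hk
  obtain ⟨a, ha, haa⟩ := hu.exists_as h hK
  obtain ⟨b, hb, -⟩ := he.exists_as h hK
  have h1 := ha.mul hb
  have h2 : a * b = 1 ∨ a * b = x := by
    rcases tt_II h hc hu he hK ha hb with rfl | rfl
    · exact Or.inr haa
    · left
      rw [← mul_assoc, hK.comm_z h ha.1, mul_assoc, haa, hK.inZ.z2 h]
  rcases h2 with h2 | h2
  · rw [h2] at h1
    exact As.one_iff.1 h1 k hk
  · have h3 := h1.2 k hk
    rw [h2, ← hK.comm_z h hk, mul_inv_cancel_right, mul_inv_eq_iff_eq_mul] at h3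
    exact h3

/-- (I, f) is impossible -/
theorem tt_If (h : WM Om) (hc : CP Om u e) (hu : TI Om x u) (he : InZ Om e) (hf : Ff Om x e) : False := by
  obtain ⟨K, hK⟩ := hu.inZ
  obtain ⟨a, ha, haa⟩ := hu.exists_as h hK
  have he2 := he.z2 h
  obtain ⟨c, hc'⟩ := hf.exists_tr h he2 hK
  have hue : e * u = u * e := (cp_comm h hu.inT he hc).symm
  have hnc : ¬ CP Om x u := hu.not_cp h
  have h1 : As K u (e * a * e⁻¹) := by
    have := ha.conj e
    rwa [(hf.2 K hK).1, hue, mul_inv_cancel_right] at this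
  have h2 := hK.as_unique h ha h1
  have h3 : e * a * e⁻¹ = x * a := by
    rcases h2 with h2 | h2
    · exfalso
      rcases Tr.comm_iff hc' hK h ha.1 h2 with h4 | h4
      · rw [h4, one_mul] at haa; exact hK.inZ.z1 h haa.symm
      · rw [h4, hK.inZ.z2 h] at haa; exact hK.inZ.z1 h haa.symm
    · exact h2
  refine (triple_key h hu.inT he hK.inZ hc.symm hu.ne hnc (r := a) ha.comm.symm).2 ?_
  rw [h3, mul_inv_cancel_right]

/-- the axis of a commuting element of type `f` -/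
theorem Ff.axis_eq (h : WM Om) (hK : Mem Om x K) (huK : cj u K = K) (hue : u * e = e * u) (ha : Tr e K a)
    (hb : Tr u K b) : a = b ∨ a = x * b := by
  -- `u a u⁻¹` is inverted by `e`
  have hm : u * a * u⁻¹ ∈ K := by
    have := conj_mem_cj (g := u) ha.mem
    rwa [huK] at this
  have haa := Tr.sq' ha hK
  have hux : u * x = x * u := hK.of_cj h huK
  have h1 : e * (u * a * u⁻¹) * e⁻¹ = x * (u * a * u⁻¹) := by
    calc e * (u * a * u⁻¹) * e⁻¹ = (e * u) * a * (e * u)⁻¹ := by group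
      _ = (u * e) * a * (u * e)⁻¹ := by rw [hue]
      _ = u * (e * a * e⁻¹) * u⁻¹ := by group
      _ = u * (x * a) * u⁻¹ := by rw [Tr.inv' ha hK h]
      _ = (u * x) * a * u⁻¹ := by group
      _ = _ := by rw [hux]; group
  have h2 : (u * a * u⁻¹) * (u * a * u⁻¹) = x := by
    calc (u * a * u⁻¹) * (u * a * u⁻¹) = u * (a * a) * u⁻¹ := by group
      _ = x := by rw [haa, hux, mul_inv_cancel_right]
  have h3 : u * a * u⁻¹ = a ∨ u * a * u⁻¹ = x * a := by
    rcases Tr.cases ha hK h hm (Or.inr h1) with h4 | h4 | h4 | h4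
    · rw [h4, one_mul] at h2; exact absurd h2.symm (hK.inZ.z1 h)
    · rw [h4, hK.inZ.z2 h] at h2; exact absurd h2.symm (hK.inZ.z1 h)
    · exact Or.inl h4
    · exact Or.inr h4
  rcases Tr.cases hb hK h ha.mem h3 with h4 | h4 | h4 | h4
  · rw [h4, one_mul] at haa; exact absurd haa.symm (hK.inZ.z1 h)
  · rw [h4, hK.inZ.z2 h] at haa; exact absurd haa.symm (hK.inZ.z1 h)
  · exact Or.inl h4
  · exact Or.inr h4

theorem Tr.symm' (ht : Tr g K a) (hK : Mem Om z K) (h : WM Om) : Tr g K (z * a) := by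
  have haa := Tr.sq' ht hK
  have hi := hK.inv_eq h ht.mem haa
  have hmem : z * a ∈ K := mul_mem (hK.zmem h) ht.mem
  have hi' : (z * a)⁻¹ = a := by rw [← hi, inv_inv]
  refine ⟨hmem, ?_, ?_, fun b hb hbb h1 h2 => ?_, fun b hb hbb h1 h2 => ?_⟩
  · rw [← hi, ← mul_inv_rev, haa, hK.2, hK.inZ.inv h]
  · rw [← hi, show g * a⁻¹ * g⁻¹ = (g * a * g⁻¹)⁻¹ by group, ht.inv]
  · rw [hi'] at h2
    rw [← hi] at h1
    exact ht.ne b hb hbb h2 h1
  · rw [hi'] at h2 ⊢
    rw [← hi] at h1 ⊢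
    exact (ht.com b hb hbb h2 h1).symm

/-- `u` and `e` commute, both are transpositions on `K` : the same axis -/
theorem Tr.same (h : WM Om) (hK : Mem Om x K) (huK : cj u K = K) (hue : u * e = e * u) (ha : Tr e K b)
    (hb : Tr u K a) : Tr e K a := by
  rcases Ff.axis_eq h hK huK hue ha hb with h1 | h1
  · rw [← h1]; exact ha
  · have h2 := Tr.symm' ha hK h
    rw [h1, ← mul_assoc, hK.inZ.z2 h, one_mul] at h2
    exact h2

/-- the product of commuting transpositions -/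
theorem Tr.mul_cases (h : WM Om) (hK : Mem Om x K) (huK : cj u K = K) (heK : cj e K = K) (ha : Tr u K a)
    (hb : Tr e K a) : As K (u * e) 1 ∨ As K (u * e) a := by
  have h1 := h.wr.inn_of_tr hK.1 huK heK ha hb (Or.inl rfl)
  obtain ⟨y, hy, h2⟩ := h1
  have haa := Tr.sq' ha hK
  have h3 : (u * e) * a * (u * e)⁻¹ = a := by
    have h4 : e * a * e⁻¹ = a⁻¹ := hb.inv
    calc (u * e) * a * (u * e)⁻¹ = u * (e * a * e⁻¹) * u⁻¹ := by group
      _ = u * a⁻¹ * u⁻¹ := by rw [h4]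
      _ = (u * a * u⁻¹)⁻¹ := by group
      _ = a := by rw [ha.inv, inv_inv]
  have h5 : a * y = y * a := by
    rw [h2 a ha.mem, mul_inv_eq_iff_eq_mul] at h3
    exact h3.symm
  rcases hK.of_comm h ha.mem haa hy h5 with h6 | h6 | h6 | h6
  · left; rw [h6] at h2; exact ⟨one_mem _, h2⟩
  · left
    refine As.one_iff.2 fun k hk => ?_
    have h7 := h2 k hk
    rw [h6, ← hK.comm_z h hk, mul_inv_cancel_right, mul_inv_eq_iff_eq_mul] at h7
    exact h7
  · right; rw [h6] at h2; exact ⟨ha.mem, h2⟩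
  · right
    refine ⟨ha.mem, fun k hk => ?_⟩
    rw [h2 k hk, h6]
    have h7 : a * k * a⁻¹ ∈ K := mul_mem (mul_mem ha.mem hk) (inv_mem ha.mem)
    calc x * a * k * (x * a)⁻¹ = x * (a * k * a⁻¹) * x⁻¹ := by group
      _ = (a * k * a⁻¹) * x * x⁻¹ := by rw [hK.comm_z h h7]
      _ = a * k * a⁻¹ := by group

/-- an element of order 4 of `K` off the axis -/
theorem Mem.exists_off (hK : Mem Om z K) (h : WM Om) (ha : a ∈ K) (haa : a * a = z) :
    ∃ b ∈ K, b * b = z ∧ b ≠ a ∧ b ≠ a⁻¹ := by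
  obtain ⟨b, hb, hbb, hab⟩ := hK.exists_nc h ha haa
  refine ⟨b, hb, hbb, fun h1 => hab (by rw [h1]), fun h1 => hab (by rw [h1]; group)⟩

/-- `(u, e)` a C-pair, both transpositions on `K` with axis `a`, `LAMBDA0`, AN(u e) : `u e` acts on `K` as `a` -/
theorem tt_as (h : WM Om) (l0 : L0 Om) (hc : CP Om u e) (an : ANt Om (u * e)) (hu : InZ Om u) (he : InZ Om e)
    (hK : Mem Om x K) (huK : cj u K = K) (heK : cj e K = K) (ha : Tr u K a) (hb : Tr e K a) : As K (u * e) a := by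
  rcases Tr.mul_cases h hK huK heK ha hb with h1 | h1
  · exfalso
    have haa := Tr.sq' ha hK
    have hK1 := As.one_iff.1 h1
    have huZ : u ∈ ZS Om (u * e) := by
      refine ⟨hu, ?_⟩
      rw [mem_CX]
      intro M hM k hk
      have h2 : e * k = k * e := (cp_RZ h hc (hM.le_RZ hk) (z_mem_RZ he h)).symm
      rw [mul_assoc, h2, ← mul_assoc, ← hM.comm_z h hk, mul_assoc]
    obtain ⟨b, hb', hbb, hne, hne'⟩ := hK.exists_off h ha.mem haa
    have h2 := ha.com b hb' (by rw [hbb, hK.2]) hne hne'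
    have h3 : b * u * b⁻¹ ∈ NC (u * e) u := conj_mem_NC (hK1 b hb').symm
    have h4 : (b * u * b⁻¹) * u⁻¹ ∈ NC (u * e) u := mul_mem h3 (inv_mem self_mem_NC)
    have h5 : (b * u * b⁻¹) * u⁻¹ = (u * b * u⁻¹ * b⁻¹)⁻¹ := by group
    rw [h5] at h4
    have h6 := NC_sq h l0 an huZ h4
    have h7 : (u * b * u⁻¹ * b⁻¹) * (u * b * u⁻¹ * b⁻¹) = 1 := by
      rw [← mul_inv_rev, inv_eq_one] at h6
      exact h6
    rcases h2 with h2 | h2
    · rw [h2, haa] at h7
      exact hK.inZ.z1 h h7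
    · rw [h2, ← mul_inv_rev, haa, inv_eq_one] at h7
      exact hK.inZ.z1 h h7
  · exact h1

/-- (f, f) : the same axes, and `u e` acts on `K` as the axis -/
theorem tt_ff (h : WM Om) (l0 : L0 Om) (hc : CP Om u e) (an : ANt Om (u * e)) (hu : InZ Om u) (he : InZ Om e)
    (fu : Ff Om x u) (fe : Ff Om x e) (hK : Mem Om x K) (ha : Tr u K a) : Tr e K a ∧ As K (u * e) a := by
  obtain ⟨b, hb⟩ := fe.exists_tr h (he.z2 h) hK
  have h1 := Tr.same h hK (fu.2 K hK).1 (cp_comm h hu he hc) hb ha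
  exact ⟨h1, tt_as h l0 hc an hu he hK (fu.2 K hK).1 (fe.2 K hK).1 ha h1⟩

/-- `x ∈ ⟨u^{C(s)}⟩` : `x` at `u` is not of type `f` -/
theorem not_ff_of_NC (h : WM Om) (an : ANt Om s) (hu : u ∈ ZS Om s) (hx : x ∈ NC s u) : ¬ Ff Om u x := by
  intro hf
  obtain ⟨K, hK⟩ := hu.1
  obtain ⟨h1, h2⟩ := hf.2 K hK
  apply h2
  intro k hk
  have h3 : x * k * x⁻¹ * k⁻¹ ∈ K := by
    have := conj_mem_cj (g := x) hk
    rw [h1] at this
    exact mul_mem this (inv_mem hk)
  have h4 : x * k * x⁻¹ * k⁻¹ ∈ NC s u := by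
    have h5 : x * k * x⁻¹ * k⁻¹ = x * (k * x⁻¹ * k⁻¹) := by group
    rw [h5]
    exact mul_mem hx ((mem_normalizer_iff.1 (NC_norm (Mem.le_cent hK hu hk)) _).1 (inv_mem hx))
  have o := NC_orb h an hu hK
  rcases o.mem_inf ⟨1, one_mem _, cj_one _⟩ h3 h4 with h5 | h5
  · left; rwa [mul_inv_eq_one] at h5
  · right; rwa [hK.2, mul_inv_eq_iff_eq_mul] at h5

end Fin

end Cfsg.Agent.Cit.Nil.RTwoM

private theorem dce_a07c8f16149e : _root_.True := by
  try have : _root_.True := by simp only [_root_.Cfsg.Agent.Cit.Nil.RTwoM.qq.eq_1]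
  exact _root_.True.intro
end

-- part: Cit/Nil/RTwoM/JArg
section
prune_inst 0x4200044001122000000180010200020001000000000030001e16003020b400001a0430e013850060011102ce0400a802003080059423800002a00820000040120040370e2823c1c00110000405801180c00000000000000000000000000000000000000000
set_option linter.all false
open scoped Cfsg.Agent.FastGrp

/-!
# S1309, (6b), (C3), `r = 2`, any `m`: (P1), (LINK), (KEY2), the J-ARGUMENT (helper762, #18261)

* `TI.exists_mv`, `TI.exists_swap` : `⟨K_x, K_q⟩` induces `S₃` on `⟨x, q⟩`;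
* **`TI.mem_symm`** (P1) : `(x, q)` type I, `q ∈ R_x`: `x ∈ R_q`; `TI.cp_iff` : the same C-partners;
* **`TI.dich`** : `(x, u)` type I: `x ∈ R_u`, or some involution `q ∈ R_x ⊓ R_u` acts on `R_x` as `u` and on `R_u` as `x`;
* **`link`** (LINK) : `(u, e)` C-pair, both type I with respect to `x`: `x = q q'`, `q ∈ R_u`, `q' ∈ R_e`;
  `link_cp` : a common C-partner of `u, e` is a C-partner of `x`; `link_not_ti`; `link_three`;
* **`TI.key2`** (KEY2), `TI.key2_swp` : a swap at `z` never maps `x` to `x z`;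
* `JH Om A T x` : the hypotheses of the J-ARGUMENT; `JH.comm_mem`, `JH.comm`, `JH.ne_x`, `JH.dich`; `JH.of_card` :
  `|T| > 4`: `T ≤ X_x`; `JF Om A T x` : `T` faithful on `R_x`, at least 3 elements: **`JF.main`**, `JF.card_le`.
-/

set_option autoImplicit false
set_option linter.style.haveILetI false
set_option linter.unusedSectionVars false

namespace Cfsg.Agent.Cit.Nil.RTwoM

open Subgroup Cfsg Cfsg.Agent.Cit

open RTwo (Q3)
open RG (WR CP Ov InO Tr)
open RI (CS)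

variable {G : Type*} [Group G] {Om : Set (Subgroup G)} {K L M : Subgroup G}
  {a b c d e g j k l n q r s t u v w x y z : G}

section Fin

variable [Finite G]

/-! ### (P1) -/

/-- a member over `t` moves `z` to `z t` -/
theorem TI.exists_mv (hti : TI Om z t) (h : WM Om) (hL : Mem Om t L) :
    ∃ v ∈ L, v * v = t ∧ v * t = t * v ∧ v * z * v⁻¹ = z * t := by
  obtain ⟨x, hx, hxx⟩ := (hti.symm h).exists_as h hL
  obtain ⟨v, hv, hvv, hxv⟩ := hL.exists_nc h hx.1 hxx
  exact ⟨v, hv, hvv, hL.comm_z h hv, hti.conj_z h hL hx hv hvv hxv⟩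

/-- `⟨K_z, K_t⟩` interchanges `z` and `t` -/
theorem TI.exists_swap (hti : TI Om z t) (h : WM Om) : ∃ g, g * z * g⁻¹ = t ∧ g * t * g⁻¹ = z := by
  obtain ⟨K, hK⟩ := hti.inZ
  obtain ⟨L, hL⟩ := hti.inT
  obtain ⟨v, -, -, hvz, hvt⟩ := (hti.symm h).exists_mv h hK
  obtain ⟨u, -, -, hut, huz⟩ := hti.exists_mv h hL
  have hzz := hti.inZ.z2 h
  have htt := hti.inT.z2 h
  have hzt := hti.comm
  have cz : v * z * v⁻¹ = z := by rw [hvz, mul_inv_cancel_right]
  have ct : u * t * u⁻¹ = t := by rw [hut, mul_inv_cancel_right]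
  refine ⟨v * u * v, ?_, ?_⟩
  · calc v * u * v * z * (v * u * v)⁻¹ = v * (u * (v * z * v⁻¹) * u⁻¹) * v⁻¹ := by group
      _ = v * (z * t) * v⁻¹ := by rw [cz, huz]
      _ = (v * z * v⁻¹) * (v * t * v⁻¹) := by group
      _ = z * (t * z) := by rw [cz, hvt]
      _ = (z * t) * z := by group
      _ = t * (z * z) := by rw [hzt]; group
      _ = t := by rw [hzz, mul_one]
  · calc v * u * v * t * (v * u * v)⁻¹ = v * (u * (v * t * v⁻¹) * u⁻¹) * v⁻¹ := by group
      _ = v * (u * (t * z) * u⁻¹) * v⁻¹ := by rw [hvt]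
      _ = v * ((u * t * u⁻¹) * (u * z * u⁻¹)) * v⁻¹ := by group
      _ = v * (t * (z * t)) * v⁻¹ := by rw [ct, huz]
      _ = v * ((t * z) * t) * v⁻¹ := by group
      _ = v * (z * (t * t)) * v⁻¹ := by rw [← hzt]; group
      _ = z := by rw [htt, mul_one, cz]

/-- **(P1)** -/
theorem TI.mem_symm (hti : TI Om x q) (h : WM Om) (hq : q ∈ RZ Om x) : x ∈ RZ Om q := by
  obtain ⟨g, hg, hg'⟩ := hti.exists_swap h
  have h1 := RZ_conj h g hq
  rwa [hg, hg'] at h1

/-- `q ∈ Z ⊓ R_x`, `q ≠ x` : the C-partners of `x` are C-partners of `q` -/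
theorem cp_of_mem_RZ (h : WM Om) (hti : TI Om x q) (hq : q ∈ RZ Om x) (hu : InZ Om u) (hc : CP Om x u) :
    CP Om q u := by
  have h1 : q ∈ CX Om u := by
    rw [mem_CX]
    exact fun K hK k hk => cp_RZ h hc hq (hK.le_RZ hk)
  rcases (cen_iff h hu hti.inT).1 h1 with h2 | h2
  · rw [h2] at hc
    exact absurd hc (hti.not_cp h)
  · exact h2.symm

/-- **(P1)** the C-partners of `x` and `q` are the same -/
theorem TI.cp_iff (hti : TI Om x q) (h : WM Om) (hq : q ∈ RZ Om x) (hu : InZ Om u) : CP Om x u ↔ CP Om q u :=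
  ⟨cp_of_mem_RZ h hti hq hu, cp_of_mem_RZ h (hti.symm h) (hti.mem_symm h hq) hu⟩

/-! ### The common involution -/

theorem TI.not_mem_CX (hti : TI Om x u) (h : WM Om) : x ∉ CX Om u := by
  intro h1
  obtain ⟨L, hL⟩ := hti.inT
  exact (hti.symm h).nc hL (mem_CX.1 h1 L hL)

/-- the action of the product of two elements inverting the actions of `x` on the members over `u` -/
theorem TI.conj_two {K L L' : Subgroup G} {v' l' : G} (hti : TI Om x u) (h : WM Om) (hK : Mem Om x K)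
    (hL : Mem Om u L) (hL' : Mem Om u L') (hne : L ≠ L') (hy : As K u y) (hl : As L x l) (hl' : As L' x l')
    (hv : v ∈ L) (hvv : v * v = u) (hlv : l * v ≠ v * l) (hv' : v' ∈ L') (hvv' : v' * v' = u)
    (hlv' : l' * v' ≠ v' * l') :
    (v * v') * x = x * (v * v') ∧ (v * v') * u = u * (v * v') ∧
      ((v * v') * y * (v * v')⁻¹ = (l * l') * y ∨ (v * v') * y * (v * v')⁻¹ = u * (l * l') * y) := by
  have huu := hti.inT.z2 h
  have hxu := hti.comm
  have e1 := hti.conj_z h hL hl hv hvv hlv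
  have e2 := hti.conj_z h hL' hl' hv' hvv' hlv'
  have cu : v * u = u * v := hL.comm_z h hv
  have cu' : v' * u = u * v' := hL'.comm_z h hv'
  have cv : v * l' = l' * v := hL.comm hL' h hne hv hl'.1
  have f1 := hti.conj_y h hK hL hy hl hv hvv hlv
  have f2 := hti.conj_y h hK hL' hy hl' hv' hvv' hlv'
  have cul : u * l = l * u := (hL.comm_z h hl.1).symm
  have cul' : u * l' = l' * u := (hL'.comm_z h hl'.1).symm
  have cll : l' * l = l * l' := (hL.comm hL' h hne hl.1 hl'.1).symm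
  have hu' : ∀ g : G, u * (u * g) = g := fun g => by rw [← mul_assoc, huu, one_mul]
  refine ⟨?_, ?_, ?_⟩
  · rw [← mul_inv_eq_iff_eq_mul]
    calc v * v' * x * (v * v')⁻¹ = v * (v' * x * v'⁻¹) * v⁻¹ := by group
      _ = v * (x * u) * v⁻¹ := by rw [e2]
      _ = (v * x * v⁻¹) * (v * u * v⁻¹) := by group
      _ = (x * u) * u := by rw [e1, cu, mul_inv_cancel_right]
      _ = x := by rw [mul_assoc, huu, mul_one]
  · rw [mul_assoc, cu', ← mul_assoc, cu, mul_assoc]
  · have g1 : v * v' * y * (v * v')⁻¹ = v * (v' * y * v'⁻¹) * v⁻¹ := by group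
    have g2 : v * (l' * y) * v⁻¹ = l' * (v * y * v⁻¹) := by
      calc v * (l' * y) * v⁻¹ = (v * l') * y * v⁻¹ := by group
        _ = _ := by rw [cv]; group
    have g3 : v * (u * (l' * y)) * v⁻¹ = u * (v * (l' * y) * v⁻¹) := by
      calc v * (u * (l' * y)) * v⁻¹ = (v * u) * (l' * y) * v⁻¹ := by group
        _ = _ := by rw [cu]; group
    have g4 : l' * (l * y) = l * l' * y := by rw [← mul_assoc, cll]
    have g5 : l' * (u * (l * y)) = u * (l * l' * y) := by
      rw [← mul_assoc, ← cul', mul_assoc, g4]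
    rw [g1]
    rcases f2 with f2 | f2 <;> rcases f1 with f1 | f1
    · left; rw [f2, g2, f1, g4]
    · right; rw [f2, g2, f1, g5]; simp only [mul_assoc]
    · right; rw [f2, g3, g2, f1, g4]; simp only [mul_assoc]
    · left; rw [f2, g3, g2, f1, g5, hu']

/-- **the common involution** -/
theorem TI.dich (hti : TI Om x u) (h : WM Om) :
    x ∈ RZ Om u ∨ ∃ q ∈ RZ Om x, q ∈ RZ Om u ∧ q * q = 1 ∧ u * q ∈ CX Om x ∧ x * q ∈ CX Om u := by
  obtain ⟨K, hK⟩ := hti.inZ
  obtain ⟨L, hL⟩ := hti.inT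
  obtain ⟨L', hL', hne, -⟩ := hL.other h
  obtain ⟨y, hy, hyy⟩ := hti.exists_as h hK
  obtain ⟨l, hl, hll⟩ := (hti.symm h).exists_as h hL
  obtain ⟨l', hl', hll'⟩ := (hti.symm h).exists_as h hL'
  obtain ⟨v, hv, hvv, hlv⟩ := hL.exists_nc h hl.1 hll
  obtain ⟨v', hv', hvv', hlv'⟩ := hL'.exists_nc h hl'.1 hll'
  obtain ⟨hgx, hgu, hgy⟩ := hti.conj_two h hK hL hL' hne hy hl hl' hv hvv hlv hv' hvv' hlv'
  have hxx := hti.inZ.z2 h
  have huu := hti.inT.z2 h
  have cll : l' * l = l * l' := (hL.comm hL' h hne hl.1 hl'.1).symm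
  have cul : u * (l * l') = (l * l') * u := by
    rw [← mul_assoc, ← hL.comm_z h hl.1, mul_assoc, ← hL'.comm_z h hl'.1, mul_assoc]
  -- `q = l l'` or `u l l'`
  obtain ⟨q, hq, hgq, hqu, hqq⟩ : ∃ q, (q = l * l' ∨ q = u * (l * l')) ∧ (v * v') * y * (v * v')⁻¹ = q * y ∧
      q ∈ RZ Om u ∧ q * q = 1 := by
    have h1 : l * l' ∈ RZ Om u := mul_mem (hL.le_RZ hl.1) (hL'.le_RZ hl'.1)
    have h2 : (l * l') * (l * l') = 1 := by
      calc (l * l') * (l * l') = l * (l' * l) * l' := by group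
        _ = (l * l) * (l' * l') := by rw [cll]; group
        _ = 1 := by rw [hll, hll', huu]
    rcases hgy with h3 | h3
    · exact ⟨_, Or.inl rfl, h3, h1, h2⟩
    · refine ⟨_, Or.inr rfl, h3, mul_mem (z_mem_RZ hti.inT h) h1, ?_⟩
      calc u * (l * l') * (u * (l * l')) = (u * (l * l')) * ((l * l') * u) := by rw [cul]
        _ = u * ((l * l') * (l * l')) * u := by group
        _ = 1 := by rw [h2, mul_one, huu]
  have hqas : As L q l ∧ As L' q l' := by
    have a1 : As L (l * l') l := by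
      have := (As.self hl.1).mul (hL.as_one hL' h hne hl'.1)
      rwa [mul_one] at this
    have a2 : As L' (l * l') l' := by
      have := (hL'.as_one hL h hne.symm hl.1).mul (As.self hl'.1)
      rwa [one_mul] at this
    rcases hq with rfl | rfl
    · exact ⟨a1, a2⟩
    · have b1 := (hL.as_z h).mul a1
      have b2 := (hL'.as_z h).mul a2
      rw [one_mul] at b1 b2
      exact ⟨b1, b2⟩
  -- `x q` centralises the members over `u`
  have hxq : x * q ∈ CX Om u := by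
    rw [mem_CX]
    have key : ∀ {L : Subgroup G} {l : G}, Mem Om u L → As L x l → As L q l → l * l = u → ∀ k ∈ L,
        x * q * k = k * (x * q) := by
      intro L l hL h1 h2 h3 k hk
      have h4 := h1.mul h2
      rw [h3] at h4
      have h5 := h4.2 k hk
      rw [← hL.comm_z h hk, mul_inv_cancel_right, mul_inv_eq_iff_eq_mul] at h5
      exact h5
    intro M hM k hk
    rcases hL.cases hL' h hne hM with rfl | rfl
    · exact key hL hl hqas.1 hll k hk
    · exact key hL' hl' hqas.2 hll' k hk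
  have hgK := hK.cj_comm h hgx
  have hgy' : q = ((v * v') * y * (v * v')⁻¹) * y⁻¹ := by rw [hgq, mul_inv_cancel_right]
  by_cases hKK : cj (v * v') K = K
  · left
    have hqK : q ∈ K := by
      rw [hgy']
      refine mul_mem ?_ (inv_mem hy.1)
      have := conj_mem_cj (g := v * v') hy.1
      rwa [hKK] at this
    rcases hK.sq_cases h hqK with h1 | h1 | h1
    · exfalso
      rw [h1, mul_one] at hxq
      exact hti.not_mem_CX h hxq
    · rw [← h1]; exact hqu
    · exfalso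
      rw [hqq] at h1
      exact hti.inZ.z1 h h1.symm
  · right
    have m2 : (v * v') * y * (v * v')⁻¹ ∈ cj (v * v') K := conj_mem_cj hy.1
    refine ⟨q, ?_, hqu, hqq, ?_, hxq⟩
    · rw [hgy']
      exact mul_mem (hgK.le_RZ m2) (inv_mem (hK.le_RZ hy.1))
    · have hyi : y⁻¹ = x * y := hK.inv_eq h hy.1 hyy
      -- the action of `q` on `K` is that of `y⁻¹`, on the other member that of `g y g⁻¹`
      have b1 : As K q y⁻¹ := by
        have := (hK.as_one hgK h (fun h1 => hKK h1.symm) m2).mul (As.self (inv_mem hy.1))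
        rw [one_mul, ← hgy'] at this
        exact this
      have b2 : As (cj (v * v') K) q ((v * v') * y * (v * v')⁻¹) := by
        have := (As.self m2).mul (hgK.as_one hK h hKK (inv_mem hy.1))
        rw [mul_one, ← hgy'] at this
        exact this
      have b3 : As (cj (v * v') K) u ((v * v') * y * (v * v')⁻¹) := hy.conj_comm hgu
      have c1 := hy.mul b1
      rw [mul_inv_cancel] at c1
      have c2 := b3.mul b2
      have c3 : (v * v') * y * (v * v')⁻¹ * ((v * v') * y * (v * v')⁻¹) = x := by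
        calc (v * v') * y * (v * v')⁻¹ * ((v * v') * y * (v * v')⁻¹) = (v * v') * (y * y) * (v * v')⁻¹ := by group
          _ = x := by rw [hyy, hgx, mul_inv_cancel_right]
      rw [c3] at c2
      rw [mem_CX]
      intro M hM k hk
      rcases hK.cases hgK h (fun h1 => hKK h1.symm) hM with rfl | rfl
      · exact As.one_iff.1 c1 k hk
      · have h5 := c2.2 k hk
        rw [← hgK.comm_z h hk, mul_inv_cancel_right, mul_inv_eq_iff_eq_mul] at h5
        exact h5

/-- an element of `R_z ⊓ X_z` -/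
theorem RZ_CX (h : WM Om) (hz : InZ Om z) (hr : r ∈ RZ Om z) (hc : r ∈ CX Om z) : r = 1 ∨ r = z :=
  RZ_center h hz hr fun K hK => As.one_iff.2 (mem_CX.1 hc K hK)

/-! ### (LINK) -/

/-- **(LINK)** -/
theorem link (h : WM Om) (hc : CP Om u e) (hu : TI Om x u) (he : TI Om x e) :
    ∃ q ∈ RZ Om u, ∃ q' ∈ RZ Om e, q ∈ RZ Om x ∧ q' ∈ RZ Om x ∧ q * q = 1 ∧ q' * q' = 1 ∧ u * q ∈ CX Om x ∧
      e * q' ∈ CX Om x ∧ x * q ∈ CX Om u ∧ x * q' ∈ CX Om e ∧ x = q * q' := by
  have hxu : x ∉ RZ Om u := by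
    intro h1
    obtain ⟨E, hE⟩ := he.inT
    exact (he.symm h).nc hE fun k hk => cp_RZ h hc h1 (hE.le_RZ hk)
  have hxe : x ∉ RZ Om e := by
    intro h1
    obtain ⟨E, hE⟩ := hu.inT
    exact (hu.symm h).nc hE fun k hk => cp_RZ h hc.symm h1 (hE.le_RZ hk)
  obtain ⟨q, hqx, hqu, hqq, huq, hxq⟩ := (hu.dich h).resolve_left hxu
  obtain ⟨q', hqx', hqe, hqq', heq, hxq'⟩ := (he.dich h).resolve_left hxe
  refine ⟨q, hqu, q', hqe, hqx, hqx', hqq, hqq', huq, heq, hxq, hxq', ?_⟩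
  -- `q q'` acts on `R_x` as `u e`, trivially
  have h1 : q * q' ∈ CX Om x := by
    have h2 := tt_II_cx h hc hu he
    have h3 : (u * e)⁻¹ * ((u * q) * (e * q')) ∈ CX Om x := mul_mem (inv_mem h2) (mul_mem huq heq)
    have h4 : q * e = e * q := cp_RZ h hc hqu (z_mem_RZ he.inT h)
    have h5 : (u * e)⁻¹ * ((u * q) * (e * q')) = q * q' := by
      calc (u * e)⁻¹ * ((u * q) * (e * q')) = e⁻¹ * (q * e) * q' := by group
        _ = q * q' := by rw [h4]; group
    rwa [h5] at h3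
  rcases RZ_CX h hu.inZ (mul_mem hqx hqx') h1 with h2 | h2
  · exfalso
    -- `q = q'⁻¹` centralises `R_u`
    have h3 : q = q'⁻¹ := eq_inv_of_mul_eq_one_left h2
    have h4 : q ∈ CX Om u := by
      rw [mem_CX]
      intro M hM k hk
      rw [h3]
      exact (cp_RZ h hc (hM.le_RZ hk) (inv_mem hqe)).symm
    have h5 := mul_mem hxq (inv_mem h4)
    rw [mul_inv_cancel_right] at h5
    exact hu.not_mem_CX h h5
  · exact h2.symm

/-- a common C-partner of `u` and `e` is a C-partner of `x` -/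
theorem link_cp (h : WM Om) (hc : CP Om u e) (hu : TI Om x u) (he : TI Om x e) (hd : InZ Om d) (h1 : CP Om u d)
    (h2 : CP Om e d) : CP Om x d := by
  obtain ⟨q, hq, q', hq', -, -, -, -, -, -, -, -, hx⟩ := link h hc hu he
  have h3 : x ∈ CX Om d := by
    rw [mem_CX]
    intro M hM k hk
    have e1 := cp_RZ h h1 hq (hM.le_RZ hk)
    have e2 := cp_RZ h h2 hq' (hM.le_RZ hk)
    rw [hx, mul_assoc, e2, ← mul_assoc, e1, mul_assoc]
  rcases (cen_iff h hd hu.inZ).1 h3 with h4 | h4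
  · rw [h4] at h1
    exact absurd h1.symm (hu.not_cp h)
  · exact h4.symm

theorem link_not_ti (h : WM Om) (hc : CP Om u e) (hu : TI Om x u) (he : TI Om x e) (h1 : CP Om u d)
    (h2 : CP Om e d) : ¬ TI Om x d := fun h3 => h3.not_cp h (link_cp h hc hu he h3.inT h1 h2)

/-- at most two elements of `C_S` are of type I with respect to `x` -/
theorem link_three (h : WM Om) {S : Subgroup G} (hS : IsPGroup 2 S) (hu : u ∈ CS Om S) (he : e ∈ CS Om S)
    (hd : d ∈ CS Om S) (hue : u ≠ e) (iu : TI Om x u) (ie : TI Om x e) (id' : TI Om x d) : d = u ∨ d = e := by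
  by_contra hcon
  push Not at hcon
  exact link_not_ti h (CS.cp hu h hS he hue) iu ie (CS.cp hu h hS hd (Ne.symm hcon.1))
    (CS.cp he h hS hd (Ne.symm hcon.2)) id'

/-! ### (KEY2) -/

theorem TI.key2_of_mem (hti : TI Om x z) (h : WM Om) (hm : x ∈ RZ Om z) (hg : g * x * g⁻¹ = x * z)
    (hgz : g * z = z * g) (hw : w ∈ RZ Om z) (hxw : x * w ∈ CX Om z) : g * w * g⁻¹ = z * w := by
  have hxx := hti.inZ.z2 h
  have hzz := hti.inT.z2 h
  have hxz := hti.comm
  have gz : g * z * g⁻¹ = z := by rw [hgz, mul_inv_cancel_right]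
  have h0 : ∀ y : G, x * (x * y) = y := fun y => by rw [← mul_assoc, hxx, one_mul]
  rcases RZ_CX h hti.inT (mul_mem hm hw) hxw with h1 | h1
  · have h2 : w = x := by rw [← h0 w, h1, mul_one]
    rw [h2, hg, hxz]
  · have h2 : w = x * z := by rw [← h0 w, h1]
    rw [h2, show g * (x * z) * g⁻¹ = (g * x * g⁻¹) * (g * z * g⁻¹) by group, hg, gz, mul_assoc, hzz, mul_one, hxz,
      ← mul_assoc, hzz, one_mul]

/-- **(KEY2)** : `(x, z)` of type I, `g ∈ C(z)`, `x^g = x z`; `w ∈ R_z` acts on `R_z` as `x`: then `w^g = z w` -/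
theorem TI.key2 (hti : TI Om x z) (h : WM Om) (hg : g * x * g⁻¹ = x * z) (hgz : g * z = z * g) (hw : w ∈ RZ Om z)
    (hxw : x * w ∈ CX Om z) : g * w * g⁻¹ = z * w := by
  have hxx := hti.inZ.z2 h
  have hzz := hti.inT.z2 h
  have hxz := hti.comm
  have gz : g * z * g⁻¹ = z := by rw [hgz, mul_inv_cancel_right]
  rcases hti.dich h with hm | ⟨q, hqx, hqz, hqq, -, hxq⟩
  · exact hti.key2_of_mem h hm hg hgz hw hxw
  -- `w ∈ {q, z q}`
  have h1 : q⁻¹ * w ∈ CX Om z := by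
    have := mul_mem (inv_mem hxq) hxw
    rwa [show (x * q)⁻¹ * (x * w) = q⁻¹ * w by group] at this
  -- `g q g⁻¹ ∈ {q, z q}`
  have h2 : q⁻¹ * (g * q * g⁻¹) = 1 ∨ q⁻¹ * (g * q * g⁻¹) = z := by
    refine RZ_CX h hti.inT (mul_mem (inv_mem hqz) (RZ_conj_comm h hgz hqz)) ?_
    have h3 := CX_conj_comm h hgz hxq
    have h4 : g * (x * q) * g⁻¹ = x * z * (g * q * g⁻¹) := by rw [← hg]; group
    rw [h4] at h3
    have h5 := mul_mem (inv_mem hxq) (mul_mem (z_mem_CX h) h3)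
    have h6 : (x * q)⁻¹ * (z * (x * z * (g * q * g⁻¹))) = q⁻¹ * (g * q * g⁻¹) := by
      have h7 : z * (x * z * (g * q * g⁻¹)) = x * (g * q * g⁻¹) := by
        calc z * (x * z * (g * q * g⁻¹)) = z * (x * z) * (g * q * g⁻¹) := by group
          _ = x * (g * q * g⁻¹) := by rw [hxz, ← mul_assoc z z x, hzz, one_mul]
      rw [h7]; group
    rwa [h6] at h5
  have h3 : g * q * g⁻¹ = z * q := by
    rcases h2 with h2 | h2
    swap
    · rw [inv_mul_eq_iff_eq_mul] at h2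
      rw [h2, RZ_le_centralizer h hqz]
    rw [inv_mul_eq_one] at h2
    -- `q ∈ R_{xz}`
    have h4 := RZ_conj h g hqx
    rw [← h2, hg] at h4
    -- `z q ∈ R_{xz}`
    obtain ⟨L, hL⟩ := hti.inT
    obtain ⟨v, hv, -, -, hvx⟩ := hti.exists_mv h hL
    have h5 := RZ_conj h v hqx
    rw [hvx] at h5
    have h6 : v * q * v⁻¹ = z * q := by
      have h7 := mem_CX.1 hxq L hL v hv
      have h8 : v * (x * q) * v⁻¹ = x * q := by rw [← h7, mul_inv_cancel_right]
      have h9 : v * (x * q) * v⁻¹ = x * z * (v * q * v⁻¹) := by rw [← hvx]; group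
      rw [h9, mul_assoc] at h8
      have h10 := mul_left_cancel h8
      calc v * q * v⁻¹ = (z * z) * (v * q * v⁻¹) := by rw [hzz, one_mul]
        _ = z * (z * (v * q * v⁻¹)) := by group
        _ = z * q := by rw [h10]
    rw [h6] at h5
    have h7 : z ∈ RZ Om (x * z) := by
      have := mul_mem h5 (inv_mem h4)
      rwa [mul_inv_cancel_right] at this
    have h8 : TI Om (x * z) z := by
      have := (hti.symm h).mul_right h
      rw [← hxz] at this
      exact this.symm h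
    have h9 := h8.mem_symm h h7
    have h10 : x ∈ RZ Om z := by
      have := mul_mem h9 (z_mem_RZ hti.inT h)
      rwa [mul_assoc, hzz, mul_one] at this
    exact hti.key2_of_mem h h10 hg hgz hqz hxq
  rcases RZ_CX h hti.inT (mul_mem (inv_mem hqz) hw) h1 with h4 | h4
  · rw [inv_mul_eq_one] at h4
    rw [← h4, h3]
  · rw [inv_mul_eq_iff_eq_mul] at h4
    rw [h4, show g * (q * z) * g⁻¹ = (g * q * g⁻¹) * (g * z * g⁻¹) by group, h3, gz, mul_assoc]

/-- **(KEY2)** : an involution interchanging the members over `z` never maps `x` to `x z` -/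
theorem TI.key2_swp (hti : TI Om x z) (h : WM Om) (hs : Swp Om z g) (hgg : g * g = 1) : g * x * g⁻¹ ≠ x * z := by
  intro hg
  obtain ⟨L, hL⟩ := hti.inT
  obtain ⟨l, hl, hll⟩ := (hti.symm h).exists_as h hL
  have hL' := hs.mem h hL
  have hne := hs.ne hL
  have hzz := hti.inT.z2 h
  have hq := hs.as_qq h hL hl.1
  -- `x` acts on `L^g` as `g l g⁻¹`
  have h1 : As (cj g L) x (g * l * g⁻¹) := by
    have h2 := hl.conj g
    rw [hg] at h2
    have h3 := h2.mul (hL'.as_z h)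
    rw [mul_one, mul_assoc, hzz, mul_one] at h3
    exact h3
  have hll' : (g * l * g⁻¹) * (g * l * g⁻¹) = z := by
    calc (g * l * g⁻¹) * (g * l * g⁻¹) = g * (l * l) * g⁻¹ := by group
      _ = z := by rw [hll, hs.1, mul_inv_cancel_right]
  have hxq : x * qq g l ∈ CX Om z := by
    rw [mem_CX]
    intro M hM k hk
    rcases hL.cases hL' h hne hM with rfl | rfl
    · have h4 := hl.mul hq.1
      rw [hll] at h4
      have h5 := h4.2 k hk
      rw [← hL.comm_z h hk, mul_inv_cancel_right, mul_inv_eq_iff_eq_mul] at h5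
      exact h5
    · have h4 := h1.mul hq.2
      rw [hll'] at h4
      have h5 := h4.2 k hk
      rw [← hL'.comm_z h hk, mul_inv_cancel_right, mul_inv_eq_iff_eq_mul] at h5
      exact h5
  have h2 := hti.key2 h hg hs.1 (qq_mem hs h hL hl.1) hxq
  rw [qq_comm hs h hgg hL hl.1, mul_inv_cancel_right] at h2
  exact hti.inT.z1 h (mul_eq_right.1 h2.symm)

/-! ### The J-ARGUMENT -/

/-- the hypotheses of the J-ARGUMENT: `A` elementary abelian, `T ≤ A` centralises `x ∉ A`, and the elements of `R_x`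
which commute with some `t ∈ T#` normalise `A` -/
structure JH (Om : Set (Subgroup G)) (A T : Subgroup G) (x : G) : Prop where
  inZ : InZ Om x
  comm' : ∀ a ∈ A, ∀ b ∈ A, a * b = b * a
  sq : ∀ a ∈ A, a * a = 1
  nin : x ∉ A
  le : T ≤ A
  tx : ∀ t ∈ T, t * x = x * t
  nor : ∀ t ∈ T, t ≠ 1 → ∀ r ∈ RZ Om x, t * r = r * t → ∀ a ∈ A, r * a * r⁻¹ ∈ A

variable {A T : Subgroup G}

/-- `[T, C_{R_x}(t)] ≤ J` -/
theorem JH.comm_mem (j : JH Om A T x) (h : WM Om) (ht : t ∈ T) (ht1 : t ≠ 1) (hr : r ∈ RZ Om x) (hc : t * r = r * t)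
    (hs : s ∈ T) : s * r * s⁻¹ * r⁻¹ ∈ A ∧ s * r * s⁻¹ * r⁻¹ ∈ RZ Om x := by
  constructor
  · have h1 := j.nor t ht ht1 r hr hc s⁻¹ (j.le (inv_mem hs))
    have h2 : s * r * s⁻¹ * r⁻¹ = s * (r * s⁻¹ * r⁻¹) := by group
    rw [h2]
    exact mul_mem (j.le hs) h1
  · exact mul_mem (RZ_conj_comm h (j.tx s hs) hr) (inv_mem hr)

/-- `J ∌ x` : `t` moves no `r ∈ C_{R_x}(s)` to `x r` -/
theorem JH.ne_x (j : JH Om A T x) (h : WM Om) (ht : t ∈ T) (ht1 : t ≠ 1) (hr : r ∈ RZ Om x) (hc : t * r = r * t)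
    (hs : s ∈ T) : s * r * s⁻¹ ≠ x * r := by
  intro h1
  have h2 := (j.comm_mem h ht ht1 hr hc hs).1
  rw [h1, mul_inv_cancel_right] at h2
  exact j.nin h2

/-- the commutator of two elements of `R_x` -/
theorem RZ_commutator (h : WM Om) (hx : InZ Om x) (hr : r ∈ RZ Om x) (hs : s ∈ RZ Om x) :
    s * r * s⁻¹ = r ∨ s * r * s⁻¹ = x * r := by
  obtain ⟨K, hK⟩ := hx
  obtain ⟨L, hL, hne, -⟩ := hK.other h
  have hxx := hK.inZ.z2 h
  -- it is enough for generators
  have key : ∀ k, (∀ r ∈ RZ Om x, k * r * k⁻¹ = r ∨ k * r * k⁻¹ = x * r) → k * x = x * k → ∀ l,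
      (∀ r ∈ RZ Om x, l * r * l⁻¹ = r ∨ l * r * l⁻¹ = x * r) → ∀ r ∈ RZ Om x,
      (k * l) * r * (k * l)⁻¹ = r ∨ (k * l) * r * (k * l)⁻¹ = x * r := by
    intro k h1 hkx l h2 r hr
    have h3 : (k * l) * r * (k * l)⁻¹ = k * (l * r * l⁻¹) * k⁻¹ := by group
    have h4 : k * (x * r) * k⁻¹ = x * (k * r * k⁻¹) := by
      calc k * (x * r) * k⁻¹ = (k * x) * r * k⁻¹ := by group
        _ = _ := by rw [hkx]; group
    rw [h3]
    rcases h2 r hr with h5 | h5 <;> rcases h1 r hr with h6 | h6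
    · left; rw [h5, h6]
    · right; rw [h5, h6]
    · right; rw [h5, h4, h6]
    · left; rw [h5, h4, h6, ← mul_assoc, hxx, one_mul]
  have gen : ∀ {K L : Subgroup G}, Mem Om x K → Mem Om x L → K ≠ L → ∀ k ∈ K, ∀ r ∈ RZ Om x,
      k * r * k⁻¹ = r ∨ k * r * k⁻¹ = x * r := by
    intro K L hK hL hne k hk r hr
    obtain ⟨a, ha, b, hb, rfl⟩ := (mem_RZ hK hL h hne).1 hr
    have h1 : k * (a * b) * k⁻¹ = (k * a * k⁻¹) * b := by
      calc k * (a * b) * k⁻¹ = k * a * (b * k⁻¹) := by group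
        _ = k * a * (k⁻¹ * b) := by rw [hK.comm hL h hne (inv_mem hk) hb]
        _ = _ := by group
    rw [h1]
    rcases hK.comm_or h ha hk with h2 | h2
    · left; rw [h2]
    · right; rw [h2, mul_assoc]
  obtain ⟨a, ha, b, hb, rfl⟩ := (mem_RZ hK hL h hne).1 hs
  exact key a (gen hK hL hne a ha) (hK.comm_z h ha) b (gen hL hK hne.symm b hb) r hr

/-- `J` centralises `C_{R_x}(t)` -/
theorem JH.comm (j : JH Om A T x) (h : WM Om) (ht : t ∈ T) (ht1 : t ≠ 1) (hr : r ∈ RZ Om x) (hc : t * r = r * t)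
    (hg : g ∈ A) (hgx : g ∈ RZ Om x) : r * g = g * r := by
  have h1 := j.nor t ht ht1 r hr hc g hg
  rcases RZ_commutator h j.inZ hgx hr with h2 | h2
  · rw [← mul_inv_eq_iff_eq_mul, h2]
  · exfalso
    rw [h2] at h1
    apply j.nin
    have := mul_mem h1 (inv_mem hg)
    rwa [mul_inv_cancel_right] at this

/-- an element of `J` in `K` is `1` -/
theorem JH.eq_one (j : JH Om A T x) (h : WM Om) (hK : Mem Om x K) (hg : g ∈ A) (hgK : g ∈ K) : g = 1 := by
  rcases hK.sq_cases h hgK with h1 | h1 | h1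
  · exact h1
  · rw [h1] at hg; exact absurd hg j.nin
  · rw [j.sq g hg] at h1
    exact absurd h1.symm (j.inZ.z1 h)

/-- an element of `R_x` centralising a member lies in the other one -/
theorem RZ_cent_mem (h : WM Om) (hK : Mem Om x K) (hL : Mem Om x L) (hne : K ≠ L) (hr : r ∈ RZ Om x)
    (hc : ∀ k ∈ L, r * k = k * r) : r ∈ K := by
  obtain ⟨k, hk, l, hl, rfl⟩ := (mem_RZ hK hL h hne).1 hr
  have h1 : As L (k * l) l := by
    have := (hL.as_one hK h hne.symm hk).mul (As.self hl)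
    rwa [one_mul] at this
  rcases hL.as_center h h1 (As.one_iff.2 hc) with h2 | h2
  · rw [h2, mul_one]; exact hk
  · rw [h2]; exact mul_mem hk (hK.zmem h)

/-- **the dichotomy** : `T` centralises `R_x` and `J = 1`, or `T` acts faithfully on `R_x` -/
theorem JH.dich (j : JH Om A T x) (h : WM Om) :
    (T ≤ CX Om x ∧ ∀ g ∈ A, g ∈ RZ Om x → g = 1) ∨ ∀ t ∈ T, t ∈ CX Om x → t = 1 := by
  by_cases h0 : ∀ t ∈ T, t ∈ CX Om x → t = 1
  · exact Or.inr h0
  left
  push Not at h0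
  obtain ⟨t, ht, htx, ht1⟩ := h0
  have hJ : ∀ g ∈ A, g ∈ RZ Om x → g = 1 := by
    intro g hg hgx
    have h1 : g ∈ CX Om x := by
      rw [mem_CX]
      intro K hK k hk
      exact (j.comm h ht ht1 (hK.le_RZ hk) (CX_comm (hK.le_RZ hk) htx) hg hgx).symm
    rcases RZ_CX h j.inZ hgx h1 with h2 | h2
    · exact h2
    · rw [h2] at hg; exact absurd hg j.nin
  refine ⟨fun s hs => ?_, hJ⟩
  rw [mem_CX]
  intro K hK k hk
  obtain ⟨h1, h2⟩ := j.comm_mem h ht ht1 (hK.le_RZ hk) (CX_comm (hK.le_RZ hk) htx) hs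
  have h3 := hJ _ h1 h2
  rw [mul_inv_eq_one, mul_inv_eq_iff_eq_mul] at h3
  exact h3

/-- `T` acts faithfully on `R_x` and has at least three elements -/
structure JF (Om : Set (Subgroup G)) (A T : Subgroup G) (x : G) : Prop extends JH Om A T x where
  ff : ∀ t ∈ T, t ∈ CX Om x → t = 1
  three : ∃ s ∈ T, ∃ t ∈ T, s ≠ 1 ∧ t ≠ 1 ∧ s ≠ t

theorem JH.inv (j : JH Om A T x) (ht : t ∈ T) : t⁻¹ = t := inv_eq_of_mul_eq_one_right (j.sq t (j.le ht))

theorem JH.cm (j : JH Om A T x) (hs : s ∈ T) (ht : t ∈ T) : s * t = t * s := j.comm' s (j.le hs) t (j.le ht)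

/-- a transposition on `K` inverts its axis, so do the other `s ∈ T#` fixing `K` -/
theorem JH.axis (j : JH Om A T x) (h : WM Om) (hK : Mem Om x K) (ht : t ∈ T) (ha : Tr t K a) (hs : s ∈ T) (hs1 : s ≠ 1)
    (hsK : cj s K = K) : s * a * s⁻¹ = x * a := by
  have hst := j.cm hs ht
  have hsx := j.tx s hs
  have haa := Tr.sq' ha hK
  have hm : s * a * s⁻¹ ∈ K := by
    have := conj_mem_cj (g := s) ha.mem
    rwa [hsK] at this
  have h1 : t * (s * a * s⁻¹) * t⁻¹ = x * (s * a * s⁻¹) := by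
    calc t * (s * a * s⁻¹) * t⁻¹ = (t * s) * a * (t * s)⁻¹ := by group
      _ = (s * t) * a * (s * t)⁻¹ := by rw [hst]
      _ = s * (t * a * t⁻¹) * s⁻¹ := by group
      _ = s * (x * a) * s⁻¹ := by rw [Tr.inv' ha hK h]
      _ = (s * x) * a * s⁻¹ := by group
      _ = _ := by rw [hsx]; group
  have h2 : (s * a * s⁻¹) * (s * a * s⁻¹) = x := by
    calc (s * a * s⁻¹) * (s * a * s⁻¹) = s * (a * a) * s⁻¹ := by group
      _ = x := by rw [haa, hsx, mul_inv_cancel_right]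
  rcases Tr.cases ha hK h hm (Or.inr h1) with h4 | h4 | h4 | h4
  · rw [h4, one_mul] at h2; exact absurd h2.symm (hK.inZ.z1 h)
  · rw [h4, hK.inZ.z2 h] at h2; exact absurd h2.symm (hK.inZ.z1 h)
  · exfalso
    have h5 : s * a = a * s := by rw [← mul_inv_eq_iff_eq_mul, h4]
    exact j.ne_x h hs hs1 (hK.le_RZ ha.mem) h5 ht (Tr.inv' ha hK h)
  · exact h4

/-- if `t ∈ T` is a transposition on `K`, the elements of `T` fixing `K` are `1` and `t` -/
theorem JH.fix_of_tr (j : JH Om A T x) (h : WM Om) (hK : Mem Om x K) (ht : t ∈ T) (ht1 : t ≠ 1) (htK : cj t K = K)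
    (ha : Tr t K a) (hs : s ∈ T) (hsK : cj s K = K) : s = 1 ∨ s = t := by
  by_contra hcon
  push Not at hcon
  have haa := Tr.sq' ha hK
  have h1 := j.axis h hK ht ha hs hcon.1 hsK
  have h2 : s * t ≠ 1 := by
    intro h3
    apply hcon.2
    rw [eq_inv_of_mul_eq_one_left h3, j.inv ht]
  have h3 : (s * t) * a * (s * t)⁻¹ = a := by
    calc (s * t) * a * (s * t)⁻¹ = s * (t * a * t⁻¹) * s⁻¹ := by group
      _ = s * (x * a) * s⁻¹ := by rw [Tr.inv' ha hK h]
      _ = (s * x) * a * s⁻¹ := by group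
      _ = (x * s) * a * s⁻¹ := by rw [j.tx s hs]
      _ = x * (s * a * s⁻¹) := by group
      _ = x * (x * a) := by rw [h1]
      _ = a := by rw [← mul_assoc, hK.inZ.z2 h, one_mul]
  rw [mul_inv_eq_iff_eq_mul] at h3
  exact j.ne_x h (mul_mem hs ht) h2 (hK.le_RZ ha.mem) h3 ht (Tr.inv' ha hK h)

/-- **no element of `T` is outer on a member it fixes** -/
theorem JF.no_tr (j : JF Om A T x) (h : WM Om) (hK : Mem Om x K) (ht : t ∈ T) (htK : cj t K = K)
    (ha : Tr t K a) : False := by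
  have jh := j.toJH
  have ht1 : t ≠ 1 := by
    rintro rfl
    have h1 := Tr.inv' ha hK h
    rw [one_mul, inv_one, mul_one] at h1
    exact hK.inZ.z1 h (mul_eq_right.1 h1.symm)
  obtain ⟨p, hp, hp1, hpt⟩ : ∃ p ∈ T, p ≠ 1 ∧ p ≠ t := by
    obtain ⟨s, hs, s', hs', h1, h2, h3⟩ := j.three
    by_cases h4 : s = t
    · exact ⟨s', hs', h2, fun h5 => h3 (h4.trans h5.symm)⟩
    · exact ⟨s, hs, h1, h4⟩
  have hpK : cj p K ≠ K := fun h1 => by
    rcases jh.fix_of_tr h hK ht ht1 htK ha hp h1 with h2 | h2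
    · exact hp1 h2
    · exact hpt h2
  have hsw : Swp Om x p := Swp.of_one h hK (j.tx p hp) hpK
  have hpp := j.sq p (j.le hp)
  have htt := j.sq t (j.le ht)
  have htp := j.cm ht hp
  have haa := Tr.sq' ha hK
  have hsw' : Swp Om x (p * t) := by
    refine Swp.of_one h hK (j.tx _ (mul_mem hp ht)) ?_
    rw [cj_mul, htK]; exact hpK
  obtain ⟨b, hb, hbb, hba, hba'⟩ := hK.exists_off h ha.mem haa
  have hcom := ha.com b hb (by rw [hbb, hK.2]) hba hba'
  have htb : t * b * t⁻¹ ∈ K := by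
    have := conj_mem_cj (g := t) hb
    rwa [htK] at this
  -- `q_p(a) ∈ A` for every swap `p` commuting with `t`
  have key : ∀ p, p ∈ T → Swp Om x p → qq p a ∈ A := by
    intro p hp hsw
    have hpp := j.sq p (j.le hp)
    have htp := j.cm ht hp
    have hp1 : p ≠ 1 := by
      rintro rfl
      exact hsw.2 K hK (cj_one K)
    have h1 := (jh.comm_mem h hp hp1 (qq_mem hsw h hK hb) (qq_comm hsw h hpp hK hb) ht).1
    have h2 : t * qq p b * t⁻¹ = qq p (t * b * t⁻¹) := by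
      rw [qq, qq]
      calc t * (b * (p * b * p⁻¹)) * t⁻¹ = (t * b * t⁻¹) * ((t * p) * b * (t * p)⁻¹) := by group
        _ = (t * b * t⁻¹) * ((p * t) * b * (p * t)⁻¹) := by rw [htp]
        _ = _ := by group
    have h3 : t * qq p b * t⁻¹ * (qq p b)⁻¹ = qq p (t * b * t⁻¹ * b⁻¹) := by
      rw [h2, mul_inv_eq_iff_eq_mul, ← qq_mul hsw h hK (mul_mem htb (inv_mem hb)) hb, inv_mul_cancel_right]
    rw [h3] at h1
    rcases hcom with h4 | h4
    · rwa [h4] at h1
    · have h5 : qq p a⁻¹ = qq p a := by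
        rw [hK.inv_eq h ha.mem haa, qq_mul hsw h hK (hK.zmem h) ha.mem, qq_z hsw hK.inZ h, one_mul]
      rwa [h4, h5] at h1
  have h1 := key p hp hsw
  have h2 := key (p * t) (mul_mem hp ht) hsw'
  have h3 : qq (p * t) a = x * qq p a := by
    rw [qq, qq]
    calc a * (p * t * a * (p * t)⁻¹) = a * (p * (t * a * t⁻¹) * p⁻¹) := by group
      _ = a * (p * (x * a) * p⁻¹) := by rw [Tr.inv' ha hK h]
      _ = a * ((p * x) * a * p⁻¹) := by group
      _ = a * x * (p * a * p⁻¹) := by rw [hsw.1]; group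
      _ = _ := by rw [hK.comm_z h ha.mem]; group
  rw [h3] at h2
  apply j.nin
  have := mul_mem h2 (inv_mem h1)
  rwa [mul_inv_cancel_right] at this

/-- the elements of `T` fixing a member act on it as inner automorphisms -/
theorem JF.exists_as (j : JF Om A T x) (h : WM Om) (hK : Mem Om x K) (ht : t ∈ T) (htK : cj t K = K) :
    ∃ a, As K t a := by
  rcases h.wr.inn_or_tr hK.1 htK (j.sq t (j.le ht)) with ⟨y, hy, h1⟩ | ⟨a, ha⟩
  · exact ⟨y, hy, h1⟩
  · exact (j.no_tr h hK ht htK ha).elim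

/-- the elements of `T#` fixing the members act on both as elements of order 4 -/
theorem JF.sq_of_as (j : JF Om A T x) (h : WM Om) (hK : Mem Om x K) (ht : t ∈ T) (ht1 : t ≠ 1)
    (ha : As K t a) : a * a = x := by
  have jh := j.toJH
  obtain ⟨L, hL, hne, -⟩ := hK.other h
  by_contra hcon
  -- `t` is trivial on `K`
  have htK : ∀ k ∈ K, t * k = k * t := by
    rcases hK.sq_cases h ha.1 with h1 | h1 | h1
    · rw [h1] at ha; exact As.one_iff.1 ha
    · rw [h1] at ha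
      intro k hk
      have h2 := ha.2 k hk
      rw [← hK.comm_z h hk, mul_inv_cancel_right, mul_inv_eq_iff_eq_mul] at h2
      exact h2
    · exact absurd h1 hcon
  have htL : cj t L = L := by
    rcases cj_cases h hK hL hne (j.tx t ht) with h1 | h1
    · exact h1.2
    · exfalso
      apply hne
      rw [← h1.1]
      exact ha.cj_eq.symm
  obtain ⟨b, hb⟩ := j.exists_as h hL ht htL
  -- `b` of order 4
  have hbb : b * b = x := by
    rcases hL.sq_cases h hb.1 with h1 | h1 | h1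
    · exfalso
      apply ht1
      apply j.ff t ht
      rw [mem_CX]
      intro M hM k hk
      rcases hK.cases hL h hne hM with rfl | rfl
      · exact htK k hk
      · rw [h1] at hb; exact As.one_iff.1 hb k hk
    · exfalso
      apply ht1
      apply j.ff t ht
      rw [mem_CX]
      intro M hM k hk
      rcases hK.cases hL h hne hM with rfl | rfl
      · exact htK k hk
      · have h2 := hb.2 k hk
        rw [h1, ← hM.comm_z h hk, mul_inv_cancel_right, mul_inv_eq_iff_eq_mul] at h2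
        exact h2
    · exact h1
  -- `J = 1`
  have hJ : ∀ g ∈ A, g ∈ RZ Om x → g = 1 := by
    intro g hg hgx
    refine jh.eq_one h hL hg (RZ_cent_mem h hL hK hne.symm hgx fun k hk => ?_)
    exact (jh.comm h ht ht1 (hK.le_RZ hk) (htK k hk) hg hgx).symm
  have hT : ∀ s ∈ T, ∀ r ∈ RZ Om x, t * r = r * t → s * r = r * s := by
    intro s hs r hr hc
    obtain ⟨h1, h2⟩ := jh.comm_mem h ht ht1 hr hc hs
    have h3 := hJ _ h1 h2
    rw [mul_inv_eq_one, mul_inv_eq_iff_eq_mul] at h3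
    exact h3
  -- `T = {1, t}`
  have hone : ∀ s ∈ T, s = 1 ∨ s = t := by
    intro s hs
    have h1 : ∀ k ∈ K, s * k = k * s := fun k hk => hT s hs k (hK.le_RZ hk) (htK k hk)
    have hsL : cj s L = L := by
      rcases cj_cases h hK hL hne (j.tx s hs) with h2 | h2
      · exact h2.2
      · exfalso
        apply hne
        rw [← h2.1]
        exact ((As.one_iff.2 h1).cj_eq).symm
    obtain ⟨c, hc⟩ := j.exists_as h hL hs hsL
    have h2 : s * b = b * s := hT s hs b (hL.le_RZ hb.1) hb.comm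
    have h3 : b * c = c * b := by
      have h4 := hc.2 b hb.1
      rw [h2, mul_inv_cancel_right, eq_mul_inv_iff_mul_eq] at h4
      exact h4
    have h5 : ∀ {u d : G}, u ∈ T → (∀ k ∈ K, u * k = k * u) → As L u d → (d = 1 ∨ d = x) → u = 1 := by
      intro u d hu hu1 hd hd1
      apply j.ff u hu
      rw [mem_CX]
      intro M hM k hk
      rcases hK.cases hL h hne hM with rfl | rfl
      · exact hu1 k hk
      · rcases hd1 with hd1 | hd1
        · rw [hd1] at hd; exact As.one_iff.1 hd k hk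
        · have h2 := hd.2 k hk
          rw [hd1, ← hM.comm_z h hk, mul_inv_cancel_right, mul_inv_eq_iff_eq_mul] at h2
          exact h2
    have h6 : ∀ k ∈ K, (s * t) * k = k * (s * t) := fun k hk => by
      rw [mul_assoc, htK k hk, ← mul_assoc, h1 k hk, mul_assoc]
    have h7 : s * t = 1 → s = t := fun h8 => by
      rw [eq_inv_of_mul_eq_one_left h8, jh.inv ht]
    rcases hL.of_comm h hb.1 hbb hc.1 h3 with h4 | h4 | h4 | h4
    · exact Or.inl (h5 hs h1 hc (Or.inl h4))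
    · exact Or.inl (h5 hs h1 hc (Or.inr h4))
    · right
      refine h7 (h5 (mul_mem hs ht) h6 (hc.mul hb) (Or.inr ?_))
      rw [h4, hbb]
    · right
      refine h7 (h5 (mul_mem hs ht) h6 (hc.mul hb) (Or.inl ?_))
      rw [h4, mul_assoc, hbb, hK.inZ.z2 h]
  obtain ⟨s, hs, s', hs', h1, h2, h3⟩ := j.three
  apply h3
  rw [(hone s hs).resolve_left h1, (hone s' hs').resolve_left h2]

/-- at most one element of `T#` fixes the members -/
theorem JF.unique (j : JF Om A T x) (h : WM Om) (hK : Mem Om x K) (hs : s ∈ T) (hs1 : s ≠ 1) (hsK : cj s K = K)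
    (ht : t ∈ T) (ht1 : t ≠ 1) (htK : cj t K = K) : s = t := by
  have jh := j.toJH
  obtain ⟨L, hL, hne, -⟩ := hK.other h
  have key : ∀ {K : Subgroup G}, Mem Om x K → cj s K = K → cj t K = K → ∀ k ∈ K, (s * t) * k = k * (s * t) := by
    intro K hK hsK htK k hk
    obtain ⟨a, ha⟩ := j.exists_as h hK hs hsK
    obtain ⟨b, hb⟩ := j.exists_as h hK ht htK
    have haa := j.sq_of_as h hK hs hs1 ha
    have hbb := j.sq_of_as h hK ht ht1 hb
    have hab : a * b = b * a := by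
      by_contra hcon
      refine jh.ne_x h ht ht1 (hK.le_RZ hb.1) hb.comm hs ?_
      rw [ha.2 b hb.1]
      exact hK.anti h hb.1 hbb ha.1 haa (fun h1 => hcon h1.symm)
    have h1 := ha.mul hb
    have h2 : a * b = 1 ∨ a * b = x := by
      rcases hK.of_comm h ha.1 haa hb.1 hab with h3 | h3 | h3 | h3
      · rw [h3, one_mul] at hbb; exact absurd hbb.symm (hK.inZ.z1 h)
      · rw [h3, hK.inZ.z2 h] at hbb; exact absurd hbb.symm (hK.inZ.z1 h)
      · right; rw [h3, haa]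
      · left; rw [h3, ← mul_assoc, hK.comm_z h ha.1, mul_assoc, haa, hK.inZ.z2 h]
    rcases h2 with h2 | h2
    · rw [h2] at h1; exact As.one_iff.1 h1 k hk
    · have h3 := h1.2 k hk
      rw [h2, ← hK.comm_z h hk, mul_inv_cancel_right, mul_inv_eq_iff_eq_mul] at h3
      exact h3
  have hsL : cj s L = L := by
    rcases cj_cases h hK hL hne (j.tx s hs) with h1 | h1
    · exact h1.2
    · exact absurd (hsK.symm.trans h1.1) hne
  have htL : cj t L = L := by
    rcases cj_cases h hK hL hne (j.tx t ht) with h1 | h1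
    · exact h1.2
    · exact absurd (htK.symm.trans h1.1) hne
  have h1 : s * t = 1 := by
    apply j.ff _ (mul_mem hs ht)
    rw [mem_CX]
    intro M hM k hk
    rcases hK.cases hL h hne hM with rfl | rfl
    · exact key hM hsK htK k hk
    · exact key hM hsL htL k hk
  rw [eq_inv_of_mul_eq_one_left h1, jh.inv ht]

/-- **the J-ARGUMENT** : `T = {1, s, p, p s}`, `p` a swap, `s` acts on `K` as `a` and on `K^p` as `p a p⁻¹`, and
`x a (p a p⁻¹) ∈ A` -/
theorem JF.main (j : JF Om A T x) (h : WM Om) (hK : Mem Om x K) :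
    ∃ p ∈ T, ∃ s ∈ T, ∃ a ∈ K, Swp Om x p ∧ s ≠ 1 ∧ s ≠ p ∧ a * a = x ∧ As K s a ∧ As (cj p K) s (p * a * p⁻¹) ∧
      (∀ t ∈ T, t = 1 ∨ t = s ∨ t = p ∨ t = p * s) ∧ x * qq p a ∈ A ∧ (∀ g ∈ A, g ∈ RZ Om x → g = 1 ∨ g = x * qq p a) := by
  have jh := j.toJH
  -- a swap
  obtain ⟨p, hp, hpK⟩ : ∃ p ∈ T, cj p K ≠ K := by
    by_contra hcon
    push Not at hcon
    obtain ⟨s, hs, s', hs', h1, h2, h3⟩ := j.three
    exact h3 (j.unique h hK hs h1 (hcon s hs) hs' h2 (hcon s' hs'))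
  have hsw : Swp Om x p := Swp.of_one h hK (j.tx p hp) hpK
  have hpp := j.sq p (j.le hp)
  have hL := hsw.mem h hK
  have hne := hsw.ne hK
  -- an element fixing `K`
  obtain ⟨s, hs, hs1, hsK⟩ : ∃ s ∈ T, s ≠ 1 ∧ cj s K = K := by
    obtain ⟨s, hs, s', hs', h1, h2, h3⟩ := j.three
    by_cases h4 : cj s K = K
    · exact ⟨s, hs, h1, h4⟩
    by_cases h5 : cj s' K = K
    · exact ⟨s', hs', h2, h5⟩
    refine ⟨s * s', mul_mem hs hs', fun h6 => h3 ?_, ?_⟩
    · rw [eq_inv_of_mul_eq_one_left h6, jh.inv hs']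
    · rcases cj_cases h hK hL hne (j.tx s hs) with h6 | h6
      · exact absurd h6.1 h4
      rcases cj_cases h hK hL hne (j.tx s' hs') with h7 | h7
      · exact absurd h7.1 h5
      rw [cj_mul, h7.1, h6.2]
  have hsp : s ≠ p := by
    rintro rfl
    exact hpK hsK
  obtain ⟨a, ha⟩ := j.exists_as h hK hs hsK
  have haa := j.sq_of_as h hK hs hs1 ha
  have hb : As (cj p K) s (p * a * p⁻¹) := ha.conj_comm (j.cm hp hs)
  -- `x q_p(a) ∈ A`
  have hpa : p * a * p⁻¹ ∈ cj p K := conj_mem_cj ha.1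
  have hJ : x * qq p a ∈ A := by
    have h1 := (jh.comm_mem h hs hs1 (hK.le_RZ ha.1) ha.comm hp).1
    have h2 : p * a * p⁻¹ * a⁻¹ = x * qq p a := by
      rw [hK.inv_eq h ha.1 haa, qq, ← hsw.cm h hK (mul_mem (hK.zmem h) ha.1) ha.1, mul_assoc]
    rwa [h2] at h1
  refine ⟨p, hp, s, hs, a, ha.1, hsw, hs1, hsp, haa, ha, hb, fun t ht => ?_, hJ, fun g hg hgx => ?_⟩
  · by_cases h1 : cj t K = K
    · by_cases h2 : t = 1
      · exact Or.inl h2
      · exact Or.inr (Or.inl (j.unique h hK ht h2 h1 hs hs1 hsK))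
    · right; right
      have h2 : cj (p * t) K = K := by
        rcases cj_cases h hK hL hne (j.tx t ht) with h6 | h6
        · exact absurd h6.1 h1
        rw [cj_mul, h6.1, ← cj_mul, hpp, cj_one]
      have h3 : ∀ g : G, p * (p * g) = g := fun g => by rw [← mul_assoc, hpp, one_mul]
      by_cases h4 : p * t = 1
      · left
        rw [← h3 t, h4, mul_one]
      · right
        rw [← j.unique h hK (mul_mem hp ht) h4 h2 hs hs1 hsK, h3]
  · -- `g` commutes with `C_{R_x}(s)`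
    obtain ⟨k, hk, l, hl, rfl⟩ := (mem_RZ hK hL h hne).1 hgx
    have c1 : a * (k * l) = (k * l) * a := jh.comm h hs hs1 (hK.le_RZ ha.1) ha.comm hg hgx
    have c2 : a * k = k * a := by
      have h1 : l * a = a * l := (hK.comm hL h hne ha.1 hl).symm
      have h2 : (a * k) * l = (k * a) * l := by
        rw [mul_assoc, c1, mul_assoc, h1, mul_assoc]
      exact mul_right_cancel h2
    have c3 : (p * a * p⁻¹) * (k * l) = (k * l) * (p * a * p⁻¹) :=
      jh.comm h hs hs1 (hL.le_RZ hpa) hb.comm hg hgx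
    have c4 : (p * a * p⁻¹) * l = l * (p * a * p⁻¹) := by
      have h1 : k * (p * a * p⁻¹) = (p * a * p⁻¹) * k := hK.comm hL h hne hk hpa
      have h2 : k * ((p * a * p⁻¹) * l) = k * (l * (p * a * p⁻¹)) := by
        rw [← mul_assoc, h1, mul_assoc, c3, mul_assoc]
      exact mul_left_cancel h2
    have hpapa : (p * a * p⁻¹) * (p * a * p⁻¹) = x := by
      calc (p * a * p⁻¹) * (p * a * p⁻¹) = p * (a * a) * p⁻¹ := by group
        _ = x := by rw [haa, hsw.1, mul_inv_cancel_right]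
    have hxx := hK.inZ.z2 h
    have hg2 := j.sq _ hg
    have hklc : l * k = k * l := (hK.comm hL h hne hk hl).symm
    have hsq : (k * k) * (l * l) = 1 := by
      rw [← hg2]
      calc (k * k) * (l * l) = k * (k * l) * l := by group
        _ = k * (l * k) * l := by rw [hklc]
        _ = _ := by group
    have hkx : ∀ {u : G}, u ∈ K → u * x = x * u := fun hu => hK.comm_z h hu
    have hlx : ∀ {u : G}, u ∈ cj p K → u * x = x * u := fun hu => hL.comm_z h hu
    -- `g ∈ {1, x, a a^p, x a a^p}`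
    have hfin : k * l = 1 ∨ k * l = x ∨ k * l = qq p a ∨ k * l = x * qq p a := by
      rcases hK.of_comm h ha.1 haa hk c2 with h1 | h1 | h1 | h1 <;>
        rcases hL.of_comm h hpa hpapa hl c4 with h2 | h2 | h2 | h2
      · left; rw [h1, h2, one_mul]
      · right; left; rw [h1, h2, one_mul]
      · exfalso
        rw [h1, h2, hpapa, one_mul, one_mul] at hsq
        exact hK.inZ.z1 h hsq
      · exfalso
        have h3 : x * (p * a * p⁻¹) * (x * (p * a * p⁻¹)) = x := by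
          calc x * (p * a * p⁻¹) * (x * (p * a * p⁻¹)) = x * ((p * a * p⁻¹) * x) * (p * a * p⁻¹) := by group
            _ = x * (x * (p * a * p⁻¹)) * (p * a * p⁻¹) := by rw [hlx hpa]
            _ = (x * x) * ((p * a * p⁻¹) * (p * a * p⁻¹)) := by group
            _ = x := by rw [hxx, hpapa, one_mul]
        rw [h1, h2, h3, one_mul, one_mul] at hsq
        exact hK.inZ.z1 h hsq
      · right; left; rw [h1, h2, mul_one]
      · left; rw [h1, h2, hxx]
      · exfalso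
        rw [h1, h2, hpapa, hxx, one_mul] at hsq
        exact hK.inZ.z1 h hsq
      · exfalso
        have h3 : x * (p * a * p⁻¹) * (x * (p * a * p⁻¹)) = x := by
          calc x * (p * a * p⁻¹) * (x * (p * a * p⁻¹)) = x * ((p * a * p⁻¹) * x) * (p * a * p⁻¹) := by group
            _ = x * (x * (p * a * p⁻¹)) * (p * a * p⁻¹) := by rw [hlx hpa]
            _ = (x * x) * ((p * a * p⁻¹) * (p * a * p⁻¹)) := by group
            _ = x := by rw [hxx, hpapa, one_mul]
        rw [h1, h2, h3, hxx, one_mul] at hsq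
        exact hK.inZ.z1 h hsq
      · exfalso
        rw [h1, h2, haa, one_mul, mul_one] at hsq
        exact hK.inZ.z1 h hsq
      · exfalso
        rw [h1, h2, haa, hxx, mul_one] at hsq
        exact hK.inZ.z1 h hsq
      · right; right; left; rw [h1, h2]; rfl
      · right; right; right
        rw [h1, h2, ← mul_assoc, hkx ha.1, mul_assoc]; rfl
      · exfalso
        have h3 : x * a * (x * a) = x := by
          calc x * a * (x * a) = x * (a * x) * a := by group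
            _ = x * (x * a) * a := by rw [hkx ha.1]
            _ = (x * x) * (a * a) := by group
            _ = x := by rw [hxx, haa, one_mul]
        rw [h1, h2, h3, one_mul, mul_one] at hsq
        exact hK.inZ.z1 h hsq
      · exfalso
        have h3 : x * a * (x * a) = x := by
          calc x * a * (x * a) = x * (a * x) * a := by group
            _ = x * (x * a) * a := by rw [hkx ha.1]
            _ = (x * x) * (a * a) := by group
            _ = x := by rw [hxx, haa, one_mul]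
        rw [h1, h2, h3, hxx, mul_one] at hsq
        exact hK.inZ.z1 h hsq
      · right; right; right
        rw [h1, h2, mul_assoc]; rfl
      · right; right; left
        rw [h1, h2]
        calc x * a * (x * (p * a * p⁻¹)) = x * (a * x) * (p * a * p⁻¹) := by group
          _ = x * (x * a) * (p * a * p⁻¹) := by rw [hkx ha.1]
          _ = (x * x) * (a * (p * a * p⁻¹)) := by group
          _ = _ := by rw [hxx, one_mul]; rfl
    rcases hfin with h1 | h1 | h1 | h1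
    · exact Or.inl h1
    · rw [h1] at hg; exact absurd hg j.nin
    · exfalso
      rw [h1] at hg
      apply j.nin
      have := mul_mem hJ (inv_mem hg)
      rwa [mul_inv_cancel_right] at this
    · exact Or.inr h1

theorem JF.card_le (j : JF Om A T x) (h : WM Om) : Nat.card T ≤ 4 := by
  classical
  obtain ⟨K, hK⟩ := j.inZ
  obtain ⟨p, -, s, -, a, -, -, -, -, -, -, -, h1, -⟩ := j.main h hK
  have h2 : (T : Set G) ⊆ (({1, s, p, p * s} : Finset G) : Set G) := by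
    intro t ht
    rcases h1 t ht with h2 | h2 | h2 | h2 <;> simp [h2]
  have h3 := Set.ncard_le_ncard h2 (Finset.finite_toSet _)
  rw [Set.ncard_coe_finset] at h3
  exact h3.trans Finset.card_le_four

end Fin

end Cfsg.Agent.Cit.Nil.RTwoM
end

-- part: Cit/Nil/RTwoM/NilZ
section
prune_inst 0x40000440011220000001800102000000010000000000000002060010200400000a043080138000400001004402000002003080000422000000a000000000401200000400082080000000000000800000000000000000000000000000000000000000000000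
set_option linter.all false
open scoped Cfsg.Agent.FastGrp

-- part: Cit/Nil/RTwoM/BlkDef
section
/-!
# `r = 2`, any `m`: abstract block data (helper599, #18147)

`N` an elementary abelian 2-group (additive), `D ⊆ N` (`= Δ`), `β : N × N → F₂` (`β b n = 1` iff `n` interchanges the
two members over `b`), `B b = N ⊓ R_b` (order 8), `χ b a ∈ F₂`; the coset of `B b` in `R_b` which belongs to
`a ∈ B b - ⟨b⟩` acts on `N` as `sg β (χ b a) b a : n ↦ n + β(n,b)(a + χ b) + β(n,a) b`.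
-/

set_option autoImplicit false

namespace Cfsg.Agent.Cit.Nil.RTwoM.Blk

variable {N : Type*} [AddCommGroup N]

/-- `ε x`, `ε ∈ F₂` -/
def sm (ε : ZMod 2) (x : N) : N := if ε = 0 then 0 else x

@[simp] theorem sm_zero (x : N) : sm 0 x = 0 := if_pos rfl

@[simp] theorem sm_one (x : N) : sm 1 x = x := if_neg (by decide)

theorem z2 (ε : ZMod 2) : ε = 0 ∨ ε = 1 := by
  revert ε; decide

/-- the action of the coset of `R_b` over `a` -/
def sg (β : N → N → ZMod 2) (χ : ZMod 2) (b a n : N) : N := n + sm (β n b) (a + sm χ b) + sm (β n a) b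

/-- **block data** -/
structure Data (D : Set N) (β : N → N → ZMod 2) (B : N → AddSubgroup N) (χ : N → N → ZMod 2) : Prop where
  two : ∀ x : N, x + x = 0
  addl : ∀ x y z : N, β (x + y) z = β x z + β y z
  addr : ∀ x y z : N, β x (y + z) = β x y + β x z
  alt : ∀ x, β x x = 0
  ne : ∀ b ∈ D, b ≠ 0
  mem : ∀ b ∈ D, b ∈ B b
  perp : ∀ b ∈ D, ∀ a ∈ B b, β b a = 0
  nd : ∀ b ∈ D, ∀ a ∈ B b, ∀ a' ∈ B b, β a a' = 0 → a = 0 ∨ a = b ∨ a' = 0 ∨ a' = b ∨ a' = a ∨ a' = a + b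
  bas : ∀ b ∈ D, ∃ a ∈ B b, ∃ a' ∈ B b, β a a' = 1
  sw : ∀ b ∈ D, ∃ w ∈ D, β b w = 1
  act : ∀ b ∈ D, ∀ a ∈ B b, a ≠ 0 → a ≠ b → ∀ c ∈ D, sg β (χ b a) b a c ∈ D
  actB : ∀ b ∈ D, ∀ a ∈ B b, a ≠ 0 → a ≠ b → ∀ c ∈ D, ∀ x ∈ B c, sg β (χ b a) b a x ∈ B (sg β (χ b a) b a c)
  sym : ∀ b ∈ D, ∀ c ∈ D, b ≠ c → (∀ x ∈ B c, β b x = 0) → ∀ x ∈ B b, ∀ y ∈ B c, β x y = 0

/-- the pattern (111) everywhere: `R_b` acts by `t_a t_{a+b}` -/
abbrev One (D : Set N) (β : N → N → ZMod 2) (B : N → AddSubgroup N) : Prop := Data D β B fun _ _ => 1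

end Cfsg.Agent.Cit.Nil.RTwoM.Blk
end

-- part: Cit/Nil/RTwoM/BlkPat
section
/-!
# `r = 2`, any `m`: the calculus of block data; the pattern lemma when `χ = 1`
-/

set_option autoImplicit false
set_option linter.unusedSimpArgs false

namespace Cfsg.Agent.Cit.Nil.RTwoM.Blk

variable {N : Type*} [AddCommGroup N] {D : Set N} {β : N → N → ZMod 2} {B : N → AddSubgroup N} {χ : N → N → ZMod 2}
  {a a' b c d u v w x y z a₁ a₂ a₃ b₁ b₂ b₃ : N}

namespace Data

theorem neg (h : Data D β B χ) (x : N) : -x = x := neg_eq_of_add_eq_zero_left (h.two x)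

theorem cancel (h : Data D β B χ) (hxy : x + y = 0) : x = y := by
  rw [eq_neg_of_add_eq_zero_left hxy, h.neg]

theorem addc (h : Data D β B χ) (x y : N) : x + (x + y) = y := by
  rw [← add_assoc, h.two, zero_add]

theorem sub (h : Data D β B χ) (x y : N) : x - y = x + y := by
  rw [sub_eq_add_neg, h.neg]

theorem symm (h : Data D β B χ) (x y : N) : β x y = β y x := by
  have h1 := h.alt (x + y)
  rw [h.addl, h.addr, h.addr, h.alt, h.alt, zero_add, add_zero] at h1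
  have key : ∀ s t : ZMod 2, s + t = 0 → s = t := by decide
  exact key _ _ h1

theorem zl (h : Data D β B χ) (x : N) : β 0 x = 0 := by
  have h1 := h.addl 0 0 x
  rw [add_zero] at h1
  exact left_eq_add.1 h1

theorem zr (h : Data D β B χ) (x : N) : β x 0 = 0 := by rw [h.symm, h.zl]

theorem sml (h : Data D β B χ) (ε : ZMod 2) (x y : N) : β (sm ε x) y = ε * β x y := by
  rcases z2 ε with rfl | rfl
  · rw [sm_zero, h.zl, zero_mul]
  · rw [sm_one, one_mul]

theorem smr (h : Data D β B χ) (ε : ZMod 2) (x y : N) : β x (sm ε y) = ε * β x y := by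
  rw [h.symm, h.sml, h.symm]

theorem sm_add (h : Data D β B χ) (ε ε' : ZMod 2) (x : N) : sm (ε + ε') x = sm ε x + sm ε' x := by
  rcases z2 ε with rfl | rfl <;> rcases z2 ε' with rfl | rfl
  · simp
  · simp
  · simp
  · rw [sm_one, h.two, show (1 : ZMod 2) + 1 = 0 by decide, sm_zero]

theorem sm_mem {S : AddSubgroup N} (ε : ZMod 2) (hx : x ∈ S) : sm ε x ∈ S := by
  rcases z2 ε with rfl | rfl
  · rw [sm_zero]; exact zero_mem _
  · rwa [sm_one]

/-- `sg` is an isometry -/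
theorem isom (h : Data D β B χ) (ε : ZMod 2) (hab : β b a = 0) (x y : N) :
    β (sg β ε b a x) (sg β ε b a y) = β x y := by
  simp only [sg, h.addl, h.addr, h.sml, h.smr, h.alt, h.symm a b, hab, h.symm b y, h.symm a y]
  generalize β x b = p, β x a = q, β y b = r, β y a = s, β x y = t
  revert ε p q r s t
  decide +kernel

/-- `sg` is an involution -/
theorem inv (h : Data D β B χ) (ε : ZMod 2) (hab : β b a = 0) (x : N) : sg β ε b a (sg β ε b a x) = x := by
  have h1 : β (sg β ε b a x) b = β x b := by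
    simp only [sg, h.addl, h.sml, h.alt, h.symm a b, hab]
    ring
  have h2 : β (sg β ε b a x) a = β x a := by
    simp only [sg, h.addl, h.sml, h.alt, hab]
    ring
  have h3 : sg β ε b a (sg β ε b a x) = sg β ε b a x + sm (β x b) (a + sm ε b) + sm (β x a) b := by
    conv_lhs => rw [sg, h1, h2]
  rw [h3, sg]
  have h4 := h.two (sm (β x b) (a + sm ε b))
  have h5 := h.two (sm (β x a) b)
  calc x + sm (β x b) (a + sm ε b) + sm (β x a) b + sm (β x b) (a + sm ε b) + sm (β x a) b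
      = x + (sm (β x b) (a + sm ε b) + sm (β x b) (a + sm ε b)) + (sm (β x a) b + sm (β x a) b) := by abel
    _ = x := by rw [h4, h5, add_zero, add_zero]

theorem perp' (h : Data D β B χ) (hb : b ∈ D) (ha : a ∈ B b) : β a b = 0 := by
  rw [h.symm, h.perp b hb a ha]

/-- the action on `B` backwards -/
theorem actB' (h : Data D β B χ) (hb : b ∈ D) (ha : a ∈ B b) (h0 : a ≠ 0) (h1 : a ≠ b) (hc : c ∈ D)
    (hx : x ∈ B (sg β (χ b a) b a c)) : sg β (χ b a) b a x ∈ B c := by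
  have h2 := h.actB b hb a ha h0 h1 _ (h.act b hb a ha h0 h1 c hc) x hx
  rwa [h.inv _ (h.perp b hb a ha)] at h2

/-- the eight elements of `B b` -/
theorem cov (h : Data D β B χ) (hb : b ∈ D) (ha : a ∈ B b) (ha' : a' ∈ B b) (haa : β a a' = 1) (hx : x ∈ B b) :
    x = sm (β x a') a + sm (β x a) a' ∨ x = sm (β x a') a + sm (β x a) a' + b := by
  have n0 : a ≠ 0 := by rintro rfl; rw [h.zl] at haa; exact absurd haa (by decide)
  have n0' : a' ≠ 0 := by rintro rfl; rw [h.zr] at haa; exact absurd haa (by decide)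
  have n1 : a ≠ b := by rintro rfl; rw [h.perp a hb a' ha'] at haa; exact absurd haa (by decide)
  have n1' : a' ≠ b := by rintro rfl; rw [h.perp' hb ha] at haa; exact absurd haa (by decide)
  set s := sm (β x a') a + sm (β x a) a' with hs
  have hsm : s ∈ B b := add_mem (sm_mem _ ha) (sm_mem _ ha')
  have haa' : β a' a = 1 := by rw [h.symm]; exact haa
  have h1 : β (x + s) a = 0 := by
    rw [h.addl, hs, h.addl, h.sml, h.sml, h.alt, haa', mul_zero, zero_add, mul_one]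
    generalize β x a = p
    revert p; decide
  have h2 : β (x + s) a' = 0 := by
    rw [h.addl, hs, h.addl, h.sml, h.sml, h.alt, haa, mul_zero, add_zero, mul_one]
    generalize β x a' = p
    revert p; decide
  have hm : x + s ∈ B b := add_mem hx hsm
  have fin : x + s = 0 ∨ x + s = b → x = s ∨ x = s + b := by
    rintro (h3 | h3)
    · exact Or.inl (h.cancel h3)
    · right
      rw [← h3, add_comm x s, h.addc]
  apply fin
  rcases h.nd b hb _ hm _ ha h1 with h3 | h3 | h3 | h3 | h3 | h3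
  · exact Or.inl h3
  · exact Or.inr h3
  · exact absurd h3 n0
  · exact absurd h3 n1
  · exfalso
    rw [← h3, haa] at h2
    exact absurd h2 (by decide)
  · exfalso
    have h4 : x + s = a + b := by rw [h3, add_assoc, h.two, add_zero]
    rw [h4, h.addl, haa, h.perp b hb a' ha'] at h2
    exact absurd h2 (by decide)

end Data

/-- coordinates of `B u` with respect to a swap partner `w` of `u` -/
structure Tri (β : N → N → ZMod 2) (Bu : AddSubgroup N) (u w a₁ a₂ a₃ : N) : Prop where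
  m₁ : a₁ ∈ Bu
  m₂ : a₂ ∈ Bu
  m₃ : a₃ ∈ Bu
  sum : a₁ + a₂ + a₃ = u
  w₁ : β w a₁ = 1
  w₂ : β w a₂ = 1
  w₃ : β w a₃ = 1
  c₁₂ : β a₁ a₂ = 1
  c₁₃ : β a₁ a₃ = 1
  c₂₃ : β a₂ a₃ = 1
  cov : ∀ x ∈ Bu, x = 0 ∨ x = a₁ ∨ x = a₂ ∨ x = a₃ ∨ x = a₁ + a₂ ∨ x = a₁ + a₃ ∨ x = a₂ + a₃ ∨ x = u

theorem Tri.rot (t : Tri β (B u) u w a₁ a₂ a₃) (h : Data D β B χ) : Tri β (B u) u w a₂ a₃ a₁ := by
  refine ⟨t.m₂, t.m₃, t.m₁, ?_, t.w₂, t.w₃, t.w₁, t.c₂₃, ?_, ?_, ?_⟩
  · rw [← t.sum]; abel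
  · rw [h.symm]; exact t.c₁₂
  · rw [h.symm]; exact t.c₁₃
  · intro x hx
    rcases t.cov x hx with h1 | h1 | h1 | h1 | h1 | h1 | h1 | h1
    · exact Or.inl h1
    · exact Or.inr (Or.inr (Or.inr (Or.inl h1)))
    · exact Or.inr (Or.inl h1)
    · exact Or.inr (Or.inr (Or.inl h1))
    · exact Or.inr (Or.inr (Or.inr (Or.inr (Or.inr (Or.inl (by rw [h1, add_comm]))))))
    · exact Or.inr (Or.inr (Or.inr (Or.inr (Or.inr (Or.inr (Or.inl (by rw [h1, add_comm])))))))
    · exact Or.inr (Or.inr (Or.inr (Or.inr (Or.inl h1))))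
    · exact Or.inr (Or.inr (Or.inr (Or.inr (Or.inr (Or.inr (Or.inr h1))))))

theorem Data.exists_tri (h : Data D β B χ) (hu : u ∈ D) (huw : β u w = 1) :
    ∃ a₁ a₂ a₃, Tri β (B u) u w a₁ a₂ a₃ := by
  obtain ⟨a, ha, a', ha', haa⟩ := h.bas u hu
  have hwu : β w u = 1 := by rw [h.symm]; exact huw
  have hat : ∀ a ∈ B u, ∃ a₁ ∈ B u, β w a₁ = 1 ∧ ∀ y ∈ B u, β a₁ y = β a y := by
    intro a ha
    rcases z2 (β w a) with h1 | h1
    · refine ⟨a + u, add_mem ha (h.mem u hu), ?_, fun y hy => ?_⟩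
      · rw [h.addr, h1, hwu, zero_add]
      · rw [h.addl, h.perp u hu y hy, add_zero]
    · exact ⟨a, ha, h1, fun _ _ => rfl⟩
  obtain ⟨a₁, m₁, w₁, e₁⟩ := hat a ha
  obtain ⟨a₂, m₂, w₂, e₂⟩ := hat a' ha'
  have c₁₂ : β a₁ a₂ = 1 := by
    rw [e₁ _ m₂, h.symm, e₂ _ ha, h.symm]; exact haa
  have c₂₁ : β a₂ a₁ = 1 := by rw [h.symm]; exact c₁₂
  have m₃ : u + a₁ + a₂ ∈ B u := add_mem (add_mem (h.mem u hu) m₁) m₂
  refine ⟨a₁, a₂, u + a₁ + a₂, m₁, m₂, m₃, ?_, w₁, w₂, ?_, c₁₂, ?_, ?_, ?_⟩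
  · calc a₁ + a₂ + (u + a₁ + a₂) = u + (a₁ + a₁) + (a₂ + a₂) := by abel
      _ = u := by rw [h.two, h.two, add_zero, add_zero]
  · rw [h.addr, h.addr, hwu, w₁, w₂]; decide
  · rw [h.addr, h.addr, h.perp' hu m₁, h.alt, c₁₂]; decide
  · rw [h.addr, h.addr, h.perp' hu m₂, h.alt, c₂₁]; decide
  · intro x hx
    have e1 : u + a₁ + a₂ = a₁ + a₂ + u := by abel
    have e2 : a₁ + (u + a₁ + a₂) = a₂ + u := by
      rw [show a₁ + (u + a₁ + a₂) = a₁ + a₁ + (a₂ + u) by abel, h.two, zero_add]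
    have e3 : a₂ + (u + a₁ + a₂) = a₁ + u := by
      rw [show a₂ + (u + a₁ + a₂) = a₂ + a₂ + (a₁ + u) by abel, h.two, zero_add]
    rw [e1, ← e1, e2, e3, e1]
    rcases z2 (β x a₁) with p | p <;> rcases z2 (β x a₂) with q | q <;>
      rcases h.cov hu m₁ m₂ c₁₂ hx with h1 | h1 <;>
      rw [p, q] at h1 <;> simp only [sm_zero, sm_one, zero_add, add_zero] at h1 <;> simp only [h1, _root_.true_or, _root_.right_eq_add, _root_.or_true, _root_.left_eq_add, _root_.add_eq_left, _root_.add_left_inj, _root_.add_right_inj, _root_.add_eq_right]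

theorem Tri.s₁ (t : Tri β (B u) u w a₁ a₂ a₃) (h : Data D β B χ) (hu : u ∈ D) :
    sg β 1 u a₁ w = w + a₁ := by
  have h1 : β w u = 1 := by
    rw [← t.sum, h.addr, h.addr, t.w₁, t.w₂, t.w₃]; decide
  rw [sg, h1, t.w₁]
  simp only [sm_one]
  calc w + (a₁ + u) + u = w + a₁ + (u + u) := by abel
    _ = w + a₁ := by rw [h.two, add_zero]

theorem Tri.ne₁ (t : Tri β (B u) u w a₁ a₂ a₃) (h : Data D β B χ) (hu : u ∈ D) : a₁ ≠ 0 ∧ a₁ ≠ u := by
  constructor
  · intro h1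
    have := t.c₁₂
    rw [h1, h.zl] at this
    exact absurd this (by decide)
  · intro h1
    have := t.c₁₂
    rw [h1, h.perp u hu a₂ t.m₂] at this
    exact absurd this (by decide)

theorem Tri.uw (t : Tri β (B u) u w a₁ a₂ a₃) (h : Data D β B χ) : β w u = 1 := by
  rw [← t.sum, h.addr, h.addr, t.w₁, t.w₂, t.w₃]; decide

/-- (E): a row of the matrix is a unit vector -/
theorem Data.row (h : One D β B) (hu : u ∈ D) (hw : w ∈ D) (t : Tri β (B u) u w a₁ a₂ a₃)
    (t' : Tri β (B w) w u b₁ b₂ b₃) (h₁ : β a₁ b₁ = 1) (h₂ : β a₁ b₂ = 0) (h₃ : β a₁ b₃ = 0) :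
    u + w = a₁ + b₁ := by
  have hwu := t.uw h
  have huw := t'.uw h
  obtain ⟨n0, n1⟩ := t.ne₁ h hu
  obtain ⟨n0', n1'⟩ := t'.ne₁ h hw
  have hc : w + a₁ ∈ D := by
    rw [← t.s₁ h hu]; exact h.act u hu a₁ t.m₁ n0 n1 w hw
  have hd : u + b₁ ∈ D := by
    rw [← t'.s₁ h hw]; exact h.act w hw b₁ t'.m₁ n0' n1' u hu
  by_contra hne
  have hne' : u + b₁ ≠ w + a₁ := by
    intro h4
    apply hne
    calc u + w = (u + b₁) + (b₁ + w) := by
          rw [show (u + b₁) + (b₁ + w) = u + w + (b₁ + b₁) by abel, h.two, add_zero]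
      _ = (w + a₁) + (b₁ + w) := by rw [h4]
      _ = (w + w) + (a₁ + b₁) := by abel
      _ = a₁ + b₁ := by rw [h.two, zero_add]
  have hperp : ∀ x ∈ B (w + a₁), β (u + b₁) x = 0 := by
    intro x hx
    rw [← t.s₁ h hu] at hx
    have h4 := Data.actB' (χ := fun _ _ => 1) h hu t.m₁ n0 n1 hw hx
    rw [← h.isom 1 (h.perp u hu a₁ t.m₁)]
    have h5 : sg β 1 u a₁ (u + b₁) = u + b₁ + a₁ := by
      rw [sg, h.addl, h.addl, h.alt, h.symm b₁ u, t'.w₁, h.perp u hu a₁ t.m₁, h.symm b₁ a₁, h₁]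
      simp only [sm_one, zero_add]
      calc u + b₁ + (a₁ + u) + u = u + b₁ + a₁ + (u + u) := by abel
        _ = _ := by rw [h.two, add_zero]
    rw [h5]
    have k₁ : β (u + b₁ + a₁) b₁ = 0 := by
      rw [h.addl, h.addl, t'.w₁, h.alt, h₁]; decide
    have k₂ : β (u + b₁ + a₁) b₂ = 0 := by
      rw [h.addl, h.addl, t'.w₂, t'.c₁₂, h₂]; decide
    have k₃ : β (u + b₁ + a₁) b₃ = 0 := by
      rw [h.addl, h.addl, t'.w₃, t'.c₁₃, h₃]; decide
    rcases t'.cov _ h4 with h6 | h6 | h6 | h6 | h6 | h6 | h6 | h6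
    · rw [h6, h.zr]
    · rw [h6, k₁]
    · rw [h6, k₂]
    · rw [h6, k₃]
    · rw [h6, h.addr, k₁, k₂]; decide
    · rw [h6, h.addr, k₁, k₃]; decide
    · rw [h6, h.addr, k₂, k₃]; decide
    · rw [h6, ← t'.sum, h.addr, h.addr, k₁, k₂, k₃]; decide
  have hC := h.sym _ hd _ hc hne' hperp
  have val : ∀ a ∈ B u, β w a = 1 → β a₁ a = 1 → β a b₂ = 0 := by
    intro a ha hwa haa
    have h4 : sg β 1 w b₁ a ∈ B (u + b₁) := by
      rw [← t'.s₁ h hw]
      exact h.actB w hw b₁ t'.m₁ n0' n1' u hu a ha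
    have h5 : sg β 1 u a₁ b₂ ∈ B (w + a₁) := by
      rw [← t.s₁ h hu]
      exact h.actB u hu a₁ t.m₁ n0 n1 w hw b₂ t'.m₂
    have h6 := hC _ h4 _ h5
    have e1 : β a w = 1 := by rw [h.symm]; exact hwa
    have e2 : β b₂ u = 1 := by rw [h.symm]; exact t'.w₂
    have e3 : β b₂ a₁ = 0 := by rw [h.symm]; exact h₂
    have e4 : β a a₁ = 1 := by rw [h.symm]; exact haa
    have e5 : β b₁ a₁ = 1 := by rw [h.symm]; exact h₁
    have e6 : β b₁ u = 1 := by rw [h.symm]; exact t'.w₁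
    have e7 : β w b₂ = 0 := h.perp w hw b₂ t'.m₂
    have e8 : β a u = 0 := h.perp' hu ha
    simp only [sg, e1, e2, e3, sm_one, sm_zero, add_zero] at h6
    rcases z2 (β a b₁) with h7 | h7 <;> rw [h7] at h6 <;>
      simp only [sm_zero, sm_one, add_zero, h.addl, h.addr, e1, e2, e3, e4, e5, e6, e7, e8, t'.c₁₂, hwu, t.w₁] at h6 <;>
      revert h6 <;> generalize β a b₂ = q <;> revert q <;> decide
  have v₂ := val a₂ t.m₂ t.w₂ t.c₁₂
  have v₃ := val a₃ t.m₃ t.w₃ t.c₁₃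
  have h8 := t'.w₂
  rw [← t.sum, h.addl, h.addl, h₂, v₂, v₃] at h8
  exact absurd h8 (by decide)

/-- **PATTERN LEMMA**, `χ = 1` : a swap pair is of type P or of type J -/
theorem Data.pat (h : One D β B) (hu : u ∈ D) (hw : w ∈ D) (huw : β u w = 1) :
    (∀ x ∈ B u, β w x = 0 → x ∈ B w) ∨ (∀ x ∈ B u, β w x = 0 → ∀ y ∈ B w, β x y = 0) := by
  obtain ⟨a₁, a₂, a₃, t⟩ := h.exists_tri hu huw
  obtain ⟨b₁, b₂, b₃, t'⟩ := h.exists_tri (w := u) hw (by rw [h.symm]; exact huw)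
  -- rows
  have row : ∀ {a₁ a₂ a₃ : N}, Tri β (B u) u w a₁ a₂ a₃ →
      (∃ b ∈ B w, u + w = a₁ + b) ∨ (β a₁ b₁ = 1 ∧ β a₁ b₂ = 1 ∧ β a₁ b₃ = 1) := by
    intro a₁ a₂ a₃ t
    have hs : β a₁ b₁ + β a₁ b₂ + β a₁ b₃ = 1 := by
      rw [← h.addr, ← h.addr, t'.sum, h.symm]; exact t.w₁
    rcases z2 (β a₁ b₁) with p | p <;> rcases z2 (β a₁ b₂) with q | q <;> rcases z2 (β a₁ b₃) with r | r <;>
      rw [p, q, r] at hs
    · exact absurd hs (by decide)
    · exact Or.inl ⟨b₃, t'.m₃, h.row hu hw t ((t'.rot h).rot h) r p q⟩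
    · exact Or.inl ⟨b₂, t'.m₂, h.row hu hw t (t'.rot h) q r p⟩
    · exact absurd hs (by decide)
    · exact Or.inl ⟨b₁, t'.m₁, h.row hu hw t t' p q r⟩
    · exact absurd hs (by decide)
    · exact absurd hs (by decide)
    · exact Or.inr ⟨p, q, r⟩
  -- the elements `x ∈ B u` with `β w x = 0`
  have cases : ∀ x ∈ B u, β w x = 0 → x = 0 ∨ x = a₁ + a₂ ∨ x = a₁ + a₃ ∨ x = a₂ + a₃ := by
    intro x hx hwx
    rcases t.cov x hx with h1 | h1 | h1 | h1 | h1 | h1 | h1 | h1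
    · exact Or.inl h1
    · rw [h1, t.w₁] at hwx; exact absurd hwx (by decide)
    · rw [h1, t.w₂] at hwx; exact absurd hwx (by decide)
    · rw [h1, t.w₃] at hwx; exact absurd hwx (by decide)
    · exact Or.inr (Or.inl h1)
    · exact Or.inr (Or.inr (Or.inl h1))
    · exact Or.inr (Or.inr (Or.inr h1))
    · rw [h1, t.uw h] at hwx; exact absurd hwx (by decide)
  have colsum : ∀ b, β u b = β a₁ b + β a₂ b + β a₃ b := fun b => by
    rw [← t.sum, h.addl, h.addl]
  have two : ∀ {a a' b b' : N}, b ∈ B w → b' ∈ B w → u + w = a + b → u + w = a' + b' → a + a' ∈ B w := by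
    intro a a' b b' hb hb' e e'
    have h1 : a + a' = b + b' := by
      apply h.cancel
      calc a + a' + (b + b') = (a + b) + (a' + b') := by abel
        _ = 0 := by rw [← e, ← e', h.two]
    rw [h1]; exact add_mem hb hb'
  -- a unit row and a row of ones cannot both occur
  have mixed : ∀ {a₁ a₂ a₃ : N}, Tri β (B u) u w a₁ a₂ a₃ → (∃ b ∈ B w, u + w = a₁ + b) →
      (β a₂ b₁ = 1 ∧ β a₂ b₂ = 1 ∧ β a₂ b₃ = 1) → False := by
    rintro a₁ a₂ a₃ t ⟨b, hb, e⟩ ⟨q₁, q₂, q₃⟩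
    have h1 : a₁ = u + w + b := by rw [e, add_assoc, h.two, add_zero]
    have h3 : ∀ y ∈ B w, β a₂ y = 1 → β b y = β b y := fun _ _ _ => rfl
    have h4 : β a₂ b = 0 := by
      have h5 := t.c₁₂
      rw [h1, h.addl, h.addl, h.perp u hu a₂ t.m₂, t.w₂, h.symm b a₂] at h5
      revert h5
      generalize β a₂ b = p
      revert p; decide
    have h6 : β b w = 0 := h.perp' hw hb
    have h7 : β u b = 1 := by
      have h5 := t.w₁
      rw [h1, h.addr, h.addr, h.alt, t.uw h, h.perp w hw b hb] at h5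
      have h8 : β u a₁ = 0 := h.perp u hu a₁ t.m₁
      rw [h1, h.addr, h.addr, h.alt, t'.uw h] at h8
      revert h8
      generalize β u b = p
      revert p; decide
    have t0 := t'.cov b hb
    have hz : (1 : ZMod 2) ≠ 0 := by decide
    rcases t0 with h8 | h8 | h8 | h8 | h8 | h8 | h8 | h8
    · rw [h8, h.zr] at h7; exact hz h7.symm
    · rw [h8, q₁] at h4; exact hz h4
    · rw [h8, q₂] at h4; exact hz h4
    · rw [h8, q₃] at h4; exact hz h4
    · rw [h8, h.addr, t'.w₁, t'.w₂] at h7; exact absurd h7 (by decide)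
    · rw [h8, h.addr, t'.w₁, t'.w₃] at h7; exact absurd h7 (by decide)
    · rw [h8, h.addr, t'.w₂, t'.w₃] at h7; exact absurd h7 (by decide)
    · rw [h8, ← t'.sum, h.addr, h.addr, q₁, q₂, q₃] at h4; exact absurd h4 (by decide)
  have tr := t.rot h
  have trr := tr.rot h
  rcases row t with r₁ | r₁
  · -- all rows are unit vectors
    have r₂ : ∃ b ∈ B w, u + w = a₂ + b := by
      rcases row tr with r₂ | r₂
      · exact r₂
      · exact (mixed t r₁ r₂).elim
    have r₃ : ∃ b ∈ B w, u + w = a₃ + b := by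
      rcases row trr with r₃ | r₃
      · exact r₃
      · exact (mixed tr r₂ r₃).elim
    obtain ⟨p₁, m₁, e₁⟩ := r₁
    obtain ⟨p₂, m₂, e₂⟩ := r₂
    obtain ⟨p₃, m₃, e₃⟩ := r₃
    left
    intro x hx hwx
    rcases cases x hx hwx with h1 | h1 | h1 | h1
    · rw [h1]; exact zero_mem _
    · rw [h1]; exact two m₁ m₂ e₁ e₂
    · rw [h1]; exact two m₁ m₃ e₁ e₃
    · rw [h1]; exact two m₂ m₃ e₂ e₃
  · have r₃ : β a₃ b₁ = 1 ∧ β a₃ b₂ = 1 ∧ β a₃ b₃ = 1 := by
      rcases row trr with r₃ | r₃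
      · exact (mixed trr r₃ r₁).elim
      · exact r₃
    have r₂ : β a₂ b₁ = 1 ∧ β a₂ b₂ = 1 ∧ β a₂ b₃ = 1 := by
      rcases row tr with r₂ | r₂
      · exact (mixed tr r₂ r₃).elim
      · exact r₂
    right
    have gen : ∀ {a a' : N}, (β a b₁ = 1 ∧ β a b₂ = 1 ∧ β a b₃ = 1) → (β a' b₁ = 1 ∧ β a' b₂ = 1 ∧ β a' b₃ = 1) →
        ∀ y ∈ B w, β (a + a') y = 0 := by
      rintro a a' ⟨p₁, p₂, p₃⟩ ⟨q₁, q₂, q₃⟩ y hy
      have k₁ : β (a + a') b₁ = 0 := by rw [h.addl, p₁, q₁]; decide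
      have k₂ : β (a + a') b₂ = 0 := by rw [h.addl, p₂, q₂]; decide
      have k₃ : β (a + a') b₃ = 0 := by rw [h.addl, p₃, q₃]; decide
      rcases t'.cov y hy with h6 | h6 | h6 | h6 | h6 | h6 | h6 | h6
      · rw [h6, h.zr]
      · rw [h6, k₁]
      · rw [h6, k₂]
      · rw [h6, k₃]
      · rw [h6, h.addr, k₁, k₂]; decide
      · rw [h6, h.addr, k₁, k₃]; decide
      · rw [h6, h.addr, k₂, k₃]; decide
      · rw [h6, ← t'.sum, h.addr, h.addr, k₁, k₂, k₃]; decide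
    intro x hx hwx
    rcases cases x hx hwx with h1 | h1 | h1 | h1
    · intro y _
      rw [h1, h.zl]
    · rw [h1]; exact gen r₁ r₂
    · rw [h1]; exact gen r₁ r₃
    · rw [h1]; exact gen r₂ r₃

end Cfsg.Agent.Cit.Nil.RTwoM.Blk
end

-- part: Cit/Nil/RTwoM/BlkChart
section
/-!
# `r = 2`, any `m`: charts (`χ = 1`)

A chart on a type `I` of points: `e i j` (= the pair `{i,j}`), `e i j + e j k = e i k`; four different points give
`e i j + e k l ∈ D`, `e i j ∈ B (e i j + e k l)`.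

* `Cht.trip` : the triple lemma; `Cht.step` : a linked `v ∈ D` is in the chart or there is a one-point extension datum
  `Ex`; `Cht.ext` : the extension to `Option I`.
-/

set_option autoImplicit false
set_option linter.unusedSimpArgs false
set_option linter.unusedVariables false

namespace Cfsg.Agent.Cit.Nil.RTwoM.Blk

variable {N : Type*} [AddCommGroup N] {D : Set N} {β : N → N → ZMod 2} {B : N → AddSubgroup N}
  {a a' b c d u v w x y z : N}

/-- `δ_ij` -/
def dl {I : Type*} [DecidableEq I] (i j : I) : ZMod 2 := if i = j then 1 else 0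

section dl

variable {I : Type*} [DecidableEq I] {i j : I}

@[simp] theorem dl_self (i : I) : dl i i = 1 := if_pos rfl

theorem dl_ne (h : i ≠ j) : dl i j = 0 := if_neg h

theorem dl_comm (i j : I) : dl i j = dl j i := by
  by_cases h : i = j
  · rw [h]
  · rw [dl_ne h, dl_ne (Ne.symm h)]

end dl

/-- four different points -/
structure Dst {I : Type*} (i j k l : I) : Prop where
  ij : i ≠ j
  ik : i ≠ k
  il : i ≠ l
  jk : j ≠ k
  jl : j ≠ l
  kl : k ≠ l

/-- **chart** -/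
structure Cht (D : Set N) (β : N → N → ZMod 2) (B : N → AddSubgroup N) {I : Type*} [DecidableEq I] (e : I → I → N) :
    Prop where
  add : ∀ i j k, e i j + e j k = e i k
  form : ∀ i j k l, β (e i j) (e k l) = dl i k + dl i l + dl j k + dl j l
  mem : ∀ i j k l, Dst i j k l → e i j + e k l ∈ D
  inB : ∀ i j k l, Dst i j k l → e i j ∈ B (e i j + e k l)

/-- `v` is in the chart -/
def InC {I : Type*} (e : I → I → N) (v : N) : Prop := ∃ i j k l, Dst i j k l ∧ v = e i j + e k l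

/-- one-point extension datum -/
structure Ex (D : Set N) (β : N → N → ZMod 2) (B : N → AddSubgroup N) {I : Type*} [DecidableEq I] (e : I → I → N)
    (v : N) (p q r : I) : Prop where
  mem : v ∈ D
  pq : p ≠ q
  pr : p ≠ r
  qr : q ≠ r
  form : ∀ i j, β v (e i j) = (dl i p + dl i q + dl i r) + (dl j p + dl j q + dl j r)
  inq : e p q ∈ B v
  inr : e p r ∈ B v

namespace Cht

variable {I : Type*} [DecidableEq I] {e : I → I → N} {i j k l p q r : I}

theorem self (c : Cht D β B e) (i : I) : e i i = 0 := by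
  have h1 := c.add i i i
  exact left_eq_add.1 h1.symm

theorem sy (c : Cht D β B e) (h : One D β B) (i j : I) : e i j = e j i := by
  apply h.cancel
  rw [c.add, c.self]

theorem add' (c : Cht D β B e) (h : One D β B) (i j k : I) : e i j + e i k = e j k := by
  rw [c.sy h i j, c.add]

theorem q₁ (c : Cht D β B e) (h : One D β B) (i j k l : I) : e i j + e k l = e i k + e j l := by
  apply h.cancel
  calc e i j + e k l + (e i k + e j l) = (e i j + e i k) + (e k l + e j l) := by abel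
    _ = e j k + (e l k + e l j) := by rw [c.add' h, c.sy h k l, c.sy h j l]
    _ = 0 := by rw [c.add' h, c.sy h k j, h.two]

theorem q₂ (c : Cht D β B e) (h : One D β B) (i j k l : I) : e i j + e k l = e i l + e j k := by
  rw [c.sy h k l, c.q₁ h i j l k]

/-- all pairs are in `B` -/
theorem inB₂ (c : Cht D β B e) (h : One D β B) (hd : Dst i j k l) : e i k ∈ B (e i j + e k l) := by
  rw [c.q₁ h]
  exact c.inB i k j l ⟨hd.ik, hd.ij, hd.il, hd.jk.symm, hd.kl, hd.jl⟩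

theorem inB₃ (c : Cht D β B e) (h : One D β B) (hd : Dst i j k l) : e i l ∈ B (e i j + e k l) := by
  rw [c.q₂ h]
  exact c.inB i l j k ⟨hd.il, hd.ij, hd.ik, hd.jl.symm, hd.kl.symm, hd.jk⟩

theorem comp (c : Cht D β B e) {J : Type*} [DecidableEq J] (f : J → I) (hf : Function.Injective f) :
    Cht D β B fun i j => e (f i) (f j) where
  add i j k := c.add _ _ _
  form i j k l := by
    have h1 : ∀ i j : J, dl (f i) (f j) = dl i j := by
      intro i j
      by_cases h : i = j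
      · rw [h, dl_self, dl_self]
      · rw [dl_ne h, dl_ne fun h' => h (hf h')]
    rw [c.form, h1, h1, h1, h1]
  mem i j k l hd := c.mem _ _ _ _ ⟨fun h => hd.ij (hf h), fun h => hd.ik (hf h), fun h => hd.il (hf h),
    fun h => hd.jk (hf h), fun h => hd.jl (hf h), fun h => hd.kl (hf h)⟩
  inB i j k l hd := c.inB _ _ _ _ ⟨fun h => hd.ij (hf h), fun h => hd.ik (hf h), fun h => hd.il (hf h),
    fun h => hd.jk (hf h), fun h => hd.jl (hf h), fun h => hd.kl (hf h)⟩

/-- **triple lemma** -/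
theorem trip (c : Cht D β B e) (h : One D β B) (hv : v ∈ D) (hd : Dst p q r i) (h1 : β v (e p q) = 0)
    (h2 : β v (e p r) = 0) (h3 : β v (e p i) = 1) :
    (e p q ∈ B v ∧ e p r ∈ B v) ∨ ∀ y ∈ B v, β (e p q) y = 0 ∧ β (e p r) y = 0 := by
  have hu := c.mem p q r i hd
  have m1 := c.inB p q r i hd
  have m2 := c.inB₂ h hd
  have huv : β (e p q + e r i) v = 1 := by
    rw [h.symm, h.addr, h1, zero_add, ← c.add' h p r i, h.addr, h2, h3, zero_add]
  rcases h.pat hu hv huv with h4 | h4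
  · exact Or.inl ⟨h4 _ m1 h1, h4 _ m2 h2⟩
  · exact Or.inr fun y hy => ⟨h4 _ m1 h1 y hy, h4 _ m2 h2 y hy⟩

/-- type P -/
theorem caseP (c : Cht D β B e) (h : One D β B) (hv : v ∈ D) (hd : Dst p q r i) (h1 : β v (e p q) = 0)
    (h2 : β v (e p r) = 0) (h3 : β v (e p i) = 1) (m1 : e p q ∈ B v) (m2 : e p r ∈ B v) :
    InC e v ∨ Ex D β B e v p q r := by
  by_cases h4 : ∃ k, k ≠ p ∧ k ≠ q ∧ k ≠ r ∧ β v (e p k) = 0
  · obtain ⟨k, kp, kq, kr, h4⟩ := h4
    left
    have hik : i ≠ k := by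
      rintro rfl; rw [h3] at h4; exact absurd h4 (by decide)
    have f1 : β (e p q) (e p r) = 1 := by
      rw [c.form, dl_self, dl_ne hd.ik, dl_ne hd.ij.symm, dl_ne hd.jk]; decide
    have m3 : e p k ∈ B v := by
      rcases c.trip h hv ⟨hd.ij, kp.symm, hd.il, kq.symm, hd.jl, hik.symm⟩ h1 h4 h3 with h5 | h5
      · exact h5.2
      · exfalso
        have := (h5 _ m2).1
        rw [f1] at this
        exact absurd this (by decide)
    have f2 : β (e p k) (e p q) = 1 := by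
      rw [c.form, dl_self, dl_ne hd.ij, dl_ne kp, dl_ne kq]; decide
    have f3 : β (e p k) (e p r) = 1 := by
      rw [c.form, dl_self, dl_ne hd.ik, dl_ne kp, dl_ne kr]; decide
    have h6 := h.cov hv m1 m2 f1 m3
    rw [f2, f3] at h6
    simp only [sm_one] at h6
    rw [c.add' h] at h6
    rcases h6 with h6 | h6
    · exfalso
      have g1 : β (e p k) (e k i) = 1 := by
        rw [c.form, dl_ne kp.symm, dl_ne hd.il, dl_self, dl_ne hik.symm]; decide
      have g2 : β (e q r) (e k i) = 0 := by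
        rw [c.form, dl_ne kq.symm, dl_ne hd.jl, dl_ne kr.symm, dl_ne hd.kl]; decide
      rw [h6, g2] at g1
      exact absurd g1 (by decide)
    · refine ⟨p, k, q, r, ⟨kp.symm, hd.ij, hd.ik, kq, kr, hd.jk⟩, ?_⟩
      rw [h6, show e q r + v + e q r = e q r + e q r + v by abel, h.two, zero_add]
  · push Not at h4
    right
    have h5 : ∀ i, β v (e p i) = 1 + (dl i p + dl i q + dl i r) := by
      intro i
      by_cases e1 : i = p
      · rw [e1, c.self, h.zr, dl_self, dl_ne hd.ij, dl_ne hd.ik]; decide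
      by_cases e2 : i = q
      · rw [e2, h1, dl_self, dl_ne hd.ij.symm, dl_ne hd.jk]; decide
      by_cases e3 : i = r
      · rw [e3, h2, dl_self, dl_ne hd.ik.symm, dl_ne hd.jk.symm]; decide
      rw [dl_ne e1, dl_ne e2, dl_ne e3]
      rcases z2 (β v (e p i)) with h6 | h6
      · exact absurd h6 (h4 i e1 e2 e3)
      · rw [h6]; decide
    refine ⟨hv, hd.ij, hd.ik, hd.jk, fun i j => ?_, m1, m2⟩
    rw [← c.add' h p i j, h.addr, h5, h5]
    have key : ∀ s t : ZMod 2, 1 + s + (1 + t) = s + t := by decide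
    exact key _ _

/-- the extension datum `τ + c` -/
theorem mkEx (c : Cht D β B e) (h : One D β B) (hv : v ∈ D) (hd : Dst p q r i) {x : N} (hx : x ∈ B v) (x0 : x ≠ 0)
    (xv : x ≠ v) (hf : ∀ j k, β x (e j k) = dl j i + dl k i) (h1 : β v (e p q) = 0) (h2 : β v (e p r) = 0)
    (h3 : β v (e p i) = 1) : Ex D β B e (e p i + e q r + x) p q r := by
  have hd' : Dst p i q r := ⟨hd.il, hd.ij, hd.ik, hd.jl.symm, hd.kl.symm, hd.jk⟩
  have hτ := c.mem p i q r hd'
  have h4 : β (e p i + e q r) v = 1 := by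
    rw [h.symm, h.addr, h3, ← c.add' h p q r, h.addr, h1, h2]; decide
  have h5 : β (e p i + e q r) x = 1 := by
    rw [h.symm, h.addr, hf, hf, dl_self, dl_ne hd.il, dl_ne hd.jl, dl_ne hd.kl]; decide
  have h6 : sg β 1 v x (e p i + e q r) = e p i + e q r + x := by
    rw [sg, h4, h5]
    simp only [sm_one]
    calc e p i + e q r + (x + v) + v = e p i + e q r + x + (v + v) := by abel
      _ = _ := by rw [h.two, add_zero]
  have h7 : ∀ y ∈ B (e p i + e q r), β y v = 0 → β y x = 0 → y ∈ B (e p i + e q r + x) := by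
    intro y hy e1 e2
    have h8 := h.actB v hv x hx x0 xv _ hτ y hy
    rw [h6, sg, e1, e2] at h8
    simpa using h8
  refine ⟨?_, hd.ij, hd.ik, hd.jk, fun j k => ?_, ?_, ?_⟩
  · rw [← h6]; exact h.act v hv x hx x0 xv _ hτ
  · rw [h.addl, h.addl, c.form, c.form, hf, dl_comm p j, dl_comm p k, dl_comm i j, dl_comm i k, dl_comm q j, dl_comm q k,
      dl_comm r j, dl_comm r k]
    generalize dl j p = t1, dl k p = t2, dl j i = t3, dl k i = t4, dl j q = t5, dl k q = t6, dl j r = t7, dl k r = t8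
    have key : ∀ t3 t4 : ZMod 2, t3 + t3 = 0 ∧ t4 + t4 = 0 := by decide
    calc t1 + t2 + t3 + t4 + (t5 + t6 + t7 + t8) + (t3 + t4)
        = (t1 + t5 + t7) + (t2 + t6 + t8) + (t3 + t3) + (t4 + t4) := by ring
      _ = _ := by rw [(key t3 t4).1, (key t3 t4).2, add_zero, add_zero]
  · apply h7 _ (c.inB₂ h hd')
    · rw [h.symm]; exact h1
    · rw [h.symm, hf, dl_ne hd.il, dl_ne hd.jl]; decide
  · apply h7 _ (c.inB₃ h hd')
    · rw [h.symm]; exact h2
    · rw [h.symm, hf, dl_ne hd.il, dl_ne hd.kl]; decide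

/-- the main step, three points in one part -/
theorem step₁ (c : Cht D β B e) (h : One D β B) (hv : v ∈ D) (hd : Dst p q r i) (h1 : β v (e p q) = 0)
    (h2 : β v (e p r) = 0) (h3 : β v (e p i) = 1) :
    InC e v ∨ ∃ v₁ p q r, Ex D β B e v₁ p q r := by
  have wrap : ∀ {p q r : I}, (InC e v ∨ Ex D β B e v p q r) → (InC e v ∨ ∃ v₁ p q r, Ex D β B e v₁ p q r) :=
    fun h4 => h4.imp id fun h5 => ⟨v, _, _, _, h5⟩
  rcases c.trip h hv hd h1 h2 h3 with ⟨m1, m2⟩ | hJ
  · exact wrap (c.caseP h hv hd h1 h2 h3 m1 m2)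
  -- the part of `p` is dead
  have dead : ∀ k, β v (e p k) = 0 → ∀ y ∈ B v, β (e p k) y = 0 := by
    intro k hk y hy
    by_cases kp : k = p
    · rw [kp, c.self, h.zl]
    by_cases kq : k = q
    · rw [kq]; exact (hJ y hy).1
    have ik : k ≠ i := by
      rintro rfl; rw [h3] at hk; exact absurd hk (by decide)
    rcases c.trip h hv ⟨hd.ij, Ne.symm kp, hd.il, Ne.symm kq, hd.jl, ik⟩ h1 hk h3 with h5 | h5
    · exfalso
      have h6 := (hJ _ h5.2).1
      rw [c.form, dl_self, dl_ne (Ne.symm kp), dl_ne hd.ij.symm, dl_ne (Ne.symm kq)] at h6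
      exact absurd h6 (by decide)
    · exact (h5 y hy).2
  have hvv := h.mem v hv
  by_cases h4 : ∃ k, k ≠ i ∧ β v (e p k) = 1
  · obtain ⟨k, ki, hk⟩ := h4
    have kp : k ≠ p := by
      rintro rfl; rw [c.self, h.zr] at hk; exact absurd hk (by decide)
    have kq : k ≠ q := by
      rintro rfl; rw [h1] at hk; exact absurd hk (by decide)
    have kr : k ≠ r := by
      rintro rfl; rw [h2] at hk; exact absurd hk (by decide)
    have hik : β v (e i k) = 0 := by
      rw [← c.add' h p i k, h.addr, h3, hk]; decide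
    have hip : β v (e i p) = 1 := by rw [c.sy h]; exact h3
    -- live
    have hd2 : Dst i k p q := ⟨ki.symm, hd.il.symm, hd.jl.symm, kp, kq, hd.ij⟩
    by_cases hin : v = e i k + e p q
    · exact Or.inl ⟨i, k, p, q, hd2, hin⟩
    have live : ∃ y ∈ B v, β (e i k) y = 1 := by
      by_contra hno
      push Not at hno
      have h5 : ∀ y ∈ B v, β (e i k + e p q) y = 0 := by
        intro y hy
        rw [h.addl, dead q h1 y hy, add_zero]
        exact (z2 _).resolve_right (hno y hy)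
      have h6 := h.sym _ (c.mem i k p q hd2) v hv (fun h7 => hin h7.symm) h5 _ (c.inB₂ h hd2) v hvv
      rw [h.symm, hip] at h6
      exact absurd h6 (by decide)
    by_cases h5 : ∃ l, l ≠ i ∧ l ≠ k ∧ β v (e p l) = 1
    · obtain ⟨l, li, lk, hl⟩ := h5
      have lp : l ≠ p := by
        rintro rfl; rw [c.self, h.zr] at hl; exact absurd hl (by decide)
      have hil : β v (e i l) = 0 := by
        rw [← c.add' h p i l, h.addr, h3, hl]; decide
      have hd3 : Dst i k l p := ⟨ki.symm, li.symm, hd.il.symm, lk.symm, kp, lp⟩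
      rcases c.trip h hv hd3 hik hil hip with ⟨m1, m2⟩ | h6
      · exact wrap (c.caseP h hv hd3 hik hil hip m1 m2)
      · obtain ⟨y, hy, h7⟩ := live
        rw [(h6 y hy).1] at h7
        exact absurd h7 (by decide)
    · push Not at h5
      -- the part of `i` is `{i, k}`
      obtain ⟨y, hy, h7⟩ := live
      have key : ∃ x ∈ B v, β (e p i) x = 1 ∧ β (e p k) x = 0 := by
        have h8 : β (e p i) y + β (e p k) y = 1 := by
          rw [← h.addl, c.add' h]; exact h7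
        rcases z2 (β (e p i) y) with h9 | h9 <;> rcases z2 (β (e p k) y) with h10 | h10 <;> rw [h9, h10] at h8
        · exact absurd h8 (by decide)
        · refine ⟨y + v, add_mem hy hvv, ?_, ?_⟩
          · rw [h.addr, h9, h.symm _ v, h3, zero_add]
          · rw [h.addr, h10, h.symm _ v, hk]; decide
        · exact ⟨y, hy, h9, h10⟩
        · exact absurd h8 (by decide)
      obtain ⟨x, hx, hx1, hx2⟩ := key
      right
      refine ⟨_, p, q, r, c.mkEx h hv hd hx ?_ ?_ ?_ h1 h2 h3⟩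
      · rintro rfl; rw [h.zr] at hx1; exact absurd hx1 (by decide)
      · rintro rfl; rw [h.symm, hk] at hx2; exact absurd hx2 (by decide)
      · have h8 : ∀ j, β x (e p j) = dl j i := by
          intro j
          by_cases ji : j = i
          · rw [ji, dl_self, h.symm]; exact hx1
          rw [dl_ne ji]
          by_cases jk : j = k
          · rw [jk, h.symm]; exact hx2
          rcases z2 (β v (e p j)) with h9 | h9
          · rw [h.symm]; exact dead j h9 x hx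
          · exact absurd h9 (h5 j ji jk)
        intro j k
        rw [← c.add' h p j k, h.addr, h8, h8]
  · push Not at h4
    -- the part of `i` is `{i}`
    obtain ⟨x, hx, hx1, hx2⟩ : ∃ x ∈ B v, β (e p i) x = 1 ∧ x ≠ v := by
      obtain ⟨a, ha, a', ha', haa⟩ := h.bas v hv
      have hat : ∀ a ∈ B v, a ≠ v → a ≠ 0 → ∃ x ∈ B v, β (e p i) x = 1 ∧ x ≠ v := by
        intro a ha av a0
        rcases z2 (β (e p i) a) with h9 | h9
        · refine ⟨a + v, add_mem ha hvv, ?_, fun h10 => a0 ?_⟩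
          · rw [h.addr, h9, h.symm _ v, h3, zero_add]
          · exact add_eq_right.1 h10
        · exact ⟨a, ha, h9, av⟩
      refine hat a ha ?_ ?_
      · rintro rfl; rw [h.perp _ hv a' ha'] at haa; exact absurd haa (by decide)
      · rintro rfl; rw [h.zl] at haa; exact absurd haa (by decide)
    right
    refine ⟨_, p, q, r, c.mkEx h hv hd hx ?_ hx2 ?_ h1 h2 h3⟩
    · rintro rfl; rw [h.zr] at hx1; exact absurd hx1 (by decide)
    · have h8 : ∀ j, β x (e p j) = dl j i := by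
        intro j
        by_cases ji : j = i
        · rw [ji, dl_self, h.symm]; exact hx1
        rw [dl_ne ji]
        rcases z2 (β v (e p j)) with h9 | h9
        · rw [h.symm]; exact dead j h9 x hx
        · exact absurd h9 (h4 j ji)
      intro j k
      rw [← c.add' h p j k, h.addr, h8, h8]

/-- **the main step** -/
theorem step (c : Cht D β B e) (h : One D β B) [Fintype I] (hI : 5 ≤ Fintype.card I) (hv : v ∈ D)
    (hl : ∃ i j, β v (e i j) ≠ 0) : InC e v ∨ ∃ v₁ p q r, Ex D β B e v₁ p q r := by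
  obtain ⟨i₀, j₀, hl⟩ := hl
  have hl1 : β v (e i₀ j₀) = 1 := (z2 _).resolve_left hl
  -- the parts of `i₀` and of `j₀`
  have hcard : (Finset.univ.filter fun k => β v (e i₀ k) = 0).card +
      (Finset.univ.filter fun k => ¬ β v (e i₀ k) = 0).card = Fintype.card I :=
    Finset.card_filter_add_card_filter_not _
  have main : ∀ {i₀ j₀ : I}, β v (e i₀ j₀) = 1 → 3 ≤ (Finset.univ.filter fun k => β v (e i₀ k) = 0).card →
      InC e v ∨ ∃ v₁ p q r, Ex D β B e v₁ p q r := by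
    intro i₀ j₀ hl1 h3
    have hm : i₀ ∈ (Finset.univ.filter fun k => β v (e i₀ k) = 0) := by
      rw [Finset.mem_filter]; exact ⟨Finset.mem_univ _, by rw [c.self, h.zr]⟩
    have h4 : 1 < ((Finset.univ.filter fun k => β v (e i₀ k) = 0).erase i₀).card := by
      rw [Finset.card_erase_of_mem hm]; omega
    obtain ⟨q, hq, r, hr, hqr⟩ := Finset.one_lt_card.1 h4
    rw [Finset.mem_erase, Finset.mem_filter] at hq hr
    refine c.step₁ h hv (p := i₀) (q := q) (r := r) (i := j₀) ⟨hq.1.symm, hr.1.symm, ?_, hqr, ?_, ?_⟩ hq.2.2 hr.2.2 hl1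
    · rintro rfl; rw [c.self, h.zr] at hl1; exact absurd hl1 (by decide)
    · rintro rfl; rw [hq.2.2] at hl1; exact absurd hl1 (by decide)
    · rintro rfl; rw [hr.2.2] at hl1; exact absurd hl1 (by decide)
  by_cases h3 : 3 ≤ (Finset.univ.filter fun k => β v (e i₀ k) = 0).card
  · exact main hl1 h3
  · refine main (i₀ := j₀) (j₀ := i₀) (by rw [c.sy h]; exact hl1) ?_
    have h4 : (Finset.univ.filter fun k => ¬ β v (e i₀ k) = 0) = (Finset.univ.filter fun k => β v (e j₀ k) = 0) := by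
      ext k
      rw [Finset.mem_filter, Finset.mem_filter]
      have h5 : β v (e j₀ k) = 1 + β v (e i₀ k) := by
        rw [← c.add' h i₀ j₀ k, h.addr, hl1]
      rw [h5]
      generalize β v (e i₀ k) = t
      have key : ∀ t : ZMod 2, (¬ t = 0) ↔ 1 + t = 0 := by decide
      rw [key]
    rw [h4] at hcard
    omega

end Cht

end Cfsg.Agent.Cit.Nil.RTwoM.Blk
end

-- part: Cit/Nil/RTwoM/BlkMain
section
/-!
# `r = 2`, any `m`: the block theorem (`χ = 1`)

* `Ex.ext` : extension of a chart by one point; `Ex.start` : the chart with five points;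
* `exists_block` : every `u ∈ D` lies in a maximal chart on `Fin n`, `n ≥ 5`; every `v ∈ D` is in the chart or C to it;
* `Cht.inj` : different four-sets give different elements.
-/

set_option autoImplicit false
set_option linter.unusedSimpArgs false
set_option linter.unusedVariables false

namespace Cfsg.Agent.Cit.Nil.RTwoM.Blk

variable {N : Type*} [AddCommGroup N] {D : Set N} {β : N → N → ZMod 2} {B : N → AddSubgroup N}
  {a a' b c d u v w x y z : N}

/-- symmetric predicates on triples which allow the exchange of one element -/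
theorem triple_all {I : Type*} {P : I → I → I → Prop} (s₁ : ∀ a b c, P a b c → P b a c)
    (s₂ : ∀ a b c, P a b c → P a c b) (rep : ∀ a b c d, Dst a b c d → P a b c → P d b c) {p q r : I} (pq : p ≠ q)
    (pr : p ≠ r) (qr : q ≠ r) (h : P p q r) {a b c : I} (ab : a ≠ b) (ac : a ≠ c) (bc : b ≠ c) : P a b c := by
  -- first element
  obtain ⟨q, r, aq, ar, qr, h⟩ : ∃ q r, a ≠ q ∧ a ≠ r ∧ q ≠ r ∧ P a q r := by
    by_cases e1 : a = p
    · subst e1; exact ⟨q, r, pq, pr, qr, h⟩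
    by_cases e2 : a = q
    · subst e2; exact ⟨p, r, e1, qr, pr, s₁ _ _ _ h⟩
    by_cases e3 : a = r
    · subst e3; exact ⟨p, q, e1, e2, pq, s₁ _ _ _ (s₂ _ _ _ h)⟩
    exact ⟨q, r, e2, e3, qr, rep p q r a ⟨pq, pr, Ne.symm e1, qr, Ne.symm e2, Ne.symm e3⟩ h⟩
  -- second element
  obtain ⟨r, ar, br, h⟩ : ∃ r, a ≠ r ∧ b ≠ r ∧ P a b r := by
    by_cases e2 : b = q
    · subst e2; exact ⟨r, ar, qr, h⟩
    by_cases e3 : b = r
    · subst e3; exact ⟨q, aq, e2, s₂ _ _ _ h⟩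
    exact ⟨r, ar, e3, s₁ _ _ _ (rep q a r b ⟨aq.symm, qr, Ne.symm e2, ar, ab, Ne.symm e3⟩ (s₁ _ _ _ h))⟩
  -- third element
  by_cases e3 : c = r
  · rw [e3]; exact h
  · have h1 := rep r a b c ⟨ar.symm, br.symm, Ne.symm e3, ab, ac, bc⟩ (s₁ _ _ _ (s₂ _ _ _ h))
    exact s₂ _ _ _ (s₁ _ _ _ h1)

section Ext

variable {I : Type*} [DecidableEq I] {e : I → I → N} {i j k l p q r : I}

/-- the pairs `{∞, j}` -/
def fInf (e : I → I → N) (v : N) (p q r : I) (j : I) : N := v + e q r + e p j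

/-- the extended chart -/
def eInf (e : I → I → N) (v : N) (p q r : I) : Option I → Option I → N
  | none, none => 0
  | none, some j => fInf e v p q r j
  | some i, none => fInf e v p q r i
  | some i, some j => e i j

theorem Ex.f_add (X : Ex D β B e v p q r) (c : Cht D β B e) (h : One D β B) (i j : I) :
    fInf e v p q r i + fInf e v p q r j = e i j := by
  unfold fInf
  calc v + e q r + e p i + (v + e q r + e p j) = (v + v) + (e q r + e q r) + (e p i + e p j) := by abel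
    _ = _ := by rw [h.two, h.two, c.add' h, zero_add, zero_add]

theorem Ex.f_add' (X : Ex D β B e v p q r) (c : Cht D β B e) (h : One D β B) (i j : I) :
    fInf e v p q r i + e i j = fInf e v p q r j := by
  rw [← X.f_add c h i j, h.addc]

theorem Ex.f_form (X : Ex D β B e v p q r) (c : Cht D β B e) (h : One D β B) (j k l : I) :
    β (fInf e v p q r j) (e k l) = dl j k + dl j l := by
  unfold fInf
  rw [h.addl, h.addl, X.form, c.form, c.form, dl_comm q k, dl_comm q l, dl_comm r k, dl_comm r l, dl_comm p k,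
    dl_comm p l]
  generalize dl k p = t1, dl l p = t2, dl k q = t3, dl l q = t4, dl k r = t5, dl l r = t6, dl j k = t7, dl j l = t8
  have key : ∀ t : ZMod 2, t + t = 0 := by decide
  calc t1 + t3 + t5 + (t2 + t4 + t6) + (t3 + t4 + t5 + t6) + (t1 + t2 + t7 + t8)
      = (t1 + t1) + (t2 + t2) + (t3 + t3) + (t4 + t4) + (t5 + t5) + (t6 + t6) + (t7 + t8) := by ring
    _ = _ := by simp only [key, zero_add]

theorem Ex.f_form' (X : Ex D β B e v p q r) (c : Cht D β B e) (h : One D β B) (j k : I) :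
    β (fInf e v p q r j) (fInf e v p q r k) = 1 + dl j k := by
  have h1 : fInf e v p q r k = fInf e v p q r j + e j k := (X.f_add' c h j k).symm
  conv_lhs => rw [h1]
  rw [h.addr, h.alt, X.f_form c h, dl_self, zero_add]

/-- the four-set `{∞, j, k, l}` -/
def Gd (D : Set N) (B : N → AddSubgroup N) (e : I → I → N) (f : I → N) (j k l : I) : Prop :=
  f j + e k l ∈ D ∧ e k l ∈ B (f j + e k l) ∧ e j k ∈ B (f j + e k l)

theorem Ex.gd_s₁ (X : Ex D β B e v p q r) (c : Cht D β B e) (h : One D β B) (j k l : I)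
    (hg : Gd D B e (fInf e v p q r) j k l) : Gd D B e (fInf e v p q r) k j l := by
  have h1 : fInf e v p q r k + e j l = fInf e v p q r j + e k l := by
    rw [← X.f_add' c h j k, add_assoc, ← c.add' h k j l, c.sy h k j, h.addc]
  unfold Gd
  rw [h1]
  refine ⟨hg.1, ?_, ?_⟩
  · rw [← c.add j k l]; exact add_mem hg.2.2 hg.2.1
  · rw [c.sy h k j]; exact hg.2.2

theorem Ex.gd_s₂ (X : Ex D β B e v p q r) (c : Cht D β B e) (h : One D β B) (j k l : I)
    (hg : Gd D B e (fInf e v p q r) j k l) : Gd D B e (fInf e v p q r) j l k := by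
  unfold Gd
  rw [c.sy h l k]
  refine ⟨hg.1, hg.2.1, ?_⟩
  rw [← c.add j k l]; exact add_mem hg.2.2 hg.2.1

theorem Ex.gd_base (X : Ex D β B e v p q r) (c : Cht D β B e) (h : One D β B) :
    Gd D B e (fInf e v p q r) p q r := by
  have h1 : fInf e v p q r p + e q r = v := by
    unfold fInf
    rw [c.self, add_zero, add_assoc, h.two, add_zero]
  unfold Gd
  rw [h1]
  refine ⟨X.mem, ?_, X.inq⟩
  rw [← c.add' h p q r]; exact add_mem X.inq X.inr

theorem Ex.gd_rep (X : Ex D β B e v p q r) (c : Cht D β B e) (h : One D β B) (i j k l : I) (hd : Dst i j k l)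
    (hg : Gd D B e (fInf e v p q r) i j k) : Gd D B e (fInf e v p q r) l j k := by
  set f := fInf e v p q r with hf
  have hd' : Dst i l j k := ⟨hd.il, hd.ij, hd.ik, hd.jl.symm, hd.kl.symm, hd.jk⟩
  have hu := c.mem i l j k hd'
  have hx := c.inB i l j k hd'
  have x0 : e i l ≠ 0 := by
    intro h0
    have h1 := c.form i l i j
    rw [h0, h.zl, dl_self, dl_ne hd.ij, dl_ne hd.il.symm, dl_ne hd.jl.symm] at h1
    exact absurd h1 (by decide)
  have xu : e i l ≠ e i l + e j k := by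
    intro h0
    have h2 : e j k = 0 := left_eq_add.1 h0
    have h1 := c.form j k i j
    rw [h2, h.zl, dl_ne hd.ij.symm, dl_self, dl_ne hd.ik.symm, dl_ne hd.jk.symm] at h1
    exact absurd h1 (by decide)
  have g1 : β (f i + e j k) (e i l) = 1 := by
    rw [h.addl, X.f_form c h, c.form, dl_self, dl_ne hd.il, dl_ne hd.ij.symm, dl_ne hd.jl, dl_ne hd.ik.symm,
      dl_ne hd.kl]
    decide
  have g2 : β (f i + e j k) (e i l + e j k) = 1 := by
    rw [h.addr, g1, h.addl, X.f_form c h, h.alt, dl_ne hd.ij, dl_ne hd.ik]; decide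
  have h1 : sg β 1 (e i l + e j k) (e i l) (f i + e j k) = f l + e j k := by
    rw [sg, g1, g2]
    simp only [sm_one]
    have hfl : f i + e i l = f l := X.f_add' c h i l
    rw [← hfl]
    calc f i + e j k + (e i l + (e i l + e j k)) + (e i l + e j k)
        = f i + e i l + e j k + ((e i l + e i l) + (e j k + e j k)) := by abel
      _ = _ := by rw [h.two, h.two, add_zero, add_zero]
  have hact := h.actB _ hu _ hx x0 xu _ hg.1
  rw [h1] at hact
  have b1 : e j k ∈ B (f l + e j k) := by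
    have h2 := hact _ hg.2.1
    have g3 : β (e j k) (e i l) = 0 := by
      rw [c.form, dl_ne hd.ij.symm, dl_ne hd.jl, dl_ne hd.ik.symm, dl_ne hd.kl]; decide
    rw [sg, h.addr, g3, h.alt] at h2
    simpa using h2
  have b2 : e k l ∈ B (f l + e j k) := by
    have h2 := hact _ hg.2.2
    have g3 : β (e i j) (e i l) = 1 := by
      rw [c.form, dl_self, dl_ne hd.il, dl_ne hd.ij.symm, dl_ne hd.jl]; decide
    have g4 : β (e i j) (e i l + e j k) = 0 := by
      rw [h.addr, g3, c.form, dl_ne hd.ij, dl_ne hd.ik, dl_self, dl_ne hd.jk]; decide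
    rw [sg, g3, g4] at h2
    simp only [sm_one, sm_zero, add_zero] at h2
    have h3 : e i j + (e i l + e j k) = e k l := by
      rw [add_comm (e i l), ← add_assoc, c.add, c.add' h]
    rwa [h3] at h2
  refine ⟨?_, b1, ?_⟩
  · rw [← h1]; exact h.act _ hu _ hx x0 xu _ hg.1
  · rw [← c.add l k j, c.sy h l k, c.sy h k j]; exact add_mem b2 b1

/-- the chart on `Option I` -/
theorem Ex.ext (X : Ex D β B e v p q r) (c : Cht D β B e) (h : One D β B) : Cht D β B (eInf e v p q r) := by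
  set f := fInf e v p q r with hf
  have good : ∀ {j k l : I}, j ≠ k → j ≠ l → k ≠ l → Gd D B e f j k l := fun jk jl kl =>
    triple_all (X.gd_s₁ c h) (X.gd_s₂ c h) (fun i j k l => X.gd_rep c h i j k l) X.pq X.pr X.qr (X.gd_base c h) jk jl kl
  have s1 : ∀ i : I, dl (some i) (none : Option I) = 0 := fun i => dl_ne (by simp)
  have s2 : ∀ i : I, dl (none : Option I) (some i) = 0 := fun i => dl_ne (by simp)
  have s3 : ∀ i j : I, dl (some i) (some j) = dl i j := by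
    intro i j
    by_cases hij : i = j
    · rw [hij, dl_self, dl_self]
    · rw [dl_ne hij, dl_ne fun h' => hij (Option.some_injective _ h')]
  have ne : ∀ {i j : I}, some i ≠ some j → i ≠ j := fun h1 h2 => h1 (by rw [h2])
  have g0 : ∀ {j k l : I}, j ≠ k → j ≠ l → k ≠ l → f j ∈ B (f j + e k l) := by
    intro j k l jk jl kl
    have h1 := good jk jl kl
    have h2 := add_mem (h.mem _ h1.1) h1.2.1
    rwa [add_assoc, h.two, add_zero] at h2
  refine ⟨?_, ?_, ?_, ?_⟩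
  · rintro (_ | i) (_ | j) (_ | k) <;> simp only [eInf]
    · exact zero_add _
    · exact zero_add _
    · exact h.two _
    · exact X.f_add' c h j k
    · exact add_zero _
    · exact X.f_add c h i k
    · rw [add_comm, c.sy h]; exact X.f_add' c h j i
    · exact c.add i j k
  · have t1 : ∀ x y : ZMod 2, 0 = x + y + x + y := by decide
    have t2 : ∀ x y : ZMod 2, 0 = x + x + y + y := by decide
    have fs : ∀ j k l, β (e k l) (f j) = dl j k + dl j l := fun j k l => by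
      rw [h.symm]; exact X.f_form c h j k l
    rintro (_ | i) (_ | j) (_ | k) (_ | l) <;> simp only [eInf, s1, s2, s3, dl_self]
    · rw [h.zl]; decide
    · rw [h.zl]; decide
    · rw [h.zl]; decide
    · rw [h.zl]; decide
    · rw [h.zr]; decide
    · rw [X.f_form' c h]; ring
    · rw [X.f_form' c h]; ring
    · rw [X.f_form c h]; ring
    · rw [h.zr]; decide
    · rw [X.f_form' c h]; ring
    · rw [X.f_form' c h]; ring
    · rw [X.f_form c h]; ring
    · rw [h.zr]; decide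
    · rw [← hf, fs, dl_comm l i, dl_comm l j]; ring
    · rw [← hf, fs, dl_comm k i, dl_comm k j]; ring
    · exact c.form i j k l
  · rintro (_ | i) (_ | j) (_ | k) (_ | l) hd <;> simp only [eInf]
    · exact absurd rfl hd.ij
    · exact absurd rfl hd.ij
    · exact absurd rfl hd.ij
    · exact absurd rfl hd.ij
    · exact absurd rfl hd.ik
    · exact absurd rfl hd.ik
    · exact absurd rfl hd.il
    · exact (good (ne hd.jk) (ne hd.jl) (ne hd.kl)).1
    · exact absurd rfl hd.jk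
    · exact absurd rfl hd.jk
    · exact absurd rfl hd.jl
    · exact (good (ne hd.ik) (ne hd.il) (ne hd.kl)).1
    · exact absurd rfl hd.kl
    · rw [add_comm]; exact (good (ne hd.il.symm) (ne hd.jl.symm) (ne hd.ij)).1
    · rw [add_comm]; exact (good (ne hd.ik.symm) (ne hd.jk.symm) (ne hd.ij)).1
    · exact c.mem i j k l ⟨ne hd.ij, ne hd.ik, ne hd.il, ne hd.jk, ne hd.jl, ne hd.kl⟩
  · rintro (_ | i) (_ | j) (_ | k) (_ | l) hd <;> simp only [eInf]
    · exact absurd rfl hd.ij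
    · exact absurd rfl hd.ij
    · exact absurd rfl hd.ij
    · exact absurd rfl hd.ij
    · exact absurd rfl hd.ik
    · exact absurd rfl hd.ik
    · exact absurd rfl hd.il
    · exact g0 (ne hd.jk) (ne hd.jl) (ne hd.kl)
    · exact absurd rfl hd.jk
    · exact absurd rfl hd.jk
    · exact absurd rfl hd.jl
    · exact g0 (ne hd.ik) (ne hd.il) (ne hd.kl)
    · exact absurd rfl hd.kl
    · rw [add_comm]; exact (good (ne hd.il.symm) (ne hd.jl.symm) (ne hd.ij)).2.1
    · rw [add_comm]; exact (good (ne hd.ik.symm) (ne hd.jk.symm) (ne hd.ij)).2.1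
    · exact c.inB i j k l ⟨ne hd.ij, ne hd.ik, ne hd.il, ne hd.jk, ne hd.jl, ne hd.kl⟩

end Ext

/-! ### The first chart -/

/-- the chart of one element -/
theorem start₄ {a₁ a₂ a₃ : N} (h : One D β B) (hu : u ∈ D) (t : Tri β (B u) u w a₁ a₂ a₃) :
    Cht D β B (fun i j : Fin 4 => (![0, a₁, a₂, a₃] : Fin 4 → N) i + (![0, a₁, a₂, a₃] : Fin 4 → N) j) := by
  set f : Fin 4 → N := ![0, a₁, a₂, a₃] with hf
  have hm : ∀ i, f i ∈ B u := by
    intro i
    fin_cases i
    · exact zero_mem _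
    · exact t.m₁
    · exact t.m₂
    · exact t.m₃
  have hs : ∀ i j k l : Fin 4, Dst i j k l → f i + f j + (f k + f l) = u := by
    intro i j k l hd
    have h1 : ∀ i j k l : Fin 4, i ≠ j → i ≠ k → i ≠ l → j ≠ k → j ≠ l → k ≠ l →
        ({i, j, k, l} : Finset (Fin 4)) = Finset.univ := by decide +kernel
    have h2 : ∑ x ∈ ({i, j, k, l} : Finset (Fin 4)), f x = f i + f j + (f k + f l) := by
      rw [Finset.sum_insert, Finset.sum_insert, Finset.sum_insert, Finset.sum_singleton]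
      · abel
      · simp [hd.kl]
      · simp [hd.jk, hd.jl]
      · simp [hd.ij, hd.ik, hd.il]
    rw [← h2, h1 i j k l hd.ij hd.ik hd.il hd.jk hd.jl hd.kl, ← t.sum, Fin.sum_univ_four]
    simp [hf]
  let g : Fin 4 → Fin 4 → ZMod 2 := fun i j => if i = 0 ∨ j = 0 ∨ i = j then 0 else 1
  have hg : ∀ i j, β (f i) (f j) = g i j := by
    have c21 : β a₂ a₁ = 1 := by rw [h.symm]; exact t.c₁₂
    have c31 : β a₃ a₁ = 1 := by rw [h.symm]; exact t.c₁₃
    have c32 : β a₃ a₂ = 1 := by rw [h.symm]; exact t.c₂₃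
    intro i j
    (revert i j; simp only [hf, g, h.zl, h.zr, h.alt, t.c₁₂, t.c₁₃, t.c₂₃, c21, c31, c32, _root_.Fin.forall_fin_succ, Fin.isValue, _root_.Matrix.cons_val_zero, _root_.true_or, _root_.or_true, ↓reduceIte, _root_.Matrix.cons_val_succ, _root_.Fin.succ_ne_zero, _root_.false_or, _root_.Fin.succ_zero_eq_one, _root_.Fin.succ_one_eq_two, _root_.Matrix.cons_val_fin_one, Fin.reduceSucc, _root_.IsEmpty.forall_iff, _root_.and_true, _root_.true_and, _root_.zero_ne_one, _root_.or_false, Fin.reduceEq, _root_.and_self, _root_.right_eq_ite_iff, _root_.one_ne_zero, _root_.imp_false, _root_.left_eq_ite_iff, _root_.Decidable.not_not, _root_.not_false_eq_true])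
  refine ⟨fun i j k => ?_, fun i j k l => ?_, fun i j k l hd => ?_, fun i j k l hd => ?_⟩
  · calc f i + f j + (f j + f k) = f i + f k + (f j + f j) := by abel
      _ = _ := by rw [h.two, add_zero]
  · rw [h.addl, h.addr, h.addr, hg, hg, hg, hg]
    revert i j k l
    decide +kernel
  · rw [hs i j k l hd]; exact hu
  · rw [hs i j k l hd]; exact add_mem (hm i) (hm j)

/-- **a chart with five points** containing `u` -/
theorem start₅ (h : One D β B) (hu : u ∈ D) : ∃ e : Fin 5 → Fin 5 → N, Cht D β B e ∧ InC e u := by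
  obtain ⟨w, hw, huw⟩ := h.sw u hu
  obtain ⟨a₁, a₂, a₃, t⟩ := h.exists_tri hu huw
  have c := start₄ h hu t
  set f : Fin 4 → N := ![0, a₁, a₂, a₃] with hf
  have hwu : β w u = 1 := t.uw h
  have f0 : f 0 = 0 := rfl
  have f1 : f 1 = a₁ := rfl
  have f2 : f 2 = a₂ := rfl
  have f3 : f 3 = a₃ := rfl
  have m12 : a₁ + a₂ ∈ B u := add_mem t.m₁ t.m₂
  have m13 : a₁ + a₃ ∈ B u := add_mem t.m₁ t.m₃
  have p12 : β w (a₁ + a₂) = 0 := by rw [h.addr, t.w₁, t.w₂]; decide
  have p13 : β w (a₁ + a₃) = 0 := by rw [h.addr, t.w₁, t.w₃]; decide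
  -- the form of an element `v` with `β v a_i = 1`
  have form : ∀ v : N, β v a₁ = 1 → β v a₂ = 1 → β v a₃ = 1 →
      ∀ i j : Fin 4, β v (f i + f j) = (dl i 1 + dl i 2 + dl i 3) + (dl j 1 + dl j 2 + dl j 3) := by
    intro v v1 v2 v3 i j
    have h1 : ∀ i, β v (f i) = dl i 1 + dl i 2 + dl i 3 := by
      intro i
      fin_cases i
      · show β v (f 0) = _
        rw [f0, h.zr]; decide
      · show β v (f 1) = _
        rw [f1, v1]; decide
      · show β v (f 2) = _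
        rw [f2, v2]; decide
      · show β v (f 3) = _
        rw [f3, v3]; decide
    rw [h.addr, h1, h1]
  have hX : ∃ v, Ex D β B (fun i j : Fin 4 => f i + f j) v 1 2 3 := by
    rcases h.pat hu hw huw with hP | hJ
    · exact ⟨w, hw, by decide, by decide, by decide, form w t.w₁ t.w₂ t.w₃, hP _ m12 p12, hP _ m13 p13⟩
    · obtain ⟨b₁, b₂, b₃, t'⟩ := h.exists_tri (w := u) hw hwu
      obtain ⟨n0, n1⟩ := t'.ne₁ h hw
      have h1 : u + b₁ ∈ D := by
        rw [← t'.s₁ h hw]; exact h.act w hw b₁ t'.m₁ n0 n1 u hu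
      have j12 := hJ _ m12 p12
      have j13 := hJ _ m13 p13
      -- `β b₁ a_i = 1`
      have k12 : β a₁ b₁ = β a₂ b₁ := by
        have h2 := j12 _ t'.m₁
        rw [h.addl] at h2
        have key : ∀ s t : ZMod 2, s + t = 0 → s = t := by decide
        exact key _ _ h2
      have k13 : β a₁ b₁ = β a₃ b₁ := by
        have h2 := j13 _ t'.m₁
        rw [h.addl] at h2
        have key : ∀ s t : ZMod 2, s + t = 0 → s = t := by decide
        exact key _ _ h2
      have k1 : β a₁ b₁ = 1 := by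
        have h2 := t'.w₁
        rw [← t.sum, h.addl, h.addl, ← k12, ← k13] at h2
        revert h2
        generalize β a₁ b₁ = s
        revert s; decide
      have v1 : β (u + b₁) a₁ = 1 := by rw [h.addl, h.perp u hu a₁ t.m₁, h.symm, k1, zero_add]
      have v2 : β (u + b₁) a₂ = 1 := by rw [h.addl, h.perp u hu a₂ t.m₂, h.symm, ← k12, k1, zero_add]
      have v3 : β (u + b₁) a₃ = 1 := by rw [h.addl, h.perp u hu a₃ t.m₃, h.symm, ← k13, k1, zero_add]
      have mm : ∀ x ∈ B u, β w x = 0 → β x b₁ = 0 → x ∈ B (u + b₁) := by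
        intro x hx e1 e2
        have h2 := h.actB w hw b₁ t'.m₁ n0 n1 u hu x hx
        rw [t'.s₁ h hw, sg, h.symm x w, e1, e2] at h2
        simpa using h2
      exact ⟨u + b₁, h1, by decide, by decide, by decide, form _ v1 v2 v3, mm _ m12 p12 (j12 _ t'.m₁),
        mm _ m13 p13 (j13 _ t'.m₁)⟩
  obtain ⟨v, X⟩ := hX
  have c' := X.ext c h
  refine ⟨_, c'.comp (finSuccEquiv 4) (finSuccEquiv 4).injective, ?_⟩
  refine ⟨(finSuccEquiv 4).symm (some 0), (finSuccEquiv 4).symm (some 1), (finSuccEquiv 4).symm (some 2),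
    (finSuccEquiv 4).symm (some 3), ?_, ?_⟩
  · have h1 : ∀ {i j : Fin 4}, i ≠ j → (finSuccEquiv 4).symm (some i) ≠ (finSuccEquiv 4).symm (some j) :=
      fun h1 h2 => h1 (Option.some_injective _ ((finSuccEquiv 4).symm.injective h2))
    exact ⟨h1 (by decide), h1 (by decide), h1 (by decide), h1 (by decide), h1 (by decide), h1 (by decide)⟩
  · simp only [Equiv.apply_symm_apply, eInf]
    rw [f0, f1, f2, f3, zero_add, ← add_assoc, t.sum]

/-- charts are bounded -/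
theorem Cht.card_le [Finite N] {n : ℕ} {e : Fin n → Fin n → N} (c : Cht D β B e) (h : One D β B) (hn : 5 ≤ n) :
    n ≤ Nat.card N := by
  have hinj : Function.Injective (e ⟨0, by omega⟩) := by
    intro i j hij
    by_contra hne
    have h1 : e i j = 0 := by
      rw [← c.add' h ⟨0, by omega⟩ i j, hij, h.two]
    obtain ⟨k, ki, kj⟩ : ∃ k : Fin n, i ≠ k ∧ j ≠ k := by
      by_contra hno
      push Not at hno
      have h2 : (Finset.univ : Finset (Fin n)) ⊆ {i, j} := by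
        intro k _
        by_cases hk : i = k
        · rw [← hk]; exact Finset.mem_insert_self _ _
        · rw [← hno k hk]; simp
      have h3 := Finset.card_le_card h2
      rw [Finset.card_univ, Fintype.card_fin] at h3
      have h4 : ({i, j} : Finset (Fin n)).card ≤ 2 := Finset.card_le_two
      omega
    have h2 := c.form i j i k
    rw [h1, h.zl, dl_self, dl_ne ki, dl_ne (Ne.symm hne), dl_ne kj] at h2
    exact absurd h2 (by decide)
  have h1 := Nat.card_le_card_of_injective _ hinj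
  rwa [Nat.card_fin] at h1

/-- an element of `B` of a four-set is a sum of two pairs -/
theorem Cht.mem_B {I : Type*} [DecidableEq I] {e : I → I → N} {i j k l : I} (c : Cht D β B e) (h : One D β B)
    (hd : Dst i j k l) (hx : x ∈ B (e i j + e k l)) : ∃ p q r s : I, x = e p q + e r s := by
  have f1 : β (e i j) (e i k) = 1 := by
    rw [c.form, dl_self, dl_ne hd.ik, dl_ne hd.ij.symm, dl_ne hd.jk]; decide
  have h1 := h.cov (c.mem i j k l hd) (c.inB i j k l hd) (c.inB₂ h hd) f1 hx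
  rcases z2 (β x (e i k)) with p | p <;> rcases z2 (β x (e i j)) with q | q <;> rw [p, q] at h1 <;>
    simp only [sm_zero, sm_one, zero_add, add_zero] at h1 <;> rcases h1 with h1 | h1
  · exact ⟨i, i, i, i, by rw [h1, c.self, zero_add]⟩
  · exact ⟨i, j, k, l, h1⟩
  · exact ⟨i, k, i, i, by rw [h1, c.self, add_zero]⟩
  · refine ⟨j, l, i, i, ?_⟩
    rw [h1, c.self, add_zero, c.q₁ h, ← add_assoc, h.two, zero_add]
  · exact ⟨i, j, i, i, by rw [h1, c.self, add_zero]⟩
  · refine ⟨k, l, i, i, ?_⟩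
    rw [h1, c.self, add_zero, ← add_assoc, h.two, zero_add]
  · refine ⟨j, k, i, i, ?_⟩
    rw [h1, c.self, add_zero, c.add' h]
  · refine ⟨i, l, i, i, ?_⟩
    rw [h1, c.self, add_zero, c.add' h, c.q₂ h, show e j k + (e i l + e j k) = e i l + (e j k + e j k) by abel, h.two,
      add_zero]

/-- **BLOCK THEOREM** (`χ = 1`): every `u ∈ D` lies in a chart on `n ≥ 5` points such that every `v ∈ D` is in the chart
or is not linked to it -/
theorem exists_block [Finite N] (h : One D β B) (hu : u ∈ D) :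
    ∃ n, 5 ≤ n ∧ ∃ e : Fin n → Fin n → N, Cht D β B e ∧ InC e u ∧ ∀ v ∈ D, InC e v ∨ ∀ i j, β v (e i j) = 0 := by
  by_contra hno
  have key : ∀ n, 5 ≤ n → ∃ e : Fin n → Fin n → N, Cht D β B e ∧ InC e u := by
    intro n hn
    induction n, hn using Nat.le_induction with
    | base => exact start₅ h hu
    | succ n hn ih =>
      obtain ⟨e, c, hin⟩ := ih
      have h1 : ∃ v ∈ D, ¬ InC e v ∧ ∃ i j, β v (e i j) ≠ 0 := by
        by_contra h1
        apply hno
        refine ⟨n, hn, e, c, hin, fun v hv => ?_⟩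
        by_contra h2
        rw [not_or] at h2
        apply h1
        refine ⟨v, hv, h2.1, ?_⟩
        by_contra h3
        push Not at h3
        exact h2.2 h3
      obtain ⟨v, hv, hnin, hl⟩ := h1
      rcases c.step h (by rw [Fintype.card_fin]; exact hn) hv hl with h2 | ⟨v₁, p, q, r, X⟩
      · exact absurd h2 hnin
      refine ⟨_, (X.ext c h).comp (finSuccEquiv n) (finSuccEquiv n).injective, ?_⟩
      obtain ⟨i, j, k, l, hd, hi⟩ := hin
      refine ⟨(finSuccEquiv n).symm (some i), (finSuccEquiv n).symm (some j), (finSuccEquiv n).symm (some k),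
        (finSuccEquiv n).symm (some l), ?_, ?_⟩
      · have h1 : ∀ {i j : Fin n}, i ≠ j → (finSuccEquiv n).symm (some i) ≠ (finSuccEquiv n).symm (some j) :=
          fun h1 h2 => h1 (Option.some_injective _ ((finSuccEquiv n).symm.injective h2))
        exact ⟨h1 hd.ij, h1 hd.ik, h1 hd.il, h1 hd.jk, h1 hd.jl, h1 hd.kl⟩
      · simp only [Equiv.apply_symm_apply, eInf]
        exact hi
  obtain ⟨e, c, -⟩ := key (Nat.card N + 5) (by omega)
  have := c.card_le h (by omega)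
  omega

/-- different four-sets give different elements -/
theorem Cht.inj {I : Type*} [DecidableEq I] {e : I → I → N} {i j k l i' j' k' l' : I} (c : Cht D β B e)
    (h : One D β B) (hd : Dst i j k l) (hd' : Dst i' j' k' l') (he : e i j + e k l = e i' j' + e k' l') :
    i' = i ∨ i' = j ∨ i' = k ∨ i' = l := by
  by_contra hno
  push Not at hno
  obtain ⟨n1, n2, n3, n4⟩ := hno
  have form : ∀ {i j k l p q : I}, β (e i j + e k l) (e p q) = (dl i p + dl j p + dl k p + dl l p) +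
      (dl i q + dl j q + dl k q + dl l q) := by
    intro i j k l p q
    rw [h.addl, c.form, c.form]; ring
  -- `i` is not in the other set
  have hcase : ∀ {i' j' k' l' : I}, Dst i' j' k' l' → ∀ p, dl i' p + dl j' p + dl k' p + dl l' p = 1 ↔
      (p = i' ∨ p = j' ∨ p = k' ∨ p = l') := by
    intro i' j' k' l' hd' p
    constructor
    · intro h1
      by_contra h2
      push Not at h2
      rw [dl_ne (Ne.symm h2.1), dl_ne (Ne.symm h2.2.1), dl_ne (Ne.symm h2.2.2.1), dl_ne (Ne.symm h2.2.2.2)] at h1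
      exact absurd h1 (by decide)
    · rintro (h1 | h1 | h1 | h1) <;> subst h1
      · rw [dl_self, dl_ne hd'.ij.symm, dl_ne hd'.ik.symm, dl_ne hd'.il.symm]; decide
      · rw [dl_self, dl_ne hd'.ij, dl_ne hd'.jk.symm, dl_ne hd'.jl.symm]; decide
      · rw [dl_self, dl_ne hd'.ik, dl_ne hd'.jk, dl_ne hd'.kl.symm]; decide
      · rw [dl_self, dl_ne hd'.il, dl_ne hd'.jl, dl_ne hd'.kl]; decide
  have hi' : dl i i' + dl j i' + dl k i' + dl l i' = 0 := by
    rcases z2 (dl i i' + dl j i' + dl k i' + dl l i') with h1 | h1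
    · exact h1
    · rw [hcase hd] at h1
      rcases h1 with h1 | h1 | h1 | h1
      · exact absurd h1 n1
      · exact absurd h1 n2
      · exact absurd h1 n3
      · exact absurd h1 n4
  have hp : ∀ p, dl i p + dl j p + dl k p + dl l p + (dl i' p + dl j' p + dl k' p + dl l' p) = 1 := by
    intro p
    have h1 : β (e i j + e k l) (e i' p) = β (e i' j' + e k' l') (e i' p) := by rw [he]
    rw [form, form, hi', (hcase hd' i').2 (Or.inl rfl)] at h1
    revert h1
    generalize dl i p + dl j p + dl k p + dl l p = s, dl i' p + dl j' p + dl k' p + dl l' p = t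
    revert s t; decide
  -- the four-sets are disjoint
  have disj : ∀ p, (p = i ∨ p = j ∨ p = k ∨ p = l) → ¬ (p = i' ∨ p = j' ∨ p = k' ∨ p = l') := by
    intro p h1 h2
    have h3 := hp p
    rw [(hcase hd p).2 h1, (hcase hd' p).2 h2] at h3
    exact absurd h3 (by decide)
  have hc := c.mem i j k l hd
  have m1 := c.inB i j k l hd
  have m2 := c.inB₂ h hd
  have m3 : e i' j' ∈ B (e i j + e k l) := by rw [he]; exact c.inB i' j' k' l' hd'
  have m4 : e i' k' ∈ B (e i j + e k l) := by rw [he]; exact c.inB₂ h hd'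
  have di := disj i (Or.inl rfl)
  have dj := disj j (Or.inr (Or.inl rfl))
  have dk := disj k (Or.inr (Or.inr (Or.inl rfl)))
  rw [not_or, not_or, not_or] at di dj dk
  have f1 : β (e i j) (e i k) = 1 := by
    rw [c.form, dl_self, dl_ne hd.ik, dl_ne hd.ij.symm, dl_ne hd.jk]; decide
  have g1 : β (e i' j') (e i j) = 0 := by
    rw [h.symm, c.form, dl_ne di.1, dl_ne di.2.1, dl_ne dj.1, dl_ne dj.2.1]; decide
  have g2 : β (e i' j') (e i k) = 0 := by
    rw [h.symm, c.form, dl_ne di.1, dl_ne di.2.1, dl_ne dk.1, dl_ne dk.2.1]; decide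
  have h5 := h.cov hc m1 m2 f1 m3
  rw [g1, g2] at h5
  simp only [sm_zero, zero_add] at h5
  have f2 : β (e i' j') (e i' k') = 1 := by
    rw [c.form, dl_self, dl_ne hd'.ik, dl_ne hd'.ij.symm, dl_ne hd'.jk]; decide
  rcases h5 with h5 | h5
  · rw [h5, h.zl] at f2; exact absurd f2 (by decide)
  · rw [h5, h.perp _ hc _ m4] at f2; exact absurd f2 (by decide)

end Cfsg.Agent.Cit.Nil.RTwoM.Blk
end

-- part: Cit/Nil/RTwoM/BlkGrp
section
/-!
# S1309, (6b), (C3), `r = 2`, any `m`: block data from the group (helper599, CIT-6b-r2-blocks, section 0)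

* `NilS Om D` : `D ⊆ Z` is a commuting set normalised by the `R_b`, `b ∈ D`; `cl_comm`, `cl_sq`, `cl_conj`,
  `exists_as` (no type `f`), `sI_symm`;
* `sI Om b n ∈ F₂` : `1` iff `n` interchanges the members over `b`; `sI_mul`, `sI_conj`;
* `Emb D ι` : `ι : N → G`, `N` additive, `ι` injective onto `⟨D⟩`; `NilS.exists_emb`;
* `Form Om D ι β`, `NilS.exists_form` (0.2), `Form.conj` (invariance);
* **`Form.act`** (0.4) : the action of `k ∈ K_b` on `N` is `sg β (β w a) b a`;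
* **`NilS.exists_data`** : `Data` on the elements of `D` of type A.
-/

set_option autoImplicit false
set_option linter.style.haveILetI false
set_option linter.unusedSectionVars false

namespace Cfsg.Agent.Cit.Nil.RTwoM

open Subgroup Cfsg Cfsg.Agent.Cit

open RTwo (Q3)
open RG (WR CP Ov InO Tr)
open Blk (sm sg Data One sm_zero sm_one)

variable {G : Type*} [Group G] {Om : Set (Subgroup G)} {K L M : Subgroup G} {D : Set G}
  {a b c d e g g' k l m n r s t u v w x y z : G}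

/-- a commuting subset of `Z` normalised by the `R_b` -/
structure NilS (Om : Set (Subgroup G)) (D : Set G) : Prop where
  inZ : ∀ b ∈ D, InZ Om b
  comm : ∀ b ∈ D, ∀ c ∈ D, b * c = c * b
  nor : ∀ b ∈ D, ∀ y ∈ RZ Om b, ∀ c ∈ D, y * c * y⁻¹ ∈ D

open Classical in
/-- `1` iff `n` interchanges the members over `b` -/
noncomputable def sI (Om : Set (Subgroup G)) (b n : G) : ZMod 2 := if Swp Om b n then 1 else 0

theorem sI_eq_one : sI Om b n = 1 ↔ Swp Om b n := by
  classical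
  rw [sI]
  split_ifs with h1
  · simp [h1]
  · simp only [h1, iff_false]; decide

theorem sI_eq_zero : sI Om b n = 0 ↔ ¬ Swp Om b n := by
  classical
  rw [sI]
  split_ifs with h1
  · simp only [h1, _root_.one_ne_zero, _root_.not_true_eq_false]
  · simp [h1]

section Fin

variable [Finite G]

theorem swp_iff (h : WM Om) (hK : Mem Om z K) (hg : g * z = z * g) : Swp Om z g ↔ cj g K ≠ K :=
  ⟨fun hs => hs.2 K hK, Swp.of_one h hK hg⟩

theorem sI_of_fix (h : WM Om) (hK : Mem Om z K) (hgK : cj g K = K) : sI Om z g = 0 :=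
  sI_eq_zero.2 fun h1 => h1.2 K hK hgK

theorem sI_of_move (h : WM Om) (hK : Mem Om z K) (hg : g * z = z * g) (hgK : cj g K ≠ K) : sI Om z g = 1 :=
  sI_eq_one.2 (Swp.of_one h hK hg hgK)

theorem sI_mul (h : WM Om) (hz : InZ Om z) (hg : g * z = z * g) (hg' : g' * z = z * g') :
    sI Om z (g * g') = sI Om z g + sI Om z g' := by
  obtain ⟨K, hK⟩ := hz
  obtain ⟨L, hL, hne, -⟩ := hK.other h
  have hgg : (g * g') * z = z * (g * g') := by rw [mul_assoc, hg', ← mul_assoc, hg, mul_assoc]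
  rcases cj_cases h hK hL hne hg with ⟨h1, h1'⟩ | ⟨h1, h1'⟩ <;>
    rcases cj_cases h hK hL hne hg' with ⟨h2, h2'⟩ | ⟨h2, h2'⟩
  · rw [sI_of_fix h hK h1, sI_of_fix h hK h2, sI_of_fix h hK (by rw [cj_mul, h2, h1])]; decide
  · rw [sI_of_fix h hK h1, sI_of_move h hK hg' (by rw [h2]; exact hne.symm),
      sI_of_move h hK hgg (by rw [cj_mul, h2, h1']; exact hne.symm)]; decide
  · rw [sI_of_move h hK hg (by rw [h1]; exact hne.symm), sI_of_fix h hK h2,
      sI_of_move h hK hgg (by rw [cj_mul, h2, h1]; exact hne.symm)]; decide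
  · rw [sI_of_move h hK hg (by rw [h1]; exact hne.symm), sI_of_move h hK hg' (by rw [h2]; exact hne.symm),
      sI_of_fix h hK (by rw [cj_mul, h2, h1'])]; decide

theorem sI_conj (h : WM Om) (y : G) : sI Om (y * z * y⁻¹) (y * g * y⁻¹) = sI Om z g := by
  by_cases h1 : Swp Om z g
  · rw [sI_eq_one.2 h1, sI_eq_one.2 (h1.conj h y)]
  · rw [sI_eq_zero.2 h1, sI_eq_zero.2]
    intro h2
    apply h1
    have h3 := h2.conj h y⁻¹
    rwa [show y⁻¹ * (y * z * y⁻¹) * y⁻¹⁻¹ = z by group, show y⁻¹ * (y * g * y⁻¹) * y⁻¹⁻¹ = g by group] at h3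

theorem sI_inn (h : WM Om) (hz : InZ Om z) (hi : Inn Om z g) : sI Om z g = 0 := by
  obtain ⟨K, hK⟩ := hz
  exact sI_of_fix h hK (hi.cj_eq hK h)

/-! ### The subgroup `⟨D⟩` -/

namespace NilS

theorem cl_comm (nil : NilS Om D) (hn : n ∈ _root_.Subgroup.closure D) (hm : m ∈ closure D) : n * m = m * n := by
  have h1 : ∀ b ∈ D, closure D ≤ centralizer ({b} : Set G) := fun b hb =>
    (closure_le _).2 fun c hc => mem_centralizer_singleton_iff.2 (nil.comm c hc b hb)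
  have h2 : closure D ≤ centralizer ({m} : Set G) :=
    (closure_le _).2 fun c hc => mem_centralizer_singleton_iff.2 (mem_centralizer_singleton_iff.1 (h1 c hc hm)).symm
  exact mem_centralizer_singleton_iff.1 (h2 hn)

theorem cl_sq (nil : NilS Om D) (h : WM Om) (hn : n ∈ _root_.Subgroup.closure D) : n * n = 1 := by
  refine closure_induction (p := fun x _ => x * x = 1) ?_ ?_ ?_ ?_ hn
  · exact fun u hu => (nil.inZ u hu).z2 h
  · rw [one_mul]
  · intro a b ha hb h1 h2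
    calc a * b * (a * b) = a * (b * a) * b := by group
      _ = (a * a) * (b * b) := by rw [nil.cl_comm hb ha]; group
      _ = 1 := by rw [h1, h2, one_mul]
  · intro a _ h1
    rw [← mul_inv_rev, h1, inv_one]

/-- `y` normalising `D` normalises `⟨D⟩` -/
theorem _root_.Cfsg.Agent.Cit.Nil.RTwoM.cl_conj_of (hy : ∀ c ∈ D, y * c * y⁻¹ ∈ D) (hn : n ∈ _root_.Subgroup.closure D) :
    y * n * y⁻¹ ∈ closure D := by
  have h1 : closure D ≤ (closure D).comap (MulAut.conj y).toMonoidHom :=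
    (closure_le _).2 fun c hc => _root_.Subgroup.subset_closure (hy c hc)
  exact h1 hn

theorem cl_conj (nil : NilS Om D) (hb : b ∈ D) (hy : y ∈ RZ Om b) (hn : n ∈ _root_.Subgroup.closure D) : y * n * y⁻¹ ∈ closure D :=
  cl_conj_of (nil.nor b hb y hy) hn

/-- the elements of `⟨D⟩` fixing a member over `b ∈ D` act on it as inner automorphisms -/
theorem exists_as (nil : NilS Om D) (h : WM Om) (hb : b ∈ D) (hK : Mem Om b K) (hn : n ∈ _root_.Subgroup.closure D)
    (hnK : cj n K = K) : ∃ a, As K n a := by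
  rcases h.wr.inn_or_tr hK.1 hnK (nil.cl_sq h hn) with ⟨y, hy, h1⟩ | ⟨a, ha⟩
  · exact ⟨y, hy, h1⟩
  exfalso
  have haa := Tr.sq' ha hK
  obtain ⟨k, hk, hkk, hne, hne'⟩ := hK.exists_off h ha.mem haa
  have h1 : n * k * n⁻¹ * k⁻¹ ∈ _root_.Subgroup.closure D := by
    have h2 := nil.cl_conj hb (hK.le_RZ hk) (inv_mem hn)
    have h3 : n * k * n⁻¹ * k⁻¹ = n * (k * n⁻¹ * k⁻¹) := by group
    rw [h3]
    exact mul_mem hn h2
  have h2 : a * a = 1 := by
    rcases ha.com k hk (by rw [hkk, hK.2]) hne hne' with h3 | h3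
    · rw [h3] at h1; exact nil.cl_sq h h1
    · rw [h3] at h1
      have h4 := nil.cl_sq h h1
      rw [← mul_inv_rev, inv_eq_one] at h4
      exact h4
  rw [haa] at h2
  exact hK.inZ.z1 h h2

theorem not_ff (nil : NilS Om D) (h : WM Om) (hb : b ∈ D) (hn : n ∈ _root_.Subgroup.closure D) : ¬ Ff Om b n := by
  intro hf
  obtain ⟨K, hK⟩ := nil.inZ b hb
  obtain ⟨a, ha⟩ := nil.exists_as h hb hK hn (hf.2 K hK).1
  exact (hf.2 K hK).2 fun k hk => by rw [ha.2 k hk]; exact hK.comm_or h hk ha.1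

/-- **(0.1)** -/
theorem sI_symm (nil : NilS Om D) (h : WM Om) (hb : b ∈ D) (hc : c ∈ D) : sI Om b c = sI Om c b := by
  by_cases hne : b = c
  · rw [hne]
  have ib := nil.inZ b hb
  have ic := nil.inZ c hc
  rcases tri h ib ic hne (nil.comm b hb c hc) with h1 | h1 | ⟨h1, h2⟩
  · rw [sI_inn h ib (inn_of_cp h ic h1), sI_inn h ic (inn_of_cp h ib h1.symm)]
  · rw [sI_inn h ib h1.inn, sI_inn h ic (h1.symm h).inn]
  · rw [sI_eq_one.2 (h1.cases.resolve_right (nil.not_ff h hb (_root_.Subgroup.subset_closure hc))),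
      sI_eq_one.2 (h2.cases.resolve_right (nil.not_ff h hc (_root_.Subgroup.subset_closure hb)))]

theorem comm_cl (nil : NilS Om D) (hb : b ∈ D) (hn : n ∈ _root_.Subgroup.closure D) : n * b = b * n :=
  nil.cl_comm hn (_root_.Subgroup.subset_closure hb)

end NilS

/-! ### Additive notation -/

/-- `ι : N → G` identifies the additive group `N` with `⟨D⟩` -/
structure Emb {N : Type*} [AddCommGroup N] (D : Set G) (ι : N → G) : Prop where
  add : ∀ x y, ι (x + y) = ι x * ι y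
  inj : Function.Injective ι
  rng : ∀ g, g ∈ _root_.Subgroup.closure D ↔ ∃ n, ι n = g

theorem NilS.exists_emb.{u} {G : Type u} [Group G] [Finite G] {Om : Set (Subgroup G)} {D : Set G}
    (nil : NilS Om D) : ∃ (N : Type u) (_ : AddCommGroup N) (_ : Finite N) (ι : N → G), Emb D ι := by
  letI : CommGroup (closure D) := { (inferInstance : Group (closure D)) with
    mul_comm := fun a b => Subtype.ext (nil.cl_comm a.2 b.2) }
  refine ⟨Additive (closure D), inferInstance, inferInstance, fun x => ((Additive.toMul x : closure D) : G), ?_, ?_, ?_⟩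
  · intro x y; rfl
  · intro x y hxy
    exact Additive.toMul.injective (Subtype.ext hxy)
  · intro g
    constructor
    · intro hg
      exact ⟨Additive.ofMul ⟨g, hg⟩, rfl⟩
    · rintro ⟨n, rfl⟩
      exact (Additive.toMul n).2

namespace Emb

variable {N : Type*} [AddCommGroup N] {ι : N → G} {p q : N}

theorem zero (E : Emb D ι) : ι 0 = 1 := by
  have h1 := E.add 0 0
  rw [add_zero] at h1
  exact left_eq_mul.1 h1

theorem neg (E : Emb D ι) (x : N) : ι (-x) = (ι x)⁻¹ := by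
  apply eq_inv_of_mul_eq_one_left
  rw [← E.add, neg_add_cancel, E.zero]

theorem cl (E : Emb D ι) (x : N) : ι x ∈ _root_.Subgroup.closure D := (E.rng _).2 ⟨x, rfl⟩

theorem ex (E : Emb D ι) (hg : g ∈ _root_.Subgroup.closure D) : ∃ n, ι n = g := (E.rng g).1 hg

theorem two (E : Emb D ι) (nil : NilS Om D) (h : WM Om) (x : N) : x + x = 0 := by
  apply E.inj
  rw [E.add, E.zero, nil.cl_sq h (E.cl x)]

theorem sq (E : Emb D ι) (nil : NilS Om D) (h : WM Om) (x : N) : ι x * ι x = 1 := nil.cl_sq h (E.cl x)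

theorem cm (E : Emb D ι) (nil : NilS Om D) (x y : N) : ι x * ι y = ι y * ι x := nil.cl_comm (E.cl x) (E.cl y)

theorem ind (E : Emb D ι) {P : N → Prop} (h1 : ∀ c, ι c ∈ D → P c) (h0 : P 0) (ha : ∀ x y, P x → P y → P (x + y))
    (nil : NilS Om D) (h : WM Om) (x : N) : P x := by
  have key : ∀ g ∈ _root_.Subgroup.closure D, ∀ x, ι x = g → P x := by
    intro g hg
    refine closure_induction (p := fun g _ => ∀ x, ι x = g → P x) ?_ ?_ ?_ ?_ hg
    · rintro c hc x rfl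
      exact h1 x hc
    · intro x hx
      rw [← E.zero] at hx
      rw [E.inj hx]; exact h0
    · intro a b hga hgb h2 h3 x hx
      obtain ⟨a', rfl⟩ := E.ex hga
      obtain ⟨b', rfl⟩ := E.ex hgb
      rw [← E.add] at hx
      rw [E.inj hx]
      exact ha _ _ (h2 _ rfl) (h3 _ rfl)
    · intro a hga h2 x hx
      obtain ⟨a', rfl⟩ := E.ex hga
      rw [← E.neg] at hx
      rw [E.inj hx, neg_eq_of_add_eq_zero_left (E.two nil h a')]
      exact h2 _ rfl
  exact key _ (E.cl x) x rfl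

/-- conjugation -/
theorem exists_conj (E : Emb D ι) (hy : ∀ c ∈ D, y * c * y⁻¹ ∈ D) : ∃ σ : N → N, ∀ n, ι (σ n) = y * ι n * y⁻¹ := by
  have h1 : ∀ n : N, ∃ m : N, ι m = y * ι n * y⁻¹ := fun n => E.ex (cl_conj_of hy (E.cl n))
  choose σ hσ using h1
  exact ⟨σ, hσ⟩

end Emb

/-- the form: `β c n = 1` iff `n` interchanges the members over `c ∈ D` -/
structure Form {N : Type*} [AddCommGroup N] (Om : Set (Subgroup G)) (D : Set G) (ι : N → G) (β : N → N → ZMod 2) :
    Prop where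
  addl : ∀ x y z, β (x + y) z = β x z + β y z
  addr : ∀ x y z, β x (y + z) = β x y + β x z
  symm : ∀ x y, β x y = β y x
  alt : ∀ x, β x x = 0
  val : ∀ c, ι c ∈ D → ∀ n, β c n = sI Om (ι c) (ι n)

/-- **(0.2)** -/
theorem NilS.exists_form {N : Type*} [AddCommGroup N] {ι : N → G} (nil : NilS Om D) (h : WM Om) (E : Emb D ι) :
    ∃ β, Form Om D ι β := by
  have sadd : ∀ c, ι c ∈ D → ∀ x y, sI Om (ι c) (ι (x + y)) = sI Om (ι c) (ι x) + sI Om (ι c) (ι y) := by
    intro c hc x y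
    rw [E.add]
    exact sI_mul h (nil.inZ _ hc) (nil.comm_cl hc (E.cl x)) (nil.comm_cl hc (E.cl y))
  have s0 : ∀ c, ι c ∈ D → sI Om (ι c) (ι 0) = 0 := by
    intro c hc
    have h1 := sadd c hc 0 0
    rw [add_zero] at h1
    exact left_eq_add.1 h1
  have ex : ∀ x : N, ∃ φ : N → ZMod 2, (∀ y z, φ (y + z) = φ y + φ z) ∧ ∀ c, ι c ∈ D → φ c = sI Om (ι c) (ι x) := by
    intro x
    refine E.ind (P := fun x => ∃ φ : N → ZMod 2, (∀ y z, φ (y + z) = φ y + φ z) ∧
      ∀ c, ι c ∈ D → φ c = sI Om (ι c) (ι x)) ?_ ?_ ?_ nil h x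
    · intro c hc
      exact ⟨fun y => sI Om (ι c) (ι y), sadd c hc, fun d hd => nil.sI_symm h hc hd⟩
    · exact ⟨fun _ => 0, fun _ _ => (add_zero (0 : ZMod 2)).symm, fun c hc => (s0 c hc).symm⟩
    · rintro x y ⟨φ, h1, h2⟩ ⟨ψ, h3, h4⟩
      refine ⟨fun z => φ z + ψ z, fun y z => ?_, fun c hc => ?_⟩
      · show φ (y + z) + ψ (y + z) = (φ y + ψ y) + (φ z + ψ z)
        rw [h1, h3]; ring
      · show φ c + ψ c = _
        rw [h2 c hc, h4 c hc, sadd c hc]
  have uniq : ∀ φ ψ : N → ZMod 2, (∀ y z, φ (y + z) = φ y + φ z) → (∀ y z, ψ (y + z) = ψ y + ψ z) →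
      (∀ c, ι c ∈ D → φ c = ψ c) → ∀ x, φ x = ψ x := by
    intro φ ψ h1 h2 h3 x
    refine E.ind (P := fun x => φ x = ψ x) h3 ?_ (fun x y hx hy => by rw [h1, h2, hx, hy]) nil h x
    have h4 := h1 0 0
    have h5 := h2 0 0
    rw [add_zero] at h4 h5
    rw [left_eq_add.1 h4, left_eq_add.1 h5]
  choose β h1 h2 using ex
  have val : ∀ c, ι c ∈ D → ∀ n, β c n = sI Om (ι c) (ι n) := by
    intro c hc n
    exact uniq (β c) (fun y => sI Om (ι c) (ι y)) (h1 c) (sadd c hc)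
      (fun d hd => (h2 c d hd).trans (nil.sI_symm h hd hc)) n
  have addl : ∀ x y z, β (x + y) z = β x z + β y z := by
    intro x y z
    refine uniq (β (x + y)) (fun z => β x z + β y z) (h1 _) (fun y' z' => ?_) (fun c hc => ?_) z
    · show β x (y' + z') + β y (y' + z') = (β x y' + β y y') + (β x z' + β y z')
      rw [h1, h1]; ring
    · show β (x + y) c = β x c + β y c
      rw [h2 _ c hc, h2 _ c hc, h2 _ c hc, sadd c hc]
  have symm : ∀ x y, β x y = β y x := by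
    intro x y
    refine uniq (β x) (fun y => β y x) (h1 x) (fun y z => addl y z x) (fun c hc => ?_) y
    show β x c = β c x
    rw [h2 x c hc, val c hc]
  refine ⟨β, addl, h1, symm, fun x => ?_, val⟩
  refine uniq (fun x => β x x) (fun _ => 0) (fun y z => ?_) (fun _ _ => (add_zero (0 : ZMod 2)).symm)
    (fun c hc => ?_) x
  · show β (y + z) (y + z) = β y y + β z z
    rw [addl, h1, h1, symm z y]
    generalize β y z = p, β y y = q, β z z = r
    revert p q r; decide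
  · show β c c = 0
    rw [val c hc]
    exact sI_inn h (nil.inZ _ hc) (Inn.of_CX (z_mem_CX h))

namespace Form

variable {N : Type*} [AddCommGroup N] {ι : N → G} {β : N → N → ZMod 2} {p q : N}

theorem zr (F : Form Om D ι β) (x : N) : β x 0 = 0 := by
  have h1 := F.addr x 0 0
  rw [add_zero] at h1
  exact left_eq_add.1 h1

theorem smr (F : Form Om D ι β) (ε : ZMod 2) (x y : N) : β x (sm ε y) = ε * β x y := by
  rcases Blk.z2 ε with rfl | rfl
  · rw [sm_zero, F.zr, zero_mul]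
  · rw [sm_one, one_mul]

theorem swp (F : Form Om D ι β) {c n : N} (hc : ι c ∈ D) : β c n = 1 ↔ Swp Om (ι c) (ι n) := by
  rw [F.val c hc, sI_eq_one]

/-- **invariance** -/
theorem conj (F : Form Om D ι β) (nil : NilS Om D) (h : WM Om) (E : Emb D ι) {σ : N → N}
    (hy : ∀ c ∈ D, y * c * y⁻¹ ∈ D) (hσ : ∀ n, ι (σ n) = y * ι n * y⁻¹) (n m : N) : β (σ n) (σ m) = β n m := by
  have hadd : ∀ x y, σ (x + y) = σ x + σ y := by
    intro x y
    apply E.inj
    rw [E.add, hσ, hσ, hσ, E.add]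
    group
  refine E.ind (P := fun n => β (σ n) (σ m) = β n m) (fun c hc => ?_) ?_ (fun x y hx hy => ?_) nil h n
  · have h1 : ι (σ c) ∈ D := by rw [hσ]; exact hy _ hc
    rw [F.val _ h1, F.val _ hc, hσ, hσ, sI_conj h]
  · have h1 : σ 0 = 0 := by
      have h2 := hadd 0 0
      rw [add_zero] at h2
      exact left_eq_add.1 h2
    rw [h1, F.symm, F.zr, F.symm, F.zr]
  · rw [hadd, F.addl, F.addl, hx, hy]

/-- elements of `R_b` -/
theorem perp (F : Form Om D ι β) (nil : NilS Om D) (h : WM Om) {b a : N} (hb : ι b ∈ D) (ha : ι a ∈ RZ Om (ι b)) :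
    β b a = 0 := by
  rw [F.val b hb]
  exact sI_inn h (nil.inZ _ hb) (Inn.of_RZ (nil.inZ _ hb) h ha)

/-- the element `a_k = [w, k] = b · k k^w` -/
theorem exists_ak (F : Form Om D ι β) (nil : NilS Om D) (h : WM Om) (E : Emb D ι) {b w : N} (hb : ι b ∈ D)
    (hw : β b w = 1) (hK : Mem Om (ι b) K) (hk : k ∈ K) (hkk : k * k = ι b) :
    ∃ a : N, ι a = ι b * qq (ι w) k ∧ ι (w + a) = k * ι w * k⁻¹ ∧ ι a ∈ RZ Om (ι b) := by
  have hs := (F.swp hb).1 hw
  have hww := E.sq nil h w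
  have h1 : ι b * qq (ι w) k = ι w * (k * ι w * k⁻¹) := by
    have h2 : k⁻¹ = ι b * k := hK.inv_eq h hk hkk
    have h3 := hs.cm h hK hk hk
    have h4 : (ι w)⁻¹ = ι w := inv_eq_of_mul_eq_one_right hww
    have h5 := hK.comm_z h hk
    have hL := hs.mem h hK
    have hwk : ι w * k * (ι w)⁻¹ ∈ cj (ι w) K := conj_mem_cj hk
    have h6 := hL.comm_z h hwk
    calc ι b * qq (ι w) k = ι b * (k * (ι w * k * (ι w)⁻¹)) := rfl
      _ = ι b * ((ι w * k * (ι w)⁻¹) * k) := by rw [h3]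
      _ = (ι b * (ι w * k * (ι w)⁻¹)) * k := by group
      _ = (ι w * k * (ι w)⁻¹) * (ι b * k) := by rw [← h6]; group
      _ = ι w * k * (ι w)⁻¹ * k⁻¹ := by rw [← h2]
      _ = ι w * (k * ι w * k⁻¹) := by rw [h4]; group
  have h2 : ι w * (k * ι w * k⁻¹) ∈ _root_.Subgroup.closure D := mul_mem (E.cl w) (nil.cl_conj hb (hK.le_RZ hk) (E.cl w))
  obtain ⟨a, ha⟩ := E.ex h2
  refine ⟨a, ha.trans h1.symm, ?_, ?_⟩
  · rw [E.add, ha, ← mul_assoc, hww, one_mul]
  · rw [ha, ← h1]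
    exact mul_mem (z_mem_RZ hK.inZ h) (qq_mem hs h hK hk)

/-- the action of `k` on `b^⊥` -/
theorem act_perp (F : Form Om D ι β) (nil : NilS Om D) (h : WM Om) (E : Emb D ι) {b w a n : N} (hb : ι b ∈ D)
    (hw : β b w = 1) (hK : Mem Om (ι b) K) (hk : k ∈ K) (hwa : ι (w + a) = k * ι w * k⁻¹)
    (hab : ι a ∈ RZ Om (ι b)) (hn : β b n = 0) : k * ι n * k⁻¹ = ι (n + sm (β n a) b) := by
  have hnK : cj (ι n) K = K := by
    by_contra hcon
    have h1 := sI_of_move h hK (nil.comm_cl hb (E.cl n)) hcon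
    rw [← F.val b hb, hn] at h1
    exact absurd h1 (by decide)
  obtain ⟨c, hc⟩ := nil.exists_as h hb hK (E.cl n) hnK
  obtain ⟨σ, hσ⟩ := E.exists_conj (nil.nor _ hb k (hK.le_RZ hk))
  have hbb := (nil.inZ _ hb).z2 h
  have hw' : σ w = w + a := by apply E.inj; rw [hσ, hwa]
  -- `n^k = n + ε b`
  obtain ⟨ε, hε⟩ : ∃ ε : ZMod 2, k * ι n * k⁻¹ = ι (n + sm ε b) := by
    have h1 : ι n * k * (ι n)⁻¹ = k ∨ ι n * k * (ι n)⁻¹ = ι b * k := by
      rw [hc.2 k hk]; exact hK.comm_or h hk hc.1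
    rcases h1 with h1 | h1
    · refine ⟨0, ?_⟩
      rw [sm_zero, add_zero]
      rw [mul_inv_eq_iff_eq_mul] at h1
      rw [← h1, mul_inv_cancel_right]
    · refine ⟨1, ?_⟩
      rw [sm_one, E.add]
      rw [mul_inv_eq_iff_eq_mul] at h1
      have h2 : k * ι n = ι b * (ι n * k) := by rw [h1, mul_assoc, ← mul_assoc, hbb, one_mul]
      rw [h2, E.cm nil n b]
      group
  have hn' : σ n = n + sm ε b := by apply E.inj; rw [hσ, hε]
  have h1 := F.conj nil h E (nil.nor _ hb k (hK.le_RZ hk)) hσ w n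
  have hbw : β w b = 1 := by rw [F.symm, hw]
  have hab' : β a b = 0 := by rw [F.symm, F.perp nil h hb hab]
  rw [hw', hn', F.addl, F.addr, F.addr, F.smr, F.smr, hbw, hab', F.symm a n] at h1
  have h2 : ε = β n a := by
    have key : ∀ ε s t : ZMod 2, s + ε * 1 + (t + ε * 0) = s → ε = t := by decide
    exact key _ _ _ h1
  rw [hε, h2]

/-- **(0.4)** the action of `k` -/
theorem act (F : Form Om D ι β) (nil : NilS Om D) (h : WM Om) (E : Emb D ι) {b w a : N} (hb : ι b ∈ D)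
    (hw : β b w = 1) (hK : Mem Om (ι b) K) (hk : k ∈ K) (hwa : ι (w + a) = k * ι w * k⁻¹)
    (hab : ι a ∈ RZ Om (ι b)) (n : N) : k * ι n * k⁻¹ = ι (sg β (β w a) b a n) := by
  rcases Blk.z2 (β n b) with hn | hn
  · rw [F.act_perp nil h E hb hw hK hk hwa hab (by rw [F.symm, hn]), sg, hn, sm_zero, add_zero]
  · have two := E.two nil h
    have h1 : β b (n + w) = 0 := by
      rw [F.addr, F.symm b n, hn, hw]; decide
    have h2 := F.act_perp nil h E hb hw hK hk hwa hab h1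
    have h3 : n = (n + w) + w := by rw [add_assoc, two, add_zero]
    have h4 : k * ι n * k⁻¹ = (k * ι (n + w) * k⁻¹) * (k * ι w * k⁻¹) := by
      conv_lhs => rw [h3, E.add]
      group
    rw [h4, h2, ← hwa, ← E.add]
    congr 1
    rw [sg, hn, sm_one, F.addl]
    have h5 : sm (β n a + β w a) b = sm (β n a) b + sm (β w a) b := by
      rcases Blk.z2 (β n a) with e1 | e1 <;> rcases Blk.z2 (β w a) with e2 | e2 <;> rw [e1, e2]
      · simp
      · simp
      · simp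
      · rw [sm_one, two, show (1 : ZMod 2) + 1 = 0 by decide, sm_zero]
    rw [h5]
    calc n + w + (sm (β n a) b + sm (β w a) b) + (w + a)
        = n + (w + w) + (a + sm (β w a) b) + sm (β n a) b := by abel
      _ = _ := by rw [two, add_zero]

theorem sg_add (F : Form Om D ι β) (two : ∀ x : N, x + x = 0) {a b : N} (ε : ZMod 2) (n : N) :
    sg β ε b (a + b) n = sg β ε b a n := by
  rw [sg, sg, F.addr]
  rcases Blk.z2 (β n b) with e1 | e1 <;> rcases Blk.z2 (β n a) with e2 | e2 <;> rw [e1, e2]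
  · simp
  · simp
  · simp only [zero_add, sm_one, sm_zero, add_zero]
    calc n + (a + b + sm ε b) + b = n + (a + sm ε b) + (b + b) := by abel
      _ = _ := by rw [two, add_zero]
  · simp only [sm_one, show (1 : ZMod 2) + 1 = 0 by decide, sm_zero, add_zero]
    abel

/-- the elements of `N ⊓ R_b` -/
theorem cov (F : Form Om D ι β) (nil : NilS Om D) (h : WM Om) (E : Emb D ι) {b w x : N} (hb : ι b ∈ D)
    (hw : β b w = 1) (hK : Mem Om (ι b) K) (hx : ι x ∈ RZ Om (ι b)) :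
    x = 0 ∨ x = b ∨ ∃ k ∈ K, k * k = ι b ∧ ∃ a : N, ι a = ι b * qq (ι w) k ∧ ι (w + a) = k * ι w * k⁻¹ ∧
      ι a ∈ RZ Om (ι b) ∧ (x = a ∨ x = a + b) := by
  have hs := (F.swp hb).1 hw
  have hbb := (nil.inZ _ hb).z2 h
  have two := E.two nil h
  obtain ⟨k, hk, h1⟩ := hs.fix h (E.sq nil h w) hK hx (E.cm nil w x)
  rcases hK.sq_cases h hk with rfl | rfl | hkk
  · rw [qq_one, mul_one] at h1
    rcases h1 with h1 | h1
    · left; apply E.inj; rw [h1, E.zero]
    · right; left; exact E.inj h1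
  · rw [qq_z hs hK.inZ h, mul_one] at h1
    rcases h1 with h1 | h1
    · left; apply E.inj; rw [h1, E.zero]
    · right; left; exact E.inj h1
  · right; right
    obtain ⟨a, ha1, ha2, ha3⟩ := F.exists_ak nil h E hb hw hK hk hkk
    refine ⟨k, hk, hkk, a, ha1, ha2, ha3, ?_⟩
    rcases h1 with h1 | h1
    · right
      apply E.inj
      rw [E.add, E.cm nil a b, ha1, ← mul_assoc, hbb, one_mul, h1]
    · left
      apply E.inj
      rw [ha1, h1]

/-- the form on `N ⊓ R_b` -/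
theorem ak_form (F : Form Om D ι β) (nil : NilS Om D) (h : WM Om) (E : Emb D ι) {b w a a' : N} (hb : ι b ∈ D)
    (hw : β b w = 1) (hK : Mem Om (ι b) K) (hk : k ∈ K) (hkk : k * k = ι b) (hl : l ∈ K)
    (hwa : ι (w + a) = k * ι w * k⁻¹) (hab : ι a ∈ RZ Om (ι b)) (ha' : ι a' = ι b * qq (ι w) l)
    (hab' : ι a' ∈ RZ Om (ι b)) : β a a' = 0 ↔ k * l = l * k := by
  have hs := (F.swp hb).1 hw
  have hL := hs.mem h hK
  have h1 := F.act_perp nil h E hb hw hK hk hwa hab (n := a') (F.perp nil h hb hab')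
  have h2 : k * ι a' * k⁻¹ = ι b * ((k * l * k⁻¹) * (ι w * l * (ι w)⁻¹)) := by
    have hml : ι w * l * (ι w)⁻¹ ∈ cj (ι w) K := conj_mem_cj hl
    have h3 : (ι w * l * (ι w)⁻¹) * k⁻¹ = k⁻¹ * (ι w * l * (ι w)⁻¹) :=
      (hK.comm hL h (hs.ne hK) (inv_mem hk) hml).symm
    calc k * ι a' * k⁻¹ = k * ι b * l * ((ι w * l * (ι w)⁻¹) * k⁻¹) := by rw [ha', qq]; group
      _ = (k * ι b) * l * (k⁻¹ * (ι w * l * (ι w)⁻¹)) := by rw [h3]
      _ = (ι b * k) * l * (k⁻¹ * (ι w * l * (ι w)⁻¹)) := by rw [hK.comm_z h hk]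
      _ = _ := by group
  have hz1 := (nil.inZ _ hb).z1 h
  rw [F.symm]
  constructor
  · intro h3
    rw [h3, sm_zero, add_zero, h2, ha', qq] at h1
    have h4 := mul_left_cancel h1
    have h5 := mul_right_cancel h4
    rwa [mul_inv_eq_iff_eq_mul] at h5
  · intro h3
    rcases Blk.z2 (β a' a) with h4 | h4
    · exact h4
    exfalso
    rw [h4, sm_one, h2, h3, mul_inv_cancel_right, E.add] at h1
    have h5 : ι a' = ι a' * ι b := by
      rw [← h1, ha', qq]
    exact hz1 (left_eq_mul.1 h5)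

end Form

open Classical in
/-- **block data from the group** -/
theorem NilS.exists_data {N : Type*} [AddCommGroup N] {ι : N → G} {β : N → N → ZMod 2} (nil : NilS Om D) (h : WM Om)
    (E : Emb D ι) (F : Form Om D ι β) (B : N → AddSubgroup N) (hB : ∀ b x, x ∈ B b ↔ ι x ∈ RZ Om (ι b)) :
    ∃ χ, Data {b | ι b ∈ D ∧ ∃ w, β b w = 1} β B χ ∧
      ∀ b, ι b ∈ D → (∃ w, β b w = 1) → ∀ a ∈ B b, a ≠ 0 → a ≠ b → ∃ K, Mem Om (ι b) K ∧ ∃ k ∈ K, k * k = ι b ∧
        ∀ n, k * ι n * k⁻¹ = ι (sg β (χ b a) b a n) := by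
  have two := E.two nil h
  -- `χ`
  have ex : ∀ b a : N, ∃ χ : ZMod 2, (ι b ∈ D ∧ (∃ w, β b w = 1) ∧ a ∈ B b ∧ a ≠ 0 ∧ a ≠ b) →
      ∃ K, Mem Om (ι b) K ∧ ∃ k ∈ K, k * k = ι b ∧ ∀ n, k * ι n * k⁻¹ = ι (sg β χ b a n) := by
    intro b a
    by_cases h1 : ι b ∈ D ∧ (∃ w, β b w = 1) ∧ a ∈ B b ∧ a ≠ 0 ∧ a ≠ b
    · obtain ⟨hb, ⟨w, hw⟩, ha, ha0, hab⟩ := h1
      obtain ⟨K, hK⟩ := nil.inZ _ hb
      rcases F.cov nil h E hb hw hK ((hB b a).1 ha) with h2 | h2 | ⟨k, hk, hkk, a', h2, h3, h4, h5⟩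
      · exact absurd h2 ha0
      · exact absurd h2 hab
      · refine ⟨β w a', fun _ => ⟨K, hK, k, hk, hkk, fun n => ?_⟩⟩
        rcases h5 with rfl | rfl
        · exact F.act nil h E hb hw hK hk h3 h4 n
        · rw [F.sg_add two]
          exact F.act nil h E hb hw hK hk h3 h4 n
    · exact ⟨0, fun h2 => absurd h2 h1⟩
  choose χ hχ using ex
  have act : ∀ b, ι b ∈ D → (∃ w, β b w = 1) → ∀ a ∈ B b, a ≠ 0 → a ≠ b → ∃ K, Mem Om (ι b) K ∧ ∃ k ∈ K,
      k * k = ι b ∧ ∀ n, k * ι n * k⁻¹ = ι (sg β (χ b a) b a n) := fun b hb hw a ha h0 h1 =>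
    hχ b a ⟨hb, hw, ha, h0, h1⟩
  have aw : ∀ b : N, (∃ w, β b w = 1) → ∃ w, ι w ∈ D ∧ β b w = 1 := by
    intro b hb
    by_contra hcon
    push Not at hcon
    obtain ⟨w, hw⟩ := hb
    have h1 : β b w = 0 := by
      refine E.ind (P := fun w => β b w = 0) (fun c hc => ?_) (F.zr b) (fun x y hx hy => ?_) nil h w
      · exact (Blk.z2 _).resolve_right (hcon c hc)
      · rw [F.addr, hx, hy, add_zero]
    rw [h1] at hw
    exact absurd hw (by decide)
  -- the conjugate of an element of type A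
  have cjA : ∀ {y : G} {c c' : N}, (∀ d ∈ D, y * d * y⁻¹ ∈ D) → ι c ∈ D → (∃ w, β c w = 1) →
      ι c' = y * ι c * y⁻¹ → ι c' ∈ D ∧ ∃ w, β c' w = 1 := by
    intro y c c' hy hc hw hc'
    obtain ⟨w, hw⟩ := hw
    obtain ⟨σ, hσ⟩ := E.exists_conj hy
    have h1 : c' = σ c := by apply E.inj; rw [hc', hσ]
    refine ⟨by rw [hc']; exact hy _ hc, σ w, ?_⟩
    rw [h1, F.conj nil h E hy hσ, hw]
  refine ⟨χ, ?_, act⟩
  refine
    { two := two
      addl := F.addl
      addr := F.addr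
      alt := F.alt
      ne := ?_
      mem := ?_
      perp := ?_
      nd := ?_
      bas := ?_
      sw := ?_
      act := ?_
      actB := ?_
      sym := ?_ }
  · rintro b ⟨hb, -⟩ rfl
    rw [E.zero] at hb
    exact (nil.inZ _ hb).z1 h rfl
  · rintro b ⟨hb, -⟩
    rw [hB]; exact z_mem_RZ (nil.inZ _ hb) h
  · rintro b ⟨hb, -⟩ a ha
    exact F.perp nil h hb ((hB b a).1 ha)
  · rintro b ⟨hb, w, hw⟩ x hx x' hx' h0
    obtain ⟨K, hK⟩ := nil.inZ _ hb
    rcases F.cov nil h E hb hw hK ((hB b x).1 hx) with h2 | h2 | ⟨k, hk, hkk, a, h2, h3, h4, h5⟩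
    · exact Or.inl h2
    · exact Or.inr (Or.inl h2)
    rcases F.cov nil h E hb hw hK ((hB b x').1 hx') with h2' | h2' | ⟨l, hl, hll, a', h2', h3', h4', h5'⟩
    · exact Or.inr (Or.inr (Or.inl h2'))
    · exact Or.inr (Or.inr (Or.inr (Or.inl h2')))
    have e1 : β b a' = 0 := F.perp nil h hb h4'
    have e2 : β a b = 0 := by rw [F.symm]; exact F.perp nil h hb h4
    have h6 : β a a' = 0 := by
      rcases h5 with rfl | rfl <;> rcases h5' with rfl | rfl
      · exact h0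
      · rwa [F.addr, e2, add_zero] at h0
      · rwa [F.addl, e1, add_zero] at h0
      · rwa [F.addl, F.addr, F.addr, e2, e1, F.alt, add_zero, add_zero, add_zero] at h0
    have h7 := (F.ak_form nil h E hb hw hK hk hkk hl h3 h4 h2' h4').1 h6
    have hs := (F.swp hb).1 hw
    have h8 : a' = a := by
      apply E.inj
      rw [h2', h2]
      rcases hK.of_comm h hk hkk hl h7 with h8 | h8 | h8 | h8
      · rw [h8, one_mul] at hll; exact absurd hll.symm (hK.inZ.z1 h)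
      · rw [h8, hK.inZ.z2 h] at hll; exact absurd hll.symm (hK.inZ.z1 h)
      · rw [h8]
      · rw [h8, qq_mul hs h hK (hK.zmem h) hk, qq_z hs hK.inZ h, one_mul]
    right; right; right; right
    rw [h8] at h5'
    rcases h5 with rfl | rfl <;> rcases h5' with rfl | rfl
    · exact Or.inl rfl
    · exact Or.inr rfl
    · right; rw [add_assoc, two, add_zero]
    · exact Or.inl rfl
  · rintro b ⟨hb, w, hw⟩
    obtain ⟨K, hK⟩ := nil.inZ _ hb
    obtain ⟨x, hx⟩ := h.exists_q3 hK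
    obtain ⟨l, hl, hll, hkl⟩ := hK.exists_nc h (hx.mem 0) (hx.sq 0)
    obtain ⟨a, a1, a2, a3⟩ := F.exists_ak nil h E hb hw hK (hx.mem 0) (hx.sq 0)
    obtain ⟨a', b1, b2, b3⟩ := F.exists_ak nil h E hb hw hK hl hll
    refine ⟨a, (hB b a).2 a3, a', (hB b a').2 b3, ?_⟩
    rcases Blk.z2 (β a a') with h1 | h1
    · exact absurd ((F.ak_form nil h E hb hw hK (hx.mem 0) (hx.sq 0) hl a2 a3 b1 b3).1 h1) hkl
    · exact h1
  · rintro b ⟨hb, hw⟩
    obtain ⟨w, hwD, hw⟩ := aw b hw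
    exact ⟨w, ⟨hwD, b, by rw [F.symm, hw]⟩, hw⟩
  · rintro b ⟨hb, hw⟩ a ha h0 h1 c ⟨hc, hc'⟩
    obtain ⟨K, hK, k, hk, -, h2⟩ := act b hb hw a ha h0 h1
    exact cjA (nil.nor _ hb k (hK.le_RZ hk)) hc hc' (h2 c).symm
  · rintro b ⟨hb, hw⟩ a ha h0 h1 c ⟨hc, hc'⟩ x hx
    obtain ⟨K, hK, k, hk, -, h2⟩ := act b hb hw a ha h0 h1
    rw [hB, ← h2, ← h2]
    exact RZ_conj h k ((hB c x).1 hx)
  · rintro b ⟨hb, hw⟩ c ⟨hc, w, hw'⟩ hne h0
    -- `b` centralises the members over `c`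
    have hcp : CP Om (ι b) (ι c) := by
      have h2 : ι b ∈ CX Om (ι c) := by
        rw [mem_CX]
        intro K hK k hk
        rcases hK.sq_cases h hk with rfl | rfl | hkk
        · rw [mul_one, one_mul]
        · exact E.cm nil b c
        · obtain ⟨a, a1, a2, a3⟩ := F.exists_ak nil h E hc hw' hK hk hkk
          have h3 := F.act nil h E hc hw' hK hk a2 a3 b
          rw [sg, h0 c ((hB c c).2 (z_mem_RZ (nil.inZ _ hc) h)), h0 a ((hB c a).2 a3), sm_zero, sm_zero, add_zero,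
            add_zero, mul_inv_eq_iff_eq_mul] at h3
          exact h3.symm
      rcases (cen_iff h (nil.inZ _ hc) (nil.inZ _ hb)).1 h2 with h3 | h3
      · exact absurd (E.inj h3).symm hne
      · exact h3.symm
    intro x hx y hy
    have hx' : ∀ g ∈ RZ Om (ι c), ι x * g = g * ι x := fun g hg => cp_RZ h hcp ((hB b x).1 hx) hg
    obtain ⟨K, hK⟩ := nil.inZ _ hc
    have hxc : β c x = 0 := by
      rw [F.val c hc]
      refine sI_inn h (nil.inZ _ hc) (Inn.of_CX ?_)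
      rw [mem_CX]
      exact fun K hK k hk => hx' k (hK.le_RZ hk)
    rcases F.cov nil h E hc hw' hK ((hB c y).1 hy) with h2 | h2 | ⟨k, hk, hkk, a, h2, h3, h4, h5⟩
    · rw [h2, F.zr]
    · rw [h2, F.symm, hxc]
    · have h6 : β x a = 0 := by
        have h7 := F.act_perp nil h E hc hw' hK hk h3 h4 hxc
        rw [← hx' k (hK.le_RZ hk), mul_inv_cancel_right] at h7
        rcases Blk.z2 (β x a) with h8 | h8
        · exact h8
        exfalso
        rw [h8, sm_one, E.add] at h7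
        exact (nil.inZ _ hc).z1 h (left_eq_mul.1 h7)
      rcases h5 with rfl | rfl
      · exact h6
      · rw [F.addr, h6, F.symm x c, hxc, add_zero]

end Fin

end Cfsg.Agent.Cit.Nil.RTwoM
end

-- part: Cit/Nil/RTwoM/BlkOne
section
/-!
# S1309, (6b), (C3), `r = 2`, any `m`: pattern (111) and the BLOCK THEOREM in the group
(helper599, CIT-6b-r2-blocks; helper589's abstract block theorem `Blk.exists_block`)

* `Pat1 Om D` : (111) for one swap partner `w` of every `b`; `Form.chi_indep`; **`NilS.exists_one`** : `One`;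
* **`NilS.pat1_of_rot`** : if some `c` normalising `D` rotates a member over `b`, then (111) at `b`;
* `Form.cp_of` (0.6);
* `ChtG Om D e` : a chart in the group; `ChtG.mem_B`, `ChtG.act4` (the action of `V₄` of a four-set), `ChtG.inj`;
* **`NilS.exists_block`**.
-/

set_option autoImplicit false
set_option linter.style.haveILetI false
set_option linter.unusedSectionVars false

namespace Cfsg.Agent.Cit.Nil.RTwoM

open Subgroup Cfsg Cfsg.Agent.Cit

open RTwo (Q3 i_cases3)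
open RG (WR CP Ov InO Tr)
open Blk (sm sg Data sm_zero sm_one Cht InC Dst dl dl_self dl_ne)

variable {G : Type*} [Group G] {Om : Set (Subgroup G)} {K L M : Subgroup G} {D : Set G}
  {b c d g g' k l m n r s t u v w x y z : G}

/-- the pattern (111), for one swap partner `w ∈ D` of every `b ∈ D` -/
def Pat1 (Om : Set (Subgroup G)) (D : Set G) : Prop :=
  ∀ b ∈ D, (∃ w ∈ D, Swp Om b w) → ∃ w ∈ D, Swp Om b w ∧ ∃ K, Mem Om b K ∧
    ∀ k ∈ K, k * k = b → Swp Om w (k * w * k⁻¹)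

section Fin

variable [Finite G]

namespace Form

variable {N : Type*} [AddCommGroup N] {ι : N → G} {β : N → N → ZMod 2}

/-- `χ` does not depend on `w` -/
theorem chi_indep (F : Form Om D ι β) (nil : NilS Om D) (h : WM Om) (E : Emb D ι) {b w w' a a' : N} (hb : ι b ∈ D)
    (hw : β b w = 1) (hw' : β b w' = 1) (hK : Mem Om (ι b) K) (hk : k ∈ K) (hwa : ι (w + a) = k * ι w * k⁻¹)
    (hab : ι a ∈ RZ Om (ι b)) (hwa' : ι (w' + a') = k * ι w' * k⁻¹) : β w' a' = β w a := by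
  have h1 := F.act nil h E hb hw hK hk hwa hab w'
  rw [← hwa'] at h1
  have h2 := E.inj h1
  have h3 : β w' (w' + a') = β w' a' := by rw [F.addr, F.alt, zero_add]
  have hbw : β w' b = 1 := by rw [F.symm, hw']
  rw [← h3, h2, sg, hbw, sm_one, F.addr, F.addr, F.addr, F.smr, F.smr, F.alt, hbw]
  generalize β w' a = p, β w a = q
  revert p q; decide

theorem chi_val (F : Form Om D ι β) {w a : N} (hwD : ι w ∈ D) (hwa : ι (w + a) = k * ι w * k⁻¹) :
    β w a = sI Om (ι w) (k * ι w * k⁻¹) := by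
  rw [← hwa, ← F.val w hwD, F.addr, F.alt, zero_add]

/-- **(0.6)** -/
theorem cp_of (F : Form Om D ι β) (nil : NilS Om D) (h : WM Om) (E : Emb D ι) {b c w : N} (hb : ι b ∈ D)
    (hc : ι c ∈ D) (hw : β c w = 1) (hne : b ≠ c) (h0 : ∀ x, ι x ∈ RZ Om (ι c) → β b x = 0) :
    CP Om (ι b) (ι c) := by
  have h2 : ι b ∈ CX Om (ι c) := by
    rw [mem_CX]
    intro K hK k hk
    rcases hK.sq_cases h hk with rfl | rfl | hkk
    · rw [mul_one, one_mul]
    · exact E.cm nil b c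
    · obtain ⟨a, a1, a2, a3⟩ := F.exists_ak nil h E hc hw hK hk hkk
      have h3 := F.act nil h E hc hw hK hk a2 a3 b
      rw [sg, h0 c (z_mem_RZ (nil.inZ _ hc) h), h0 a a3, sm_zero, sm_zero, add_zero,
        add_zero, mul_inv_eq_iff_eq_mul] at h3
      exact h3.symm
  rcases (cen_iff h (nil.inZ _ hc) (nil.inZ _ hb)).1 h2 with h3 | h3
  · exact absurd (E.inj h3).symm hne
  · exact h3.symm

theorem exists_D (F : Form Om D ι β) (nil : NilS Om D) (h : WM Om) (E : Emb D ι) {b w : N} (hw : β b w = 1) :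
    ∃ w, ι w ∈ D ∧ β b w = 1 := by
  by_contra hcon
  push Not at hcon
  have h1 : β b w = 0 := by
    refine E.ind (P := fun w => β b w = 0) (fun c hc => ?_) (F.zr b) (fun x y hx hy => ?_) nil h w
    · exact (Blk.z2 _).resolve_right (hcon c hc)
    · rw [F.addr, hx, hy, add_zero]
  rw [h1] at hw
  exact absurd hw (by decide)

end Form

/-- **(111)** gives `One` -/
theorem NilS.exists_one {N : Type*} [AddCommGroup N] {ι : N → G} {β : N → N → ZMod 2} (nil : NilS Om D) (h : WM Om)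
    (E : Emb D ι) (F : Form Om D ι β) (B : N → AddSubgroup N) (hB : ∀ b x, x ∈ B b ↔ ι x ∈ RZ Om (ι b))
    (hp : Pat1 Om D) :
    Blk.One {b | ι b ∈ D ∧ ∃ w, β b w = 1} β B ∧
      ∀ b, ι b ∈ D → (∃ w, β b w = 1) → ∀ a ∈ B b, a ≠ 0 → a ≠ b → ∃ K, Mem Om (ι b) K ∧ ∃ k ∈ K, k * k = ι b ∧
        ∀ n, k * ι n * k⁻¹ = ι (sg β 1 b a n) := by
  obtain ⟨χ, hd, -⟩ := nil.exists_data h E F B hB
  have act : ∀ b, ι b ∈ D → (∃ w, β b w = 1) → ∀ a ∈ B b, a ≠ 0 → a ≠ b → ∃ K, Mem Om (ι b) K ∧ ∃ k ∈ K,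
      k * k = ι b ∧ ∀ n, k * ι n * k⁻¹ = ι (sg β 1 b a n) := by
    rintro b hb ⟨w₀, hw₀⟩ a ha h0 h1
    obtain ⟨w₁, hw₁D, hw₁⟩ := F.exists_D nil h E hw₀
    obtain ⟨w', hw'D, hs, K, hK, hall⟩ := hp (ι b) hb ⟨ι w₁, hw₁D, (F.swp hb).1 hw₁⟩
    obtain ⟨w, rfl⟩ := E.ex (_root_.Subgroup.subset_closure hw'D)
    have hw : β b w = 1 := (F.swp hb).2 hs
    rcases F.cov nil h E hb hw hK ((hB b a).1 ha) with h2 | h2 | ⟨k, hk, hkk, a', h2, h3, h4, h5⟩
    · exact absurd h2 h0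
    · exact absurd h2 h1
    · have h6 : β w a' = 1 := by
        rw [F.chi_val hw'D h3]
        exact sI_eq_one.2 (hall k hk hkk)
      refine ⟨K, hK, k, hk, hkk, fun n => ?_⟩
      have h7 := F.act nil h E hb hw hK hk h3 h4 n
      rw [h6] at h7
      rcases h5 with rfl | rfl
      · exact h7
      · rw [F.sg_add (E.two nil h)]; exact h7
  refine ⟨{ hd with act := ?_, actB := ?_ }, act⟩
  · rintro b ⟨hb, hw⟩ a ha h0 h1 c ⟨hc, w, hcw⟩
    obtain ⟨K, hK, k, hk, -, h2⟩ := act b hb hw a ha h0 h1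
    have hy := nil.nor _ hb k (hK.le_RZ hk)
    obtain ⟨σ, hσ⟩ := E.exists_conj hy
    have h3 : sg β 1 b a c = σ c := by apply E.inj; rw [← h2, hσ]
    refine ⟨by rw [← h2]; exact hy _ hc, σ w, ?_⟩
    rw [h3, F.conj nil h E hy hσ, hcw]
  · rintro b ⟨hb, hw⟩ a ha h0 h1 c ⟨hc, hc'⟩ x hx
    obtain ⟨K, hK, k, hk, -, h2⟩ := act b hb hw a ha h0 h1
    rw [hB, ← h2, ← h2]
    exact RZ_conj h k ((hB c x).1 hx)

/-- **a rotation gives (111)** -/
theorem NilS.pat1_of_rot (nil : NilS Om D) (h : WM Om)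
    (hr : ∀ b ∈ D, (∃ w ∈ D, Swp Om b w) → ∃ c, (∀ d ∈ D, c * d * c⁻¹ ∈ D) ∧ ∃ K, Mem Om b K ∧ cj c K = K ∧
      ∀ k ∈ K, k * k = b → k * (c * k * c⁻¹) ≠ (c * k * c⁻¹) * k) : Pat1 Om D := by
  intro b₀ hb₀ hw₀
  obtain ⟨N, _, _, ι, E⟩ := nil.exists_emb
  obtain ⟨β, F⟩ := nil.exists_form h E
  obtain ⟨c, hcD, K, hK, hcK, hrot⟩ := hr b₀ hb₀ hw₀
  obtain ⟨w₀, hw₀, hs⟩ := hw₀
  obtain ⟨b, rfl⟩ := E.ex (_root_.Subgroup.subset_closure hb₀)
  obtain ⟨w, rfl⟩ := E.ex (_root_.Subgroup.subset_closure hw₀)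
  refine ⟨_, hw₀, hs, K, hK, ?_⟩
  have hw : β b w = 1 := (F.swp hb₀).2 hs
  have hwb : β w b = 1 := by rw [F.symm, hw]
  have hcb : c * ι b = ι b * c := hK.of_cj h hcK
  have two := E.two nil h
  have hbb := hK.inZ.z2 h
  obtain ⟨σ, hσ⟩ := E.exists_conj hcD
  have hσb : σ b = b := by apply E.inj; rw [hσ, hcb, mul_inv_cancel_right]
  have cK : ∀ {k}, k ∈ K → c * k * c⁻¹ ∈ K := by
    intro k hk
    have := conj_mem_cj (g := c) hk
    rwa [hcK] at this
  have csq : ∀ {k}, k * k = ι b → (c * k * c⁻¹) * (c * k * c⁻¹) = ι b := by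
    intro k hkk
    calc (c * k * c⁻¹) * (c * k * c⁻¹) = c * (k * k) * c⁻¹ := by group
      _ = ι b := by rw [hkk, hcb, mul_inv_cancel_right]
  -- `χ(k) = 1` as a property of `k`
  let P : G → Prop := fun k => ∀ a : N, ι (w + a) = k * ι w * k⁻¹ → β w a = 1
  -- the value of `χ`
  have val : ∀ {k} (_ : k ∈ K) (_ : k * k = ι b) {a : N}, ι (w + a) = k * ι w * k⁻¹ → ι a ∈ RZ Om (ι b) := by
    intro k hk hkk a ha
    obtain ⟨a', h1, h2, h3⟩ := F.exists_ak nil h E hb₀ hw hK hk hkk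
    rw [← h2] at ha
    rwa [add_left_cancel (E.inj ha)]
  have hbK : ∀ {k}, k ∈ K → (ι b * k) * ι w * (ι b * k)⁻¹ = k * ι w * k⁻¹ := by
    intro k hk
    have h1 : k * ι w * k⁻¹ ∈ _root_.Subgroup.closure D := nil.cl_conj hb₀ (hK.le_RZ hk) (E.cl w)
    have h2 := nil.cl_comm (E.cl b) h1
    calc (ι b * k) * ι w * (ι b * k)⁻¹ = (ι b * (k * ι w * k⁻¹)) * (ι b)⁻¹ := by group
      _ = _ := by rw [h2, mul_inv_cancel_right]
  -- invariance under `c`
  have inv : ∀ {k} (_ : k ∈ K) (_ : k * k = ι b), P k → P (c * k * c⁻¹) := by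
    intro k hk hkk hP a' ha'
    obtain ⟨a, h1, h2, h3⟩ := F.exists_ak nil h E hb₀ hw hK hk hkk
    have hk' := cK hk
    -- at `w' = σ w`
    have h4 : ι (σ w + σ a) = (c * k * c⁻¹) * ι (σ w) * (c * k * c⁻¹)⁻¹ := by
      rw [E.add, hσ, hσ]
      calc c * ι w * c⁻¹ * (c * ι a * c⁻¹) = c * (ι w * ι a) * c⁻¹ := by group
        _ = c * (k * ι w * k⁻¹) * c⁻¹ := by rw [← E.add, h2]
        _ = _ := by group
    have hw' : β b (σ w) = 1 := by
      have := F.conj nil h E hcD hσ b w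
      rw [hσb] at this
      rw [this, hw]
    have h5 := F.chi_indep nil h E hb₀ hw hw' hK hk' ha' (val hk' (csq hkk) ha') h4
    rw [F.conj nil h E hcD hσ] at h5
    rw [← h5]
    exact hP a h2
  -- the product
  have prod : ∀ {k l} (_ : k ∈ K) (_ : k * k = ι b) (_ : l ∈ K) (_ : l * l = ι b) (_ : k * l ≠ l * k) {a a' a'' : N},
      ι (w + a) = k * ι w * k⁻¹ → ι (w + a') = l * ι w * l⁻¹ → ι (w + a'') = (k * l) * ι w * (k * l)⁻¹ →
      β w a'' = β w a + β w a' + 1 := by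
    intro k l hk hkk hl hll hkl a a' a'' h1 h2 h3
    have h4 : (k * l) * (k * l) = ι b := by
      have h5 := hK.anti h hk hkk hl hll hkl
      rw [mul_inv_eq_iff_eq_mul] at h5
      calc (k * l) * (k * l) = k * (l * k) * l := by group
        _ = k * (ι b * k * l) * l := by rw [h5]
        _ = (k * ι b) * k * (l * l) := by group
        _ = (ι b * k) * k * (l * l) := by rw [hK.comm_z h hk]
        _ = ι b * (k * k) * (l * l) := by group
        _ = ι b := by rw [hkk, hll, hbb, one_mul]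
    obtain ⟨a₁, p1, p2, p3⟩ := F.exists_ak nil h E hb₀ hw hK hk hkk
    obtain ⟨a₂, q1, q2, q3⟩ := F.exists_ak nil h E hb₀ hw hK hl hll
    obtain ⟨a₃, r1, r2, r3⟩ := F.exists_ak nil h E hb₀ hw hK (mul_mem hk hl) h4
    rw [← p2] at h1
    rw [← q2] at h2
    rw [← r2] at h3
    rw [add_left_cancel (E.inj h1), add_left_cancel (E.inj h2), add_left_cancel (E.inj h3)]
    have h6 : a₃ = a₁ + a₂ + b := by
      apply E.inj
      rw [E.add, E.add, r1, p1, q1, qq_mul hs h hK hk hl]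
      have c1 : ι b * qq (ι w) l = qq (ι w) l * ι b := (RZ_le_centralizer h (qq_mem hs h hK hl)).symm
      calc ι b * (qq (ι w) k * qq (ι w) l) = (ι b * qq (ι w) k) * qq (ι w) l * (ι b * ι b) := by rw [hbb]; group
        _ = (ι b * qq (ι w) k) * (qq (ι w) l * ι b) * ι b := by group
        _ = _ := by rw [← c1]
    rw [h6, F.addr, F.addr, hwb]
  -- `P (k k^c)`
  have pcc : ∀ {k} (_ : k ∈ K) (_ : k * k = ι b), P (k * (c * k * c⁻¹)) := by
    intro k hk hkk a'' ha''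
    have hk' := cK hk
    have hkk' := csq hkk
    obtain ⟨a, -, p2, p3⟩ := F.exists_ak nil h E hb₀ hw hK hk hkk
    obtain ⟨a', -, q2, q3⟩ := F.exists_ak nil h E hb₀ hw hK hk' hkk'
    have h1 := prod hk hkk hk' hkk' (hrot k hk hkk) p2 q2 ha''
    rcases Blk.z2 (β w a) with h2 | h2
    · have h3 : β w a' = 0 := by
        rcases Blk.z2 (β w a') with h3 | h3
        · exact h3
        exfalso
        -- go round: `σ`
        have h4 : ι (σ w + σ a) = (c * k * c⁻¹) * ι (σ w) * (c * k * c⁻¹)⁻¹ := by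
          rw [E.add, hσ, hσ]
          calc c * ι w * c⁻¹ * (c * ι a * c⁻¹) = c * (ι w * ι a) * c⁻¹ := by group
            _ = c * (k * ι w * k⁻¹) * c⁻¹ := by rw [← E.add, p2]
            _ = _ := by group
        have hw' : β b (σ w) = 1 := by
          have := F.conj nil h E hcD hσ b w
          rw [hσb] at this
          rw [this, hw]
        have h5 := F.chi_indep nil h E hb₀ hw hw' hK hk' q2 q3 h4
        rw [F.conj nil h E hcD hσ, h2, h3] at h5
        exact absurd h5 (by decide)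
      rw [h1, h2, h3]; decide
    · have h3 : β w a' = 1 := inv hk hkk (fun a₁ ha₁ => by
        rw [← p2] at ha₁
        rw [add_left_cancel (E.inj ha₁), h2]) a' q2
      rw [h1, h2, h3]; decide
  -- all `k`
  have all : ∀ {k} (_ : k ∈ K) (_ : k * k = ι b), P k := by
    intro k hk hkk
    have hk' := cK hk
    have hkk' := csq hkk
    have hne := hrot k hk hkk
    obtain ⟨q, qa, q0, q1⟩ := hK.exists_q2 h hk hkk hk' hkk' hne
    have q2 : q 2 = k * (c * k * c⁻¹) := by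
      have := qa.mul 0
      rw [q0] at this
      simp only [zero_add] at this
      rw [q1] at this
      exact this.symm
    -- `l = k k^c`
    obtain ⟨l, hl⟩ : ∃ l, l = k * (c * k * c⁻¹) := ⟨_, rfl⟩
    have hlK : l ∈ K := by rw [hl]; exact mul_mem hk hk'
    have hll : l * l = ι b := by rw [hl, ← q2]; exact qa.sq 2
    have hPl : P l := by rw [hl]; exact pcc hk hkk
    have hl' := cK hlK
    have hll' := csq hll
    have hPl' : P (c * l * c⁻¹) := inv hlK hll hPl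
    have hPll : P (l * (c * l * c⁻¹)) := pcc hlK hll
    have hnl := hrot l hlK hll
    obtain ⟨p, pa, p0, p1⟩ := hK.exists_q2 h hlK hll hl' hll' hnl
    have p2 : p 2 = l * (c * l * c⁻¹) := by
      have := pa.mul 0
      rw [p0] at this
      simp only [zero_add] at this
      rw [p1] at this
      exact this.symm
    have key : ∀ i, P (p i) := by
      intro i
      fin_cases i
      · show P (p 0); rw [p0]; exact hPl
      · show P (p 1); rw [p1]; exact hPl'
      · show P (p 2); rw [p2]; exact hPll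
    obtain ⟨i, hi⟩ := pa.of_sq hk hkk
    rcases hi with hi | hi
    · rw [hi]; exact key i
    · intro a ha
      rw [hi, hbK (pa.mem i)] at ha
      exact key i a ha
  intro k hk hkk
  obtain ⟨a, -, h2, -⟩ := F.exists_ak nil h E hb₀ hw hK hk hkk
  rw [← sI_eq_one, ← F.chi_val hw₀ h2]
  exact all hk hkk a h2

/-! ### Charts in the group -/

/-- a chart in the group -/
structure ChtG (Om : Set (Subgroup G)) (D : Set G) {I : Type*} [DecidableEq I] (e : I → I → G) : Prop where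
  cl : ∀ i j, e i j ∈ _root_.Subgroup.closure D
  add : ∀ i j k, e i j * e j k = e i k
  mem : ∀ i j k l, Dst i j k l → e i j * e k l ∈ D
  inB : ∀ i j k l, Dst i j k l → e i j ∈ RZ Om (e i j * e k l)
  swp : ∀ i j k l, Dst i j k l → ∀ p q, Swp Om (e i j * e k l) (e p q) ↔
    (dl i p + dl j p + dl k p + dl l p) + (dl i q + dl j q + dl k q + dl l q) = 1
  inj : ∀ i j k l i' j' k' l', Dst i j k l → Dst i' j' k' l' → e i j * e k l = e i' j' * e k' l' →
    i' = i ∨ i' = j ∨ i' = k ∨ i' = l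
  mem_B : ∀ i j k l, Dst i j k l → ∀ x ∈ closure D, x ∈ RZ Om (e i j * e k l) → x = 1 ∨ x = e i j * e k l ∨
    x = e i j ∨ x = e k l ∨ x = e i k ∨ x = e j l ∨ x = e i l ∨ x = e j k
  act : ∀ i j k l, Dst i j k l → ∃ K, Mem Om (e i j * e k l) K ∧ ∃ y ∈ K, y * y = e i j * e k l ∧
    ∀ p q, y * e p q * y⁻¹ = e (Equiv.swap i j (Equiv.swap k l p)) (Equiv.swap i j (Equiv.swap k l q))

/-- `v` is in the chart -/
def InG {I : Type*} (e : I → I → G) (v : G) : Prop := ∃ i j k l, Dst i j k l ∧ v = e i j * e k l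

end Fin

/-- the action of `V₄` in an abstract chart -/
theorem _root_.Cfsg.Agent.Cit.Nil.RTwoM.Blk.Cht.sg_eq {N : Type*} [AddCommGroup N] {D : Set N} {β : N → N → ZMod 2}
    {B : N → AddSubgroup N} {I : Type*} [DecidableEq I] {e : I → I → N} (c : Cht D β B e) (h : Blk.One D β B)
    {i j k l : I} (hd : Dst i j k l) (p q : I) :
    sg β 1 (e i j + e k l) (e i j) (e p q) =
      e (Equiv.swap i j (Equiv.swap k l p)) (Equiv.swap i j (Equiv.swap k l q)) := by
  have hadd : ∀ x y : N, sg β 1 (e i j + e k l) (e i j) (x + y) =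
      sg β 1 (e i j + e k l) (e i j) x + sg β 1 (e i j + e k l) (e i j) y := by
    intro x y
    simp only [sg, h.addl, h.sm_add]
    abel
  have s1 : Equiv.swap i j (Equiv.swap k l i) = j := by
    rw [Equiv.swap_apply_of_ne_of_ne hd.ik hd.il, Equiv.swap_apply_left]
  -- the special case
  have key : ∀ q, sg β 1 (e i j + e k l) (e i j) (e i q) = e j (Equiv.swap i j (Equiv.swap k l q)) := by
    intro q
    have f1 : β (e i q) (e i j + e k l) = (1 + dl i j + dl i k + dl i l) + (dl i q + dl j q + dl k q + dl l q) := by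
      rw [h.addr, c.form, c.form, dl_self, Blk.dl_comm q i, Blk.dl_comm q j, Blk.dl_comm q k, Blk.dl_comm q l]; ring
    have f2 : β (e i q) (e i j) = (1 + dl i j) + (dl i q + dl j q) := by
      rw [c.form, dl_self, Blk.dl_comm q i, Blk.dl_comm q j]; ring
    rw [dl_ne hd.ij, dl_ne hd.ik, dl_ne hd.il] at f1
    rw [dl_ne hd.ij] at f2
    by_cases q1 : q = i
    · subst q1
      rw [s1, c.self]
      have h0 : sg β 1 (e q j + e k l) (e q j) (0 : N) = 0 := by
        rw [sg, h.zl, h.zl, sm_zero, sm_zero, add_zero, add_zero]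
      rw [h0, c.self]
    by_cases q2 : q = j
    · subst q2
      rw [dl_ne hd.ij, dl_self, dl_ne hd.jk.symm, dl_ne hd.jl.symm] at f1
      rw [dl_ne hd.ij, dl_self] at f2
      rw [Equiv.swap_apply_of_ne_of_ne hd.jk hd.jl, Equiv.swap_apply_right, sg, f1, f2,
        show (1 : ZMod 2) + 0 + 0 + 0 + (0 + 1 + 0 + 0) = 0 by decide, show (1 : ZMod 2) + 0 + (0 + 1) = 0 by decide,
        sm_zero, sm_zero, add_zero, add_zero, c.sy h]
    by_cases q3 : q = k
    · subst q3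
      rw [dl_ne hd.ik, dl_ne hd.jk, dl_self, dl_ne hd.kl.symm] at f1
      rw [dl_ne hd.ik, dl_ne hd.jk] at f2
      rw [Equiv.swap_apply_left, Equiv.swap_apply_of_ne_of_ne hd.il.symm hd.jl.symm, sg, f1, f2,
        show (1 : ZMod 2) + 0 + 0 + 0 + (0 + 0 + 1 + 0) = 0 by decide, show (1 : ZMod 2) + 0 + (0 + 0) = 1 by decide,
        sm_zero, sm_one, add_zero, ← add_assoc, add_comm (e i q), c.add' h i j q, c.add]
    by_cases q4 : q = l
    · subst q4
      rw [dl_ne hd.il, dl_ne hd.jl, dl_ne hd.kl, dl_self] at f1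
      rw [dl_ne hd.il, dl_ne hd.jl] at f2
      rw [Equiv.swap_apply_right, Equiv.swap_apply_of_ne_of_ne hd.ik.symm hd.jk.symm, sg, f1, f2,
        show (1 : ZMod 2) + 0 + 0 + 0 + (0 + 0 + 0 + 1) = 0 by decide, show (1 : ZMod 2) + 0 + (0 + 0) = 1 by decide,
        sm_zero, sm_one, add_zero, ← add_assoc, add_comm (e i q), c.add' h i j q, c.sy h k q, c.add]
    · rw [dl_ne (Ne.symm q1), dl_ne (Ne.symm q2), dl_ne (Ne.symm q3), dl_ne (Ne.symm q4)] at f1
      rw [dl_ne (Ne.symm q1), dl_ne (Ne.symm q2)] at f2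
      rw [Equiv.swap_apply_of_ne_of_ne q3 q4, Equiv.swap_apply_of_ne_of_ne q1 q2, sg, f1, f2,
        show (1 : ZMod 2) + 0 + 0 + 0 + (0 + 0 + 0 + 0) = 1 by decide, show (1 : ZMod 2) + 0 + (0 + 0) = 1 by decide]
      simp only [sm_one]
      calc e i q + (e i j + (e i j + e k l)) + (e i j + e k l)
          = (e i j + e i q) + ((e i j + e k l) + (e i j + e k l)) := by abel
        _ = e j q := by rw [h.two, add_zero, c.add' h i j q]
  rw [← c.add' h i p q, hadd, key, key, c.add' h]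

section Fin

variable [Finite G]

/-- an abstract chart gives a chart in the group -/
theorem ChtG.of {N : Type*} [AddCommGroup N] {ι : N → G} {β : N → N → ZMod 2} {B : N → AddSubgroup N} {I : Type*}
    [DecidableEq I] {e : I → I → N} (nil : NilS Om D) (h : WM Om)
    (E : Emb D ι) (F : Form Om D ι β) (hB : ∀ b x, x ∈ B b ↔ ι x ∈ RZ Om (ι b))
    (one : Blk.One {b | ι b ∈ D ∧ ∃ w, β b w = 1} β B)
    (act : ∀ b, ι b ∈ D → (∃ w, β b w = 1) → ∀ a ∈ B b, a ≠ 0 → a ≠ b → ∃ K, Mem Om (ι b) K ∧ ∃ k ∈ K,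
      k * k = ι b ∧ ∀ n, k * ι n * k⁻¹ = ι (sg β 1 b a n))
    (c : Cht {b | ι b ∈ D ∧ ∃ w, β b w = 1} β B e) : ChtG Om D fun i j => ι (e i j) := by
  refine
    { cl := fun i j => E.cl _
      add := fun i j k => by rw [← E.add, c.add]
      mem := fun i j k l hd => by rw [← E.add]; exact (c.mem i j k l hd).1
      inB := fun i j k l hd => by rw [← E.add, ← hB]; exact c.inB i j k l hd
      swp := ?_
      inj := ?_
      mem_B := ?_
      act := ?_ }
  · intro i j k l hd p q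
    rw [← E.add, ← F.swp (c.mem i j k l hd).1, F.addl, c.form, c.form]
    have h1 : dl i p + dl i q + dl j p + dl j q + (dl k p + dl k q + dl l p + dl l q) =
        (dl i p + dl j p + dl k p + dl l p) + (dl i q + dl j q + dl k q + dl l q) := by ring
    rw [h1]
  · intro i j k l i' j' k' l' hd hd' he
    rw [← E.add, ← E.add] at he
    exact c.inj one hd hd' (E.inj he)
  · intro i j k l hd x hx hxB
    obtain ⟨x, rfl⟩ := E.ex hx
    rw [← E.add, ← hB] at hxB
    have f1 : β (e i j) (e i k) = 1 := by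
      rw [c.form, dl_self, dl_ne hd.ik, dl_ne hd.ij.symm, dl_ne hd.jk]; decide
    have h1 := one.cov (c.mem i j k l hd) (c.inB i j k l hd) (c.inB₂ one hd) f1 hxB
    have two := one.two
    have e1 : e i k + (e i j + e k l) = e j l := by
      rw [c.q₁ one, ← add_assoc, two, zero_add]
    have e2 : e i j + (e i j + e k l) = e k l := by rw [← add_assoc, two, zero_add]
    have e3 : e i k + e i j = e j k := by rw [add_comm, c.add' one]
    have e4 : e i k + e i j + (e i j + e k l) = e i l := by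
      rw [e3, c.q₂ one]
      calc e j k + (e i l + e j k) = e i l + (e j k + e j k) := by abel
        _ = _ := by rw [two, add_zero]
    rcases Blk.z2 (β x (e i k)) with p | p <;> rcases Blk.z2 (β x (e i j)) with q | q <;> rw [p, q] at h1 <;>
      simp only [sm_zero, sm_one, zero_add, add_zero] at h1 <;> rcases h1 with h1 | h1
    · left; rw [h1, E.zero]
    · right; left; rw [h1, E.add]
    · right; right; right; right; left; rw [h1]
    · right; right; right; right; right; left; rw [h1, e1]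
    · right; right; left; rw [h1]
    · right; right; right; left; rw [h1, e2]
    · right; right; right; right; right; right; right
      rw [h1, add_comm, e3]
    · right; right; right; right; right; right; left
      rw [h1, add_comm (e i j) (e i k), e4]
  · intro i j k l hd
    have hm := c.mem i j k l hd
    have f1 : β (e i j) (e i k) = 1 := by
      rw [c.form, dl_self, dl_ne hd.ik, dl_ne hd.ij.symm, dl_ne hd.jk]; decide
    have n0 : e i j ≠ 0 := by
      intro h0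
      rw [h0, one.zl] at f1
      exact absurd f1 (by decide)
    have n1 : e i j ≠ e i j + e k l := by
      intro h0
      rw [h0, one.perp _ hm _ (c.inB₂ one hd)] at f1
      exact absurd f1 (by decide)
    obtain ⟨K, hK, y, hy, hyy, h1⟩ := act _ hm.1 hm.2 _ (c.inB i j k l hd) n0 n1
    rw [E.add] at hK hyy
    exact ⟨K, hK, y, hy, hyy, fun p q => by rw [h1, c.sg_eq one hd]⟩

/-- **BLOCK THEOREM in the group** -/
theorem NilS.exists_block (nil : NilS Om D) (h : WM Om) (hp : Pat1 Om D) (hu : u ∈ D) (huw : ∃ w ∈ D, Swp Om u w) :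
    ∃ n, 5 ≤ n ∧ ∃ e : Fin n → Fin n → G, ChtG Om D e ∧ InG e u ∧
      ∀ v ∈ D, InG e v ∨ ((∀ i j, ¬ Swp Om v (e i j)) ∧ ∀ i j k l, Dst i j k l → CP Om v (e i j * e k l)) := by
  obtain ⟨N, _, _, ι, E⟩ := nil.exists_emb
  obtain ⟨β, F⟩ := nil.exists_form h E
  have two := E.two nil h
  obtain ⟨B, hB⟩ : ∃ B : N → AddSubgroup N, ∀ b x, x ∈ B b ↔ ι x ∈ RZ Om (ι b) := by
    refine ⟨fun b =>
      { carrier := {x | ι x ∈ RZ Om (ι b)}
        add_mem' := ?_
        zero_mem' := ?_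
        neg_mem' := ?_ }, fun b x => Iff.rfl⟩
    · intro x y hx hy
      show ι (x + y) ∈ RZ Om (ι b)
      rw [E.add]; exact mul_mem hx hy
    · show ι 0 ∈ RZ Om (ι b)
      rw [E.zero]; exact one_mem _
    · intro x hx
      show ι (-x) ∈ RZ Om (ι b)
      rw [E.neg]; exact inv_mem hx
  obtain ⟨one, act⟩ := nil.exists_one h E F B hB hp
  obtain ⟨u', rfl⟩ := E.ex (_root_.Subgroup.subset_closure hu)
  obtain ⟨w, hwD, hsw⟩ := huw
  obtain ⟨w', rfl⟩ := E.ex (_root_.Subgroup.subset_closure hwD)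
  have hu' : u' ∈ {b | ι b ∈ D ∧ ∃ w, β b w = 1} := ⟨hu, w', (F.swp hu).2 hsw⟩
  obtain ⟨n, hn, e, c, hin, hall⟩ := Blk.exists_block one hu'
  have cg := ChtG.of nil h E F hB one act c
  refine ⟨n, hn, _, cg, ?_, ?_⟩
  · obtain ⟨i, j, k, l, hd, h1⟩ := hin
    exact ⟨i, j, k, l, hd, by rw [h1, E.add]⟩
  · intro v hv
    obtain ⟨v', rfl⟩ := E.ex (_root_.Subgroup.subset_closure hv)
    by_cases hin' : InC e v'
    · left
      obtain ⟨i, j, k, l, hd, h1⟩ := hin'
      exact ⟨i, j, k, l, hd, by rw [h1, E.add]⟩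
    right
    have h0 : ∀ i j, β v' (e i j) = 0 := by
      by_cases hA : ∃ w, β v' w = 1
      · exact (hall v' ⟨hv, hA⟩).resolve_left hin'
      · intro i j
        rcases Blk.z2 (β v' (e i j)) with h1 | h1
        · exact h1
        · exact absurd ⟨_, h1⟩ hA
    refine ⟨fun i j => ?_, fun i j k l hd => ?_⟩
    · rw [← F.swp hv, h0]; decide
    · rw [← E.add]
      obtain ⟨hm, w, hw⟩ := c.mem i j k l hd
      refine F.cp_of nil h E hv hm hw (fun h1 => hin' ⟨i, j, k, l, hd, h1⟩) fun x hx => ?_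
      obtain ⟨p, q, r, s, rfl⟩ := c.mem_B one hd ((hB _ _).2 hx)
      rw [F.addr, h0, h0, zero_add]

end Fin

end Cfsg.Agent.Cit.Nil.RTwoM
end

-- part: Cit/Nil/RTwoM/NilZ
section
/-!
# S1309, (6b), (C3), `r = 2`, any `m`, `LAMBDA0`: the commuting sets `Z(s)` and `a0(z)`

* `A0 Om z = a0(z)`, `A0_conj`, `A0_subset`; `nilS_ZS`, `nilS_A0` : `NilS` (so the BLOCK THEOREM applies);
* `NZ Om s = N_s = ⟨Z(s)⟩`, `NZ_comm`, `NZ_sq`, `NZ_conj`; `LJ` : `[N_t, C_{R_x}(t)] ≤ N_t ⊓ R_x`.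
-/

set_option autoImplicit false
set_option linter.style.haveILetI false
set_option linter.unusedSectionVars false

namespace Cfsg.Agent.Cit.Nil.RTwoM

open Subgroup Cfsg Cfsg.Agent.Cit

open RTwo (Q3)
open RG (WR CP Ov InO Tr)
open RI (CS)

variable {G : Type*} [Group G] {Om : Set (Subgroup G)} {K L M : Subgroup G} {D : Set G}
  {b c d g g' k l m n r s t u v w x y z : G}

/-- `a0(z)` -/
def A0 (Om : Set (Subgroup G)) (z : G) : Set G := {u | InZ Om u ∧ CP Om z u}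

/-- `N_s = ⟨Z(s)⟩` -/
def NZ (Om : Set (Subgroup G)) (s : G) : Subgroup G := _root_.Subgroup.closure (ZS Om s)

section Fin

variable [Finite G]

theorem A0_conj (h : WM Om) (hg : g * z = z * g) (hu : u ∈ A0 Om z) : g * u * g⁻¹ ∈ A0 Om z := by
  refine ⟨hu.1.conj h g, ?_⟩
  have h1 := cp_conj h hu.2 g
  rwa [hg, mul_inv_cancel_right] at h1

theorem A0_subset (h : WM Om) (hz : InZ Om z) : A0 Om z ⊆ ZS Om z := fun _ hu => ⟨hu.1, cp_cx h hz hu.2.symm⟩

/-- `Z(z) = {z} ∪ a0(z)` -/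
theorem ZS_eq (h : WM Om) (hz : InZ Om z) (hu : u ∈ ZS Om z) : u = z ∨ u ∈ A0 Om z := by
  rcases (cen_iff h hu.1 hz).1 hu.2 with h1 | h1
  · exact Or.inl h1
  · exact Or.inr ⟨hu.1, h1.symm⟩

theorem ZS_RZ (hb : b ∈ ZS Om s) (hy : y ∈ RZ Om b) : y * s = s * y := (CX_comm hy hb.2).symm

theorem nilS_ZS (h : WM Om) (hc : ∀ x ∈ ZS Om s, ∀ y ∈ ZS Om s, x * y = y * x) : NilS Om (ZS Om s) where
  inZ _ hb := hb.1
  comm := hc
  nor _ hb _ hy _ hc' := ZS_conj h hc' (ZS_RZ hb hy)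

theorem nilS_ZS' (h : WM Om) (l0 : L0 Om) (an : ANt Om s) : NilS Om (ZS Om s) :=
  nilS_ZS h fun _ hx _ hy => ZS_comm h l0 an hx hy

theorem mem_NZ (hz : z ∈ ZS Om s) : z ∈ NZ Om s := _root_.Subgroup.subset_closure hz

theorem NZ_comm (h : WM Om) (l0 : L0 Om) (an : ANt Om s) (hx : x ∈ NZ Om s) (hy : y ∈ NZ Om s) : x * y = y * x :=
  (nilS_ZS' h l0 an).cl_comm hx hy

theorem NZ_sq (h : WM Om) (l0 : L0 Om) (an : ANt Om s) (hx : x ∈ NZ Om s) : x * x = 1 := (nilS_ZS' h l0 an).cl_sq h hx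

/-- `C(s) ≤ N(N_s)` -/
theorem NZ_conj (h : WM Om) (hg : g * s = s * g) (hx : x ∈ NZ Om s) : g * x * g⁻¹ ∈ NZ Om s :=
  cl_conj_of (fun _ hc => ZS_conj h hc hg) hx

/-- conjugation -/
theorem ZS_cj (h : WM Om) (g : G) (hz : z ∈ ZS Om s) : g * z * g⁻¹ ∈ ZS Om (g * s * g⁻¹) :=
  ⟨hz.1.conj h g, (CX_conj h g).2 hz.2⟩

/-- **(LJ)** -/
theorem LJ (h : WM Om) (hn : n ∈ NZ Om t) (hnx : n * x = x * n) (hr : r ∈ RZ Om x) (hrt : r * t = t * r) :
    n * r * n⁻¹ * r⁻¹ ∈ NZ Om t ∧ n * r * n⁻¹ * r⁻¹ ∈ RZ Om x := by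
  constructor
  · have h1 : n * r * n⁻¹ * r⁻¹ = n * (r * n⁻¹ * r⁻¹) := by group
    rw [h1]
    exact mul_mem hn (NZ_conj h hrt (inv_mem hn))
  · exact mul_mem (RZ_conj_comm h hnx hr) (inv_mem hr)

end Fin

end Cfsg.Agent.Cit.Nil.RTwoM
end

private theorem dce_60fc6295293a : _root_.True := by
  try have : _root_.True := by simp only [_root_.Cfsg.Agent.Cit.Nil.RTwoM.Blk.dl.congr_simp]
  try have : _root_.True := by simp only [_root_.Cfsg.Agent.Cit.Nil.RTwoM.Blk.sg.eq_1]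
  try have : _root_.True := by simp only [_root_.Cfsg.Agent.Cit.Nil.RTwoM.Blk.eInf.eq_1]
  try have : _root_.True := by simp only [_root_.Cfsg.Agent.Cit.Nil.RTwoM.Blk.eInf.eq_3]
  try have : _root_.True := by simp only [_root_.Cfsg.Agent.Cit.Nil.RTwoM.sI.eq_1]
  try have : _root_.True := by simp only [_root_.Cfsg.Agent.Cit.Nil.RTwoM.Blk.eInf.eq_4]
  try have : _root_.True := by simp only [_root_.Cfsg.Agent.Cit.Nil.RTwoM.Blk.eInf.eq_2]
  exact _root_.True.intro
end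

-- part: Cit/Nil/RTwoM/Star
section
set_option linter.all false
open scoped Cfsg.Agent.FastGrp

/-!
# S1309, (6b), (C3), `r = 2`, any `m`: `LAMBDA0`, the theorem STAR (helper762, bb #15764)

* `StarC Om` : the elements of `Z` which normalise `C_S` commute, all `S`;
* `StarC.of_inter` : `LAMBDA0`: enough: two elements `x`, `y` of `Z` normalising `C_S` have `T_x ∩ T_y ≠ 1`;
* `StarC.tr` : commuting is transitive on `Z`; `StarC.comZ`;
* `StarC.hP` : `z` commutes with `x z x⁻¹` : `z` commutes with `x`;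
* **`StarC.closed`** : `⟨Z ∩ C(z)⟩` is strongly closed in `S`, `z ∈ C_S`.
-/

set_option autoImplicit false
set_option linter.style.haveILetI false
set_option linter.unusedSectionVars false

namespace Cfsg.Agent.Cit.Nil.RTwoM

open Subgroup Cfsg Cfsg.Agent.Cit

open RG (WR CP Ov InO)
open RI (CS)
open RFour (ComZ AZ)

variable {G : Type*} [Group G] {Om : Set (Subgroup G)} {K L M : Subgroup G} {a c d s t u v x y z g k n : G}

/-- the elements of `Z` normalising `C_S` commute -/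
def StarC (Om : Set (Subgroup G)) : Prop := ∀ (S : Sylow 2 G), ∀ x y, InZ Om x → InZ Om y →
  NCS Om (S : Subgroup G) x → NCS Om (S : Subgroup G) y → x * y = y * x

section Fin

variable [Finite G]

/-- a 2-group containing the members in `S` normalises `C_S` -/
theorem NCS_of_pgroup (h : WM Om) (S : Sylow 2 G) {P : Subgroup G} (hP : IsPGroup 2 P)
    (hD : ∀ K ∈ Om, K ≤ (S : Subgroup G) → K ≤ P) (hx : x ∈ P) : NCS Om (S : Subgroup G) x := by
  haveI : Fact (Nat.Prime 2) := ⟨Nat.prime_two⟩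
  obtain ⟨S', hS'⟩ := hP.exists_le_sylow
  obtain ⟨g, hg⟩ := MulAction.exists_smul_eq G S S'
  have hgS : (S' : Subgroup G) = cj g S := by
    rw [← hg]
    rfl
  have h1 := ncard_cj h g (S : Subgroup G)
  rw [← hgS] at h1
  have h2 : {K | K ∈ Om ∧ K ≤ (S : Subgroup G)} ⊆ {K | K ∈ Om ∧ K ≤ (S' : Subgroup G)} := fun K hK =>
    ⟨hK.1, (hD K hK.1 hK.2).trans hS'⟩
  have h3 : {K | K ∈ Om ∧ K ≤ (S : Subgroup G)} = {K | K ∈ Om ∧ K ≤ (S' : Subgroup G)} :=
    Set.eq_of_subset_of_ncard_le h2 (le_of_eq h1) (Set.toFinite _)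
  rintro z ⟨K, hK, hKS⟩
  have h4 : z ∈ CS Om (S' : Subgroup G) := ⟨K, hK, (hD K hK.1 hKS).trans hS'⟩
  obtain ⟨L, hL, hLS⟩ := CS.conj h4 h (hS' hx)
  refine ⟨L, hL, ?_⟩
  have h5 : L ∈ {K | K ∈ Om ∧ K ≤ (S : Subgroup G)} := by rw [h3]; exact ⟨hL.1, hLS⟩
  exact h5.2

/-- the C-partners of `v ∈ C_S` normalise `C_S` -/
theorem NCS_of_cp (h : WM Om) (an : ANT Om) (S : Sylow 2 G) (hv : v ∈ CS Om (S : Subgroup G)) (hu : InZ Om u)
    (hc : CP Om v u) : NCS Om (S : Subgroup G) u := by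
  have hvT : v ∈ TT Om (S : Subgroup G) := CS.mem_TT hv
  have hvZ := CS.inZ hv
  obtain ⟨N, -, hN, h2, huN⟩ := (an S v hvT (hvZ.z1 h)).inO ⟨hu, cp_cx h hvZ hc.symm⟩
  -- the group generated by the members in `S`
  obtain ⟨D, hD⟩ : ∃ D : Subgroup G, D = sSup {K | K ∈ Om ∧ K ≤ (S : Subgroup G)} := ⟨_, rfl⟩
  have hDS : D ≤ S := by rw [hD]; exact sSup_le fun K hK => hK.2
  have hDv : D ≤ centralizer {v} := by
    rw [hD]
    refine sSup_le fun K hK k hk => ?_
    rw [mem_centralizer_singleton_iff]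
    have h3 : zz K ∈ CS Om (S : Subgroup G) := ⟨K, ⟨hK.1, rfl⟩, hK.2⟩
    exact (TT_cen h S.isPGroup' h3 hvT (Mem.le_RZ (z := zz K) ⟨hK.1, rfl⟩ hk)).symm
  have hP : IsPGroup 2 (D ⊔ N : Subgroup G) := (S.isPGroup'.to_le hDS).to_sup_of_normal_right' h2 (hDv.trans hN)
  refine NCS_of_pgroup h S hP (fun K hK hKS => ?_) (mem_sup_right huN)
  refine le_trans ?_ le_sup_left
  rw [hD]
  exact le_sSup ⟨hK, hKS⟩

/-- commuting elements of `Z` : `x` normalises some `C_S` with `v ∈ C_S` -/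
theorem exists_NCS (h : WM Om) (hv : InZ Om v) (hx : InZ Om x) (hc : v * x = x * v) :
    ∃ S : Sylow 2 G, v ∈ CS Om (S : Subgroup G) ∧ x ∈ (S : Subgroup G) := by
  haveI : Fact (Nat.Prime 2) := ⟨Nat.prime_two⟩
  obtain ⟨K, hK⟩ := hv
  obtain ⟨L, hL, hne, hall⟩ := hK.other h
  have hR2 : IsPGroup 2 (RZ Om v) := by rw [← RR_eq]; exact h.wr.RR_two hK.inZ.zz
  have hX2 : IsPGroup 2 (zpowers x) := by
    refine IsPGroup.of_card (n := 1) ?_
    rw [Nat.card_zpowers, pow_one]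
    exact hx.orderOf h
  have hn : zpowers x ≤ normalizer (RZ Om v : Set G) := by
    rw [zpowers_le, mem_normalizer_iff]
    intro r
    refine ⟨fun hr => RZ_conj_comm h hc.symm hr, fun hr => ?_⟩
    have h1 : x⁻¹ * v = v * x⁻¹ := by rw [inv_mul_eq_iff_eq_mul, ← mul_assoc, ← hc, mul_inv_cancel_right]
    have h2 := RZ_conj_comm h h1 hr
    rwa [inv_inv, show x⁻¹ * (x * r * x⁻¹) * x = r by group] at h2
  obtain ⟨S, hS⟩ := (hX2.to_sup_of_normal_right' hR2 hn).exists_le_sylow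
  exact ⟨S, ⟨K, hK, (hK.le_RZ.trans le_sup_right).trans hS⟩, hS (mem_sup_left (mem_zpowers x))⟩

namespace StarC

variable (st : StarC Om)

include st

/-- an element of `Z` normalising `C_S` centralises the C-partners of the elements of `C_S` -/
theorem comm_cp (h : WM Om) (an : ANT Om) (S : Sylow 2 G) (hv : v ∈ CS Om (S : Subgroup G)) (hx : InZ Om x)
    (hxS : NCS Om (S : Subgroup G) x) (hu : InZ Om u) (hc : v = u ∨ CP Om v u) : x * u = u * x := by
  rcases hc with rfl | hc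
  · refine st S x v hx hu hxS (NCS_of_mem h ?_)
    obtain ⟨K, hK, hKS⟩ := hv
    exact hKS (Mem.zmem hK h)
  · exact st S x u hx hu hxS (NCS_of_cp h an S hv hu hc)

/-- the elements of `Z` normalising `C_S` depend only on `v ∈ C_S` -/
theorem ncs (h : WM Om) (an : ANT Om) (S S' : Sylow 2 G) (hv : v ∈ CS Om (S : Subgroup G))
    (hv' : v ∈ CS Om (S' : Subgroup G)) (hx : InZ Om x) (hxS : NCS Om (S : Subgroup G) x) :
    NCS Om (S' : Subgroup G) x := by
  refine NCS_of_comm fun u hu => st.comm_cp h an S hv hx hxS (CS.inZ hu) ?_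
  by_cases hne : v = u
  · exact Or.inl hne
  · exact Or.inr (CS.cp hv' h S'.isPGroup' hu hne)

/-- **commuting is transitive on `Z`** -/
theorem tr (h : WM Om) (an : ANT Om) (hz : InZ Om z) (hs : InZ Om s) (ht : InZ Om t) (h1 : z * s = s * z)
    (h2 : z * t = t * z) : s * t = t * s := by
  obtain ⟨S, hS, hsS⟩ := exists_NCS h hz hs h1
  obtain ⟨S', hS', htS⟩ := exists_NCS h hz ht h2
  exact st S s t hs ht (NCS_of_mem h hsS) (st.ncs h an S' S hS' hS ht (NCS_of_mem h htS))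

theorem comZ (h : WM Om) (an : ANT Om) : ComZ (RG.ZZ Om) where
  sq _ hz := h.wr.zz_sq hz
  ne _ hz := h.wr.zz_ne hz
  conj _ hz g := h.wr.zz_cj hz g
  tr _ hz _ hs _ ht h1 h2 := st.tr h an hz hs ht h1 h2

/-- `z` commutes with `x z x⁻¹` : `z` commutes with `x` -/
theorem hP (h : WM Om) (an : ANT Om) (hz : InZ Om z) (hx : InZ Om x) (hc : z * (x * z * x⁻¹) = (x * z * x⁻¹) * z) :
    z * x = x * z := by
  haveI : Fact (Nat.Prime 2) := ⟨Nat.prime_two⟩
  have c := st.comZ h an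
  obtain ⟨M, hM⟩ : ∃ M, M = normalizer (AZ (RG.ZZ Om) z : Set G) := ⟨_, rfl⟩
  have hxM : x ∈ M := by rw [hM]; exact c.mem_norm_of hz hc
  obtain ⟨S, hS, -⟩ := exists_NCS h hz hz rfl
  have hSM : (S : Subgroup G) ≤ M := by
    intro s hs
    rw [hM]
    exact c.mem_norm_of hz (CS.comm hS h S.isPGroup' (CS.conj hS h hs))
  have h1 : IsPGroup 2 (zpowers (⟨x, hxM⟩ : M)) := by
    refine IsPGroup.of_card (n := 1) ?_
    rw [Nat.card_zpowers, pow_one, ← orderOf_injective M.subtype (Subtype.coe_injective)]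
    exact hx.orderOf h
  obtain ⟨m, hm⟩ := exists_le_cj (S.subtype hSM) h1
  have h2 : (m : G)⁻¹ * x * m ∈ (S : Subgroup G) := by
    have h3 := mem_cj.1 (hm (mem_zpowers _))
    exact h3
  have hmx : InZ Om ((m : G)⁻¹ * x * m) := by
    have := hx.conj h (m : G)⁻¹
    rwa [inv_inv] at this
  have h3 : (m : G)⁻¹ * x * m * z = z * ((m : G)⁻¹ * x * m) :=
    st.comm_cp h an S hS hmx (NCS_of_mem h h2) hz (Or.inl rfl)
  have h4 : (m : G) * z * (m : G)⁻¹ ∈ AZ (RG.ZZ Om) z := by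
    have h5 : (m : G) ∈ normalizer (AZ (RG.ZZ Om) z : Set G) := by rw [← hM]; exact m.2
    exact (mem_normalizer_iff.1 h5 z).1 (ComZ.self_mem hz)
  have h5 : (m * z * (m : G)⁻¹) * z = z * (m * z * (m : G)⁻¹) := c.AZ_comm hz _ h4 _ (ComZ.self_mem hz)
  have h6 : (m * z * (m : G)⁻¹) * x = x * (m * z * (m : G)⁻¹) := by
    calc (m * z * (m : G)⁻¹) * x = m * (z * ((m : G)⁻¹ * x * m)) * (m : G)⁻¹ := by group
      _ = m * ((m : G)⁻¹ * x * m * z) * (m : G)⁻¹ := by rw [h3]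
      _ = _ := by group
  exact st.tr h an (hz.conj h m) hz hx h5 h6

/-- **STAR** : a strongly closed commutative subgroup -/
theorem closed (h : WM Om) (l0 : L0 Om) (an : ANT Om) (S : Sylow 2 G) (hz : z ∈ CS Om (S : Subgroup G)) :
    IsStronglyClosed (AZ (RG.ZZ Om) z) (S : Subgroup G) := by
  have c := st.comZ h an
  refine RI.closed_of h.wr c (fun z hz x hx hc => st.hP h an hz hx hc) S hz ?_
  intro t ht ht1 g hg
  have h1 : z ∈ ZS Om t := CS_subset_ZS h S.isPGroup' ht hz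
  exact c.mem_norm_of (CS.inZ hz) (ZS_comm h l0 (an S t ht ht1) h1 (ZS_conj h h1 hg))

end StarC

end Fin

end Cfsg.Agent.Cit.Nil.RTwoM
end

-- part: Cit/Nil/RTwoM/TFour
section
prune_inst 0x4000004001122000000180010200020001000000000030001e16003020a000000a0030e0108400600101008c0400000200208005040300000000000000000012000035022823c0c00110000001001180c00000000000000000000000000000000000000000
set_option linter.all false
open scoped Cfsg.Agent.FastGrp

-- part: Cit/Nil/RTwoM/ANStar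
section
/-!
# S1309, (6b), (C3), `r = 2`, any `m`, `LAMBDA0`: (AN*) (#17219)

* `ANS Om` : (AN*): for every involution `e` of `G`: `z ∈ Z*(e)` (`z ∈ Z(e)` has a C-partner in `Z(e)`) implies
  `z ∈ O_2(C(e))`;
* `ino_comm_mem` : `u ∈ Z(e) ∩ O_2(C(e))`, `e` centralises a member over `x`: `x`, `u` commute;
* **`ANS.comm_gen`** : `Z*(e) ≠ ∅`, `u ∈ Z(e)`, `e` centralises a member over `x`: `x`, `u` commute;
* `ANS.mem_NC` : `z ∈ Z*(e)`, `x ∈ Z(e)`: `x = z`, C-pair or `x ∈ ⟨z^{C(e)}⟩`;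
* `ANS.no_inv` (**): `x`, `u` do not commute, `z ∈ a0(u)`: `C(R_z R_u) ∩ C(R_x)` has no involution;
* `ANS.w_comm`, `ANS.ti_comm` (1); `ANS.faithful` (2); `ANS.inter` : the form for `⟨R_j : j ∈ A⟩`.
-/

set_option autoImplicit false
set_option linter.style.haveILetI false
set_option linter.unusedSectionVars false

namespace Cfsg.Agent.Cit.Nil.RTwoM

open Subgroup Cfsg Cfsg.Agent.Cit

open RG (WR CP Ov InO)
open RI (CS)
open ROne (NC self_mem_NC conj_mem_NC cj_NC mem_NC_conj NC_le)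

variable {G : Type*} [Group G] {Om : Set (Subgroup G)} {K L M : Subgroup G} {a c d e s t u v w x y z z' g k n : G}

/-- (AN*) -/
def ANS (Om : Set (Subgroup G)) : Prop := ∀ e z u, e * e = 1 → e ≠ 1 → z ∈ ZS Om e → u ∈ ZS Om e → CP Om z u →
  InO (centralizer {e}) z

section Fin

variable [Finite G]

/-! ### `⟨y^{C(s)}⟩` for one `y ∈ Z(s) ∩ O_2(C(s))` -/

theorem ino_cj (hO : InO (centralizer {s}) y) (hg : g * s = s * g) : InO (centralizer {s}) (g * y * g⁻¹) := by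
  obtain ⟨N, h1, h2, h3, h4⟩ := hO
  exact ⟨N, h1, h2, h3, (mem_normalizer_iff.1 (h2 (mem_centralizer_singleton_iff.2 hg)) y).1 h4⟩

theorem ino_two (hO : InO (centralizer {s}) y) : IsPGroup 2 (NC s y) := by
  obtain ⟨N, -, hN, h2, hyN⟩ := hO
  refine h2.to_le ((closure_le _).2 ?_)
  rintro _ ⟨g, hg, rfl⟩
  exact (mem_normalizer_iff.1 (hN (mem_centralizer_singleton_iff.2 hg)) y).1 hyN

theorem ino_orb (hO : InO (centralizer {s}) y) (h : WM Om) (hy : y ∈ ZS Om s) (hK : Mem Om y K) :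
    Cit.ROne.Orb Om (centralizer {s}) (NC s y) {L | ∃ g ∈ centralizer {s}, Cit.cj g K = L} := by
  have hS : (zz '' {L | ∃ g ∈ centralizer {s}, Cit.cj g K = L}) = {t | ∃ g, g * s = s * g ∧ t = g * y * g⁻¹} := by
    ext t
    constructor
    · rintro ⟨_, ⟨g, hg, rfl⟩, rfl⟩
      exact ⟨g, mem_centralizer_singleton_iff.1 hg, (hK.cj h g).2⟩
    · rintro ⟨g, hg, rfl⟩
      exact ⟨_, ⟨g, mem_centralizer_singleton_iff.2 hg, rfl⟩, (hK.cj h g).2⟩
  have h2 : ∀ L ∈ Om, IsPGroup 2 L := fun L hL => h.isPGroup hL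
  have := Cit.ROne.Orb.of_orbit h.hyp h2 hK.1 (H := centralizer {s}) (Mem.le_cent hK hy) (by
    rw [hS]; exact ino_two hO)
  rwa [hS] at this

/-- **(2.4)** for members -/
theorem ino_mem_or (hO : InO (centralizer {s}) y) (h : WM Om) (hK : Mem Om x K) (hKs : ∀ k ∈ K, s * k = k * s) :
    x ∈ NC s y ∨ ∀ n ∈ NC s y, ∀ k ∈ K, k * n = n * k := by
  by_cases hxN : x ∈ NC s y
  · exact Or.inl hxN
  right
  intro n hn k hk
  have hKle : K ≤ centralizer {s} := fun k hk => by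
    rw [mem_centralizer_singleton_iff]; exact (hKs k hk).symm
  exact h.hyp.lemma_one hK.1 (h.isPGroup hK.1) (ino_two hO) (hKle.trans NC_norm) (by rw [hK.2]; exact hxN) k hk n hn

/-- `LAMBDA0` : `⟨y^{C(s)}⟩` is commutative -/
theorem ino_comm (hO : InO (centralizer {s}) y) (h : WM Om) (l0 : L0 Om) (hy : y ∈ ZS Om s) :
    ∀ a ∈ NC s y, ∀ b ∈ NC s y, a * b = b * a := by
  by_contra hn
  obtain ⟨K, hK⟩ := hy.1
  have o := ino_orb hO h hy hK
  obtain ⟨x, hx, hxZ, hxy⟩ : ∃ x ∈ NC s y, InZ Om x ∧ x * y ≠ y * x := by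
    by_contra hcon
    push Not at hcon
    apply o.zz_not_central hn ⟨1, one_mem _, cj_one _⟩
    have h1 : NC s y ≤ centralizer {y} := by
      refine (closure_le _).2 ?_
      rintro _ ⟨g, hg, rfl⟩
      rw [SetLike.mem_coe, mem_centralizer_singleton_iff]
      exact hcon _ (conj_mem_NC hg) (hy.1.conj h g)
    intro x hx
    rw [hK.2]
    exact (mem_centralizer_singleton_iff.1 (h1 hx)).symm
  have hne : y ≠ x * y * x⁻¹ := fun h1 => hxy (by rw [eq_mul_inv_iff_mul_eq] at h1; exact h1.symm)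
  have hKn := hK.cj h x
  have hKne : K ≠ Cit.cj x K := by
    intro h1
    rw [← h1] at hKn
    exact hne (hK.2.symm.trans hKn.2)
  have h1 := o.comm_cj hn ⟨1, one_mem _, cj_one _⟩ hx hKne
  exact l0 y x hy.1 hxZ (cp_of_cen h hK (hy.1.conj h x) hne fun k hk => (h1 k hk _ (hKn.zmem h)).symm)

/-- `u ∈ Z(e) ∩ O_2(C(e))`, `e` centralises a member over `x`: `x` and `u` commute -/
theorem ino_comm_mem (hO : InO (centralizer {e}) u) (h : WM Om) (l0 : L0 Om) (hu : u ∈ ZS Om e) (hK : Mem Om x K)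
    (hKe : ∀ k ∈ K, e * k = k * e) : x * u = u * x := by
  rcases ino_mem_or hO h hK hKe with h1 | h1
  · exact ino_comm hO h l0 hu x h1 u self_mem_NC
  · exact h1 u self_mem_NC x (hK.zmem h)

theorem ZS_cen (hz : z ∈ ZS Om e) (hK : Mem Om z K) : ∀ k ∈ K, e * k = k * e := mem_CX.1 hz.2 K hK

/-- C-pairs and `X` -/
theorem RZ_le_CX (h : WM Om) (hc : CP Om z u) : RZ Om z ≤ CX Om u := fun r hr => by
  rw [mem_CX]
  intro K hK k hk
  exact cp_RZ h hc hr (hK.le_RZ hk)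

namespace ANS

variable (an : ANS Om)

include an

/-- **`Z*(e) ≠ ∅`: `u ∈ Z(e)` commutes with `x` if `e` centralises a member over `x`** -/
theorem comm_gen (h : WM Om) (l0 : L0 Om) (he : e * e = 1) (he1 : e ≠ 1) (hz : z ∈ ZS Om e) (hz' : z' ∈ ZS Om e)
    (hc : CP Om z z') (hu : u ∈ ZS Om e) (hK : Mem Om x K) (hKe : ∀ k ∈ K, e * k = k * e) : x * u = u * x := by
  have hO := an e z z' he he1 hz hz' hc
  obtain ⟨M, hM⟩ := hu.1
  rcases ino_mem_or hO h hM (ZS_cen hu hM) with h1 | h1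
  · -- `x` commutes with `⟨z^{C(e)}⟩`
    have h2 : NC e z ≤ centralizer {x} := by
      refine (closure_le _).2 ?_
      rintro _ ⟨g, hg, rfl⟩
      rw [SetLike.mem_coe, mem_centralizer_singleton_iff]
      exact (ino_comm_mem (ino_cj hO hg) h l0 (ZS_conj h hz hg) hK hKe).symm
    exact (mem_centralizer_singleton_iff.1 (h2 h1)).symm
  · by_cases hzu : u = z
    · rw [hzu]; exact ino_comm_mem hO h l0 hz hK hKe
    · have h2 : CP Om u z := cp_of_cen h hM hz.1 hzu fun k hk => (h1 z self_mem_NC k hk).symm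
      exact ino_comm_mem (an e u z he he1 hu hz h2) h l0 hu hK hKe

/-- the elements of `Z(e)` commute if `Z*(e) ≠ ∅` -/
theorem comm_ZS (h : WM Om) (l0 : L0 Om) (he : e * e = 1) (he1 : e ≠ 1) (hz : z ∈ ZS Om e) (hz' : z' ∈ ZS Om e)
    (hc : CP Om z z') (hu : u ∈ ZS Om e) (hx : x ∈ ZS Om e) : x * u = u * x := by
  obtain ⟨K, hK⟩ := hx.1
  exact an.comm_gen h l0 he he1 hz hz' hc hu hK (ZS_cen hx hK)

/-- the C-pair `(z, u)` and `x` : the form with a member over `x` -/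
theorem no_mem (h : WM Om) (l0 : L0 Om) (hz : InZ Om z) (hu : InZ Om u) (hc : CP Om z u) (hxu : x * u ≠ u * x)
    (he : e * e = 1) (hez : e ∈ CX Om z) (heu : e ∈ CX Om u) (hK : Mem Om x K) (hKe : ∀ k ∈ K, e * k = k * e) :
    e = 1 := by
  by_contra he1
  exact hxu (an.comm_gen h l0 he he1 ⟨hz, hez⟩ ⟨hu, heu⟩ hc ⟨hu, heu⟩ hK hKe)

end ANS

end Fin

end Cfsg.Agent.Cit.Nil.RTwoM
end

-- part: Cit/Nil/RTwoM/MThree/Base
section
/-!
# S1309, (6b), (C3), `r = 2`, `m = 3`, `|T| = 4` (helper545, bb #18935): the world, (1)-(4)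

* `A0 Om z = a₀(z)` : the C-partners of `z`; `W3 Om` : the world (`third`: the cliques are `{z, u, z u}`);
* `swp_mul` : parity; `ff_mul` : `x` of type `f` at `z`: `z x ∈ Z`;
* `W3.comm`, `W3.not_ff`, `W3.dich` : two elements of `a₀(z)`;
* `W3.thin` (1) : `Z ∩ R_x = {x}`; `W3.pp` (2) : `q` a swap at `x`: `x q ∉ Z`; `W3.swp_symm`, `W3.ff_symm`;
* `W3.faith` (4), `W3.not_ti` : `x ∈ Z ∩ C(z)` moving some `u ∈ a₀(z)` is not of type I with `z`.
-/

set_option autoImplicit false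
set_option linter.style.haveILetI false
set_option linter.unusedSectionVars false

namespace Cfsg.Agent.Cit.Nil.RTwoM.MThree

open Subgroup Cfsg Cfsg.Agent.Cit

open RTwo (Q3)
open RG (WR CP Ov InO Tr)
open RI (CS)
open ROne (NC self_mem_NC conj_mem_NC cj_NC mem_NC_conj NC_le)

variable {G : Type*} [Group G] {Om : Set (Subgroup G)} {K L M : Subgroup G}
  {a b c d e g g' k l n q r s t u v w x y z : G}

/-- `a₀(z)` -/
def A0 (Om : Set (Subgroup G)) (z : G) : Set G := {u | InZ Om u ∧ CP Om z u}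

/-- the world `m = 3`, `|T| = 4` -/
structure W3 (Om : Set (Subgroup G)) : Prop where
  w : WM Om
  l0 : L0 Om
  an : ANT Om
  oc : OneCl Om
  as : ∀ e z u x, e * e = 1 → e ≠ 1 → InZ Om z → InZ Om u → CP Om z u → e ∈ CX Om z → e ∈ CX Om u → InZ Om x →
    e ∈ CX Om x → x * z = z * x
  mul : ∀ z u, InZ Om z → InZ Om u → CP Om z u → InZ Om (z * u)
  ex : ∀ z, InZ Om z → ∃ u, InZ Om u ∧ CP Om z u
  third : ∀ z u v, InZ Om z → InZ Om u → InZ Om v → CP Om z u → CP Om z v → CP Om u v → v = z * u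

section Fin

variable [Finite G]

/-! ### Parity -/

theorem swp_iff (h : WM Om) (hK : Mem Om x K) (hg : g * x = x * g) : Swp Om x g ↔ cj g K ≠ K :=
  ⟨fun h1 => h1.2 K hK, fun h1 => Swp.of_one h hK hg h1⟩

/-- **parity** -/
theorem swp_mul (h : WM Om) (hx : InZ Om x) (hg : g * x = x * g) (hg' : g' * x = x * g') :
    ¬ Swp Om x (g * g') ↔ (Swp Om x g ↔ Swp Om x g') := by
  obtain ⟨K, hK⟩ := hx
  obtain ⟨L, hL, hne, -⟩ := hK.other h
  have hgg : g * g' * x = x * (g * g') := by rw [mul_assoc, hg', ← mul_assoc, hg, mul_assoc]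
  rw [swp_iff h hK hg, swp_iff h hK hg', swp_iff h hK hgg, cj_mul, not_not]
  rcases cj_cases h hK hL hne hg with ⟨h1, h2⟩ | ⟨h1, h2⟩ <;> rcases cj_cases h hK hL hne hg' with ⟨h3, h4⟩ | ⟨h3, h4⟩
  · rw [h3, h1]; (clear * -; tauto)
  · rw [h3, h2, h1]
    constructor
    · intro h5; exact absurd h5.symm hne
    · intro h5; exact absurd rfl (h5.2 hne.symm)
  · rw [h3, h1]
    constructor
    · intro h5; exact absurd h5.symm hne
    · intro h5; exact absurd rfl (h5.1 hne.symm)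
  · rw [h3, h2, h1]
    constructor
    · intro _; exact Iff.rfl
    · intro _; rfl

/-- `x` of type `f` at `z` : `z x ∈ Z` -/
theorem ff_mul (h : WM Om) (hz : InZ Om z) (hx : InZ Om x) (hf : Ff Om z x) : InZ Om (z * x) := by
  obtain ⟨K, hK⟩ := hz
  obtain ⟨a, ha⟩ := hf.exists_tr h (hx.z2 h) hK
  have h1 := Tr.inv' ha hK h
  have h2 := hx.conj h a⁻¹
  rw [inv_inv] at h2
  have h3 : a⁻¹ * x * a = z * x := by
    -- `x a = z a x`
    rw [mul_inv_eq_iff_eq_mul] at h1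
    have haz := hK.comm_z h ha.mem
    calc a⁻¹ * x * a = a⁻¹ * (x * a) := by group
      _ = a⁻¹ * (z * a * x) := by rw [h1]
      _ = a⁻¹ * (a * z) * x := by rw [haz]; group
      _ = z * x := by group
  rwa [h3] at h2

theorem A0.inZ (hu : u ∈ A0 Om z) : InZ Om u := hu.1
theorem A0.cp (hu : u ∈ A0 Om z) : CP Om z u := hu.2

/-- the types of a commuting pair -/
theorem ff_ncp (hf : Ff Om z t) (h : WM Om) (hz : InZ Om z) (ht : InZ Om t) : ¬ CP Om z t :=
  Out.not_cp ⟨hf.1, Or.inr hf.2⟩ h hz ht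

theorem ff_nti (hf : Ff Om z t) (h : WM Om) : ¬ TI Om z t := Out.not_ti ⟨hf.1, Or.inr hf.2⟩ h

theorem sw_ncp (hs : Swp Om z t) (h : WM Om) (hz : InZ Om z) (ht : InZ Om t) : ¬ CP Om z t :=
  Out.not_cp ⟨hs.1, Or.inl hs⟩ h hz ht

theorem sw_nti (hs : Swp Om z t) (h : WM Om) : ¬ TI Om z t := Out.not_ti ⟨hs.1, Or.inl hs⟩ h

theorem sw_ne (hs : Swp Om z t) (hz : InZ Om z) (h : WM Om) : z ≠ t := by
  rintro rfl
  obtain ⟨K, hK⟩ := hz
  exact hs.2 K hK (Inn.cj_eq (Inn.of_CX (z_mem_CX h)) hK h)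

theorem ff_ne (hs : Ff Om z t) (hz : InZ Om z) (h : WM Om) : z ≠ t := by
  rintro rfl
  obtain ⟨K, hK⟩ := hz
  exact (hs.2 K hK).2 (Inn.of_CX (z_mem_CX h) K hK)

/-- the four types -/
theorem four (h : WM Om) (hz : InZ Om z) (ht : InZ Om t) (hne : z ≠ t) (hc : z * t = t * z) :
    CP Om z t ∨ TI Om z t ∨ Swp Om z t ∨ Ff Om z t := by
  rcases tri h hz ht hne hc with h1 | h1 | ⟨h1, -⟩
  · exact Or.inl h1
  · exact Or.inr (Or.inl h1)
  · rcases h1.cases with h2 | h2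
    · exact Or.inr (Or.inr (Or.inl h2))
    · exact Or.inr (Or.inr (Or.inr h2))

/-- conjugates of a swap under `K` -/
theorem conj_swp (hs : Swp Om z x) (h : WM Om) (hx : x * x = 1) (hK : Mem Om z K) (hk : k ∈ K) :
    k * x * k⁻¹ = x * ((k⁻¹ * k⁻¹) * qq x k) := by
  have h1 := hs.cm h hK (inv_mem hk) hk
  have hx' : x⁻¹ = x := inv_eq_of_mul_eq_one_right hx
  calc k * x * k⁻¹ = x * ((x⁻¹ * k * x) * k⁻¹) := by group
    _ = x * ((x * k * x⁻¹) * k⁻¹) := by rw [hx']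
    _ = x * (k⁻¹ * (x * k * x⁻¹)) := by rw [h1]
    _ = x * ((k⁻¹ * k⁻¹) * qq x k) := by rw [qq]; group

namespace W3

variable (h : W3 Om)

include h

theorem an1 (hz : InZ Om z) : ANt Om z := by
  obtain ⟨S, hS⟩ := exists_sylow h.w hz
  exact h.an S z (CS.mem_TT hS) (hz.z1 h.w)

theorem mem_ZS (hz : InZ Om z) (hu : u ∈ A0 Om z) : u ∈ ZS Om z := ⟨hu.1, cp_cx h.w hz hu.2.symm⟩

theorem comm (hz : InZ Om z) (hu : u ∈ A0 Om z) (hv : v ∈ A0 Om z) : u * v = v * u :=
  ZS_comm h.w h.l0 (h.an1 hz) (h.mem_ZS hz hu) (h.mem_ZS hz hv)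

theorem comm_z (hz : InZ Om z) (hu : u ∈ A0 Om z) : z * u = u * z := cp_comm h.w hz hu.1 hu.2

theorem not_ff' (hz : InZ Om z) (hu : u ∈ ZS Om z) (hv : v ∈ ZS Om z) : ¬ Ff Om u v := by
  rcases NC_mem_or h.w (h.an1 hz) hu hv with h1 | h1
  · exact not_ff_of_NC h.w (h.an1 hz) hu h1
  · intro hf
    have h2 : u ∈ CX Om v := by
      rw [mem_CX]
      intro K hK k hk
      exact (h1 u self_mem_NC k (hK.le_RZ hk)).symm
    rcases (cen_iff h.w hv.1 hu.1).1 h2 with h3 | h3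
    · exact ff_ne hf hu.1 h.w h3.symm
    · exact ff_ncp hf h.w hu.1 hv.1 h3.symm

theorem not_ff (hz : InZ Om z) (hu : u ∈ A0 Om z) (hv : v ∈ A0 Om z) : ¬ Ff Om u v :=
  h.not_ff' hz (h.mem_ZS hz hu) (h.mem_ZS hz hv)

/-- `z u ∈ a₀(z)` -/
theorem mul_mem (hz : InZ Om z) (hu : u ∈ A0 Om z) : z * u ∈ A0 Om z := by
  have h1 := h.mul z u hz hu.1 hu.2
  refine ⟨h1, ?_⟩
  have h2 : z * u ∈ CX Om z := Subgroup.mul_mem _ (z_mem_CX h.w) (cp_cx h.w hu.1 hu.2)
  rcases (cen_iff h.w hz h1).1 h2 with h3 | h3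
  · exact absurd (mul_eq_left.1 h3.symm) (hu.1.z1 h.w)
  · exact h3

/-- `z u ∈ a₀(u)` -/
theorem mul_mem' (hz : InZ Om z) (hu : u ∈ A0 Om z) : z * u ∈ A0 Om u := by
  rw [h.comm_z hz hu]
  exact h.mul_mem hu.1 ⟨hz, hu.2.symm⟩

theorem symm_mem (hz : InZ Om z) (hu : u ∈ A0 Om z) : z ∈ A0 Om u := ⟨hz, hu.2.symm⟩

/-- an element of `Z` in `X_z` which is not `z` -/
theorem mem_of_cx (hz : InZ Om z) (hu : InZ Om u) (hne : z ≠ u) (hc : u ∈ CX Om z) : u ∈ A0 Om z :=
  ⟨hu, ((cen_iff h.w hz hu).1 hc).resolve_left hne⟩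

theorem conj_mem (hu : u ∈ A0 Om z) (hg : g * z = z * g) : g * u * g⁻¹ ∈ A0 Om z := by
  refine ⟨hu.1.conj h.w g, ?_⟩
  have h1 := cp_conj h.w hu.2 g
  rwa [hg, mul_inv_cancel_right] at h1

/-- two elements of `a₀(z)` : C (then `v = z u`), type I or a swap pair -/
theorem dich (hz : InZ Om z) (hu : u ∈ A0 Om z) (hv : v ∈ A0 Om z) (hne : u ≠ v) :
    v = z * u ∨ TI Om u v ∨ (Swp Om u v ∧ Swp Om v u) := by
  rcases tri h.w hu.1 hv.1 hne (h.comm hz hu hv) with h1 | h1 | ⟨h1, h2⟩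
  · exact Or.inl (h.third z u v hz hu.1 hv.1 hu.2 hv.2 h1)
  · exact Or.inr (Or.inl h1)
  · right; right
    exact ⟨h1.cases.resolve_right (h.not_ff hz hu hv), h2.cases.resolve_right (h.not_ff hz hv hu)⟩

/-- the product of a type I pair of `a₀(z)` -/
theorem ti_mem (hz : InZ Om z) (hu : u ∈ A0 Om z) (hv : v ∈ A0 Om z) (hti : TI Om u v) : u * v ∈ A0 Om z := by
  refine h.mem_of_cx hz (hti.inZ_mul h.w) ?_ (Subgroup.mul_mem _ (cp_cx h.w hu.1 hu.2) (cp_cx h.w hv.1 hv.2))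
  intro h1
  have h2 : v = z * u := by
    rw [h1, hti.comm, mul_assoc, hu.1.z2 h.w, mul_one]
  rw [h2] at hti
  exact hti.not_cp h.w (h.mul_mem' hz hu).2

/-- **(1)** -/
theorem thin (hx : InZ Om x) (hn : InZ Om n) (hr : n ∈ RZ Om x) : n = x := by
  by_contra hne
  have hti := TI.of_mem_RZ h.w hx hn (fun h1 => hne h1.symm) hr
  obtain ⟨v, hv⟩ : ∃ v, v ∈ A0 Om x := h.ex x hx
  have h1 : v ∈ A0 Om n := ⟨hv.1, (hti.cp_iff h.w hr hv.1).1 hv.2⟩
  have h2 := h.mul_mem hn h1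
  have h3 : CP Om x (n * v) := (hti.cp_iff h.w hr h2.1).2 h2.2
  have h4 : n ∈ CX Om x := by
    have h5 := Subgroup.mul_mem _ (cp_cx h.w h2.1 h3) (cp_cx h.w hv.1 hv.2)
    rwa [mul_assoc, hv.1.z2 h.w, mul_one] at h5
  exact hti.not_cp h.w (h.mem_of_cx hx hn hti.ne h4).2

/-- **(2)** `q` a swap at `x` : `x q ∉ Z` -/
theorem pp (hx : InZ Om x) (hq : InZ Om q) (hs : Swp Om x q) : ¬ InZ Om (x * q) := by
  intro hxq
  have hqq := hq.z2 h.w
  have hxx := hx.z2 h.w
  have hqx := hs.1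
  obtain ⟨K, hK⟩ := hx
  obtain ⟨y, Y⟩ := h.w.exists_q3 hK
  -- `q l ∈ Z` for all `l ∈ L_q`
  have key : ∀ k ∈ K, k * k = x → InZ Om (q * (x * qq q k)) ∧ InZ Om (q * qq q k) := by
    intro k hk hkk
    have h1 : k⁻¹ * k⁻¹ = x := by rw [← mul_inv_rev, hkk, hK.inZ.inv h.w]
    constructor
    · have h2 := hq.conj h.w k
      rwa [conj_swp hs h.w hqq hK hk, h1] at h2
    · have h2 := hxq.conj h.w k
      have h3 : k * (x * q) * k⁻¹ = q * qq q k := by
        calc k * (x * q) * k⁻¹ = (k * x) * q * k⁻¹ := by group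
          _ = (x * k) * q * k⁻¹ := by rw [hK.comm_z h.w hk]
          _ = x * (k * q * k⁻¹) := by group
          _ = x * (q * (x * qq q k)) := by rw [conj_swp hs h.w hqq hK hk, h1]
          _ = (x * q) * x * qq q k := by group
          _ = (q * x) * x * qq q k := by rw [hqx]
          _ = q * (x * x) * qq q k := by group
          _ = _ := by rw [hxx, mul_one]
      rwa [h3] at h2
  -- an even `n`
  have e0 := Y.mul 0
  simp only [zero_add] at e0
  have cq : ∀ k ∈ K, qq q k * q = q * qq q k := fun k hk => (qq_comm hs h.w hqq hK hk).symm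
  obtain ⟨k, hk, hkk, hns⟩ : ∃ k ∈ K, k * k = x ∧ ¬ Swp Om q (qq q k) := by
    by_cases h1 : Swp Om q (qq q (y 0))
    · by_cases h2 : Swp Om q (qq q (y 1))
      · refine ⟨y 2, Y.mem 2, Y.sq 2, ?_⟩
        have h3 : qq q (y 2) = qq q (y 0) * qq q (y 1) := by
          rw [← qq_mul hs h.w hK (Y.mem 0) (Y.mem 1), e0]
        rw [h3, swp_mul h.w hq (cq _ (Y.mem 0)) (cq _ (Y.mem 1))]
        exact ⟨fun _ => h2, fun _ => h1⟩
      · exact ⟨y 1, Y.mem 1, Y.sq 1, h2⟩
    · exact ⟨y 0, Y.mem 0, Y.sq 0, h1⟩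
  obtain ⟨n, hn⟩ : ∃ n, n = qq q k := ⟨_, rfl⟩
  rw [← hn] at hns
  have hnR : n ∈ RZ Om x := by rw [hn]; exact qq_mem hs h.w hK hk
  have hqn : InZ Om (q * n) := by rw [hn]; exact (key k hk hkk).2
  have hn1 : n ≠ 1 := by
    intro h1
    rw [hn] at h1
    rcases qq_eq_one hs h.w hK hk h1 with h2 | h2
    · rw [h2, one_mul] at hkk; exact hK.inZ.z1 h.w hkk.symm
    · rw [h2, hxx] at hkk; exact hK.inZ.z1 h.w hkk.symm
  have hnx : n ≠ x := by
    intro h1
    rw [hn] at h1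
    -- `k^q = k⁻¹ x ∈ K`
    have h2 : q * k * q⁻¹ = k⁻¹ * x := by rw [eq_inv_mul_iff_mul_eq]; exact h1
    have h3 : k⁻¹ * x ∈ K := Subgroup.mul_mem _ (Subgroup.inv_mem _ hk) (hK.zmem h.w)
    have h4 : q * k * q⁻¹ ∈ cj q K := conj_mem_cj hk
    rcases hs.inf h.w hK h3 h4 h2.symm with h5 | h5
    · have h6 : x = k := by rw [inv_mul_eq_one] at h5; exact h5.symm
      rw [← h6, hxx] at hkk; exact hK.inZ.z1 h.w hkk.symm
    · have h6 : k = 1 := by
        rw [inv_mul_eq_iff_eq_mul] at h5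
        exact mul_eq_right.1 h5.symm
      rw [h6, one_mul] at hkk; exact hK.inZ.z1 h.w hkk.symm
  have hnq : n * q = q * n := by rw [hn]; exact cq k hk
  have hZ : InZ Om n → False := fun h1 => hnx (h.thin hK.inZ h1 hnR)
  -- the pair `(q, q n)`
  have hne : q ≠ q * n := fun h1 => hn1 (mul_eq_left.1 h1.symm)
  have hc : q * (q * n) = (q * n) * q := by rw [mul_assoc, hnq]
  have hqqn : q * (q * n) = n := by rw [← mul_assoc, hqq, one_mul]
  rcases four h.w hq hqn hne hc with h1 | h1 | h1 | h1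
  · have h2 := h.mul q (q * n) hq hqn h1
    rw [hqqn] at h2
    exact hZ h2
  · have h2 := h1.inZ_mul h.w
    rw [hqqn] at h2
    exact hZ h2
  · have h2 : ¬ Swp Om q (q * n) := by
      rw [swp_mul h.w hq rfl hnq]
      constructor
      · intro h3; exact absurd rfl (sw_ne h3 hq h.w)
      · intro h3; exact absurd h3 hns
    exact h2 h1
  · have h2 := ff_mul h.w hq hqn h1
    rw [hqqn] at h2
    exact hZ h2

theorem swp_symm (hx : InZ Om x) (hq : InZ Om q) (hs : Swp Om x q) : Swp Om q x := by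
  have hne := sw_ne hs hx h.w
  rcases tri h.w hx hq hne hs.1.symm with h1 | h1 | ⟨-, h1⟩
  · exact absurd h1 (sw_ncp hs h.w hx hq)
  · exact absurd h1 (sw_nti hs h.w)
  · rcases h1.cases with h2 | h2
    · exact h2
    · exfalso
      have h3 := ff_mul h.w hq hx h2
      rw [hs.1] at h3
      exact h.pp hx hq hs h3

theorem ff_symm (hx : InZ Om x) (hq : InZ Om q) (hs : Ff Om x q) : Ff Om q x := by
  have hne := ff_ne hs hx h.w
  rcases tri h.w hx hq hne hs.1.symm with h1 | h1 | ⟨-, h1⟩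
  · exact absurd h1 (ff_ncp hs h.w hx hq)
  · exact absurd h1 (ff_nti hs h.w)
  · rcases h1.cases with h2 | h2
    · exfalso
      have h3 := ff_mul h.w hx hq hs
      rw [← hs.1] at h3
      exact h.pp hq hx h2 h3
    · exact h2

/-- **(4)** `x ∈ Z ∩ C(z)` moves some `u ∈ a₀(z)` : `C_{R_z}(x)` is faithful on `R_x` -/
theorem faith (hz : InZ Om z) (hx : InZ Om x) (hc : x * z = z * x) (hu : u ∈ A0 Om z) (hm : x * u ≠ u * x)
    (hl : l ∈ RZ Om z) (hlx : x * l = l * x) (hcx : l ∈ CX Om x) : l = 1 := by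
  by_contra hne
  -- `z` does not centralise `R_x`
  have hzx : z ∉ CX Om x := by
    intro h1
    by_cases h2 : x = z
    · rw [h2] at hm
      exact hm (h.comm_z hz hu)
    · have h3 := h.mem_of_cx hx hz h2 h1
      exact hm (h.comm hz (h.symm_mem hx h3) hu)
  have hll : l * l = 1 := by
    obtain ⟨K, hK⟩ := hz
    obtain ⟨L, hL, hKL, -⟩ := hK.other h.w
    obtain ⟨a, ha, b, hb, rfl⟩ := (mem_RZ hK hL h.w hKL).1 hl
    have hab := hK.comm hL h.w hKL ha hb
    have h1 : a * b * (a * b) = (a * a) * (b * b) := by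
      calc a * b * (a * b) = a * (b * a) * b := by group
        _ = a * (a * b) * b := by rw [hab]
        _ = _ := by group
    have h2 : a * b * (a * b) ∈ CX Om x := Subgroup.mul_mem _ hcx hcx
    have hzz := hK.inZ.z2 h.w
    have h3 : a * b * (a * b) = 1 ∨ a * b * (a * b) = z := by
      rw [h1]
      rcases hK.sq_cases h.w ha with rfl | rfl | h4 <;> rcases hL.sq_cases h.w hb with rfl | rfl | h5
      all_goals simp_all only [_root_.ne_eq, _root_.OneMemClass.one_mem, _root_.mul_one, _root_.one_mul, _root_.not_true_eq_false, _root_.true_or]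
    rcases h3 with h3 | h3
    · exact h3
    · rw [h3] at h2; exact absurd h2 hzx
  have h1 := h.mul_mem hz hu
  have h2 := h.mul_mem' hz hu
  refine hm (h.as l u (z * u) x hll hne hu.1 h1.1 h2.2 ?_ ?_ hx hcx)
  · rw [mem_CX]
    exact fun K hK k hk => cp_RZ h.w hu.2 hl (hK.le_RZ hk)
  · rw [mem_CX]
    exact fun K hK k hk => cp_RZ h.w h1.2 hl (hK.le_RZ hk)

/-- `(x, z)` is not of type I -/
theorem not_ti (hz : InZ Om z) (hx : InZ Om x) (hc : x * z = z * x) (hu : u ∈ A0 Om z) (hm : x * u ≠ u * x) :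
    ¬ TI Om x z := by
  intro hti
  rcases hti.dich h.w with h1 | ⟨g, hg, hgz, hgg, hgx, -⟩
  · exact hti.ne (h.thin hz hx h1)
  · have h2 : g ∈ RZ Om x := hg
    have h3 : z * g ∈ RZ Om z := Subgroup.mul_mem _ (z_mem_RZ hz h.w) hgz
    have h4 : x * (z * g) = z * g * x := by
      rw [← mul_assoc, hc, mul_assoc, ← RZ_le_centralizer h.w h2, mul_assoc]
    have h5 := h.faith hz hx hc hu hm h3 h4 hgx
    have h6 : z = g := by
      rw [mul_eq_one_iff_eq_inv] at h5
      rw [h5, inv_eq_of_mul_eq_one_right hgg]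
    rw [← h6] at h2
    exact hti.ne (h.thin hx hz h2).symm

/-- `x ∈ Z ∩ C(z)` moving `u ∈ a₀(z)` : `p` or `f` -/
theorem pf (hz : InZ Om z) (hx : InZ Om x) (hc : x * z = z * x) (hu : u ∈ A0 Om z) (hm : x * u ≠ u * x) :
    Swp Om x z ∨ Ff Om x z := by
  have hne : x ≠ z := by
    rintro rfl
    exact hm (h.comm_z hz hu)
  rcases four h.w hx hz hne hc with h1 | h1 | h1 | h1
  · exact absurd (h.comm hz (h.symm_mem hx ⟨hz, h1⟩) hu) hm
  · exact absurd h1 (h.not_ti hz hx hc hu hm)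
  · exact Or.inl h1
  · exact Or.inr h1

end W3

end Fin

end Cfsg.Agent.Cit.Nil.RTwoM.MThree
end

-- part: Cit/Nil/RTwoM/TFour
section
/-!
# S1309, (6b), (C3), `r = 2`: the frame for `|T| = 4`: the fields of `W3` (`m = 3`, `|T| = 4`)

* `sylow_cj`, `ncard_CS_eq`, `card_TT_eq` : `|C_S|`, `|T_S|` do not depend on the Sylow group `S`;
* `TT_eq_of_four` : `|T_S| = 4`, `z ≠ u` in `C_S`: `T_S = {1, z, u, z u}`; `CS_of_three`;
* **`W3.of`** : `|C_S| = 3`, `|T_S| = 4`: `MThree.W3 Om`.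
-/

set_option autoImplicit false
set_option linter.style.haveILetI false
set_option linter.unusedSectionVars false

namespace Cfsg.Agent.Cit.Nil.RTwoM

open Subgroup Cfsg Cfsg.Agent.Cit

open RG (WR CP Ov InO)
open RI (CS)

variable {G : Type*} [Group G] {Om : Set (Subgroup G)} {K L M : Subgroup G} {a b d e s t u v x y z g k n : G}

section Fin

variable [Finite G]

theorem sylow_cj (S S' : Sylow 2 G) : ∃ g : G, (S' : Subgroup G) = cj g (S : Subgroup G) := by
  haveI : Fact (Nat.Prime 2) := ⟨Nat.prime_two⟩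
  obtain ⟨g, hg⟩ := MulAction.exists_smul_eq G S S'
  refine ⟨g, ?_⟩
  rw [← hg]
  rfl

theorem card_TT_eq (h : WM Om) (S S' : Sylow 2 G) :
    Nat.card (TT Om (S' : Subgroup G)) = Nat.card (TT Om (S : Subgroup G)) := by
  obtain ⟨g, hg⟩ := sylow_cj S S'
  rw [hg, TT_cj h g]
  exact Nat.card_congr (MulEquiv.toEquiv ((TT Om (S : Subgroup G)).equivMapOfInjective _
    (MulAut.conj g).injective)).symm

theorem ncard_CS_eq (h : WM Om) (S S' : Sylow 2 G) :
    (CS Om (S' : Subgroup G)).ncard = (CS Om (S : Subgroup G)).ncard := by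
  obtain ⟨g, hg⟩ := sylow_cj S S'
  have h1 : CS Om (S' : Subgroup G) = (fun x => g * x * g⁻¹) '' CS Om (S : Subgroup G) := by
    rw [hg]
    ext x
    constructor
    · intro hx
      refine ⟨g⁻¹ * x * g, ?_, by group⟩
      have h2 := cj_CS h g⁻¹ hx
      rw [inv_inv, cj_inv_cj] at h2
      exact h2
    · rintro ⟨y, hy, rfl⟩
      exact cj_CS h g hy
  rw [h1]
  exact Set.ncard_image_of_injective _ fun a b hab => mul_left_cancel (mul_right_cancel hab)

/-- `|T_S| = 4` -/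
theorem TT_eq_of_four (h : WM Om) (S : Sylow 2 G) (h4 : Nat.card (TT Om (S : Subgroup G)) = 4)
    (hz : z ∈ CS Om (S : Subgroup G)) (hu : u ∈ CS Om (S : Subgroup G)) (hne : z ≠ u)
    (ht : t ∈ TT Om (S : Subgroup G)) : t = 1 ∨ t = z ∨ t = u ∨ t = z * u := by
  classical
  have hzi := CS.inZ hz
  have hui := CS.inZ hu
  have h1 : ({1, z, u, z * u} : Finset G).card = 4 := by
    rw [Finset.card_insert_of_notMem, Finset.card_insert_of_notMem, Finset.card_insert_of_notMem,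
      Finset.card_singleton]
    · rw [Finset.mem_singleton]
      intro h2
      exact hzi.z1 h (mul_eq_right.1 h2.symm)
    · rw [Finset.mem_insert, Finset.mem_singleton]
      rintro (h2 | h2)
      · exact hne h2
      · exact hui.z1 h (mul_eq_left.1 h2.symm)
    · rw [Finset.mem_insert, Finset.mem_insert, Finset.mem_singleton]
      rintro (h2 | h2 | h2)
      · exact hzi.z1 h h2.symm
      · exact hui.z1 h h2.symm
      · apply hne
        have h3 : z = u⁻¹ := eq_inv_of_mul_eq_one_left h2.symm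
        rw [h3, hui.inv h]
  have h2 : ((({1, z, u, z * u} : Finset G) : Set G)) ⊆ (TT Om (S : Subgroup G) : Set G) := by
    intro k hk
    rw [Finset.mem_coe, Finset.mem_insert, Finset.mem_insert, Finset.mem_insert, Finset.mem_singleton] at hk
    rcases hk with rfl | rfl | rfl | rfl
    · exact one_mem _
    · exact CS.mem_TT hz
    · exact CS.mem_TT hu
    · exact mul_mem (CS.mem_TT hz) (CS.mem_TT hu)
  have h3 : (((({1, z, u, z * u} : Finset G) : Set G))) = (TT Om (S : Subgroup G) : Set G) := by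
    refine Set.eq_of_subset_of_ncard_le h2 ?_ (Set.toFinite _)
    rw [Set.ncard_coe_finset, h1]
    have h5 : (TT Om (S : Subgroup G) : Set G).ncard = Nat.card (TT Om (S : Subgroup G)) :=
      (Nat.card_coe_set_eq _).symm
    rw [h5, h4]
  have h4' : t ∈ (((({1, z, u, z * u} : Finset G) : Set G))) := by rw [h3]; exact ht
  rw [Finset.mem_coe, Finset.mem_insert, Finset.mem_insert, Finset.mem_insert, Finset.mem_singleton] at h4'
  exact h4'

theorem CS.ne_one {S : Subgroup G} (h : WM Om) (hz : z ∈ CS Om S) : z ≠ 1 := (CS.inZ hz).z1 h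

/-- `|C_S| = 3`, `|T_S| = 4` : `C_S = {z, u, z u}` -/
theorem CS_of_three (h : WM Om) (S : Sylow 2 G) (h4 : Nat.card (TT Om (S : Subgroup G)) = 4)
    (h3 : (CS Om (S : Subgroup G)).ncard = 3) (hz : z ∈ CS Om (S : Subgroup G)) (hu : u ∈ CS Om (S : Subgroup G))
    (hne : z ≠ u) : z * u ∈ CS Om (S : Subgroup G) ∧ ∀ v ∈ CS Om (S : Subgroup G), v = z ∨ v = u ∨ v = z * u := by
  have h5 : ∀ v ∈ CS Om (S : Subgroup G), v = z ∨ v = u ∨ v = z * u := by
    intro v hv
    rcases TT_eq_of_four h S h4 hz hu hne (CS.mem_TT hv) with h6 | h6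
    · exact absurd h6 (CS.ne_one h hv)
    · exact h6
  refine ⟨?_, h5⟩
  by_contra hcon
  have h6 : CS Om (S : Subgroup G) ⊆ {z, u} := by
    intro v hv
    rcases h5 v hv with h7 | h7 | h7
    · exact Or.inl h7
    · exact Or.inr h7
    · exact absurd (by rw [← h7]; exact hv) hcon
  have h7 := Set.ncard_le_ncard h6 (Set.toFinite _)
  have h8 : ({z, u} : Set G).ncard = 2 := Set.ncard_pair hne
  omega

namespace MThree

/-- **the world `W3`** from `|C_S| = 3`, `|T_S| = 4` -/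
theorem W3.of (h : WM Om) (l0 : L0 Om) (an : ANT Om) (oc : OneCl Om) (as : ANS Om)
    (h3 : ∀ S : Sylow 2 G, (CS Om (S : Subgroup G)).ncard = 3)
    (h4 : ∀ S : Sylow 2 G, Nat.card (TT Om (S : Subgroup G)) = 4) : W3 Om where
  w := h
  l0 := l0
  an := an
  oc := oc
  as := fun e z u x he he1 hz hu hc hez heu hx hex =>
    as.comm_ZS h l0 he he1 ⟨hu, heu⟩ ⟨hz, hez⟩ hc.symm ⟨hz, hez⟩ ⟨hx, hex⟩
  mul := by
    intro z u hz hu hc
    obtain ⟨S, hzS, huS⟩ := exists_sylow_of_cp h hz hu hc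
    exact CS.inZ (CS_of_three h S (h4 S) (h3 S) hzS huS hc.1).1
  ex := by
    intro z hz
    obtain ⟨S, hzS⟩ := exists_sylow h hz
    by_contra hcon
    push Not at hcon
    have h5 : CS Om (S : Subgroup G) ⊆ {z} := by
      intro v hv
      by_contra hne
      exact hcon v (CS.inZ hv) (CS.cp hzS h S.2 hv fun h6 => hne h6.symm)
    have h6 := Set.ncard_le_ncard h5 (Set.toFinite _)
    rw [Set.ncard_singleton] at h6
    have := h3 S
    omega
  third := by
    intro z u v hz hu hv hzu hzv huv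
    obtain ⟨S, hzS, huS⟩ := exists_sylow_of_cp h hz hu hzu
    obtain ⟨hmS, hall⟩ := CS_of_three h S (h4 S) (h3 S) hzS huS hzu.1
    have hm : InZ Om (z * u) := CS.inZ hmS
    have h5 : z * u ∈ CX Om v := Subgroup.mul_mem _ (cp_cx h hz hzv.symm) (cp_cx h hu huv.symm)
    rcases (cen_iff h hv hm).1 h5 with h6 | h6
    · exact h6
    · exfalso
      have h7 : v ∈ CS Om (S : Subgroup G) := by
        refine mem_CS_of_clique h S hv fun w hw => ?_
        rcases hall w hw with h8 | h8 | h8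
        · right; rw [h8]; exact hzv
        · right; rw [h8]; exact huv
        · right; rw [h8]; exact h6.symm
      rcases hall v h7 with h8 | h8 | h8
      · exact hzv.1 h8.symm
      · exact huv.1 h8.symm
      · exact h6.1 h8

end MThree

end Fin

end Cfsg.Agent.Cit.Nil.RTwoM
end
end

-- part: Cit/Nil/ROne/TwinB_mg
section
prune_inst 0x22000000180000200020001000000000030001c14002000340000120050e013040020011102c60000a8020030800590210000020008a00000400000402504282081000010000405001180c00000000000000000000000000000000000000000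
set_option linter.all false
open scoped Cfsg.Agent.FastGrp

-- part: Cit/Nil/ROne/TwinB
section
/-!
# `r = 1`: (5.6), (5.7), (5.8) and the two worlds

`blueprints/R18-6b-r1-helper545.md`, section 5. `SwIn Z K` collects the inputs: (0.1)(a), sections 2 and 3 for the
`s = w(a, b)`, and (5.5).

* `SwIn.move` (5.6): `(u, v)` a C-swap, `y ∈ [u]`: `v y v⁻¹ = y w(u, v)`;
* `SwIn.wt_eq` (5.7): `w(u, v)` depends on `u` only; `tt Z K u` is the common value;
* `SwIn.tt_conj`, `tt_comm`, `tt_tw`, `tt_swap`, `tt_cen`, `tt_cen_of`;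
* `SwIn.tt_not_mem` (5.8): `t_u ∉ Z`.
-/

set_option autoImplicit false
set_option linter.unusedSectionVars false

namespace Cfsg.Agent.Cit.Nil.ROne

open Subgroup Cfsg Cit

variable {G : Type*} [Group G] {Z : Set G} {K : G → Subgroup G} {z u v x y g s n : G}

/-- inputs of (5.6) - (5.8) -/
structure SwIn (Z : Set G) (K : G → Subgroup G) : Prop where
  w : W Z K
  com : ∀ u ∈ Z, ∀ v ∈ Z, u ≠ v → Cen K v u → CP K u v
  symm : ∀ u ∈ Z, ∀ v ∈ Z, CSw K u v → CSw K v u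
  mem_or : ∀ u ∈ Z, ∀ v ∈ Z, CSw K u v → ∀ x ∈ Z, Cen K (wt u v) x →
    x ∈ NC (wt u v) u ∨ ∀ n ∈ NC (wt u v) u, Cen K n x
  act : ∀ u ∈ Z, ∀ v ∈ Z, CSw K u v → ∀ n ∈ NC (wt u v) u, n * u * n⁻¹ = u ∨ n * u * n⁻¹ = u * wt u v
  cent : ∀ u ∈ Z, ∀ v ∈ Z, CSw K u v → ∀ n ∈ NC (wt u v) u, (∀ m ∈ NC (wt u v) u, n * m = m * n) → Cen K n u
  inn : ∀ u ∈ Z, ∀ v ∈ Z, CSw K u v → ∀ n ∈ NC (wt u v) u, n * u = u * n → Cen K n u ∨ ∃ y, Inn K n u y
  tri : ∀ a ∈ Z, ∀ b ∈ Z, CSw K a b → ∀ u ∈ Z, ∀ v ∈ Z, ∀ v' ∈ Z, CSw K u v → CSw K u v' →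
    Cen K (wt a b) u → Cen K (wt a b) v → Cen K (wt a b) v' → wt u v = wt u v'
  twin : ∀ u ∈ Z, ∀ v ∈ Z, CSw K u v → Tw Z K u (v * u * v⁻¹)

theorem CP.cen (w : W Z K) (hv : v ∈ Z) (h : CP K u v) : Cen K v u :=
  fun k hk => (h.2 k hk v (w.mem v hv)).symm

theorem W.cen_self (w : W Z K) (hu : u ∈ Z) : Cen K u u := fun _ hk => (w.cent hu hk).symm

/-- `g` commutes with `z` if it centralises `K z` -/
theorem Cen.comm (w : W Z K) (hz : z ∈ Z) (h : Cen K g z) : g * z = z * g := h z (w.mem z hz)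

/-- `w(u, v)` centralises `K u` -/
theorem CSw.cen_left (w : W Z K) (hu : u ∈ Z) (h : CSw K u v) : Cen K (wt u v) u :=
  (w.cen_self hu).mul (CP.cen w (w.conjZ u hu v) h)

theorem CSw.ne (_w : W Z K) (h : CSw K u v) : v * u * v⁻¹ ≠ u := fun h1 => h.1 h1.symm

theorem CSw.wt_ne (w : W Z K) (hu : u ∈ Z) (h : CSw K u v) : wt u v ≠ 1 := by
  intro h1
  apply h.1
  have h2 := eq_inv_of_mul_eq_one_right h1
  rw [w.inv hu] at h2
  exact h2.symm

/-- `v u v⁻¹ = u w(u, v)` -/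
theorem conj_eq_mul_wt (w : W Z K) (hu : u ∈ Z) : v * u * v⁻¹ = u * wt u v := by
  unfold wt
  rw [← mul_assoc, w.sq u hu, one_mul]

/-- `w(u, v)² = 1` -/
theorem CSw.wt_sq (w : W Z K) (hu : u ∈ Z) (h : CSw K u v) : wt u v * wt u v = 1 := by
  have h1 := CP.comm w hu (w.conjZ u hu v) h
  unfold wt
  calc u * (v * u * v⁻¹) * (u * (v * u * v⁻¹)) = u * (v * u * v⁻¹) * ((v * u * v⁻¹) * u) := by rw [h1]
    _ = u * ((v * u * v⁻¹) * (v * u * v⁻¹)) * u := by group
    _ = 1 := by rw [w.sq _ (w.conjZ u hu v), mul_one, w.sq u hu]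

theorem CSw.wt_comm (w : W Z K) (hu : u ∈ Z) (h : CSw K u v) : wt u v * u = u * wt u v :=
  Cen.comm w hu (h.cen_left w hu)

/-- `w(v, u) = w(u, v)` -/
theorem CSw.wt_symm (w : W Z K) (hu : u ∈ Z) (hv : v ∈ Z) (h : CSw K u v) : wt v u = wt u v := by
  have h1 : wt v u * wt u v = 1 := by
    unfold wt
    rw [w.inv hu, w.inv hv]
    calc v * (u * v * u) * (u * (v * u * v)) = v * u * v * (u * u) * v * u * v := by group
      _ = v * u * (v * v) * u * v := by rw [w.sq u hu]; group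
      _ = v * (u * u) * v := by rw [w.sq v hv]; group
      _ = 1 := by rw [w.sq u hu, mul_one, w.sq v hv]
  have h2 := h.wt_sq w hu
  rw [← h2] at h1
  exact mul_right_cancel h1

/-- a C-swap with the same partner -/
theorem CSw.of_twin (_w : W Z K) (hu : u ∈ Z) (hy : Tw Z K u y) (hy' : Tw Z K u (v * y * v⁻¹)) (hne : v * y * v⁻¹ ≠ y) :
    CSw K y v :=
  Tw.cp hy.1 ((hy.symm hu).trans hy') hne.symm

/-- `K y` centralises a product of two twins of `z` if `y ∈ [z]` -/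
theorem Tw.cen (w : W Z K) (hz : z ∈ Z) (hu : Tw Z K z u) (hy : Tw Z K z y) : Cen K u y := by
  by_cases h : y = u
  · rw [h]; exact w.cen_self hu.1
  · exact CP.cen w hu.1 (Tw.cp hy.1 ((hy.symm hz).trans hu) h)

theorem NC_self (s y : G) : y ∈ NC s y := subset_closure ⟨1, by simp, by simp⟩

namespace SwIn

variable (h : SwIn Z K)

include h

theorem wt_cen_left (hu : u ∈ Z) (hs : CSw K u v) : Cen K (wt u v) u := hs.cen_left h.w hu

theorem wt_cen_right (hu : u ∈ Z) (hv : v ∈ Z) (hs : CSw K u v) : Cen K (wt u v) v := by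
  rw [← hs.wt_symm h.w hu hv]
  exact (h.symm u hu v hv hs).cen_left h.w hv

/-- `v ∈ ⟨u ^ C(w)⟩` -/
theorem right_mem (hu : u ∈ Z) (hv : v ∈ Z) (hs : CSw K u v) : v ∈ NC (wt u v) u := by
  rcases h.mem_or u hu v hv hs v hv (h.wt_cen_right hu hv hs) with h1 | h1
  · exact h1
  · exfalso
    have h2 := (h1 u (NC_self _ _)).comm h.w hv
    apply hs.ne h.w
    rw [← h2, mul_inv_cancel_right]

theorem NC_le_of_mem {a b : G} (hb : b ∈ NC s a) : NC s b ≤ NC s a := by
  rw [NC, closure_le]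
  rintro _ ⟨g, hg, rfl⟩
  have h1 : ∀ c ∈ NC s a, g * c * g⁻¹ ∈ NC s a := by
    intro c hc
    induction hc using closure_induction with
    | mem c hc =>
      obtain ⟨k, hk, rfl⟩ := hc
      refine subset_closure ⟨g * k, ?_, by group⟩
      rw [mul_assoc, hk, ← mul_assoc, hg, mul_assoc]
    | one => simp
    | mul c d _ _ hc hd =>
      have := mul_mem hc hd
      have h2 : g * c * g⁻¹ * (g * d * g⁻¹) = g * (c * d) * g⁻¹ := by group
      rwa [h2] at this
    | inv c _ hc =>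
      have := inv_mem hc
      have h2 : (g * c * g⁻¹)⁻¹ = g * c⁻¹ * g⁻¹ := by group
      rwa [h2] at this
  exact h1 b hb

/-- `⟨u ^ C(w)⟩ = ⟨v ^ C(w)⟩` -/
theorem NC_eq (hu : u ∈ Z) (hv : v ∈ Z) (hs : CSw K u v) : NC (wt u v) v = NC (wt u v) u := by
  apply le_antisymm
  · exact h.NC_le_of_mem (h.right_mem hu hv hs)
  · apply h.NC_le_of_mem
    have h1 := h.right_mem hv hu (h.symm u hu v hv hs)
    rwa [hs.wt_symm h.w hu hv] at h1

/-- (5.6), the inverse direction `v ∉ C(y)` -/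
theorem move_ne (hu : u ∈ Z) (hv : v ∈ Z) (hs : CSw K u v) (hy : Tw Z K u y) : v * y * v⁻¹ ≠ y := by
  intro hvy
  have hvy' : v * y = y * v := mul_inv_eq_iff_eq_mul.1 hvy
  have hyZ := hy.1
  -- `v` does not commute with `u`
  have hnc : v * u ≠ u * v := by
    intro h1
    apply hs.ne h.w
    rw [h1, mul_inv_cancel_right]
  have hcl : ∀ x ∈ cl Z K y, x * u = u * x := by
    intro x hx
    rw [← hy.2] at hx
    rcases hx.2 with h1 | h1
    · rw [h1]
    · exact (CP.comm h.w hu hx.1 h1).symm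
  have hyv : y ≠ v := by
    intro h1
    exact hnc (hcl v (by rw [h1]; exact self_mem_cl hv))
  have hncp : ¬ CP K y v := fun h1 => hnc (hcl v ⟨hv, Or.inr h1⟩)
  have hu' := h.twin u hu v hv hs
  have hwy : Cen K (wt u v) y := (Tw.cen h.w hu (Tw.refl hu) hy).mul (Tw.cen h.w hu hu' hy)
  -- `y ∈ N`
  have hyN : y ∈ NC (wt u v) u := by
    rcases h.mem_or u hu v hv hs y hyZ hwy with h1 | h1
    · exact h1
    · exact absurd (h.com y hyZ v hv hyv (h1 v (h.right_mem hu hv hs))) hncp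
  have hs' := h.symm u hu v hv hs
  have hws := hs.wt_symm h.w hu hv
  have hyN' : y ∈ NC (wt v u) v := by rw [hws, h.NC_eq hu hv hs]; exact hyN
  rcases h.inn v hv u hu hs' y hyN' hvy'.symm with h1 | ⟨l, hl⟩
  · exact hncp (h.com v hv y hyZ hyv.symm h1).symm
  -- `l ∈ K v ∩ C(y)`
  have hly : l * y * l⁻¹ = y := by
    have h2 := hl.act l hl.mem
    rw [mul_inv_cancel_right] at h2
    have h3 : y * l = l * y := mul_inv_eq_iff_eq_mul.1 h2
    rw [← h3, mul_inv_cancel_right]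
  -- `l u l⁻¹ ∈ c[y] = c[u]`
  have h2 : l * u * l⁻¹ ∈ cl Z K y := by
    have h3 : u ∈ cl Z K y := by rw [← hy.2]; exact self_mem_cl hu
    have h4 := (h.w.mem_cl_conj (x := u) hyZ l).2 h3
    rwa [hly] at h4
  have h3 := hcl _ h2
  -- `(l u l⁻¹ u)² = w`
  have hsq : (l * (u * l⁻¹ * u)) * (l * (u * l⁻¹ * u)) = 1 := by
    have h4 : l * (u * l⁻¹ * u) = (l * u * l⁻¹) * u := by group
    rw [h4]
    calc (l * u * l⁻¹) * u * ((l * u * l⁻¹) * u) = (l * u * l⁻¹) * u * (u * (l * u * l⁻¹)) := by rw [h3]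
      _ = (l * u * l⁻¹) * (u * u) * (l * u * l⁻¹) := by group
      _ = 1 := by rw [h.w.sq u hu, mul_one, h.w.sq _ (h.w.conjZ u hu l)]
  -- `l` commutes with `u l⁻¹ u ∈ K (u v u⁻¹)`
  have hcomm : l * (u * l⁻¹ * u) = (u * l⁻¹ * u) * l := by
    have h4 : u * l⁻¹ * u ∈ K (u * v * u⁻¹) := by
      rw [h.w.conjK v hv u, mem_cj]
      have : u⁻¹ * (u * l⁻¹ * u) * u = l⁻¹ * (u * u) := by group
      rw [this, h.w.sq u hu, mul_one]
      exact inv_mem hl.mem
    exact hs'.2 l hl.mem _ h4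
  have hl2 : l⁻¹ * l⁻¹ = v := by
    have := congrArg (fun t => t⁻¹) hl.sq
    simp only [mul_inv_rev] at this
    rw [this, h.w.inv hv]
  have h5 : (l * (u * l⁻¹ * u)) * (l * (u * l⁻¹ * u)) = v * (u * v * u) := by
    calc (l * (u * l⁻¹ * u)) * (l * (u * l⁻¹ * u)) = l * ((u * l⁻¹ * u) * l) * (u * l⁻¹ * u) := by group
      _ = l * (l * (u * l⁻¹ * u)) * (u * l⁻¹ * u) := by rw [hcomm]
      _ = (l * l) * (u * (l⁻¹ * (u * u) * l⁻¹) * u) := by group
      _ = v * (u * v * u) := by rw [h.w.sq u hu, mul_one, hl2, hl.sq]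
  rw [h5] at hsq
  apply hs'.wt_ne h.w hv
  unfold wt
  rw [h.w.inv hu]
  exact hsq

/-- (5.6) : `(u, v)` a C-swap, `y ∈ [u]` -/
theorem move (hu : u ∈ Z) (hv : v ∈ Z) (hs : CSw K u v) (hy : Tw Z K u y) :
    CSw K y v ∧ wt y v = wt u v ∧ v * y * v⁻¹ = y * wt u v := by
  have hne := h.move_ne hu hv hs hy
  have hu' := h.twin u hu v hv hs
  have h1 : Tw Z K u (v * y * v⁻¹) := hu'.trans (h.w.tw_conj hu hy v)
  have h2 : CSw K y v := CSw.of_twin h.w hu hy h1 hne
  have h3 : Cen K (wt u v) y := (Tw.cen h.w hu (Tw.refl hu) hy).mul (Tw.cen h.w hu hu' hy)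
  have h4 : wt y v = wt u v := by
    rw [← h2.wt_symm h.w hy.1 hv, ← hs.wt_symm h.w hu hv]
    exact h.tri u hu v hv hs v hv y hy.1 u hu (h.symm y hy.1 v hv h2) (h.symm u hu v hv hs)
      (h.wt_cen_right hu hv hs) h3 (h.wt_cen_left hu hs)
  exact ⟨h2, h4, by rw [conj_eq_mul_wt h.w hy.1, h4]⟩

/-- (5.7) -/
theorem wt_eq (hu : u ∈ Z) (hv : v ∈ Z) {v' : G} (hv' : v' ∈ Z) (hs : CSw K u v) (hs' : CSw K u v') :
    wt u v = wt u v' := by
  set u1 := v' * u * v'⁻¹ with hu1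
  have hu1T : Tw Z K u u1 := h.twin u hu v' hv' hs'
  have hu1Z := hu1T.1
  obtain ⟨hs1, hw1, hm1⟩ := h.move hu hv hs hu1T
  -- `u1 ∈ N`
  have hN : ∀ {a : G}, a ∈ Z → CSw K a v → wt a v = wt u v → a ∈ NC (wt u v) v := by
    intro a ha hsa hwa
    have h1 := h.right_mem hv ha (h.symm a ha v hv hsa)
    rwa [hsa.wt_symm h.w ha hv, hwa] at h1
  have huN : u ∈ NC (wt u v) v := hN hu hs rfl
  have hu1N : u1 ∈ NC (wt u v) v := hN hu1Z hs1 hw1
  -- every conjugate `x` of `v` under `C(w)` commutes with `u * u1`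
  have hx : ∀ g, g * wt u v = wt u v * g → (g * v * g⁻¹) * (u * u1) = (u * u1) * (g * v * g⁻¹) := by
    intro g hg
    set x := g * v * g⁻¹ with hxdef
    have hxZ : x ∈ Z := h.w.conjZ v hv g
    have hxN : x ∈ NC (wt u v) v := subset_closure ⟨g, hg, rfl⟩
    have hxN1 : x ∈ NC (wt u v) u := by rw [← h.NC_eq hu hv hs]; exact hxN
    have hxN2 : x ∈ NC (wt u1 v) u1 := by rw [← h.NC_eq hu1Z hv hs1, hw1]; exact hxN
    by_cases hxu : x * u * x⁻¹ = u
    · by_cases hxu1 : x * u1 * x⁻¹ = u1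
      · have h1 : Commute x u := mul_inv_eq_iff_eq_mul.1 hxu
        have h2 : Commute x u1 := mul_inv_eq_iff_eq_mul.1 hxu1
        exact (h1.mul_right h2).eq
      · exfalso
        rcases h.act u1 hu1Z v hv hs1 x hxN2 with h1 | h1
        · exact hxu1 h1
        have h2 : CSw K u1 x := by
          unfold CSw
          rw [h1, ← conj_eq_mul_wt h.w hu1Z]
          exact hs1
        exact h.move_ne hu1Z hxZ h2 (hu1T.symm hu) hxu
    · rcases h.act u hu v hv hs x hxN1 with h1 | h1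
      · exact absurd h1 hxu
      have h2 : CSw K u x := by
        unfold CSw
        rw [h1, ← conj_eq_mul_wt h.w hu]
        exact hs
      have h3 : wt u x = wt u v := by
        have h4 : u * wt u x = u * wt u v := by rw [← conj_eq_mul_wt h.w hu, h1]
        exact mul_left_cancel h4
      have h4 := (h.move hu hxZ h2 hu1T).2.2
      rw [h3] at h4
      have h5 : x * (u * u1) * x⁻¹ = u * u1 := by
        calc x * (u * u1) * x⁻¹ = (x * u * x⁻¹) * (x * u1 * x⁻¹) := by group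
          _ = u * (wt u v * u1) * wt u v := by rw [h1, h4]; group
          _ = u * (u1 * wt u v) * wt u v := by
            have h6 := hs1.wt_comm h.w hu1Z
            rw [hw1] at h6
            rw [h6]
          _ = u * u1 * (wt u v * wt u v) := by group
          _ = u * u1 := by rw [hs.wt_sq h.w hu, mul_one]
      exact mul_inv_eq_iff_eq_mul.1 h5
  -- `w1 = u * u1` is central in `N`
  have hcen : ∀ m ∈ NC (wt u v) v, (u * u1) * m = m * (u * u1) := by
    intro m hm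
    induction hm using closure_induction with
    | mem c hc =>
      obtain ⟨g, hg, rfl⟩ := hc
      exact (hx g hg).symm
    | one => simp
    | mul c d _ _ hc hd => rw [← mul_assoc, hc, mul_assoc, hd, mul_assoc]
    | inv c _ hc =>
      rw [eq_inv_mul_iff_mul_eq, ← mul_assoc, ← hc, mul_inv_cancel_right]
  have hw1N : u * u1 ∈ NC (wt u v) u := by
    rw [← h.NC_eq hu hv hs]; exact mul_mem huN hu1N
  have hcu : Cen K (u * u1) u := h.cent u hu v hv hs _ hw1N (by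
    intro m hm; rw [← h.NC_eq hu hv hs] at hm; exact hcen m hm)
  have hcv : Cen K (u * u1) v := by
    have hs2 := h.symm u hu v hv hs
    have hws := hs.wt_symm h.w hu hv
    refine h.cent v hv u hu hs2 _ ?_ ?_
    · rw [hws]; exact mul_mem huN hu1N
    · intro m hm; rw [hws] at hm; exact hcen m hm
  have e : wt u v' = u * u1 := rfl
  exact h.tri u hu v' hv' hs' u hu v hv v' hv' hs hs' (by rw [e]; exact hcu) (by rw [e]; exact hcv)
    (h.wt_cen_right hu hv' hs')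

end SwIn

open Classical in
/-- `t_u` : the common value of the `w(u, v)`, `(u, v)` a C-swap (`1` if there is none) -/
noncomputable def tt (Z : Set G) (K : G → Subgroup G) (u : G) : G :=
  if h : ∃ v ∈ Z, CSw K u v then wt u h.choose else 1

theorem tt_of_not (h : ¬ ∃ v ∈ Z, CSw K u v) : tt Z K u = 1 := by rw [tt, dif_neg h]

namespace SwIn

variable (h : SwIn Z K)

include h

theorem tt_eq (hu : u ∈ Z) (hv : v ∈ Z) (hs : CSw K u v) : tt Z K u = wt u v := by
  have h1 : ∃ v ∈ Z, CSw K u v := ⟨v, hv, hs⟩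
  rw [tt, dif_pos h1]
  exact h.wt_eq hu h1.choose_spec.1 hv h1.choose_spec.2 hs

theorem tt_conj (hu : u ∈ Z) (g : G) : tt Z K (g * u * g⁻¹) = g * tt Z K u * g⁻¹ := by
  by_cases h1 : ∃ v ∈ Z, CSw K u v
  · obtain ⟨v, hv, hs⟩ := h1
    rw [h.tt_eq hu hv hs, h.tt_eq (h.w.conjZ u hu g) (h.w.conjZ v hv g) (h.w.csw_conj hu hs g), wt_conj]
  · have h2 : ¬ ∃ v ∈ Z, CSw K (g * u * g⁻¹) v := by
      rintro ⟨v, hv, hs⟩
      apply h1
      refine ⟨g⁻¹ * v * g, ?_, ?_⟩
      · have := h.w.conjZ v hv g⁻¹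
        rwa [inv_inv] at this
      · have := h.w.csw_conj (h.w.conjZ u hu g) hs g⁻¹
        have e1 : g⁻¹ * (g * u * g⁻¹) * g⁻¹⁻¹ = u := by group
        have e2 : g⁻¹ * v * g⁻¹⁻¹ = g⁻¹ * v * g := by group
        rwa [e1, e2] at this
    rw [tt_of_not h1, tt_of_not h2]
    group

/-- `C(u) ≤ C(t_u)` -/
theorem tt_comm (hu : u ∈ Z) (hg : g * u = u * g) : g * tt Z K u = tt Z K u * g := by
  have h1 := h.tt_conj hu g
  rw [hg, mul_inv_cancel_right] at h1
  exact (eq_mul_inv_iff_mul_eq.1 h1).symm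

/-- `t` is constant on twins -/
theorem tt_tw (hu : u ∈ Z) (hy : Tw Z K u y) : tt Z K y = tt Z K u := by
  by_cases h1 : ∃ v ∈ Z, CSw K u v
  · obtain ⟨v, hv, hs⟩ := h1
    obtain ⟨h2, h3, -⟩ := h.move hu hv hs hy
    rw [h.tt_eq hu hv hs, h.tt_eq hy.1 hv h2, h3]
  · have h2 : ¬ ∃ v ∈ Z, CSw K y v := by
      rintro ⟨v, hv, hs⟩
      exact h1 ⟨v, hv, (h.move hy.1 hv hs (hy.symm hu)).1⟩
    rw [tt_of_not h1, tt_of_not h2]

/-- `t_u = t_v` on C-swaps -/
theorem tt_swap (hu : u ∈ Z) (hv : v ∈ Z) (hs : CSw K u v) : tt Z K u = tt Z K v := by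
  rw [h.tt_eq hu hv hs, h.tt_eq hv hu (h.symm u hu v hv hs), hs.wt_symm h.w hu hv]

/-- `[K u, t_u] = 1` -/
theorem tt_cen (hu : u ∈ Z) : Cen K (tt Z K u) u := by
  by_cases h1 : ∃ v ∈ Z, CSw K u v
  · obtain ⟨v, hv, hs⟩ := h1
    rw [h.tt_eq hu hv hs]
    exact h.wt_cen_left hu hs
  · rw [tt_of_not h1]
    intro k _
    simp

/-- if `K x` centralises all twins of `u`, it centralises `t_u` -/
theorem tt_cen_of (hu : u ∈ Z) (hx : ∀ y, Tw Z K u y → Cen K y x) : Cen K (tt Z K u) x := by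
  by_cases h1 : ∃ v ∈ Z, CSw K u v
  · obtain ⟨v, hv, hs⟩ := h1
    rw [h.tt_eq hu hv hs]
    exact (hx u (Tw.refl hu)).mul (hx _ (h.twin u hu v hv hs))
  · rw [tt_of_not h1]
    intro k _
    simp

theorem tt_sq (hu : u ∈ Z) : tt Z K u * tt Z K u = 1 := by
  by_cases h1 : ∃ v ∈ Z, CSw K u v
  · obtain ⟨v, hv, hs⟩ := h1
    rw [h.tt_eq hu hv hs]
    exact hs.wt_sq h.w hu
  · rw [tt, dif_neg h1, mul_one]

theorem tt_ne (hu : u ∈ Z) (hv : v ∈ Z) (hs : CSw K u v) : tt Z K u ≠ 1 := by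
  rw [h.tt_eq hu hv hs]
  exact hs.wt_ne h.w hu

/-- `t_u = u · v u v⁻¹` with `v u v⁻¹ ∈ [u]` -/
theorem tt_prod (hu : u ∈ Z) (hv : v ∈ Z) (hs : CSw K u v) :
    tt Z K u = u * (v * u * v⁻¹) ∧ Tw Z K u (v * u * v⁻¹) :=
  ⟨h.tt_eq hu hv hs, h.twin u hu v hv hs⟩

/-- one C-swap: every `u` is in a C-swap -/
theorem exists_swap (hc : OneCls Z) {a b : G} (ha : a ∈ Z) (hb : b ∈ Z) (hs : CSw K a b) (hu : u ∈ Z) :
    ∃ v ∈ Z, CSw K u v := by
  obtain ⟨g, rfl⟩ := hc a ha u hu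
  exact ⟨_, h.w.conjZ b hb g, h.w.csw_conj ha hs g⟩

/-- (5.8) -/
theorem tt_not_mem [Finite G] (hc : OneCls Z) (hu : u ∈ Z) (hv : v ∈ Z) (hs : CSw K u v) : tt Z K u ∉ Z := by
  intro hsZ
  set s := tt Z K u with hsdef
  have hwe : s = wt u v := h.tt_eq hu hv hs
  have hcu : Cen K s u := h.tt_cen hu
  have hsu : u ≠ s := by
    intro h1
    have h2 : u * wt u v = 1 := by rw [← hwe, ← h1, h.w.sq u hu]
    rw [← conj_eq_mul_wt h.w hu] at h2
    exact h.w.ne _ (h.w.conjZ u hu v) h2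
  -- `C(u) = C(s)`
  have hle : centralizer {u} ≤ centralizer {s} := by
    intro g hg
    rw [mem_centralizer_singleton_iff] at hg ⊢
    exact h.tt_comm hu hg
  have heq : centralizer {u} = centralizer {s} := by
    obtain ⟨g, hg⟩ := hc u hu s hsZ
    refine eq_of_le_of_card_ge hle ?_
    rw [← hg, ← cj_centralizer, card_cj]
  -- `c[u] ⊆ c[s]`
  have hsub : cl Z K u ⊆ cl Z K s := by
    intro y hy
    refine ⟨hy.1, ?_⟩
    by_cases hys : y = s
    · exact Or.inl hys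
    right
    have h1 : Cen K s y := by
      intro k hk
      have h2 : k ∈ centralizer {u} := by
        rw [mem_centralizer_singleton_iff]
        rcases hy.2 with h3 | h3
        · rw [h3] at hk; exact h.w.cent hu hk
        · exact (h3.2 u (h.w.mem u hu) k hk).symm
      rw [heq, mem_centralizer_singleton_iff] at h2
      exact h2.symm
    exact (h.com y hy.1 s hsZ hys h1).symm
  have hcl : cl Z K u = cl Z K s := by
    obtain ⟨g, hg⟩ := hc u hu s hsZ
    have h1 : cl Z K s = (fun x => g * x * g⁻¹) '' cl Z K u := by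
      ext x
      constructor
      · intro hx
        refine ⟨g⁻¹ * x * g, ?_, by group⟩
        rw [← h.w.mem_cl_conj hu g, hg]
        have e : g * (g⁻¹ * x * g) * g⁻¹ = x := by group
        rwa [e]
      · rintro ⟨y, hy, rfl⟩
        rw [← hg]
        exact (h.w.mem_cl_conj hu g).2 hy
    refine Set.eq_of_subset_of_ncard_le hsub ?_ (Set.toFinite _)
    rw [h1]
    exact Set.ncard_image_le (Set.toFinite _)
  have hT : Tw Z K u s := ⟨hsZ, hcl⟩
  apply h.move_ne hu hv hs hT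
  have h2 := (h.wt_cen_right hu hv hs).comm h.w hv
  rw [← hwe] at h2
  rw [← h2, mul_inv_cancel_right]

end SwIn

end Cfsg.Agent.Cit.Nil.ROne
end

-- part: Cit/Nil/ROne/ClaimA
section
/-!
# (6b), `r = 1`, core-free: CLAIM S, common part and case (a) (helper194)

Section 4 of `blueprints/R18-6b-r1-helper545.md`: `(u, v)` a C-swap, `w = wt u v`, `N = NC w u`, `d_k = dg v k` (`k ∈ K u`),
`d'_l = dg u l` (`l ∈ K v`). `Bz u v k l` : `d'_l` commutes with `k` (`B(k, l) = 0`).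

* `dgl_mem`, `dgl_in` : `d'_l ∈ N`, `d'_l k d'_l⁻¹ = k` or `k u`;
* `bz_or`, `bz_iff`, `bz_symm` : `Bz` iff `d_k`, `d'_l` commute iff `d_k` commutes with `l`;
* `bz_mul`, `bz_mul'`, `nbz_mul`, `nbz_mul'` : bilinearity;
* `dg_act` : `d_k` acts on `K u` as `k`; `dg_act_of` : `d'_l` acts on `K u` as `k` if `B(k, l) = 0`, `B(., l) ≠ 0`;
* `f_one_of_move`, `f_one_of_all` : homomorphisms to `±1`;
* `claim_a` : case (a).
-/

set_option autoImplicit false
set_option linter.style.haveILetI false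
set_option linter.unusedSectionVars false

namespace Cfsg.Agent.Cit.Nil.ROne

open Subgroup Cfsg Cit

variable {G : Type*} [Group G]

/-- `B(k, l) = 0` -/
def Bz (u k l : G) : Prop := dg u l * k = k * dg u l

namespace W

variable {Z : Set G} {K : G → Subgroup G} {z u v g x y b k l n m s : G} (h : W Z K)

section quat

include h

theorem inv_eq_mul (hz : z ∈ Z) (hkk : k * k = z) : k⁻¹ = k * z := by
  have h2 : k * k * (k * k) = 1 := by rw [hkk, h.sq z hz]
  rw [← hkk, inv_eq_iff_mul_eq_one]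
  calc k * (k * (k * k)) = k * k * (k * k) := by group
    _ = 1 := h2

/-- four elements of order 4 on three axes -/
theorem third (hz : z ∈ Z) (hk : k ∈ K z) (hkk : k * k = z) (hb : b ∈ K z) (hbb : b * b = z) (hx : x ∈ K z)
    (hxx : x * x = z) (h1 : b ≠ k) (h2 : b ≠ k⁻¹) (h3 : x ≠ b) (h4 : x ≠ b⁻¹) (h5 : x ≠ k) (h6 : x ≠ k⁻¹) :
    x = k * b ∨ x = (k * b)⁻¹ := by
  have key : ∀ p q r : QEight.Q, p * p = QuaternionGroup.a 2 → q * q = QuaternionGroup.a 2 →
      r * r = QuaternionGroup.a 2 → q ≠ p → q ≠ p⁻¹ → r ≠ q → r ≠ q⁻¹ → r ≠ p → r ≠ p⁻¹ →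
      r = p * q ∨ r = (p * q)⁻¹ := by decide +kernel
  have hsq : ∀ {y : G} (hy : y ∈ K z), y * y = z → h.e hz ⟨y, hy⟩ * h.e hz ⟨y, hy⟩ = QuaternionGroup.a 2 := by
    intro y hy h4
    rw [← h.e_mul hz hy hy, ← h.e_z hz]
    exact congrArg (h.e hz) (Subtype.ext h4)
  have ne : ∀ {a c : G} (ha : a ∈ K z) (hc : c ∈ K z), a ≠ c → h.e hz ⟨a, ha⟩ ≠ h.e hz ⟨c, hc⟩ :=
    fun ha hc h7 h8 => h7 (h.e_inj hz ha hc h8)
  have ne' : ∀ {a c : G} (ha : a ∈ K z) (hc : c ∈ K z), a ≠ c⁻¹ → h.e hz ⟨a, ha⟩ ≠ (h.e hz ⟨c, hc⟩)⁻¹ :=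
    fun ha hc h7 h8 => h7 (h.e_inj hz ha (inv_mem hc) (by rw [h8, h.e_inv hz hc]))
  rcases key _ _ _ (hsq hk hkk) (hsq hb hbb) (hsq hx hxx) (ne hb hk h1) (ne' hb hk h2) (ne hx hb h3) (ne' hx hb h4)
    (ne hx hk h5) (ne' hx hk h6) with h7 | h7
  · left
    rw [← h.e_mul hz hk hb] at h7
    exact h.e_inj hz _ _ h7
  · right
    rw [← h.e_mul hz hk hb, ← h.e_inv hz (mul_mem hk hb)] at h7
    exact h.e_inj hz _ _ h7

/-- the product of two elements of order 4 on different axes has order 4 -/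
theorem mul_sq (hz : z ∈ Z) (hk : k ∈ K z) (hkk : k * k = z) (hb : b ∈ K z) (hbb : b * b = z) (h1 : b ≠ k)
    (h2 : b ≠ k⁻¹) : (k * b) * (k * b) = z := by
  have h3 := h.inv_of_ne hz hk hkk hb hbb h1 h2
  calc (k * b) * (k * b) = (k * b * k⁻¹) * (k * k) * b := by group
    _ = b⁻¹ * z * b := by rw [h3, hkk]
    _ = b⁻¹ * (z * b) := by group
    _ = z := by rw [← h.cent hz hb]; group

end quat

/-! ### Homomorphisms to `±1` -/


section hom

include h

theorem units_inv (a : ℤˣ) : a⁻¹ = a := by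
  rcases Int.units_eq_one_or a with h1 | h1 <;> rw [h1] <;> simp

/-- `c ∈ X` fixes `k` and moves the other axes of `K u`: `f k = 1` -/
theorem f_one_of_move (hu : u ∈ Z) {X : Subgroup G} (hX : K u ≤ X) (f : X →* ℤˣ) (hk : k ∈ K u) (hkk : k * k = u)
    {c : G} (hc : c ∈ X) (hcu : c * u = u * c) (hck : c * k * c⁻¹ = k)
    (hm : ∀ b ∈ K u, b * b = u → b ≠ k → b ≠ k⁻¹ → c * b * c⁻¹ ≠ b ∧ c * b * c⁻¹ ≠ b⁻¹) : f ⟨k, hX hk⟩ = 1 := by
  obtain ⟨b, hb, hbb, h1, h2, -, -⟩ := h.exists_inv hu hk hkk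
  obtain ⟨h3, h4⟩ := hm b hb hbb h1 h2
  have hxK : c * b * c⁻¹ ∈ K u := h.norm_mem hu hcu hb
  have hxx : c * b * c⁻¹ * (c * b * c⁻¹) = u := by
    calc c * b * c⁻¹ * (c * b * c⁻¹) = c * (b * b) * c⁻¹ := by group
      _ = u := by rw [hbb, hcu, mul_inv_cancel_right]
  have h5 : c * b * c⁻¹ ≠ k := by
    intro h6
    apply h1
    have h7 : c * b * c⁻¹ = c * k * c⁻¹ := h6.trans hck.symm
    exact mul_left_cancel (mul_right_cancel h7)
  have h6 : c * b * c⁻¹ ≠ k⁻¹ := by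
    intro h6
    apply h2
    have h7 : c * b * c⁻¹ = c * k⁻¹ * c⁻¹ := by
      rw [h6]
      have : c * k⁻¹ * c⁻¹ = (c * k * c⁻¹)⁻¹ := by group
      rw [this, hck]
    exact mul_left_cancel (mul_right_cancel h7)
  have h7 : f ⟨c * b * c⁻¹, hX hxK⟩ = f ⟨b, hX hb⟩ := by
    have h8 : (⟨c * b * c⁻¹, hX hxK⟩ : X) = ⟨c, hc⟩ * ⟨b, hX hb⟩ * ⟨c, hc⟩⁻¹ := rfl
    rw [h8, map_mul, map_mul, map_inv, mul_comm (f ⟨c, hc⟩), mul_inv_cancel_right]
  have h8 : f ⟨k * b, hX (mul_mem hk hb)⟩ = f ⟨k, hX hk⟩ * f ⟨b, hX hb⟩ := by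
    rw [← map_mul]; rfl
  rcases h.third hu hk hkk hb hbb hxK hxx h1 h2 h3 h4 h5 h6 with h9 | h9
  · have h10 : (⟨c * b * c⁻¹, hX hxK⟩ : X) = ⟨k * b, hX (mul_mem hk hb)⟩ := Subtype.ext h9
    rw [h10, h8] at h7
    exact mul_eq_right.1 h7
  · have h10 : (⟨c * b * c⁻¹, hX hxK⟩ : X) = ⟨k * b, hX (mul_mem hk hb)⟩⁻¹ := Subtype.ext h9
    rw [h10, map_inv, units_inv h, h8] at h7
    exact mul_eq_right.1 h7

/-- `f` is trivial on `K u` if it is trivial on the elements of order 4 -/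
theorem f_one_of_all (hu : u ∈ Z) {X : Subgroup G} (hX : K u ≤ X) (f : X →* ℤˣ)
    (hf : ∀ k (hk : k ∈ K u), k * k = u → f ⟨k, hX hk⟩ = 1) (hx : x ∈ K u) : f ⟨x, hX hx⟩ = 1 := by
  by_cases h1 : x = 1
  · have h2 : (⟨x, hX hx⟩ : X) = 1 := Subtype.ext h1
    rw [h2, map_one]
  by_cases h2 : x = u
  · obtain ⟨i, hi, -, -, hii, -⟩ := h.exists_ij hu
    have h3 : (⟨x, hX hx⟩ : X) = ⟨i, hX hi⟩ * ⟨i, hX hi⟩ := Subtype.ext (h2.trans hii.symm)
    rw [h3, map_mul, hf i hi hii, one_mul]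
  · exact hf x hx (h.sq_eq hu hx h1 h2)

end hom

/-! ### The form `B` -/

variable [Finite G] (ha : ANT Z K) (hu : u ∈ Z) (hv : v ∈ Z) (hs : CSw K u v)

include h ha hu hv hs

/-- `d'_l ∈ N` -/
theorem dgl_mem (hl : l ∈ K v) (hll : l * l = v) : dg u l ∈ NC (wt u v) u := by
  have h1 := h.dg_mem ha hv hu (h.csw_symm hu hv hs) hl hll
  rwa [h.wt_symm hu hv hs, ← h.swap_NC ha hu hv hs] at h1

omit [Finite G] ha in
theorem dgl_comm_u (hl : l ∈ K v) : dg u l * u = u * dg u l := h.dg_comm_v hv hu (h.csw_symm hu hv hs) hl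

omit [Finite G] ha in
theorem dgl_comm_v (hl : l ∈ K v) : dg u l * v = v * dg u l := h.dg_comm_u hv hu (h.csw_symm hu hv hs) hl

omit [Finite G] ha in
theorem dgl_sq (hl : l ∈ K v) (hll : l * l = v) : dg u l * dg u l = wt u v := by
  have h1 := h.dg_sq hv hu (h.csw_symm hu hv hs) hl hll
  rwa [h.wt_symm hu hv hs] at h1

omit [Finite G] ha in
theorem dgl_mul {l' : G} (hl : l ∈ K v) (hl' : l' ∈ K v) : dg u (l * l') = dg u l * dg u l' :=
  h.dg_mul hv hu (h.csw_symm hu hv hs) hl hl'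

/-- `d'_l` acts on `K u` as `1` or inner -/
theorem dgl_in (hl : l ∈ K v) (hll : l * l = v) (hk : k ∈ K u) :
    dg u l * k * (dg u l)⁻¹ = k ∨ dg u l * k * (dg u l)⁻¹ = k * u :=
  h.swap_in ha hu hv hs (h.dgl_mem ha hu hv hs hl hll) (h.dgl_comm_u hu hv hs hl) hk

theorem nbz (hl : l ∈ K v) (hll : l * l = v) (hk : k ∈ K u) (hb : ¬ Bz u k l) :
    dg u l * k * (dg u l)⁻¹ = k * u := by
  refine (h.dgl_in ha hu hv hs hl hll hk).resolve_left fun h1 => hb ?_
  rwa [mul_inv_eq_iff_eq_mul] at h1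

/-- `B(k, l) = 0` : `d_k` and `d'_l` commute -/
theorem bz_dg (hl : l ∈ K v) (hll : l * l = v) (hk : k ∈ K u) (hb : Bz u k l) :
    dg u l * dg v k = dg v k * dg u l := by
  have h1 := h.dg_conj ha hu hv hs (h.dgl_mem ha hu hv hs hl hll) hk (by
    rw [mul_inv_eq_iff_eq_mul]; exact hb)
  rwa [mul_inv_eq_iff_eq_mul] at h1

/-- `B(k, l) = 1` : `d_k ^ d'_l = d_k w` -/
theorem nbz_dg (hl : l ∈ K v) (hll : l * l = v) (hk : k ∈ K u) (hb : ¬ Bz u k l) :
    dg u l * dg v k * (dg u l)⁻¹ = dg v k * wt u v :=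
  h.dg_conj' ha hu hv hs (h.dgl_mem ha hu hv hs hl hll) hk (h.nbz ha hu hv hs hl hll hk hb)

/-- `B(k, l) = 0` iff `d_k` and `d'_l` commute -/
theorem bz_iff (hl : l ∈ K v) (hll : l * l = v) (hk : k ∈ K u) : Bz u k l ↔ dg u l * dg v k = dg v k * dg u l := by
  refine ⟨h.bz_dg ha hu hv hs hl hll hk, fun h1 => ?_⟩
  by_contra hb
  have h2 := h.nbz_dg ha hu hv hs hl hll hk hb
  rw [h1, mul_inv_cancel_right] at h2
  exact h.wt_ne hu hv hs (mul_eq_left.1 h2.symm)

/-- **symmetry** : `B(k, l) = 0` iff `d_k` commutes with `l` -/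
theorem bz_symm (hl : l ∈ K v) (hll : l * l = v) (hk : k ∈ K u) (hkk : k * k = u) : Bz u k l ↔ Bz v l k := by
  rw [h.bz_iff ha hu hv hs hl hll hk, h.bz_iff ha hv hu (h.csw_symm hu hv hs) hk hkk hl]
  exact eq_comm

omit [Finite G] ha hu hv hs h in
theorem bz_mul {k' : G} (h1 : Bz u k l) (h2 : Bz u k' l) : Bz u (k * k') l := by
  unfold Bz at *
  rw [← mul_assoc, h1, mul_assoc, h2, mul_assoc]

/-- `B(k, l) = B(k', l) = 1` gives `B(k k', l) = 0` -/
theorem nbz_mul {k' : G} (hl : l ∈ K v) (hll : l * l = v) (hk : k ∈ K u) (hk' : k' ∈ K u) (h1 : ¬ Bz u k l)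
    (h2 : ¬ Bz u k' l) : Bz u (k * k') l := by
  have h3 := h.nbz ha hu hv hs hl hll hk h1
  have h4 := h.nbz ha hu hv hs hl hll hk' h2
  unfold Bz
  rw [← mul_inv_eq_iff_eq_mul]
  calc dg u l * (k * k') * (dg u l)⁻¹ = (dg u l * k * (dg u l)⁻¹) * (dg u l * k' * (dg u l)⁻¹) := by group
    _ = k * (u * k') * u := by rw [h3, h4]; group
    _ = k * (k' * u) * u := by rw [h.cent hu hk']
    _ = k * k' * (u * u) := by group
    _ = k * k' := by rw [h.sq u hu, mul_one]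

omit [Finite G] ha in
/-- `d_k` acts on `K u` as `k` -/
theorem dg_act (hk : k ∈ K u) (hx : x ∈ K u) : dg v k * x * (dg v k)⁻¹ = k * x * k⁻¹ := by
  have h1 := hs.2 x hx (v * k * v⁻¹) (h.conj_mem_K hu v hk)
  unfold dg
  calc k * (v * k * v⁻¹) * x * (k * (v * k * v⁻¹))⁻¹ = k * ((v * k * v⁻¹) * x) * (v * k * v⁻¹)⁻¹ * k⁻¹ := by group
    _ = k * x * k⁻¹ := by rw [← h1]; group

/-- if `B(k, l) = 0` and `B(., l) ≠ 0` then `d'_l` acts on `K u` as `k` -/
theorem dgl_act (hl : l ∈ K v) (hll : l * l = v) (hk : k ∈ K u) (hkk : k * k = u) (hb : Bz u k l)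
    {k' : G} (hk' : k' ∈ K u) (hkk' : k' * k' = u) (hb' : ¬ Bz u k' l) (hx : x ∈ K u) :
    dg u l * x * (dg u l)⁻¹ = k * x * k⁻¹ := by
  have hkinv : Bz u k⁻¹ l := by
    unfold Bz at *
    rw [mul_inv_eq_iff_eq_mul, mul_assoc, hb, inv_mul_cancel_left]
  have hu' : Bz u u l := h.dgl_comm_u hu hv hs hl
  -- `x` on the axis of `k`
  have case1 : ∀ x, x = k ∨ x = k⁻¹ → dg u l * x * (dg u l)⁻¹ = k * x * k⁻¹ := by
    rintro x (rfl | rfl)
    · rw [show dg u l * x = x * dg u l from hb, mul_inv_cancel_right, mul_inv_cancel_right]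
    · rw [show dg u l * k⁻¹ = k⁻¹ * dg u l from hkinv, mul_inv_cancel_right, mul_inv_cancel, one_mul]
  by_cases h1 : x = 1
  · rw [h1]; group
  by_cases h2 : x = u
  · rw [h2, show dg u l * u = u * dg u l from hu', mul_inv_cancel_right, h.cent hu hk, mul_inv_cancel_right]
  have hxx := h.sq_eq hu hx h1 h2
  by_cases h3 : x = k
  · exact case1 x (Or.inl h3)
  by_cases h4 : x = k⁻¹
  · exact case1 x (Or.inr h4)
  -- `x` not on the axis of `k`: `k x k⁻¹ = x⁻¹ = x u`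
  rw [h.inv_of_ne hu hk hkk hx hxx h3 h4, h.inv_eq_mul hu hxx]
  refine h.nbz ha hu hv hs hl hll hx fun h5 => hb' ?_
  -- `B(x, l) = 0 = B(k, l)`, so `B(k', l) = 0`
  have hxinv : Bz u x⁻¹ l := by
    unfold Bz at *
    rw [mul_inv_eq_iff_eq_mul, mul_assoc, h5, inv_mul_cancel_left]
  by_cases h6 : k' = k
  · rw [h6]; exact hb
  by_cases h7 : k' = k⁻¹
  · rw [h7]; exact hkinv
  by_cases h8 : k' = x
  · rw [h8]; exact h5
  by_cases h9 : k' = x⁻¹
  · rw [h9]; exact hxinv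
  rcases h.third hu hk hkk hx hxx hk' hkk' h3 h4 h8 h9 h6 h7 with h10 | h10
  · rw [h10]; exact bz_mul hb h5
  · rw [h10, mul_inv_rev]; exact bz_mul hxinv hkinv

/-- `(l k) v (l k)⁻¹ = u w d_k d'_l` if `B(k, l) = 0` -/
theorem conj_lk (hl : l ∈ K v) (hll : l * l = v) (hk : k ∈ K u) (hkk : k * k = u) (hb : Bz u k l) :
    (l * k) * v * (l * k)⁻¹ = u * wt u v * (dg v k * dg u l) := by
  have h1 := h.conj_k_v hu hv hs hk hkk
  have h2 := h.conj_k_v hv hu (h.csw_symm hu hv hs) hl hll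
  have h3 : dg v k * l = l * dg v k := (h.bz_symm ha hu hv hs hl hll hk hkk).1 hb
  have h4 := h.cent hv hl
  have h5 := h.conj_u hu hv hs
  have h6 := h.dg_comm_u hu hv hs hk
  have h7 := h.dgl_comm_v hu hv hs hl
  have h8 := h.dg_comm_v hu hv hs hk
  have h9 := h.dgl_comm_u hu hv hs hl
  have hvv := h.inv hv
  calc (l * k) * v * (l * k)⁻¹ = l * (k * v * k⁻¹) * l⁻¹ := by group
    _ = (l * v) * dg v k * u * l⁻¹ := by rw [h1]; group
    _ = v * (l * dg v k) * u * l⁻¹ := by rw [h4]; group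
    _ = v * dg v k * (l * u * l⁻¹) := by rw [← h3]; group
    _ = v * (dg v k * u) * (dg u l * v) := by rw [h2]; group
    _ = v * u * (dg v k * v) * dg u l := by rw [h6, h7]; group
    _ = (v * u * v⁻¹) * (dg v k * dg u l) := by rw [h8, hvv]; group
    _ = u * wt u v * (dg v k * dg u l) := by rw [h5]

/-- **CLAIM S, case (a)** -/
theorem claim_a (hl : l ∈ K v) (hll : l * l = v) (hall : ∀ k ∈ K u, k * k = u → Bz u k l)
    (f : ↥(K u ⊔ K v) →* ℤˣ) {x : G} (hx : x ∈ K u) : f ⟨x, mem_sup_left hx⟩ = 1 := by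
  refine h.f_one_of_all hu le_sup_left f (fun k hk hkk => ?_) hx
  have hb := hall k hk hkk
  set q := (l * k) * v * (l * k)⁻¹ with hq
  have hqZ : q ∈ Z := h.conjZ v hv _
  have hqe := h.conj_lk ha hu hv hs hl hll hk hkk hb
  -- `q` acts on `K u` as `k`
  have hact : ∀ x ∈ K u, q * x * q⁻¹ = k * x * k⁻¹ := by
    intro x hx
    have h1 : dg u l * x * (dg u l)⁻¹ = x := by
      have h2 : dg u l * x = x * dg u l := by
        by_cases h3 : x = 1
        · rw [h3, one_mul, mul_one]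
        by_cases h4 : x = u
        · rw [h4]; exact h.dgl_comm_u hu hv hs hl
        exact hall x hx (h.sq_eq hu hx h3 h4)
      rw [h2, mul_inv_cancel_right]
    have h2 := h.dg_act hu hv hs hk hx
    have h3 := h.wt_cen_u hu hv hs (k * x * k⁻¹) (mul_mem (mul_mem hk hx) (inv_mem hk))
    have h4 := h.cent hu (mul_mem (mul_mem hk hx) (inv_mem hk))
    rw [hq, hqe]
    calc u * wt u v * (dg v k * dg u l) * x * (u * wt u v * (dg v k * dg u l))⁻¹
        = u * (wt u v * (dg v k * (dg u l * x * (dg u l)⁻¹) * (dg v k)⁻¹) * (wt u v)⁻¹) * u⁻¹ := by group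
      _ = u * (wt u v * (k * x * k⁻¹) * (wt u v)⁻¹) * u⁻¹ := by rw [h1, h2]
      _ = u * (k * x * k⁻¹) * u⁻¹ := by rw [h3, mul_inv_cancel_right]
      _ = k * x * k⁻¹ := by rw [← h4, mul_inv_cancel_right]
  have hinn : Inn K q u k := ⟨hk, hkk, hact⟩
  have hqu : q * u = u * q := by
    have h1 := hact u (h.mem u hu)
    rw [h.cent hu hk, mul_inv_cancel_right, mul_inv_eq_iff_eq_mul] at h1
    exact h1
  have hne : u ≠ q := by
    intro h1
    refine h.not_cen_of_inn hu hinn ?_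
    rw [← h1]
    exact fun k hk => (h.cent hu hk).symm
  have hti : TI K u q := by
    rcases h.tri hu hqZ hne hqu.symm with h1 | h1 | ⟨b, b', h1, -⟩
    · exact absurd (h.cen_of_cp hqZ h1) (h.not_cen_of_inn hu hinn)
    · exact h1
    · exact (h.not_inn_trn hu hinn h1).elim
  obtain ⟨c, hc, hcc, hcu⟩ := h.ti_four hti
  obtain ⟨h1, h2⟩ := h.ti_act hu hinn hcc hcu
  refine h.f_one_of_move hu le_sup_left f hk hkk (c := c) ?_ hcu h1 h2
  -- `K q ≤ X`
  rw [hq, h.conjK v hv, mem_cj] at hc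
  have h3 : c = (l * k) * ((l * k)⁻¹ * c * (l * k)) * (l * k)⁻¹ := by group
  have hlk : l * k ∈ K u ⊔ K v := mul_mem (mem_sup_right hl) (mem_sup_left hk)
  rw [h3]
  exact mul_mem (mul_mem hlk (mem_sup_right hc)) (inv_mem hlk)

end W

end Cfsg.Agent.Cit.Nil.ROne
end

-- part: Cit/Nil/ROne/ClaimB
section
/-!
# (6b), `r = 1`: CLAIM S, case (b) (nondegenerate `B`)

Section 4 (b) of `blueprints/R18-6b-r1-helper545.md`. `(u, v)` a C-swap, `X = K u ⊔ K v`,
`d_k = dg v k` (`k ∈ K u`), `d'_l = dg u l` (`l ∈ K v`). If no `d'_l`, `l ∈ K v` of order 4, centralises `K u`, then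
(`W.exists_rot`) some `d ∈ X` commutes with `u` and fixes no cyclic subgroup of order 4 of `K u`.

The group `X` acts on five elements `u, v, a v a⁻¹, b v b⁻¹, (a b) v (a b)⁻¹` modulo a central subgroup as `A₅`.
-/

set_option autoImplicit false
set_option linter.style.haveILetI false
set_option linter.unusedSectionVars false

namespace Cfsg.Agent.Cit.Nil.ROne

open Subgroup Cfsg Cit

variable {G : Type*} [Group G]

/-- `n` acts on `K z` as conjugation by `y` -/
def AI (K : G → Subgroup G) (n z y : G) : Prop := ∀ k ∈ K z, n * k * n⁻¹ = y * k * y⁻¹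

theorem AI.mul {K : G → Subgroup G} {n m z x y : G} (h1 : AI K n z y) (h2 : AI K m z x) (hx : x ∈ K z) :
    AI K (n * m) z (y * x) := by
  intro k hk
  have h3 := h1 (x * k * x⁻¹) (mul_mem (mul_mem hx hk) (inv_mem hx))
  calc n * m * k * (n * m)⁻¹ = n * (m * k * m⁻¹) * n⁻¹ := by group
    _ = n * (x * k * x⁻¹) * n⁻¹ := by rw [h2 k hk]
    _ = y * (x * k * x⁻¹) * y⁻¹ := h3
    _ = _ := by group

/-- `e` is a central element of `X = K u ⊔ K v` with square `1` -/
structure EE (K : G → Subgroup G) (u v e : G) : Prop where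
  mem : e ∈ K u ⊔ K v
  sq : e * e = 1
  cu : Cen K e u
  cv : Cen K e v

namespace EE

variable {K : G → Subgroup G} {u v e e' x : G}

theorem comm (h : EE K u v e) (hx : x ∈ K u ⊔ K v) : e * x = x * e := by
  have h1 : K u ⊔ K v ≤ centralizer {e} := by
    refine sup_le ?_ ?_
    · intro k hk; exact mem_centralizer_singleton_iff.2 (h.cu k hk).symm
    · intro k hk; exact mem_centralizer_singleton_iff.2 (h.cv k hk).symm
  exact (mem_centralizer_singleton_iff.1 (h1 hx)).symm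

theorem inv (h : EE K u v e) : e⁻¹ = e := inv_eq_of_mul_eq_one_right h.sq

theorem one : EE K u v (1 : G) := ⟨one_mem _, by simp, Cen.one, Cen.one⟩

theorem mul (h : EE K u v e) (h' : EE K u v e') : EE K u v (e * e') := by
  refine ⟨mul_mem h.mem h'.mem, ?_, h.cu.mul h'.cu, h.cv.mul h'.cv⟩
  have h1 := h.comm h'.mem
  calc e * e' * (e * e') = e * (e' * e) * e' := by group
    _ = e * (e * e') * e' := by rw [h1]
    _ = (e * e) * (e' * e') := by group
    _ = 1 := by rw [h.sq, h'.sq, one_mul]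

end EE

/-- equality modulo `E` -/
def RE (K : G → Subgroup G) (u v x y : G) : Prop := ∃ e, EE K u v e ∧ x = y * e

namespace RE

variable {K : G → Subgroup G} {u v x y z g : G}

theorem refl (x : G) : RE K u v x x := ⟨1, EE.one, (mul_one x).symm⟩

theorem symm (h : RE K u v x y) : RE K u v y x := by
  obtain ⟨e, he, rfl⟩ := h
  exact ⟨e, he, by rw [mul_assoc, he.sq, mul_one]⟩

theorem trans (h : RE K u v x y) (h' : RE K u v y z) : RE K u v x z := by
  obtain ⟨e, he, rfl⟩ := h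
  obtain ⟨e', he', rfl⟩ := h'
  exact ⟨e' * e, he'.mul he, mul_assoc _ _ _⟩

theorem conj (h : RE K u v x y) (hg : g ∈ K u ⊔ K v) : RE K u v (g * x * g⁻¹) (g * y * g⁻¹) := by
  obtain ⟨e, he, rfl⟩ := h
  refine ⟨e, he, ?_⟩
  have h1 := he.comm (inv_mem hg)
  calc g * (y * e) * g⁻¹ = g * y * (e * g⁻¹) := by group
    _ = g * y * (g⁻¹ * e) := by rw [h1]
    _ = _ := by group

theorem comm (h : RE K u v x y) (hy : y ∈ K u ⊔ K v) : x * y = y * x := by
  obtain ⟨e, he, rfl⟩ := h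
  rw [mul_assoc, he.comm hy]

theorem mem (h : RE K u v x y) (hy : y ∈ K u ⊔ K v) : x ∈ K u ⊔ K v := by
  obtain ⟨e, he, rfl⟩ := h
  exact mul_mem hy he.mem

end RE

section act

variable {K : G → Subgroup G} {u v : G} (pt : Fin 5 → G)

/-- `x ∈ X` acts as `σ` on the five points modulo `E` -/
def Act (K : G → Subgroup G) (u v : G) (x : G) (σ : Equiv.Perm (Fin 5)) : Prop :=
  x ∈ K u ⊔ K v ∧ ∀ i, RE K u v (x * pt i * x⁻¹) (pt (σ i))

variable {pt} {x y : G} {σ τ : Equiv.Perm (Fin 5)}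

theorem Act.mul (h : Act pt K u v x σ) (h' : Act pt K u v y τ) : Act pt K u v (x * y) (σ * τ) := by
  refine ⟨mul_mem h.1 h'.1, fun i => ?_⟩
  have h1 := (h'.2 i).conj h.1
  have h2 := h.2 (τ i)
  have h3 : x * y * pt i * (x * y)⁻¹ = x * (y * pt i * y⁻¹) * x⁻¹ := by group
  rw [h3]
  exact h1.trans h2

theorem Act.inv (h : Act pt K u v x σ) : Act pt K u v x⁻¹ σ⁻¹ := by
  refine ⟨inv_mem h.1, fun i => ?_⟩
  have h1 := (h.2 (σ⁻¹ i)).conj (inv_mem h.1)
  have h2 : x⁻¹ * (x * pt (σ⁻¹ i) * x⁻¹) * x⁻¹⁻¹ = pt (σ⁻¹ i) := by group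
  have h3 : σ (σ⁻¹ i) = i := by rw [← Equiv.Perm.mul_apply, mul_inv_cancel, Equiv.Perm.one_apply]
  rw [h2, h3] at h1
  exact h1.symm

/-- uniqueness, if the five points are different modulo `E` -/
theorem Act.uniq (hn : ∀ i j, RE K u v (pt i) (pt j) → i = j) (h : Act pt K u v x σ) (h' : Act pt K u v x τ) :
    σ = τ := Equiv.ext fun i => hn _ _ ((h.2 i).symm.trans (h'.2 i))

/-- the four generating permutations -/
def pa : Equiv.Perm (Fin 5) := Equiv.swap 1 2 * Equiv.swap 3 4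
def pb : Equiv.Perm (Fin 5) := Equiv.swap 1 3 * Equiv.swap 2 4
def pa' : Equiv.Perm (Fin 5) := Equiv.swap 0 2 * Equiv.swap 3 4
def pb' : Equiv.Perm (Fin 5) := Equiv.swap 0 3 * Equiv.swap 2 4

theorem pt_inj {a b a' b' : G} (h01 : ¬ RE K u v (pt 0) (pt 1)) (Aa : Act pt K u v a pa)
    (Ab : Act pt K u v b pb) (Aa' : Act pt K u v a' pa') (Ab' : Act pt K u v b' pb') :
    ∀ i j, RE K u v (pt i) (pt j) → i = j := by
  have key : ∀ {x : G} {σ : Equiv.Perm (Fin 5)}, Act pt K u v x σ → ∀ i j, RE K u v (pt i) (pt j) →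
      RE K u v (pt (σ i)) (pt (σ j)) := by
    intro x σ hx i j hij
    exact (hx.2 i).symm.trans ((hij.conj hx.1).trans (hx.2 j))
  have n01 := h01
  have n10 : ¬ RE K u v (pt 1) (pt 0) := fun h => h01 h.symm
  have n02 : ¬ RE K u v (pt 0) (pt 2) := fun h => n01 (key Aa 0 2 h)
  have n03 : ¬ RE K u v (pt 0) (pt 3) := fun h => n01 (key Ab 0 3 h)
  have n04 : ¬ RE K u v (pt 0) (pt 4) := fun h => n03 (key Aa 0 4 h)
  have n12 : ¬ RE K u v (pt 1) (pt 2) := fun h => n10 (key Aa' 1 2 h)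
  have n13 : ¬ RE K u v (pt 1) (pt 3) := fun h => n10 (key Ab' 1 3 h)
  have n14 : ¬ RE K u v (pt 1) (pt 4) := fun h => n13 (key Aa' 1 4 h)
  have n23 : ¬ RE K u v (pt 2) (pt 3) := fun h => n14 (key Aa 2 3 h)
  have n24 : ¬ RE K u v (pt 2) (pt 4) := fun h => n13 (key Aa 2 4 h)
  have n34 : ¬ RE K u v (pt 3) (pt 4) := fun h => n12 (key Ab 3 4 h)
  intro i j hij
  fin_cases i <;> fin_cases j <;>
    [rfl; exact absurd hij n01; exact absurd hij n02; exact absurd hij n03; exact absurd hij n04; exact absurd hij.symm n01; rfl; exact absurd hij n12;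
     exact absurd hij n13; exact absurd hij n14; exact absurd hij.symm n02; exact absurd hij.symm n12; rfl; exact absurd hij n23; exact absurd hij n24;
     exact absurd hij.symm n03; exact absurd hij.symm n13; exact absurd hij.symm n23; rfl; exact absurd hij n34; exact absurd hij.symm n04;
     exact absurd hij.symm n14; exact absurd hij.symm n24; exact absurd hij.symm n34; rfl]

/-- the rotation -/
def pd : Equiv.Perm (Fin 5) := pb' * (pa * pa') * pb'⁻¹

theorem pd_ne : ∀ σ : Equiv.Perm (Fin 5), (σ = pa ∨ σ = pa⁻¹ ∨ σ = pb ∨ σ = pb⁻¹ ∨ σ = pa * pb ∨ σ = (pa * pb)⁻¹) →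
    (pd * pd) * σ * (pd * pd)⁻¹ ≠ σ ∧ (pd * pd) * σ * (pd * pd)⁻¹ ≠ σ⁻¹ := by
  rintro σ (rfl | rfl | rfl | rfl | rfl | rfl) <;> refine ⟨?_, ?_⟩ <;> decide +kernel

end act

namespace W

section q8

variable {Z : Set G} {K : G → Subgroup G} {z a b y : G}

/-- the elements of order 4 of `K z` in terms of two of them -/
theorem four_list (h : W Z K) (hz : z ∈ Z) (ha : a ∈ K z) (haa : a * a = z) (hb : b ∈ K z) (hbb : b * b = z)
    (h1 : b ≠ a) (h2 : b ≠ a⁻¹) (hy : y ∈ K z) (hyy : y * y = z) :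
    y = a ∨ y = a⁻¹ ∨ y = b ∨ y = b⁻¹ ∨ y = a * b ∨ y = (a * b)⁻¹ := by
  by_cases h3 : y = b
  · (clear * - h3; (solve | repeat (first | with_reducible assumption | exact Or.inl (by with_reducible assumption) | refine Or.inr ?_) | tauto))
  by_cases h4 : y = b⁻¹
  · (clear * - h4; (solve | repeat (first | with_reducible assumption | exact Or.inl (by with_reducible assumption) | refine Or.inr ?_) | tauto))
  by_cases h5 : y = a
  · (clear * - G a b y h5; tauto)
  by_cases h6 : y = a⁻¹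
  · (clear * - G a b y h6; tauto)
  rcases h.third hz ha haa hb hbb hy hyy h1 h2 h3 h4 h5 h6 with h7 | h7
  · (clear * - h7; (solve | repeat (first | with_reducible assumption | exact Or.inl (by with_reducible assumption) | refine Or.inr ?_) | tauto))
  · (clear * - h7; (solve | repeat (first | with_reducible assumption | exact Or.inl (by with_reducible assumption) | refine Or.inr ?_) | tauto))

/-- relations between two elements of order 4 on different axes -/
theorem four_rel (h : W Z K) (hz : z ∈ Z) (ha : a ∈ K z) (haa : a * a = z) (hb : b ∈ K z) (hbb : b * b = z)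
    (h1 : b ≠ a) (h2 : b ≠ a⁻¹) : b * a = z * (a * b) ∧ (a * b) * (a * b) = z ∧ b * a * b = a := by
  have h3 := h.inv_of_ne hz ha haa hb hbb h1 h2
  rw [h.inv_eq_mul hz hbb] at h3
  have hba : a * b = b * z * a := by rw [← h3]; group
  have hza := h.cent hz ha
  have hzb := h.cent hz hb
  have hzz := h.sq z hz
  have h4 : b * a = z * (a * b) := by
    rw [hba, hzb]
    calc b * a = (z * z) * b * a := by rw [hzz, one_mul]
      _ = z * (z * b * a) := by group
  refine ⟨h4, h.mul_sq hz ha haa hb hbb h1 h2, ?_⟩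
  rw [h4]
  calc z * (a * b) * b = z * a * (b * b) := by group
    _ = a * (z * z) := by rw [hbb, ← hza]; group
    _ = a := by rw [hzz, mul_one]

end q8

variable [Finite G] {Z : Set G} {K : G → Subgroup G} {u v x y k l a b a' b' : G} (h : W Z K) (ha : ANT Z K)

include h

section swap

variable (hu : u ∈ Z) (hv : v ∈ Z) (hs : CSw K u v)

include hu hv hs

omit [Finite G] in
theorem ee_wt : EE K u v (wt u v) := by
  refine ⟨?_, h.wt_sq hu hv hs, h.wt_cen_u hu hv hs, h.wt_cen_v hu hv hs⟩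
  have hu' : u ∈ K u ⊔ K v := mem_sup_left (h.mem u hu)
  have hv' : v ∈ K u ⊔ K v := mem_sup_right (h.mem v hv)
  exact mul_mem hu' (mul_mem (mul_mem hv' hu') (inv_mem hv'))

omit [Finite G] in
theorem re_uvu : RE K u v (u * v * u⁻¹) v := ⟨_, h.ee_wt hu hv hs, h.conj_v hu hv hs⟩

omit [Finite G] in
theorem re_vuv : RE K u v (v * u * v⁻¹) u := ⟨_, h.ee_wt hu hv hs, h.conj_u hu hv hs⟩

include ha

/-- `η = d_k d'_l` for matched `k`, `l` -/
theorem ee_eta (hk : k ∈ K u) (hkk : k * k = u) (hl : l ∈ K v) (hll : l * l = v) (h1 : AI K (dg u l) u k)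
    (h2 : AI K (dg v k) v l) : EE K u v (dg v k * dg u l) := by
  have hu' : u ∈ K u ⊔ K v := mem_sup_left (h.mem u hu)
  have hv' : v ∈ K u ⊔ K v := mem_sup_right (h.mem v hv)
  have hk' : k ∈ K u ⊔ K v := mem_sup_left hk
  have hl' : l ∈ K u ⊔ K v := mem_sup_right hl
  have hb : Bz u k l := by
    have h3 := h1 k hk
    rwa [mul_inv_cancel_right, mul_inv_eq_iff_eq_mul] at h3
  have hc := (h.bz_iff ha hu hv hs hl hll hk).1 hb
  refine ⟨?_, ?_, ?_, ?_⟩
  · exact mul_mem (mul_mem hk' (mul_mem (mul_mem hv' hk') (inv_mem hv')))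
      (mul_mem hl' (mul_mem (mul_mem hu' hl') (inv_mem hu')))
  · calc dg v k * dg u l * (dg v k * dg u l) = dg v k * (dg u l * dg v k) * dg u l := by group
      _ = (dg v k * dg v k) * (dg u l * dg u l) := by rw [hc]; group
      _ = 1 := by rw [h.dg_sq hu hv hs hk hkk, h.dgl_sq hu hv hs hl hll, h.wt_sq hu hv hs]
  · have h3 : AI K (dg v k * dg u l) u (k * k) := AI.mul (fun x hx => h.dg_act hu hv hs hk hx) h1 hk
    intro m hm
    have h4 := h3 m hm
    rwa [hkk, ← h.cent hu hm, mul_inv_cancel_right, mul_inv_eq_iff_eq_mul] at h4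
  · have h3 : AI K (dg v k * dg u l) v (l * l) :=
      AI.mul h2 (fun x hx => h.dg_act hv hu (h.csw_symm hu hv hs) hl hx) hl
    intro m hm
    have h4 := h3 m hm
    rwa [hll, ← h.cent hv hm, mul_inv_cancel_right, mul_inv_eq_iff_eq_mul] at h4

/-- `l u l⁻¹` and `k v k⁻¹` are equal modulo `E` for matched `k`, `l` -/
theorem re_match (hk : k ∈ K u) (hkk : k * k = u) (hl : l ∈ K v) (hll : l * l = v) (h1 : AI K (dg u l) u k)
    (h2 : AI K (dg v k) v l) : RE K u v (l * u * l⁻¹) (k * v * k⁻¹) := by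
  refine ⟨_, h.ee_eta ha hu hv hs hk hkk hl hll h1 h2, ?_⟩
  have hs' := h.csw_symm hu hv hs
  have e1 := h.conj_k_v hu hv hs hk hkk
  have e2 := h.conj_k_v hv hu hs' hl hll
  have c1 := h.dg_comm_u hu hv hs hk
  have c2 := h.dg_comm_v hu hv hs hk
  have c3 := h.dgl_comm_v hu hv hs hl
  have c4 := h.dg_sq hu hv hs hk hkk
  have c5 := h.wt_comm_u hu hv hs
  have c6 := h.conj_u hu hv hs
  have c7 := h.wt_comm_v hu hv hs
  have hww := h.wt_sq hu hv hs
  have hvi := h.inv hv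
  rw [e1, e2]
  -- `v u = u w v`
  have c8 : v * u = u * wt u v * v := by rw [← c6, inv_mul_cancel_right]
  calc u * dg u l * v = u * v * dg u l := by rw [mul_assoc, c3, mul_assoc]
    _ = u * (wt u v * wt u v) * v * dg u l := by rw [hww, mul_one]
    _ = u * wt u v * (wt u v * v) * dg u l := by group
    _ = u * wt u v * (v * wt u v) * dg u l := by rw [c7]
    _ = (u * wt u v * v) * (dg v k * dg v k) * dg u l := by rw [c4]; group
    _ = v * (u * dg v k) * dg v k * dg u l := by rw [← c8]; group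
    _ = v * dg v k * u * (dg v k * dg u l) := by rw [← c1]; group

/-- matched elements -/
theorem exists_ai (hnd : ∀ l ∈ K v, l * l = v → ∃ k ∈ K u, k * k = u ∧ ¬ Bz u k l) (hl : l ∈ K v)
    (hll : l * l = v) : ∃ k ∈ K u, k * k = u ∧ AI K (dg u l) u k := by
  rcases h.swap_inn ha hu hv hs (h.dgl_mem ha hu hv hs hl hll) (h.dgl_comm_u hu hv hs hl) with h1 | ⟨y, h1⟩
  · obtain ⟨k, hk, -, hb⟩ := hnd l hl hll
    exact absurd (h1 k hk) hb
  · exact ⟨y, h1.mem, h1.sq, h1.act⟩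

/-- `d_a` acts on `K v` as `a'` -/
theorem ai_symm (hal : a ∈ K u) (haa : a * a = u) (hbl : b ∈ K u) (hbb : b * b = u) (hab : b ≠ a) (hab' : b ≠ a⁻¹)
    (hal' : a' ∈ K v) (haa' : a' * a' = v) (hbl' : b' ∈ K v) (hbb' : b' * b' = v)
    (h1 : AI K (dg u a') u a) (h2 : AI K (dg u b') u b) : AI K (dg v a) v a' := by
  have hb1 : Bz u a a' := by
    have h3 := h1 a hal
    rwa [mul_inv_cancel_right, mul_inv_eq_iff_eq_mul] at h3
  have hb2 : ¬ Bz u a b' := by
    intro h3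
    have h4 := h2 a hal
    rw [show dg u b' * a = a * dg u b' from h3, mul_inv_cancel_right] at h4
    have h5 := h.inv_of_ne hu hbl hbb hal haa hab.symm (fun h6 => hab' (by rw [h6, inv_inv]))
    rw [← h4, eq_inv_iff_mul_eq_one, haa] at h5
    exact h.ne u hu h5
  have hs' := h.csw_symm hu hv hs
  have hb3 : Bz v a' a := (h.bz_symm ha hu hv hs hal' haa' hal haa).1 hb1
  have hb4 : ¬ Bz v b' a := fun h3 => hb2 ((h.bz_symm ha hu hv hs hbl' hbb' hal haa).2 h3)
  exact fun x hx => h.dgl_act ha hv hu hs' hal haa hal' haa' hb3 hbl' hbb' hb4 hx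

/-- **CLAIM S, case (b)** -/
theorem exists_rot (hnd : ∀ l ∈ K v, l * l = v → ∃ k ∈ K u, k * k = u ∧ ¬ Bz u k l) :
    ∃ d ∈ K u ⊔ K v, d * u = u * d ∧ ∀ y ∈ K u, y * y = u → d * y * d⁻¹ ≠ y ∧ d * y * d⁻¹ ≠ y⁻¹ := by
  have hs' := h.csw_symm hu hv hs
  -- matched generators
  obtain ⟨a', hal', haa'⟩ : ∃ a' ∈ K v, a' * a' = v := by
    obtain ⟨i, hi, -, -, hii, -⟩ := h.exists_ij hv
    exact ⟨i, hi, hii⟩
  obtain ⟨b', hbl', hbb', hne1, hne2, -, -⟩ := h.exists_inv hv hal' haa'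
  obtain ⟨a, hal, haa, haA⟩ := h.exists_ai ha hu hv hs hnd hal' haa'
  obtain ⟨b, hbl, hbb, hbA⟩ := h.exists_ai ha hu hv hs hnd hbl' hbb'
  obtain ⟨r1', r2', r3'⟩ := h.four_rel hv hal' haa' hbl' hbb' hne1 hne2
  have hcl' : a' * b' ∈ K v := mul_mem hal' hbl'
  have hcA : AI K (dg u (a' * b')) u (a * b) := by
    rw [h.dgl_mul hu hv hs hal' hbl']
    exact AI.mul haA hbA hbl
  have hne3 : a * b ≠ 1 ∧ a * b ≠ u := by
    obtain ⟨m, hm, hmm, hmb⟩ := hnd _ hcl' r2'
    constructor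
    · intro h1
      apply hmb
      have h2 := hcA m hm
      rw [h1, one_mul, inv_one, mul_one, mul_inv_eq_iff_eq_mul] at h2
      exact h2
    · intro h1
      apply hmb
      have h2 := hcA m hm
      rw [h1, ← h.cent hu hm, mul_inv_cancel_right, mul_inv_eq_iff_eq_mul] at h2
      exact h2
  have hab : b ≠ a := fun h1 => hne3.2 (by rw [h1, haa])
  have hab' : b ≠ a⁻¹ := fun h1 => hne3.1 (by rw [h1, mul_inv_cancel])
  obtain ⟨r1, r2, r3⟩ := h.four_rel hu hal haa hbl hbb hab hab'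
  have hcl : a * b ∈ K u := mul_mem hal hbl
  have haA' := h.ai_symm ha hu hv hs hal haa hbl hbb hab hab' hal' haa' hbl' hbb' haA hbA
  have hbA' := h.ai_symm ha hu hv hs hbl hbb hal haa hab.symm (fun h1 => hab' (by rw [h1, inv_inv]))
    hbl' hbb' hal' haa' hbA haA
  have hcA' : AI K (dg v (a * b)) v (a' * b') := by
    rw [h.dg_mul hu hv hs hal hbl]
    exact AI.mul haA' hbA' hbl'
  -- membership
  have hu' : u ∈ K u ⊔ K v := mem_sup_left (h.mem u hu)
  have hv' : v ∈ K u ⊔ K v := mem_sup_right (h.mem v hv)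
  have haX : a ∈ K u ⊔ K v := mem_sup_left hal
  have hbX : b ∈ K u ⊔ K v := mem_sup_left hbl
  have haX' : a' ∈ K u ⊔ K v := mem_sup_right hal'
  have hbX' : b' ∈ K u ⊔ K v := mem_sup_right hbl'
  have hcX : a * b ∈ K u ⊔ K v := mul_mem haX hbX
  have hcX' : a' * b' ∈ K u ⊔ K v := mul_mem haX' hbX'
  -- the points
  have m3 := h.re_match ha hu hv hs hal haa hal' haa' haA haA'
  have m4 := h.re_match ha hu hv hs hbl hbb hbl' hbb' hbA hbA'
  have m5 := h.re_match ha hu hv hs hcl r2 hcl' r2' hcA hcA'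
  have mu := h.re_uvu hu hv hs
  have mv := h.re_vuv hu hv hs
  -- `u` fixes the points `g v g⁻¹`, `g ∈ K u`; `v` fixes the points `g u g⁻¹`, `g ∈ K v`
  have fu : ∀ g ∈ K u, RE K u v (u * (g * v * g⁻¹) * u⁻¹) (g * v * g⁻¹) := by
    intro g hg
    have h1 := mu.conj (mem_sup_left hg : g ∈ K u ⊔ K v)
    have h2 : g * (u * v * u⁻¹) * g⁻¹ = u * (g * v * g⁻¹) * u⁻¹ := by
      calc g * (u * v * u⁻¹) * g⁻¹ = (g * u) * v * (g * u)⁻¹ := by group
        _ = (u * g) * v * (u * g)⁻¹ := by rw [h.cent hu hg]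
        _ = _ := by group
    rwa [h2] at h1
  have fv : ∀ g ∈ K v, RE K u v (v * (g * u * g⁻¹) * v⁻¹) (g * u * g⁻¹) := by
    intro g hg
    have h1 := mv.conj (mem_sup_right hg : g ∈ K u ⊔ K v)
    have h2 : g * (v * u * v⁻¹) * g⁻¹ = v * (g * u * g⁻¹) * v⁻¹ := by
      calc g * (v * u * v⁻¹) * g⁻¹ = (g * v) * u * (g * v)⁻¹ := by group
        _ = (v * g) * u * (v * g)⁻¹ := by rw [h.cent hv hg]
        _ = _ := by group
    rwa [h2] at h1
  set pt : Fin 5 → G := ![u, v, a * v * a⁻¹, b * v * b⁻¹, (a * b) * v * (a * b)⁻¹] with hpt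
  have Aa : Act pt K u v a pa := by
    refine ⟨haX, fun i => ?_⟩
    fin_cases i
    · change RE K u v (a * u * a⁻¹) u
      rw [h.cent hu hal, mul_inv_cancel_right]; exact RE.refl _
    · change RE K u v (a * v * a⁻¹) (a * v * a⁻¹)
      exact RE.refl _
    · change RE K u v (a * (a * v * a⁻¹) * a⁻¹) v
      have e : a * (a * v * a⁻¹) * a⁻¹ = u * v * u⁻¹ := by rw [← haa]; group
      rw [e]; exact mu
    · change RE K u v (a * (b * v * b⁻¹) * a⁻¹) ((a * b) * v * (a * b)⁻¹)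
      have e : a * (b * v * b⁻¹) * a⁻¹ = (a * b) * v * (a * b)⁻¹ := by group
      rw [e]; exact RE.refl _
    · change RE K u v (a * ((a * b) * v * (a * b)⁻¹) * a⁻¹) (b * v * b⁻¹)
      have e : a * ((a * b) * v * (a * b)⁻¹) * a⁻¹ = (a * a) * (b * v * b⁻¹) * (a * a)⁻¹ := by group
      rw [e, haa]; exact fu b hbl
  have Ab : Act pt K u v b pb := by
    refine ⟨hbX, fun i => ?_⟩
    fin_cases i
    · change RE K u v (b * u * b⁻¹) u
      rw [h.cent hu hbl, mul_inv_cancel_right]; exact RE.refl _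
    · change RE K u v (b * v * b⁻¹) (b * v * b⁻¹)
      exact RE.refl _
    · change RE K u v (b * (a * v * a⁻¹) * b⁻¹) ((a * b) * v * (a * b)⁻¹)
      have e : b * (a * v * a⁻¹) * b⁻¹ = u * ((a * b) * v * (a * b)⁻¹) * u⁻¹ := by
        calc b * (a * v * a⁻¹) * b⁻¹ = (b * a) * v * (b * a)⁻¹ := by group
          _ = _ := by rw [r1]; group
      rw [e]; exact fu _ hcl
    · change RE K u v (b * (b * v * b⁻¹) * b⁻¹) v
      have e : b * (b * v * b⁻¹) * b⁻¹ = u * v * u⁻¹ := by rw [← hbb]; group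
      rw [e]; exact mu
    · change RE K u v (b * ((a * b) * v * (a * b)⁻¹) * b⁻¹) (a * v * a⁻¹)
      have e : b * ((a * b) * v * (a * b)⁻¹) * b⁻¹ = (b * a * b) * v * (b * a * b)⁻¹ := by group
      rw [e, r3]; exact RE.refl _
  have Aa' : Act pt K u v a' pa' := by
    refine ⟨haX', fun i => ?_⟩
    fin_cases i
    · change RE K u v (a' * u * a'⁻¹) (a * v * a⁻¹)
      exact m3
    · change RE K u v (a' * v * a'⁻¹) v
      rw [h.cent hv hal', mul_inv_cancel_right]; exact RE.refl _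
    · change RE K u v (a' * (a * v * a⁻¹) * a'⁻¹) u
      refine (m3.symm.conj haX').trans ?_
      have e : a' * (a' * u * a'⁻¹) * a'⁻¹ = v * u * v⁻¹ := by rw [← haa']; group
      rw [e]; exact mv
    · change RE K u v (a' * (b * v * b⁻¹) * a'⁻¹) ((a * b) * v * (a * b)⁻¹)
      refine (m4.symm.conj haX').trans ?_
      have e : a' * (b' * u * b'⁻¹) * a'⁻¹ = (a' * b') * u * (a' * b')⁻¹ := by group
      rw [e]; exact m5
    · change RE K u v (a' * ((a * b) * v * (a * b)⁻¹) * a'⁻¹) (b * v * b⁻¹)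
      refine (m5.symm.conj haX').trans ?_
      have e : a' * ((a' * b') * u * (a' * b')⁻¹) * a'⁻¹ = (a' * a') * (b' * u * b'⁻¹) * (a' * a')⁻¹ := by group
      rw [e, haa']; exact (fv b' hbl').trans m4
  have Ab' : Act pt K u v b' pb' := by
    refine ⟨hbX', fun i => ?_⟩
    fin_cases i
    · change RE K u v (b' * u * b'⁻¹) (b * v * b⁻¹)
      exact m4
    · change RE K u v (b' * v * b'⁻¹) v
      rw [h.cent hv hbl', mul_inv_cancel_right]; exact RE.refl _
    · change RE K u v (b' * (a * v * a⁻¹) * b'⁻¹) ((a * b) * v * (a * b)⁻¹)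
      refine (m3.symm.conj hbX').trans ?_
      have e : b' * (a' * u * a'⁻¹) * b'⁻¹ = v * ((a' * b') * u * (a' * b')⁻¹) * v⁻¹ := by
        calc b' * (a' * u * a'⁻¹) * b'⁻¹ = (b' * a') * u * (b' * a')⁻¹ := by group
          _ = _ := by rw [r1']; group
      rw [e]; exact (fv _ hcl').trans m5
    · change RE K u v (b' * (b * v * b⁻¹) * b'⁻¹) u
      refine (m4.symm.conj hbX').trans ?_
      have e : b' * (b' * u * b'⁻¹) * b'⁻¹ = v * u * v⁻¹ := by rw [← hbb']; group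
      rw [e]; exact mv
    · change RE K u v (b' * ((a * b) * v * (a * b)⁻¹) * b'⁻¹) (a * v * a⁻¹)
      refine (m5.symm.conj hbX').trans ?_
      have e : b' * ((a' * b') * u * (a' * b')⁻¹) * b'⁻¹ = (b' * a' * b') * u * (b' * a' * b')⁻¹ := by group
      rw [e, r3']; exact m3
  have h01 : ¬ RE K u v (pt 0) (pt 1) := fun h1 => h.csw_not_comm hu hv hs (h1.comm hv')
  have hinj := pt_inj h01 Aa Ab Aa' Ab'
  have Ad : Act pt K u v (b' * (a * a') * b'⁻¹) pd := ((Ab'.mul (Aa.mul Aa')).mul Ab'.inv)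
  set d := b' * (a * a') * b'⁻¹ with hd
  have Ag : Act pt K u v (d * d) (pd * pd) := Ad.mul Ad
  -- `d²` commutes with `u`
  have hdu : d * d * u = u * (d * d) := by
    obtain ⟨e, he, h1⟩ : RE K u v (d * u * d⁻¹) u := Ad.2 0
    have h2 := he.comm Ad.1
    have h3 : d * d * u * (d * d)⁻¹ = u := by
      have h4 : d * (u * e) * d⁻¹ = (d * u * d⁻¹) * (d * e * d⁻¹) := by group
      calc d * d * u * (d * d)⁻¹ = d * (d * u * d⁻¹) * d⁻¹ := by group
        _ = (u * e) * e := by rw [h1, h4, h1, ← h2, mul_inv_cancel_right]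
        _ = u := by rw [mul_assoc, he.sq, mul_one]
    rwa [mul_inv_eq_iff_eq_mul] at h3
  refine ⟨d * d, Ag.1, hdu, fun y hy hyy => ?_⟩
  obtain ⟨σ, hσ, hyσ⟩ : ∃ σ : Equiv.Perm (Fin 5), (σ = pa ∨ σ = pa⁻¹ ∨ σ = pb ∨ σ = pb⁻¹ ∨ σ = pa * pb ∨
      σ = (pa * pb)⁻¹) ∧ Act pt K u v y σ := by
    rcases h.four_list hu hal haa hbl hbb hab hab' hy hyy with h1 | h1 | h1 | h1 | h1 | h1 <;> rw [h1]
    · exact ⟨pa, by (clear * -; tauto), Aa⟩
    · exact ⟨pa⁻¹, by (clear * -; tauto), Aa.inv⟩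
    · exact ⟨pb, by (clear * -; (solve | simp only [*, true_or, or_true, and_self, true_and, and_true, not_false_eq_true] | tauto)), Ab⟩
    · exact ⟨pb⁻¹, by (clear * -; (solve | simp only [*, true_or, or_true, and_self, true_and, and_true, not_false_eq_true] | tauto)), Ab.inv⟩
    · exact ⟨pa * pb, by (clear * -; (solve | simp only [*, true_or, or_true, and_self, true_and, and_true, not_false_eq_true] | tauto)), Aa.mul Ab⟩
    · exact ⟨(pa * pb)⁻¹, by (clear * -; (solve | simp only [*, true_or, or_true, and_self, true_and, and_true, not_false_eq_true] | tauto)), (Aa.mul Ab).inv⟩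
  have Ac := (Ag.mul hyσ).mul Ag.inv
  obtain ⟨h1, h2⟩ := pd_ne σ hσ
  constructor
  · intro h3
    rw [h3] at Ac
    exact h1 (Act.uniq hinj Ac hyσ)
  · intro h3
    rw [h3] at Ac
    exact h2 (Act.uniq hinj Ac hyσ.inv)

end swap

end W

end Cfsg.Agent.Cit.Nil.ROne
end

private theorem dce_f21e15f7bcf3 : _root_.True := by
  try have : _root_.True := by simp only [_root_.Cfsg.Agent.Cit.Nil.ROne.tt.eq_1]
  exact _root_.True.intro
end

-- part: Cit/Nil/RTwoM/L1/ClaimA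
section
prune_inst 0x4200040001122000000180010220020001000000000030001e160020003400000a0470e012840060090102c5020000020030801500238000000000800000401200002500282080000010000001001180c00000000000000000000000000000000000000000
set_option linter.all false
open scoped Cfsg.Agent.FastGrp

/-!
# S1309, (6b), any `r`: CLAIM S, data and case (a)

Section 4 of `blueprints/R18-6b-r1-helper545.md`, port of `ROne/ClaimA.lean` to members. `K u`, `K v` are two quaternion
groups (ANY member over `u`, ANY member over `v`; only the values `K u`, `K v` of `K` are used), `(u, v)` a C-swap,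
`w = wt u v`, `d_k = dg v k` (`k ∈ K u`), `d'_l = dg u l` (`l ∈ K v`).

* `SD K u v` : the data; `SD.symm`;
* `SD.bz_iff`, `bz_symm`, `bz_mul`, ... : the form `B`; `dgl_act`, `conj_lk`;
* `SD.claim_a` : case (a).
-/

set_option autoImplicit false
set_option linter.style.haveILetI false
set_option linter.unusedSectionVars false

namespace Cfsg.Agent.Cit.Nil.RTwoM.L1

open Subgroup Cfsg Cfsg.Agent.Cit
open ROne (Cen wt dg Bz)

variable {G : Type*} [Group G]

/-- the data of CLAIM S -/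
structure SD (K : G → Subgroup G) (u v : G) : Prop where
  qu : QA K u
  qv : QA K v
  cu : ∀ a ∈ K u, ∀ b ∈ K u, a * (v * b * v⁻¹) = (v * b * v⁻¹) * a
  cv : ∀ a ∈ K v, ∀ b ∈ K v, a * (u * b * u⁻¹) = (u * b * u⁻¹) * a
  wu : Cen K (wt u v) u
  wv : Cen K (wt u v) v
  ne : wt u v ≠ 1
  iu : ∀ l ∈ K v, l * l = v → ∀ k ∈ K u, dg u l * k * (dg u l)⁻¹ = k ∨ dg u l * k * (dg u l)⁻¹ = k * u
  iv : ∀ k ∈ K u, k * k = u → ∀ l ∈ K v, dg v k * l * (dg v k)⁻¹ = l ∨ dg v k * l * (dg v k)⁻¹ = l * v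
  du : ∀ l ∈ K v, l * l = v → ∀ k ∈ K u, dg u l * k * (dg u l)⁻¹ = k → dg u l * dg v k * (dg u l)⁻¹ = dg v k
  du' : ∀ l ∈ K v, l * l = v → ∀ k ∈ K u, dg u l * k * (dg u l)⁻¹ = k * u →
    dg u l * dg v k * (dg u l)⁻¹ = dg v k * wt u v
  dv : ∀ k ∈ K u, k * k = u → ∀ l ∈ K v, dg v k * l * (dg v k)⁻¹ = l → dg v k * dg u l * (dg v k)⁻¹ = dg u l
  dv' : ∀ k ∈ K u, k * k = u → ∀ l ∈ K v, dg v k * l * (dg v k)⁻¹ = l * v →
    dg v k * dg u l * (dg v k)⁻¹ = dg u l * wt u v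

namespace SD

variable {K : G → Subgroup G} {u v x y k l b n m : G} (h : SD K u v)

section formulas

include h

theorem csw_comm : u * (v * u * v⁻¹) = (v * u * v⁻¹) * u := h.cu u h.qu.mem u h.qu.mem

theorem sq_vuv : (v * u * v⁻¹) * (v * u * v⁻¹) = 1 := by
  calc (v * u * v⁻¹) * (v * u * v⁻¹) = v * (u * u) * v⁻¹ := by group
    _ = 1 := by rw [h.qu.sq]; group

theorem wt_sq : wt u v * wt u v = 1 := by
  have h1 := h.csw_comm
  have h2 := h.qu.sq
  have h3 := h.sq_vuv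
  unfold wt
  calc u * (v * u * v⁻¹) * (u * (v * u * v⁻¹)) = u * ((v * u * v⁻¹) * u) * (v * u * v⁻¹) := by group
    _ = u * (u * (v * u * v⁻¹)) * (v * u * v⁻¹) := by rw [h1]
    _ = (u * u) * ((v * u * v⁻¹) * (v * u * v⁻¹)) := by group
    _ = 1 := by rw [h2, h3, one_mul]

theorem wt_comm_u : wt u v * u = u * wt u v := h.wu u h.qu.mem

/-- `v u v⁻¹ = u w` -/
theorem conj_u : v * u * v⁻¹ = u * wt u v := by
  unfold wt
  rw [← mul_assoc, h.qu.sq, one_mul]

/-- `w` commutes with `v` -/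
theorem wt_comm_v : wt u v * v = v * wt u v := h.wv v h.qv.mem

/-- `u v u⁻¹ = v w` -/
theorem conj_v : u * v * u⁻¹ = v * wt u v := by
  have h2 := h.qu.inv
  have h3 := h.qv.inv
  have h5 := h.wt_sq
  have h6 : wt u v = u * v * u * v := by unfold wt; rw [h3]; group
  have h7 : (wt u v)⁻¹ = wt u v := inv_eq_of_mul_eq_one_right h5
  calc u * v * u⁻¹ = v * (v * u * v * u) := by
        rw [h2]
        have := h.qv.sq
        calc u * v * u = (v * v) * (u * v * u) := by rw [this, one_mul]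
          _ = v * (v * u * v * u) := by group
    _ = v * (wt u v)⁻¹ := by
        rw [h6]
        congr 1
        rw [mul_inv_rev, mul_inv_rev, mul_inv_rev, h2, h3]; group
    _ = v * wt u v := by rw [h7]

theorem wt_symm : wt v u = wt u v := by
  have h1 := h.conj_v
  unfold wt
  rw [h1, ← mul_assoc, h.qv.sq, one_mul]
  rfl

theorem symm : SD K v u where
  qu := h.qv
  qv := h.qu
  cu := h.cv
  cv := h.cu
  wu := by rw [h.wt_symm]; exact h.wv
  wv := by rw [h.wt_symm]; exact h.wu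
  ne := by rw [h.wt_symm]; exact h.ne
  iu := h.iv
  iv := h.iu
  du := h.dv
  du' := by rw [h.wt_symm]; exact h.dv'
  dv := h.du
  dv' := by rw [h.wt_symm]; exact h.du'

/-- the diagonal elements are centralised by `v` -/
theorem dg_comm_v (hk : k ∈ K u) : dg v k * v = v * dg v k := by
  have h1 := h.cu k hk k hk
  have h2 := h.qv.sq
  have h3 : v * dg v k * v⁻¹ = dg v k := by
    unfold dg
    calc v * (k * (v * k * v⁻¹)) * v⁻¹ = (v * k * v⁻¹) * ((v * v) * k * (v * v)⁻¹) := by group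
      _ = (v * k * v⁻¹) * k := by rw [h2]; group
      _ = k * (v * k * v⁻¹) := h1.symm
  rw [mul_inv_eq_iff_eq_mul] at h3
  exact h3.symm

theorem dg_mul (hk : k ∈ K u) (hl : l ∈ K u) : dg v (k * l) = dg v k * dg v l := by
  have h1 := h.cu l hl k hk
  unfold dg
  calc k * l * (v * (k * l) * v⁻¹) = k * (l * (v * k * v⁻¹)) * (v * l * v⁻¹) := by group
    _ = k * ((v * k * v⁻¹) * l) * (v * l * v⁻¹) := by rw [h1]
    _ = _ := by group

theorem dg_sq (hk : k ∈ K u) (hkk : k * k = u) : dg v k * dg v k = wt u v := by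
  rw [← h.dg_mul hk hk, hkk]
  rfl

theorem csw_not_comm : u * v ≠ v * u := by
  intro h1
  apply h.ne
  unfold wt
  rw [← h1, mul_inv_cancel_right, h.qu.sq]

/-- `d_k` commutes with `u` -/
theorem dg_comm_u (hk : k ∈ K u) : dg v k * u = u * dg v k := by
  have h1 := h.qu.cent hk
  have h2 := h.cu u h.qu.mem k hk
  unfold dg
  rw [mul_assoc, ← h2, ← mul_assoc, h1, mul_assoc]

/-- `k v k⁻¹ = v d_k u` for `k` of order 4 -/
theorem conj_k_v (hk : k ∈ K u) (hkk : k * k = u) : k * v * k⁻¹ = v * dg v k * u := by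
  have h1 := h.cu k hk k hk
  have h3 := h.qv.sq
  have h4 : k⁻¹ = k * u := h.qu.inv_eq_mul hkk
  unfold dg
  calc k * v * k⁻¹ = v * ((v * v)⁻¹ * v * k * v⁻¹ * (v * v)) * k⁻¹ := by group
    _ = v * ((v * k * v⁻¹) * k⁻¹) := by rw [h3]; group
    _ = v * ((v * k * v⁻¹) * k) * u := by rw [h4]; group
    _ = v * (k * (v * k * v⁻¹)) * u := by rw [h1]

/-! ### The form `B` -/

theorem dgl_comm_u (hl : l ∈ K v) : dg u l * u = u * dg u l := h.symm.dg_comm_v hl

theorem dgl_comm_v (hl : l ∈ K v) : dg u l * v = v * dg u l := h.symm.dg_comm_u hl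

theorem dgl_sq (hl : l ∈ K v) (hll : l * l = v) : dg u l * dg u l = wt u v := by
  rw [h.symm.dg_sq hl hll, h.wt_symm]

theorem dgl_mul {l' : G} (hl : l ∈ K v) (hl' : l' ∈ K v) : dg u (l * l') = dg u l * dg u l' :=
  h.symm.dg_mul hl hl'

theorem nbz (hl : l ∈ K v) (hll : l * l = v) (hk : k ∈ K u) (hb : ¬ Bz u k l) :
    dg u l * k * (dg u l)⁻¹ = k * u := by
  refine (h.iu l hl hll k hk).resolve_left fun h1 => hb ?_
  rwa [mul_inv_eq_iff_eq_mul] at h1

/-- `B(k, l) = 0` : `d_k` and `d'_l` commute -/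
theorem bz_dg (hl : l ∈ K v) (hll : l * l = v) (hk : k ∈ K u) (hb : Bz u k l) :
    dg u l * dg v k = dg v k * dg u l := by
  have h1 := h.du l hl hll k hk (by rw [mul_inv_eq_iff_eq_mul]; exact hb)
  rwa [mul_inv_eq_iff_eq_mul] at h1

/-- `B(k, l) = 1` : `d_k ^ d'_l = d_k w` -/
theorem nbz_dg (hl : l ∈ K v) (hll : l * l = v) (hk : k ∈ K u) (hb : ¬ Bz u k l) :
    dg u l * dg v k * (dg u l)⁻¹ = dg v k * wt u v :=
  h.du' l hl hll k hk (h.nbz hl hll hk hb)

/-- `B(k, l) = 0` iff `d_k` and `d'_l` commute -/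
theorem bz_iff (hl : l ∈ K v) (hll : l * l = v) (hk : k ∈ K u) : Bz u k l ↔ dg u l * dg v k = dg v k * dg u l := by
  refine ⟨h.bz_dg hl hll hk, fun h1 => ?_⟩
  by_contra hb
  have h2 := h.nbz_dg hl hll hk hb
  rw [h1, mul_inv_cancel_right] at h2
  exact h.ne (mul_eq_left.1 h2.symm)

/-- **symmetry** : `B(k, l) = 0` iff `d_k` commutes with `l` -/
theorem bz_symm (hl : l ∈ K v) (hll : l * l = v) (hk : k ∈ K u) (hkk : k * k = u) : Bz u k l ↔ Bz v l k := by
  rw [h.bz_iff hl hll hk, h.symm.bz_iff hk hkk hl]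
  exact eq_comm

/-- `B(k, l) = B(k', l) = 1` gives `B(k k', l) = 0` -/
theorem nbz_mul {k' : G} (hl : l ∈ K v) (hll : l * l = v) (hk : k ∈ K u) (hk' : k' ∈ K u) (h1 : ¬ Bz u k l)
    (h2 : ¬ Bz u k' l) : Bz u (k * k') l := by
  have h3 := h.nbz hl hll hk h1
  have h4 := h.nbz hl hll hk' h2
  unfold Bz
  rw [← mul_inv_eq_iff_eq_mul]
  calc dg u l * (k * k') * (dg u l)⁻¹ = (dg u l * k * (dg u l)⁻¹) * (dg u l * k' * (dg u l)⁻¹) := by group
    _ = k * (u * k') * u := by rw [h3, h4]; group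
    _ = k * (k' * u) * u := by rw [h.qu.cent hk']
    _ = k * k' * (u * u) := by group
    _ = k * k' := by rw [h.qu.sq, mul_one]

/-- `d_k` acts on `K u` as `k` -/
theorem dg_act (hk : k ∈ K u) (hx : x ∈ K u) : dg v k * x * (dg v k)⁻¹ = k * x * k⁻¹ := by
  have h1 := h.cu x hx k hk
  unfold dg
  calc k * (v * k * v⁻¹) * x * (k * (v * k * v⁻¹))⁻¹ = k * ((v * k * v⁻¹) * x) * (v * k * v⁻¹)⁻¹ * k⁻¹ := by group
    _ = k * x * k⁻¹ := by rw [← h1]; group

/-- if `B(k, l) = 0` and `B(., l) ≠ 0` then `d'_l` acts on `K u` as `k` -/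
theorem dgl_act (hl : l ∈ K v) (hll : l * l = v) (hk : k ∈ K u) (hkk : k * k = u) (hb : Bz u k l)
    {k' : G} (hk' : k' ∈ K u) (hkk' : k' * k' = u) (hb' : ¬ Bz u k' l) (hx : x ∈ K u) :
    dg u l * x * (dg u l)⁻¹ = k * x * k⁻¹ := by
  have hkinv : Bz u k⁻¹ l := by
    unfold Bz at *
    rw [mul_inv_eq_iff_eq_mul, mul_assoc, hb, inv_mul_cancel_left]
  have hu' : Bz u u l := h.dgl_comm_u hl
  -- `x` on the axis of `k`
  have case1 : ∀ x, x = k ∨ x = k⁻¹ → dg u l * x * (dg u l)⁻¹ = k * x * k⁻¹ := by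
    rintro x (rfl | rfl)
    · rw [show dg u l * x = x * dg u l from hb, mul_inv_cancel_right, mul_inv_cancel_right]
    · rw [show dg u l * k⁻¹ = k⁻¹ * dg u l from hkinv, mul_inv_cancel_right, mul_inv_cancel, one_mul]
  by_cases h1 : x = 1
  · rw [h1]; group
  by_cases h2 : x = u
  · rw [h2, show dg u l * u = u * dg u l from hu', mul_inv_cancel_right, h.qu.cent hk, mul_inv_cancel_right]
  have hxx := h.qu.sq_eq hx h1 h2
  by_cases h3 : x = k
  · exact case1 x (Or.inl h3)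
  by_cases h4 : x = k⁻¹
  · exact case1 x (Or.inr h4)
  -- `x` not on the axis of `k`: `k x k⁻¹ = x⁻¹ = x u`
  rw [h.qu.inv_of_ne hk hkk hx hxx h3 h4, h.qu.inv_eq_mul hxx]
  refine h.nbz hl hll hx fun h5 => hb' ?_
  -- `B(x, l) = 0 = B(k, l)`, so `B(k', l) = 0`
  have hxinv : Bz u x⁻¹ l := by
    unfold Bz at *
    rw [mul_inv_eq_iff_eq_mul, mul_assoc, h5, inv_mul_cancel_left]
  by_cases h6 : k' = k
  · rw [h6]; exact hb
  by_cases h7 : k' = k⁻¹
  · rw [h7]; exact hkinv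
  by_cases h8 : k' = x
  · rw [h8]; exact h5
  by_cases h9 : k' = x⁻¹
  · rw [h9]; exact hxinv
  rcases h.qu.third hk hkk hx hxx hk' hkk' h3 h4 h8 h9 h6 h7 with h10 | h10
  · rw [h10]; exact ROne.W.bz_mul hb h5
  · rw [h10, mul_inv_rev]; exact ROne.W.bz_mul hxinv hkinv

/-- `(l k) v (l k)⁻¹ = u w d_k d'_l` if `B(k, l) = 0` -/
theorem conj_lk (hl : l ∈ K v) (hll : l * l = v) (hk : k ∈ K u) (hkk : k * k = u) (hb : Bz u k l) :
    (l * k) * v * (l * k)⁻¹ = u * wt u v * (dg v k * dg u l) := by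
  have h1 := h.conj_k_v hk hkk
  have h2 := h.symm.conj_k_v hl hll
  have h3 : dg v k * l = l * dg v k := (h.bz_symm hl hll hk hkk).1 hb
  have h4 := h.qv.cent hl
  have h5 := h.conj_u
  have h6 := h.dg_comm_u hk
  have h7 := h.dgl_comm_v hl
  have h8 := h.dg_comm_v hk
  have h9 := h.dgl_comm_u hl
  have hvv := h.qv.inv
  calc (l * k) * v * (l * k)⁻¹ = l * (k * v * k⁻¹) * l⁻¹ := by group
    _ = (l * v) * dg v k * u * l⁻¹ := by rw [h1]; group
    _ = v * (l * dg v k) * u * l⁻¹ := by rw [h4]; group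
    _ = v * dg v k * (l * u * l⁻¹) := by rw [← h3]; group
    _ = v * (dg v k * u) * (dg u l * v) := by rw [h2]; group
    _ = v * u * (dg v k * v) * dg u l := by rw [h6, h7]; group
    _ = (v * u * v⁻¹) * (dg v k * dg u l) := by rw [h8, hvv]; group
    _ = u * wt u v * (dg v k * dg u l) := by rw [h5]

/-- **CLAIM S, case (a)** -/
theorem claim_a
    (hI : ∀ x ∈ K u ⊔ K v, ∀ k ∈ K u, k * k = u →
      (∀ y ∈ K u, (x * v * x⁻¹) * y * (x * v * x⁻¹)⁻¹ = k * y * k⁻¹) →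
      ∃ c, x⁻¹ * c * x ∈ K v ∧ c * c = x * v * x⁻¹ ∧ c * u = u * c ∧ ∀ y, c * y * c⁻¹ ∈ K u ↔ y ∈ K u)
    (hl : l ∈ K v) (hll : l * l = v) (hall : ∀ k ∈ K u, k * k = u → Bz u k l)
    (f : ↥(K u ⊔ K v) →* ℤˣ) {x : G} (hx : x ∈ K u) : f ⟨x, mem_sup_left hx⟩ = 1 := by
  refine h.qu.f_one_of_all le_sup_left f (fun k hk hkk => ?_) hx
  have hb := hall k hk hkk
  have hqe := h.conj_lk hl hll hk hkk hb
  have hlk : l * k ∈ K u ⊔ K v := mul_mem (mem_sup_right hl) (mem_sup_left hk)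
  -- `q` acts on `K u` as `k`
  have hact : ∀ x ∈ K u, (l * k * v * (l * k)⁻¹) * x * (l * k * v * (l * k)⁻¹)⁻¹ = k * x * k⁻¹ := by
    intro x hx
    have h1 : dg u l * x * (dg u l)⁻¹ = x := by
      have h2 : dg u l * x = x * dg u l := by
        by_cases h3 : x = 1
        · rw [h3, one_mul, mul_one]
        by_cases h4 : x = u
        · rw [h4]; exact h.dgl_comm_u hl
        exact hall x hx (h.qu.sq_eq hx h3 h4)
      rw [h2, mul_inv_cancel_right]
    have h2 := h.dg_act hk hx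
    have h3 := h.wu (k * x * k⁻¹) (mul_mem (mul_mem hk hx) (inv_mem hk))
    have h4 := h.qu.cent (mul_mem (mul_mem hk hx) (inv_mem hk))
    rw [hqe]
    calc u * wt u v * (dg v k * dg u l) * x * (u * wt u v * (dg v k * dg u l))⁻¹
        = u * (wt u v * (dg v k * (dg u l * x * (dg u l)⁻¹) * (dg v k)⁻¹) * (wt u v)⁻¹) * u⁻¹ := by group
      _ = u * (wt u v * (k * x * k⁻¹) * (wt u v)⁻¹) * u⁻¹ := by rw [h1, h2]
      _ = u * (k * x * k⁻¹) * u⁻¹ := by rw [h3, mul_inv_cancel_right]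
      _ = k * x * k⁻¹ := by rw [← h4, mul_inv_cancel_right]
  obtain ⟨c, hc, hcc, hcu, hcn⟩ := hI (l * k) hlk k hk hkk hact
  obtain ⟨h1, h2⟩ := h.qu.ti_act hcn hk hkk (by rw [hcc]; exact hact)
  refine h.qu.f_one_of_move le_sup_left f hk hkk (c := c) ?_ (fun y hy => (hcn y).2 hy) hcu h1 h2
  have h3 : c = (l * k) * ((l * k)⁻¹ * c * (l * k)) * (l * k)⁻¹ := by group
  rw [h3]
  exact mul_mem (mul_mem hlk (mem_sup_right hc)) (inv_mem hlk)

end formulas

end SD

end Cfsg.Agent.Cit.Nil.RTwoM.L1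
end

-- part: Cit/Nil/RTwoM/L1/ClaimB
section
prune_inst 0x4300001001522000000180010220020003000000000030001e16002000b400001a0470e013850060091102cf0600a8020030801590238000020008a0000040120040370e2823c1c00110000405801180c00000000000000000000000000000000000000000
set_option linter.all false
open scoped Cfsg.Agent.FastGrp

/-!
# S1309, (6b), any `r`: CLAIM S, case (b) (nondegenerate `B`)

Section 4 (b) of `blueprints/R18-6b-r1-helper545.md`, port of `ROne/ClaimB.lean` to members (`SD K u v`). If no `d'_l`,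
`l ∈ K v` of order 4, centralises `K u`, then (`SD.exists_rot`) some `d ∈ X = K u ⊔ K v` commutes with `u` and `d²` fixes
no cyclic subgroup of order 4 of `K u`.

* `SD.claim` : CLAIM S.
-/

set_option autoImplicit false
set_option linter.style.haveILetI false
set_option linter.unusedSectionVars false

namespace Cfsg.Agent.Cit.Nil.RTwoM.L1

open Subgroup Cfsg Cfsg.Agent.Cit
open ROne (Cen wt dg Bz AI EE RE Act pa pb pa' pb' pd pt_inj)

variable {G : Type*} [Group G]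

theorem pd_ne' : ∀ σ : Equiv.Perm (Fin 5), (σ = pa ∨ σ = pa⁻¹ ∨ σ = pb ∨ σ = pb⁻¹ ∨ σ = pa * pb ∨ σ = (pa * pb)⁻¹) →
    (pd * pd * (pd * pd)) * σ * (pd * pd * (pd * pd))⁻¹ ≠ σ ∧
      (pd * pd * (pd * pd)) * σ * (pd * pd * (pd * pd))⁻¹ ≠ σ⁻¹ := by
  rintro σ (rfl | rfl | rfl | rfl | rfl | rfl) <;> refine ⟨?_, ?_⟩ <;> decide +kernel

namespace SD

variable {K : G → Subgroup G} {u v x y k l a b a' b' : G} (h : SD K u v)

include h

theorem ee_wt : EE K u v (wt u v) := by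
  refine ⟨?_, h.wt_sq, h.wu, h.wv⟩
  have hu' : u ∈ K u ⊔ K v := mem_sup_left (h.qu.mem)
  have hv' : v ∈ K u ⊔ K v := mem_sup_right (h.qv.mem)
  exact mul_mem hu' (mul_mem (mul_mem hv' hu') (inv_mem hv'))

theorem re_uvu : RE K u v (u * v * u⁻¹) v := ⟨_, h.ee_wt, h.conj_v⟩

theorem re_vuv : RE K u v (v * u * v⁻¹) u := ⟨_, h.ee_wt, h.conj_u⟩

/-- `η = d_k d'_l` for matched `k`, `l` -/
theorem ee_eta (hk : k ∈ K u) (hkk : k * k = u) (hl : l ∈ K v) (hll : l * l = v) (h1 : AI K (dg u l) u k)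
    (h2 : AI K (dg v k) v l) : EE K u v (dg v k * dg u l) := by
  have hu' : u ∈ K u ⊔ K v := mem_sup_left (h.qu.mem)
  have hv' : v ∈ K u ⊔ K v := mem_sup_right (h.qv.mem)
  have hk' : k ∈ K u ⊔ K v := mem_sup_left hk
  have hl' : l ∈ K u ⊔ K v := mem_sup_right hl
  have hb : Bz u k l := by
    have h3 := h1 k hk
    rwa [mul_inv_cancel_right, mul_inv_eq_iff_eq_mul] at h3
  have hc := (h.bz_iff hl hll hk).1 hb
  refine ⟨?_, ?_, ?_, ?_⟩
  · exact mul_mem (mul_mem hk' (mul_mem (mul_mem hv' hk') (inv_mem hv')))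
      (mul_mem hl' (mul_mem (mul_mem hu' hl') (inv_mem hu')))
  · calc dg v k * dg u l * (dg v k * dg u l) = dg v k * (dg u l * dg v k) * dg u l := by group
      _ = (dg v k * dg v k) * (dg u l * dg u l) := by rw [hc]; group
      _ = 1 := by rw [h.dg_sq hk hkk, h.dgl_sq hl hll, h.wt_sq]
  · have h3 : AI K (dg v k * dg u l) u (k * k) := AI.mul (fun x hx => h.dg_act hk hx) h1 hk
    intro m hm
    have h4 := h3 m hm
    rwa [hkk, ← h.qu.cent hm, mul_inv_cancel_right, mul_inv_eq_iff_eq_mul] at h4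
  · have h3 : AI K (dg v k * dg u l) v (l * l) :=
      AI.mul h2 (fun x hx => h.symm.dg_act hl hx) hl
    intro m hm
    have h4 := h3 m hm
    rwa [hll, ← h.qv.cent hm, mul_inv_cancel_right, mul_inv_eq_iff_eq_mul] at h4

/-- `l u l⁻¹` and `k v k⁻¹` are equal modulo `E` for matched `k`, `l` -/
theorem re_match (hk : k ∈ K u) (hkk : k * k = u) (hl : l ∈ K v) (hll : l * l = v) (h1 : AI K (dg u l) u k)
    (h2 : AI K (dg v k) v l) : RE K u v (l * u * l⁻¹) (k * v * k⁻¹) := by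
  refine ⟨_, h.ee_eta hk hkk hl hll h1 h2, ?_⟩
  have e1 := h.conj_k_v hk hkk
  have e2 := h.symm.conj_k_v hl hll
  have c1 := h.dg_comm_u hk
  have c2 := h.dg_comm_v hk
  have c3 := h.dgl_comm_v hl
  have c4 := h.dg_sq hk hkk
  have c5 := h.wt_comm_u
  have c6 := h.conj_u
  have c7 := h.wt_comm_v
  have hww := h.wt_sq
  have hvi := h.qv.inv
  rw [e1, e2]
  -- `v u = u w v`
  have c8 : v * u = u * wt u v * v := by rw [← c6, inv_mul_cancel_right]
  calc u * dg u l * v = u * v * dg u l := by rw [mul_assoc, c3, mul_assoc]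
    _ = u * (wt u v * wt u v) * v * dg u l := by rw [hww, mul_one]
    _ = u * wt u v * (wt u v * v) * dg u l := by group
    _ = u * wt u v * (v * wt u v) * dg u l := by rw [c7]
    _ = (u * wt u v * v) * (dg v k * dg v k) * dg u l := by rw [c4]; group
    _ = v * (u * dg v k) * dg v k * dg u l := by rw [← c8]; group
    _ = v * dg v k * u * (dg v k * dg u l) := by rw [← c1]; group

/-- matched elements -/
theorem exists_ai (hnd : ∀ l ∈ K v, l * l = v → ∃ k ∈ K u, k * k = u ∧ ¬ Bz u k l) (hl : l ∈ K v)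
    (hll : l * l = v) : ∃ k ∈ K u, k * k = u ∧ AI K (dg u l) u k := by
  obtain ⟨k, hk, hkk, hb⟩ := hnd l hl hll
  obtain ⟨c, hc, hcc, h1, h2, -, -⟩ := h.qu.exists_inv hk hkk
  by_cases hbc : Bz u c l
  · exact ⟨c, hc, hcc, fun x hx => h.dgl_act hl hll hc hcc hbc hk hkk hb hx⟩
  · exact ⟨k * c, mul_mem hk hc, h.qu.mul_sq hk hkk hc hcc h1 h2, fun x hx =>
      h.dgl_act hl hll (mul_mem hk hc) (h.qu.mul_sq hk hkk hc hcc h1 h2) (h.nbz_mul hl hll hk hc hb hbc) hk hkk hb hx⟩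

/-- `d_a` acts on `K v` as `a'` -/
theorem ai_symm (hal : a ∈ K u) (haa : a * a = u) (hbl : b ∈ K u) (hbb : b * b = u) (hab : b ≠ a) (hab' : b ≠ a⁻¹)
    (hal' : a' ∈ K v) (haa' : a' * a' = v) (hbl' : b' ∈ K v) (hbb' : b' * b' = v)
    (h1 : AI K (dg u a') u a) (h2 : AI K (dg u b') u b) : AI K (dg v a) v a' := by
  have hb1 : Bz u a a' := by
    have h3 := h1 a hal
    rwa [mul_inv_cancel_right, mul_inv_eq_iff_eq_mul] at h3
  have hb2 : ¬ Bz u a b' := by
    intro h3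
    have h4 := h2 a hal
    rw [show dg u b' * a = a * dg u b' from h3, mul_inv_cancel_right] at h4
    have h5 := h.qu.inv_of_ne hbl hbb hal haa hab.symm (fun h6 => hab' (by rw [h6, inv_inv]))
    rw [← h4, eq_inv_iff_mul_eq_one, haa] at h5
    exact h.qu.ne h5
  have hb3 : Bz v a' a := (h.bz_symm hal' haa' hal haa).1 hb1
  have hb4 : ¬ Bz v b' a := fun h3 => hb2 ((h.bz_symm hbl' hbb' hal haa).2 h3)
  exact fun x hx => h.symm.dgl_act hal haa hal' haa' hb3 hbl' hbb' hb4 hx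

/-- **CLAIM S, case (b)** -/
theorem exists_rot (hnd : ∀ l ∈ K v, l * l = v → ∃ k ∈ K u, k * k = u ∧ ¬ Bz u k l) :
    ∃ d ∈ K u ⊔ K v, d * u = u * d ∧ ∀ y ∈ K u, y * y = u →
      (d * d) * y * (d * d)⁻¹ ≠ y ∧ (d * d) * y * (d * d)⁻¹ ≠ y⁻¹ := by
  -- matched generators
  obtain ⟨a', hal', haa'⟩ : ∃ a' ∈ K v, a' * a' = v := by
    obtain ⟨i, hi, -, -, hii, -⟩ := h.qv.exists_ij
    exact ⟨i, hi, hii⟩
  obtain ⟨b', hbl', hbb', hne1, hne2, -, -⟩ := h.qv.exists_inv hal' haa'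
  obtain ⟨a, hal, haa, haA⟩ := h.exists_ai hnd hal' haa'
  obtain ⟨b, hbl, hbb, hbA⟩ := h.exists_ai hnd hbl' hbb'
  obtain ⟨r1', r2', r3'⟩ := h.qv.four_rel hal' haa' hbl' hbb' hne1 hne2
  have hcl' : a' * b' ∈ K v := mul_mem hal' hbl'
  have hcA : AI K (dg u (a' * b')) u (a * b) := by
    rw [h.dgl_mul hal' hbl']
    exact AI.mul haA hbA hbl
  have hne3 : a * b ≠ 1 ∧ a * b ≠ u := by
    obtain ⟨m, hm, hmm, hmb⟩ := hnd _ hcl' r2'
    constructor
    · intro h1
      apply hmb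
      have h2 := hcA m hm
      rw [h1, one_mul, inv_one, mul_one, mul_inv_eq_iff_eq_mul] at h2
      exact h2
    · intro h1
      apply hmb
      have h2 := hcA m hm
      rw [h1, ← h.qu.cent hm, mul_inv_cancel_right, mul_inv_eq_iff_eq_mul] at h2
      exact h2
  have hab : b ≠ a := fun h1 => hne3.2 (by rw [h1, haa])
  have hab' : b ≠ a⁻¹ := fun h1 => hne3.1 (by rw [h1, mul_inv_cancel])
  obtain ⟨r1, r2, r3⟩ := h.qu.four_rel hal haa hbl hbb hab hab'
  have hcl : a * b ∈ K u := mul_mem hal hbl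
  have haA' := h.ai_symm hal haa hbl hbb hab hab' hal' haa' hbl' hbb' haA hbA
  have hbA' := h.ai_symm hbl hbb hal haa hab.symm (fun h1 => hab' (by rw [h1, inv_inv]))
    hbl' hbb' hal' haa' hbA haA
  have hcA' : AI K (dg v (a * b)) v (a' * b') := by
    rw [h.dg_mul hal hbl]
    exact AI.mul haA' hbA' hbl'
  -- membership
  have hu' : u ∈ K u ⊔ K v := mem_sup_left (h.qu.mem)
  have hv' : v ∈ K u ⊔ K v := mem_sup_right (h.qv.mem)
  have haX : a ∈ K u ⊔ K v := mem_sup_left hal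
  have hbX : b ∈ K u ⊔ K v := mem_sup_left hbl
  have haX' : a' ∈ K u ⊔ K v := mem_sup_right hal'
  have hbX' : b' ∈ K u ⊔ K v := mem_sup_right hbl'
  have hcX : a * b ∈ K u ⊔ K v := mul_mem haX hbX
  have hcX' : a' * b' ∈ K u ⊔ K v := mul_mem haX' hbX'
  -- the points
  have m3 := h.re_match hal haa hal' haa' haA haA'
  have m4 := h.re_match hbl hbb hbl' hbb' hbA hbA'
  have m5 := h.re_match hcl r2 hcl' r2' hcA hcA'
  have mu := h.re_uvu
  have mv := h.re_vuv
  -- `u` fixes the points `g v g⁻¹`, `g ∈ K u`; `v` fixes the points `g u g⁻¹`, `g ∈ K v`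
  have fu : ∀ g ∈ K u, RE K u v (u * (g * v * g⁻¹) * u⁻¹) (g * v * g⁻¹) := by
    intro g hg
    have h1 := mu.conj (mem_sup_left hg : g ∈ K u ⊔ K v)
    have h2 : g * (u * v * u⁻¹) * g⁻¹ = u * (g * v * g⁻¹) * u⁻¹ := by
      calc g * (u * v * u⁻¹) * g⁻¹ = (g * u) * v * (g * u)⁻¹ := by group
        _ = (u * g) * v * (u * g)⁻¹ := by rw [h.qu.cent hg]
        _ = _ := by group
    rwa [h2] at h1
  have fv : ∀ g ∈ K v, RE K u v (v * (g * u * g⁻¹) * v⁻¹) (g * u * g⁻¹) := by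
    intro g hg
    have h1 := mv.conj (mem_sup_right hg : g ∈ K u ⊔ K v)
    have h2 : g * (v * u * v⁻¹) * g⁻¹ = v * (g * u * g⁻¹) * v⁻¹ := by
      calc g * (v * u * v⁻¹) * g⁻¹ = (g * v) * u * (g * v)⁻¹ := by group
        _ = (v * g) * u * (v * g)⁻¹ := by rw [h.qv.cent hg]
        _ = _ := by group
    rwa [h2] at h1
  set pt : Fin 5 → G := ![u, v, a * v * a⁻¹, b * v * b⁻¹, (a * b) * v * (a * b)⁻¹] with hpt
  have Aa : Act pt K u v a pa := by
    refine ⟨haX, fun i => ?_⟩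
    fin_cases i
    · change RE K u v (a * u * a⁻¹) u
      rw [h.qu.cent hal, mul_inv_cancel_right]; exact RE.refl _
    · change RE K u v (a * v * a⁻¹) (a * v * a⁻¹)
      exact RE.refl _
    · change RE K u v (a * (a * v * a⁻¹) * a⁻¹) v
      have e : a * (a * v * a⁻¹) * a⁻¹ = u * v * u⁻¹ := by rw [← haa]; group
      rw [e]; exact mu
    · change RE K u v (a * (b * v * b⁻¹) * a⁻¹) ((a * b) * v * (a * b)⁻¹)
      have e : a * (b * v * b⁻¹) * a⁻¹ = (a * b) * v * (a * b)⁻¹ := by group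
      rw [e]; exact RE.refl _
    · change RE K u v (a * ((a * b) * v * (a * b)⁻¹) * a⁻¹) (b * v * b⁻¹)
      have e : a * ((a * b) * v * (a * b)⁻¹) * a⁻¹ = (a * a) * (b * v * b⁻¹) * (a * a)⁻¹ := by group
      rw [e, haa]; exact fu b hbl
  have Ab : Act pt K u v b pb := by
    refine ⟨hbX, fun i => ?_⟩
    fin_cases i
    · change RE K u v (b * u * b⁻¹) u
      rw [h.qu.cent hbl, mul_inv_cancel_right]; exact RE.refl _
    · change RE K u v (b * v * b⁻¹) (b * v * b⁻¹)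
      exact RE.refl _
    · change RE K u v (b * (a * v * a⁻¹) * b⁻¹) ((a * b) * v * (a * b)⁻¹)
      have e : b * (a * v * a⁻¹) * b⁻¹ = u * ((a * b) * v * (a * b)⁻¹) * u⁻¹ := by
        calc b * (a * v * a⁻¹) * b⁻¹ = (b * a) * v * (b * a)⁻¹ := by group
          _ = _ := by rw [r1]; group
      rw [e]; exact fu _ hcl
    · change RE K u v (b * (b * v * b⁻¹) * b⁻¹) v
      have e : b * (b * v * b⁻¹) * b⁻¹ = u * v * u⁻¹ := by rw [← hbb]; group
      rw [e]; exact mu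
    · change RE K u v (b * ((a * b) * v * (a * b)⁻¹) * b⁻¹) (a * v * a⁻¹)
      have e : b * ((a * b) * v * (a * b)⁻¹) * b⁻¹ = (b * a * b) * v * (b * a * b)⁻¹ := by group
      rw [e, r3]; exact RE.refl _
  have Aa' : Act pt K u v a' pa' := by
    refine ⟨haX', fun i => ?_⟩
    fin_cases i
    · change RE K u v (a' * u * a'⁻¹) (a * v * a⁻¹)
      exact m3
    · change RE K u v (a' * v * a'⁻¹) v
      rw [h.qv.cent hal', mul_inv_cancel_right]; exact RE.refl _
    · change RE K u v (a' * (a * v * a⁻¹) * a'⁻¹) u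
      refine (m3.symm.conj haX').trans ?_
      have e : a' * (a' * u * a'⁻¹) * a'⁻¹ = v * u * v⁻¹ := by rw [← haa']; group
      rw [e]; exact mv
    · change RE K u v (a' * (b * v * b⁻¹) * a'⁻¹) ((a * b) * v * (a * b)⁻¹)
      refine (m4.symm.conj haX').trans ?_
      have e : a' * (b' * u * b'⁻¹) * a'⁻¹ = (a' * b') * u * (a' * b')⁻¹ := by group
      rw [e]; exact m5
    · change RE K u v (a' * ((a * b) * v * (a * b)⁻¹) * a'⁻¹) (b * v * b⁻¹)
      refine (m5.symm.conj haX').trans ?_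
      have e : a' * ((a' * b') * u * (a' * b')⁻¹) * a'⁻¹ = (a' * a') * (b' * u * b'⁻¹) * (a' * a')⁻¹ := by group
      rw [e, haa']; exact (fv b' hbl').trans m4
  have Ab' : Act pt K u v b' pb' := by
    refine ⟨hbX', fun i => ?_⟩
    fin_cases i
    · change RE K u v (b' * u * b'⁻¹) (b * v * b⁻¹)
      exact m4
    · change RE K u v (b' * v * b'⁻¹) v
      rw [h.qv.cent hbl', mul_inv_cancel_right]; exact RE.refl _
    · change RE K u v (b' * (a * v * a⁻¹) * b'⁻¹) ((a * b) * v * (a * b)⁻¹)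
      refine (m3.symm.conj hbX').trans ?_
      have e : b' * (a' * u * a'⁻¹) * b'⁻¹ = v * ((a' * b') * u * (a' * b')⁻¹) * v⁻¹ := by
        calc b' * (a' * u * a'⁻¹) * b'⁻¹ = (b' * a') * u * (b' * a')⁻¹ := by group
          _ = _ := by rw [r1']; group
      rw [e]; exact (fv _ hcl').trans m5
    · change RE K u v (b' * (b * v * b⁻¹) * b'⁻¹) u
      refine (m4.symm.conj hbX').trans ?_
      have e : b' * (b' * u * b'⁻¹) * b'⁻¹ = v * u * v⁻¹ := by rw [← hbb']; group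
      rw [e]; exact mv
    · change RE K u v (b' * ((a * b) * v * (a * b)⁻¹) * b'⁻¹) (a * v * a⁻¹)
      refine (m5.symm.conj hbX').trans ?_
      have e : b' * ((a' * b') * u * (a' * b')⁻¹) * b'⁻¹ = (b' * a' * b') * u * (b' * a' * b')⁻¹ := by group
      rw [e, r3']; exact m3
  have h01 : ¬ RE K u v (pt 0) (pt 1) := fun h1 => h.csw_not_comm (h1.comm hv')
  have hinj := pt_inj h01 Aa Ab Aa' Ab'
  have Ad : Act pt K u v (b' * (a * a') * b'⁻¹) pd := ((Ab'.mul (Aa.mul Aa')).mul Ab'.inv)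
  set d := b' * (a * a') * b'⁻¹ with hd
  have Ag : Act pt K u v (d * d) (pd * pd) := Ad.mul Ad
  -- `d²` commutes with `u`
  have hdu : d * d * u = u * (d * d) := by
    obtain ⟨e, he, h1⟩ : RE K u v (d * u * d⁻¹) u := Ad.2 0
    have h2 := he.comm Ad.1
    have h3 : d * d * u * (d * d)⁻¹ = u := by
      have h4 : d * (u * e) * d⁻¹ = (d * u * d⁻¹) * (d * e * d⁻¹) := by group
      calc d * d * u * (d * d)⁻¹ = d * (d * u * d⁻¹) * d⁻¹ := by group
        _ = (u * e) * e := by rw [h1, h4, h1, ← h2, mul_inv_cancel_right]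
        _ = u := by rw [mul_assoc, he.sq, mul_one]
    rwa [mul_inv_eq_iff_eq_mul] at h3
  refine ⟨d * d, Ag.1, hdu, fun y hy hyy => ?_⟩
  obtain ⟨σ, hσ, hyσ⟩ : ∃ σ : Equiv.Perm (Fin 5), (σ = pa ∨ σ = pa⁻¹ ∨ σ = pb ∨ σ = pb⁻¹ ∨ σ = pa * pb ∨
      σ = (pa * pb)⁻¹) ∧ Act pt K u v y σ := by
    rcases h.qu.four_list hal haa hbl hbb hab hab' hy hyy with h1 | h1 | h1 | h1 | h1 | h1 <;> rw [h1]
    · exact ⟨pa, by tauto, Aa⟩
    · exact ⟨pa⁻¹, by tauto, Aa.inv⟩
    · exact ⟨pb, by tauto, Ab⟩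
    · exact ⟨pb⁻¹, by tauto, Ab.inv⟩
    · exact ⟨pa * pb, by tauto, Aa.mul Ab⟩
    · exact ⟨(pa * pb)⁻¹, by tauto, (Aa.mul Ab).inv⟩
  have Ac := ((Ag.mul Ag).mul hyσ).mul (Ag.mul Ag).inv
  obtain ⟨h1, h2⟩ := pd_ne' σ hσ
  constructor
  · intro h3
    rw [h3] at Ac
    exact h1 (Act.uniq hinj Ac hyσ)
  · intro h3
    rw [h3] at Ac
    exact h2 (Act.uniq hinj Ac hyσ.inv)

/-- **CLAIM S** -/
theorem claim
    (hI : ∀ x ∈ K u ⊔ K v, ∀ k ∈ K u, k * k = u →
      (∀ y ∈ K u, (x * v * x⁻¹) * y * (x * v * x⁻¹)⁻¹ = k * y * k⁻¹) →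
      ∃ c, x⁻¹ * c * x ∈ K v ∧ c * c = x * v * x⁻¹ ∧ c * u = u * c ∧ ∀ y, c * y * c⁻¹ ∈ K u ↔ y ∈ K u)
    (hN : ∀ d ∈ K u ⊔ K v, d * u = u * d → ∀ y ∈ K u, (d * d) * y * (d * d)⁻¹ ∈ K u)
    (f : ↥(K u ⊔ K v) →* ℤˣ) {x : G} (hx : x ∈ K u) : f ⟨x, mem_sup_left hx⟩ = 1 := by
  by_cases hA : ∃ l ∈ K v, l * l = v ∧ ∀ k ∈ K u, k * k = u → Bz u k l
  · obtain ⟨l, hl, hll, hall⟩ := hA
    exact h.claim_a hI hl hll hall f hx
  · push Not at hA
    obtain ⟨d, hd, hdu, hm⟩ := h.exists_rot hA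
    exact h.qu.f_one_of_rot le_sup_left f (mul_mem hd hd) (hN d hd hdu)
      (by rw [mul_assoc, hdu, ← mul_assoc, hdu, mul_assoc]) hm hx

end SD

end Cfsg.Agent.Cit.Nil.RTwoM.L1
end

-- part: Cit/Nil/RTwoM/L1/ClaimM
section
set_option linter.all false
open scoped Cfsg.Agent.FastGrp

/-!
# S1309, (6b), `r = 2`: CLAIM S, the inputs on members

`WM Om`, `M` a member over `u`, `N` a member over `v`.

* `sel M N u` : the function with value `M` at `u`, `N` elsewhere; `qa_of_mem`;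
* `four_of_act` : (1.1): an element of `Z` acting on `M` as an element `k` of order 4;
* `norm_sq` : `d ∈ C(u)`, then `d²` normalises the members over `u`;
* `claim_of_sd` : CLAIM S for `M`, `N` from `SD (sel M N u) u v`.
-/

set_option autoImplicit false
set_option linter.style.haveILetI false
set_option linter.unusedSectionVars false

namespace Cfsg.Agent.Cit.Nil.RTwoM.L1

open Subgroup Cfsg Cfsg.Agent.Cit
open ROne (Cen wt dg Bz)

variable {G : Type*} [Group G] {Om : Set (Subgroup G)} {u v x y z k g d q : G} {K : G → Subgroup G}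
  {M N L : Subgroup G}

open Classical in
/-- `M` at `u`, `N` elsewhere -/
noncomputable def sel (M N : Subgroup G) (u : G) (x : G) : Subgroup G := if x = u then M else N

theorem sel_u (M N : Subgroup G) (u : G) : sel M N u u = M := if_pos rfl

theorem sel_v (M N : Subgroup G) (h : v ≠ u) : sel M N u v = N := if_neg h

variable [Finite G] (h : WM Om)

include h

theorem q8_of_mem (hM : Mem Om z M) : Nonempty (M ≃* QuaternionGroup 2) := by
  haveI : Fact (Nat.Prime 2) := ⟨Nat.prime_two⟩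
  obtain ⟨S, n, ⟨e⟩⟩ := h.hyp.quat M hM.1
  have h1 : (S : Subgroup M) = ⊤ := by
    have h2 : IsPGroup 2 M := h.isPGroup hM.1
    have h3 : IsPGroup 2 (⊤ : Subgroup M) := h2.to_subgroup ⊤
    exact S.is_maximal' h3 le_top ▸ rfl
  have h4 : Nat.card M = 2 ^ (n + 3) := by
    have h5 := Nat.card_congr e.toEquiv
    rw [h1, Subgroup.card_top] at h5
    rw [h5, Nat.card_eq_fintype_card, QuaternionGroup.card]
    rw [pow_add, pow_add]; ring
  have h5 : n = 0 := by
    rw [h.card M hM.1] at h4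
    have h6 : (2 : ℕ) ^ 3 = 2 ^ (n + 3) := by rw [← h4]; norm_num
    have h7 := Nat.pow_right_injective (le_refl 2) h6
    omega
  subst h5
  rw [h1] at e
  exact ⟨Subgroup.topEquiv.symm.trans e⟩

theorem qa_of_mem (hM : Mem Om z M) (hK : K z = M) : QA K z where
  mem := by rw [hK]; exact hM.zmem h
  sq := hM.inZ.z2 h
  ne := hM.inZ.z1 h
  q8 := by rw [hK]; exact q8_of_mem h hM

/-- **(1.1)** : `q ∈ Z` acts on the member `M` over `u` as `k`, `L` a member over `q` -/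
theorem four_of_act (hM : Mem Om u M) (hL : Mem Om q L) (hk : k ∈ M) (hkk : k * k = u)
    (hact : ∀ y ∈ M, q * y * q⁻¹ = k * y * k⁻¹) :
    ∃ c ∈ L, c * c = q ∧ c * u = u * c ∧ ∀ y, c * y * c⁻¹ ∈ M ↔ y ∈ M := by
  have hnc : ¬ ∀ y ∈ M, q * y = y * q := by
    intro h1
    obtain ⟨a, qa⟩ := h.exists_q3 hM
    have h2 : ∀ y ∈ M, k * y = y * k := by
      intro y hy
      have := hact y hy
      rw [h1 y hy, mul_inv_cancel_right, eq_mul_inv_iff_mul_eq] at this
      exact this.symm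
    rcases qa.center hk (h2 _ (qa.mem 0)) (h2 _ (qa.mem 1)) with h3 | h3
    · rw [h3, one_mul] at hkk; exact hM.inZ.z1 h hkk.symm
    · rw [h3, hM.inZ.z2 h] at hkk; exact hM.inZ.z1 h hkk.symm
  have hne : u ≠ q := by
    rintro rfl
    exact hnc fun y hy => (hM.comm_z h hy).symm
  have hinn : ∀ y ∈ M, q * y * q⁻¹ = y ∨ q * y * q⁻¹ = u * y := by
    intro y hy
    rw [hact y hy]
    exact hM.comm_or h hy hk
  have hti : TI Om u q := TI.of_one h hM hL.inZ hne hinn hnc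
  obtain ⟨c, hc, hcc⟩ := (hti.symm h).exists_as h hL
  have hcu : c * u = u * c := hc.comm.symm
  refine ⟨c, hc.1, hcc, hcu, fun y => ?_⟩
  have h1 := h.h3 hL hM hc.1 hcc hcu
  constructor
  · intro hy
    rw [← h1, mem_cj] at hy
    have h2 : c⁻¹ * (c * y * c⁻¹) * c = y := by group
    rwa [h2] at hy
  · intro hy
    have := conj_mem_cj (g := c) hy
    rwa [h1] at this

/-- `d²` normalises the members over `u` -/
theorem norm_sq (hM : Mem Om u M) (hd : d * u = u * d) (hy : y ∈ M) : (d * d) * y * (d * d)⁻¹ ∈ M := by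
  have key : cj (d * d) M = M := by
    obtain ⟨L, hL, hML, hall⟩ := hM.other h
    rw [cj_mul]
    rcases hall _ (hM.cj_comm h hd) with h1 | h1
    · rw [h1, h1]
    · rw [h1]
      rcases hall _ (hL.cj_comm h hd) with h2 | h2
      · exact h2
      · exfalso
        apply hML
        rw [← h1] at h2
        rw [← cj_inj (g := d)]
        rw [h1] at h2 ⊢
        exact h2.symm
  have := conj_mem_cj (g := d * d) hy
  rwa [key] at this

/-- **CLAIM S** for `M`, `N` -/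
theorem claim_of_sd (hM : Mem Om u M) (hN : Mem Om v N) (hne : v ≠ u) (hs : SD (sel M N u) u v)
    (f : ↥(M ⊔ N) →* ℤˣ) {x : G} (hx : x ∈ M) : f ⟨x, mem_sup_left hx⟩ = 1 := by
  have e1 : sel M N u u = M := sel_u M N u
  have e2 : sel M N u v = N := sel_v M N hne
  have gen : ∀ (A B : Subgroup G), sel M N u u = A → sel M N u v = B → ∀ (f : ↥(A ⊔ B) →* ℤˣ) {x : G} (hx : x ∈ A),
      f ⟨x, mem_sup_left hx⟩ = 1 := by
    rintro _ _ rfl rfl f x hx
    refine hs.claim ?_ ?_ f hx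
    · rw [e1, e2]
      intro x hx k hk hkk hact
      have hL : Mem Om (x * v * x⁻¹) (cj x N) := hN.cj h x
      obtain ⟨c, hc, h1, h2, h3⟩ := four_of_act h hM hL hk hkk hact
      exact ⟨c, mem_cj.1 hc, h1, h2, h3⟩
    · rw [e1, e2]
      intro d _ hdu y hy
      exact norm_sq h hM hdu hy
  exact gen M N e1 e2 f hx

end Cfsg.Agent.Cit.Nil.RTwoM.L1
end

-- part: Cit/Nil/RTwoM/AN/BigDef_mg
section
prune_inst 0x4000000001100000000180010200020001000000000030001e160030202400001a0430e013840060011102c60200a8020030000590038000020008a0000000120040270c282081000010000405801180c00000000000000000000000000000000000000000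
set_option linter.all false
open scoped Cfsg.Agent.FastGrp

-- part: Cit/Nil/RTwoM/AN/BigDef
section
/-!
# S1309, `r = 2`, `AN(s)`, `m = 2`: the only fact on the world `r' = 4` which is used

* `YF Om z u` : `z`, `u` a C-pair: the common TI partners of `z` and `u` induce all pairs of axes on the two members
  over `u`.
-/

set_option autoImplicit false

namespace Cfsg.Agent.Cit.Nil.RTwoM

open Subgroup Cfsg Cfsg.Agent.Cit

/-- the common TI partners of `z` and `u` induce all pairs of axes on the two members over `u` -/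
def YF {G : Type*} [Group G] (Om : Set (Subgroup G)) (z u : G) : Prop :=
  ∀ K K' : Subgroup G, ∀ y y' : G, Mem Om u K → Mem Om u K' → K ≠ K' → y ∈ K → y * y = u → y' ∈ K' → y' * y' = u →
    ∃ v, TI Om z v ∧ TI Om u v ∧ As K v y ∧ As K' v y'

end Cfsg.Agent.Cit.Nil.RTwoM
end

-- part: Cit/Nil/ANTwo/Base
section
/-!
# S1309 (6b), (n6): `AN(s)`, `s ∈ T_S`, any `r`: the world of points

`XW Z K` : the part of helper117's `AN.BW` which holds for the points of a world with any `r` (`K z = R_z`);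
`XW.of_gw` : from helper386's `CompR.GW`. The lemmas are those of `AN/Base.lean` and `AN/Cls.lean` (helper117).
-/

set_option autoImplicit false
set_option linter.unusedSectionVars false
set_option linter.style.haveILetI false

namespace Cfsg.Agent.Cit.Nil.ANTwo

open Subgroup Cfsg.Agent.Cit Cfsg.Agent.StdEven.Syl Cfsg.Agent.OddOrderLocal.NilParts
open Cfsg.Agent.Cit.Nil.AN (Cm Ce OmZ T0 TS Om St Cl Gp OneC cl_refl cl_sub cl_step cl_cm cl_symm cl_trans cl_eq le_Gp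
  Gp_le Gp_ce M0 isSyl_cj isPGroup_zpowers_inv self_mem_oP)

variable {G : Type*} [Group G]

/-- the world of points -/
structure XW (Z : Set G) (K : G → Subgroup G) : Prop where
  sq : ∀ z ∈ Z, z * z = 1
  ne : ∀ z ∈ Z, z ≠ 1
  mem : ∀ z ∈ Z, z ∈ K z
  two' : ∀ z ∈ Z, IsPGroup 2 (K z)
  cent' : ∀ z ∈ Z, Ce z (K z)
  nab' : ∀ z ∈ Z, ¬ Cm (K z) (K z)
  conjZ : ∀ z ∈ Z, ∀ g : G, g * z * g⁻¹ ∈ Z
  conjK : ∀ z ∈ Z, ∀ g : G, K (g * z * g⁻¹) = cj g (K z)
  csymm : ∀ z ∈ Z, ∀ u ∈ Z, Ce u (K z) → z ≠ u → Cm (K z) (K u)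
  com : ∀ z ∈ Z, ∀ u ∈ Z, z ≠ u → ∀ P : Subgroup G, IsPGroup 2 P → K z ≤ P → K u ≤ P → Cm (K z) (K u)

theorem XW.of_gw {Z : Set G} {K : G → Subgroup G} (h : CompR.GW Z K) : XW Z K where
  sq := h.sq
  ne := h.ne
  mem := h.mem
  two' := fun _ hz => h.two hz
  cent' := fun _ hz _ hk => (h.cent hz hk).symm
  nab' := fun _ hz => h.nab hz
  conjZ := h.conjZ
  conjK := h.conjK
  csymm := fun _ hz _ hu hc hne => (h.csymm hz hu hne hc).2
  com := fun _ hz _ hu hne P hP h1 h2 => (h.com P hP hz hu h1 h2 hne).2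

namespace XW

variable {Z : Set G} {K : G → Subgroup G} (w : XW Z K)

include w

theorem inv {z : G} (hz : z ∈ Z) : z⁻¹ = z := inv_eq_of_mul_eq_one_right (w.sq z hz)

theorem ce_self {z : G} (hz : z ∈ Z) : Ce z (K z) := w.cent' z hz

theorem two {z : G} (hz : z ∈ Z) : IsPGroup 2 (K z) := w.two' z hz

theorem cm_conj {z u : G} (hz : z ∈ Z) (hu : u ∈ Z) (g : G) (h : Cm (K z) (K u)) :
    Cm (K (g * z * g⁻¹)) (K (g * u * g⁻¹)) := by
  rw [w.conjK z hz, w.conjK u hu]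
  exact h.cj g

theorem cm_conj_iff {z u : G} (hz : z ∈ Z) (hu : u ∈ Z) (g : G) :
    Cm (K (g * z * g⁻¹)) (K (g * u * g⁻¹)) ↔ Cm (K z) (K u) := by
  refine ⟨fun h => ?_, w.cm_conj hz hu g⟩
  have h1 := w.cm_conj (w.conjZ z hz g) (w.conjZ u hu g) g⁻¹ h
  have e : ∀ x : G, g⁻¹ * (g * x * g⁻¹) * g⁻¹⁻¹ = x := fun x => by group
  rwa [e, e] at h1

/-! ### The members of a Sylow subgroup -/

variable [Finite G] {S : Subgroup G} (hS : IsSyl S ⊤)

theorem om_conj {z : G} (hz : z ∈ OmZ Z K S) (g : G) : g * z * g⁻¹ ∈ OmZ Z K (cj g S) :=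
  ⟨w.conjZ z hz.1 g, by rw [w.conjK z hz.1]; exact cj_mono g hz.2⟩

theorem om_cm {z u : G} (hz : z ∈ OmZ Z K S) (hu : u ∈ OmZ Z K S) (hne : z ≠ u) (hS2 : IsPGroup 2 S) :
    Cm (K z) (K u) := w.com z hz.1 u hu.1 hne S hS2 hz.2 hu.2

include hS

/-- a 2-group containing the members of `S` contains no others -/
theorem om_eq {P : Subgroup G} (hP : IsPGroup 2 P) (h : ∀ z ∈ OmZ Z K S, K z ≤ P) {u : G} (hu : u ∈ Z)
    (huP : K u ≤ P) : u ∈ OmZ Z K S := by
  obtain ⟨n, -, hn⟩ := hS.exists_conj hP le_top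
  -- `P ≤ S' = cj n⁻¹ S`
  have hPS : P ≤ cj n⁻¹ S := fun p hp => by
    rw [mem_cj, inv_inv]
    exact hn p hp
  have h1 : OmZ Z K S ⊆ (fun x => n⁻¹ * x * n) '' OmZ Z K S := by
    intro z hz
    have h2 : K z ≤ cj n⁻¹ S := (h z hz).trans hPS
    refine ⟨n * z * n⁻¹, ⟨w.conjZ z hz.1 n, ?_⟩, by group⟩
    rw [w.conjK z hz.1]
    have := cj_mono n h2
    rwa [cj_cj_inv] at this
  have hfin : (OmZ Z K S).Finite := Set.toFinite _
  have h2 : OmZ Z K S = (fun x => n⁻¹ * x * n) '' OmZ Z K S :=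
    Set.eq_of_subset_of_ncard_le h1 (Set.ncard_image_le hfin) (hfin.image _)
  rw [h2]
  refine ⟨n * u * n⁻¹, ⟨w.conjZ u hu n, ?_⟩, by group⟩
  rw [w.conjK u hu]
  have := cj_mono n (huP.trans hPS)
  rwa [cj_cj_inv] at this

/-- elements of 2-groups containing the members of `S` permute them -/
theorem om_perm {P : Subgroup G} (hP : IsPGroup 2 P) (h : ∀ z ∈ OmZ Z K S, K z ≤ P) {p : G} (hp : p ∈ P) {z : G}
    (hz : z ∈ OmZ Z K S) : p * z * p⁻¹ ∈ OmZ Z K S := by
  apply w.om_eq hS hP h (w.conjZ z hz.1 p)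
  rw [w.conjK z hz.1]
  intro x hx
  rw [mem_cj] at hx
  have : x = p * (p⁻¹ * x * p) * p⁻¹ := by group
  rw [this]
  exact mul_mem (mul_mem hp (h z hz hx)) (inv_mem hp)

/-- the product of the members of `S` -/
theorem exists_D : ∃ D ≤ S, IsPGroup 2 D ∧ (∀ z ∈ OmZ Z K S, K z ≤ D) ∧
    ∀ x : G, (∀ z ∈ OmZ Z K S, Ce x (K z)) → Ce x D := by
  refine ⟨⨆ z : OmZ Z K S, K z, iSup_le fun z => z.2.2, hS.two.to_le (iSup_le fun z => z.2.2),
    fun z hz => le_iSup (fun z : OmZ Z K S => K z) ⟨z, hz⟩, ?_⟩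
  intro x hx d hd
  have h1 : (⨆ z : OmZ Z K S, K z) ≤ centralizer {x} := iSup_le fun z k hk =>
    mem_centralizer_singleton_iff.2 (hx z z.2 k hk).symm
  exact (mem_centralizer_singleton_iff.1 (h1 hd)).symm

/-- a member commuting with the members of `S` is one of them -/
theorem om_of_cm {u : G} (hu : u ∈ Z) (h : ∀ z ∈ OmZ Z K S, z ≠ u → Cm (K z) (K u)) : u ∈ OmZ Z K S := by
  by_contra hno
  obtain ⟨D, -, hD2, hKD, hD⟩ := w.exists_D hS
  have h1 : K u ≤ normalizer (D : Set G) := by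
    intro k hk
    apply mem_normalizer_of_conj_le
    intro d hd
    have h2 : Ce k D := hD k (fun z hz k' hk' => (h z hz (fun e => hno (e ▸ hz)) k' hk' k hk).symm)
    have : k * d * k⁻¹ = d := by rw [h2 d hd]; group
    rw [this]; exact hd
  have h2 : IsPGroup 2 (K u ⊔ D : Subgroup G) := OneBasic.isPGroup_sup_of_normalizes (w.two hu) hD2 h1
  exact hno (w.om_eq hS h2 (fun z hz => (hKD z hz).trans le_sup_right) hu le_sup_left)

theorem TS_ce {t : G} (ht : t ∈ TS Z K S) {z : G} (hz : z ∈ OmZ Z K S) : Ce t (K z) := by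
  have h1 : TS Z K S ≤ centralizer (K z : Set G) := by
    unfold TS
    rw [closure_le]
    intro u hu
    rw [SetLike.mem_coe, mem_centralizer_iff]
    intro k hk
    by_cases hne : z = u
    · subst hne
      exact (w.ce_self hz.1 k hk).symm
    · exact w.om_cm hz hu hne hS.two k hk u (w.mem u hu.1)
  intro k hk
  exact (mem_centralizer_iff.1 (h1 ht) k hk).symm

omit [Finite G] hS in
theorem T0_le : T0 Z K S ≤ TS Z K S := by
  unfold T0 TS
  rw [closure_le]
  rintro _ ⟨z, hz, u, hu, rfl⟩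
  exact mul_mem (Subgroup.subset_closure hz) (Subgroup.subset_closure hu)

theorem TS_comm {s t : G} (hs : s ∈ TS Z K S) (ht : t ∈ TS Z K S) : s * t = t * s := by
  have h1 : TS Z K S ≤ centralizer {t} := by
    conv_lhs => unfold TS
    rw [closure_le]
    intro u hu
    rw [SetLike.mem_coe, mem_centralizer_singleton_iff]
    exact (w.TS_ce hS ht hu u (w.mem u hu.1)).symm
  exact mem_centralizer_singleton_iff.1 (h1 hs)

omit hS in
theorem TS_le_S (hS2 : IsPGroup 2 S) : TS Z K S ≤ S := by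
  unfold TS
  rw [closure_le]
  intro u hu
  exact hu.2 (w.mem u hu.1)

theorem TS_sq {s : G} (hs : s ∈ TS Z K S) : s * s = 1 := by
  have hs' := hs
  unfold TS at hs'
  induction hs' using Subgroup.closure_induction with
  | mem x hx => exact w.sq x hx.1
  | one => rw [one_mul]
  | mul x y hx hy h1 h2 =>
    have h3 := w.TS_comm hS hx hy
    calc x * y * (x * y) = x * (y * x) * y := by group
      _ = x * (x * y) * y := by rw [h3]
      _ = (x * x) * (y * y) := by group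
      _ = 1 := by rw [h1 hx, h2 hy, one_mul]
  | inv x hx h1 =>
    calc x⁻¹ * x⁻¹ = (x * x)⁻¹ := by group
      _ = 1 := by rw [h1 hx, inv_one]

omit [Finite G] hS in
/-- elements permuting the members normalise `T₀` -/
theorem T0_nor {g : G} (hg : ∀ z ∈ OmZ Z K S, g * z * g⁻¹ ∈ OmZ Z K S) {t : G} (ht : t ∈ T0 Z K S) :
    g * t * g⁻¹ ∈ T0 Z K S := by
  have h1 : T0 Z K S ≤ (T0 Z K S).comap (MulAut.conj g).toMonoidHom := by
    conv_lhs => unfold T0
    rw [closure_le]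
    rintro _ ⟨z, hz, u, hu, rfl⟩
    show g * (z * u) * g⁻¹ ∈ T0 Z K S
    have : g * (z * u) * g⁻¹ = (g * z * g⁻¹) * (g * u * g⁻¹) := by group
    rw [this]
    exact Subgroup.subset_closure ⟨_, hg z hz, _, hg u hu, rfl⟩
  exact h1 ht

omit [Finite G] hS in
theorem mul_mem_T0 {z u : G} (hz : z ∈ OmZ Z K S) (hu : u ∈ OmZ Z K S) : z * u ∈ T0 Z K S :=
  Subgroup.subset_closure ⟨z, hz, u, hu, rfl⟩

theorem T0_comm {s t : G} (hs : s ∈ T0 Z K S) (ht : t ∈ T0 Z K S) : s * t = t * s :=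
  w.TS_comm hS (w.T0_le hs) (w.T0_le ht)

theorem T0_ce {t : G} (ht : t ∈ T0 Z K S) {z : G} (hz : z ∈ OmZ Z K S) : Ce t (K z) := w.TS_ce hS (w.T0_le ht) hz

/-- `S` normalises `T₀` -/
theorem S_nor {s : G} (hs : s ∈ S) {z : G} (hz : z ∈ OmZ Z K S) : s * z * s⁻¹ ∈ OmZ Z K S :=
  w.om_perm hS hS.two (fun z hz => hz.2) hs hz


end XW

/-! ### The classes of `C(s)` -/

namespace XW

variable {Z : Set G} {K : G → Subgroup G} (w : XW Z K)

include w

theorem om_conj' {s z c : G} (hc : c * s = s * c) (hz : z ∈ Om Z K s) : c * z * c⁻¹ ∈ Om Z K s := by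
  refine ⟨w.conjZ z hz.1 c, ?_⟩
  rw [w.conjK z hz.1]
  have h1 := hz.2.cj c
  have : c * s * c⁻¹ = s := by rw [hc]; group
  rwa [this] at h1

theorem cl_conj {s z u c : G} (hc : c * s = s * c) (hz : z ∈ Om Z K s) (hu : u ∈ Cl Z K s z) :
    c * u * c⁻¹ ∈ Cl Z K s (c * z * c⁻¹) := by
  have hu' : Relation.ReflTransGen (St Z K s) z u := hu
  clear hu
  induction hu' with
  | refl => exact cl_refl _ _
  | tail h1 h2 ih =>
    apply cl_step ih (w.om_conj' hc h2.1)
    intro h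
    exact h2.2 ((w.cm_conj_iff (cl_sub hz h1).1 h2.1.1 c).1 h)

variable [Finite G]

theorem Gp_conj {A : Set G} (hA : A ⊆ Z) {c : G} (h : ∀ u ∈ A, c * u * c⁻¹ ∈ A) :
    c ∈ normalizer (Gp K A : Set G) := by
  apply mem_normalizer_of_conj_le
  intro x hx
  have h1 : Gp K A ≤ (Gp K A).comap (MulAut.conj c).toMonoidHom := Gp_le fun u hu k hk => by
    show c * k * c⁻¹ ∈ Gp K A
    have h2 : c * k * c⁻¹ ∈ K (c * u * c⁻¹) := by
      rw [w.conjK u (hA hu)]
      exact conj_mem_cj hk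
    exact le_Gp (h u hu) h2
  exact h1 hx

/-- `B = ⟨class⟩` is subnormal in `C(s)`: an element of `O₂(B)` lies in `O₂(C(s))` -/
theorem oP_up {s z : G} (hz : z ∈ Om Z K s) {x : G} (hx : x ∈ oP 2 (Gp K (Cl Z K s z))) :
    x ∈ oP 2 (centralizer {s}) := by
  set B := Gp K (Cl Z K s z) with hB
  set X := Gp K (Om Z K s) with hX
  have hOZ : Om Z K s ⊆ Z := fun u hu => hu.1
  have hBX : B ≤ X := Gp_le fun u hu => le_Gp (cl_sub hz hu)
  have hXC : X ≤ centralizer {s} := Gp_le fun u hu k hk => mem_centralizer_singleton_iff.2 (hu.2 k hk).symm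
  have h1 : X ≤ normalizer (B : Set G) := Gp_le fun u hu k hk => by
    by_cases hc : u ∈ Cl Z K s z
    · exact le_normalizer (le_Gp hc hk)
    · apply mem_normalizer_of_conj_le
      intro b hb
      have h2 : Ce k B := Gp_ce fun v hv l hl => ((cl_cm hv hu hc) l hl k hk).symm
      have : k * b * k⁻¹ = b := by rw [h2 b hb]; group
      rw [this]; exact hb
  have h2 : centralizer {s} ≤ normalizer (X : Set G) := fun c hc =>
    w.Gp_conj hOZ (fun u hu => w.om_conj' (mem_centralizer_singleton_iff.1 hc) hu)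
  have h3 : oP 2 B ≤ oP 2 X := le_oP ((oP_le 2 B).trans hBX) (isPGroup_oP 2 B) (h1.trans (normalizer_le_oP 2 B))
  have h4 : oP 2 X ≤ oP 2 (centralizer {s}) :=
    le_oP ((oP_le 2 X).trans hXC) (isPGroup_oP 2 X) (h2.trans (normalizer_le_oP 2 X))
  exact h4 (h3 hx)

variable {S : Subgroup G} (hS : IsSyl S ⊤)

include hS

/-- (0): the members of `C(s)` are conjugate into `OmZ S` -/
theorem om_into {s : G} (hs : ∀ z ∈ OmZ Z K S, Ce s (K z)) {z : G} (hz : z ∈ Om Z K s) :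
    ∃ c, c * s = s * c ∧ c * z * c⁻¹ ∈ OmZ Z K S := by
  obtain ⟨D, -, hD2, hKD, hD⟩ := w.exists_D hS
  have hDs : D ≤ centralizer {s} := fun d hd => mem_centralizer_singleton_iff.2 (hD s hs d hd).symm
  obtain ⟨P, hP, hDP⟩ := exists_isSyl hD2 hDs
  have hKs : K z ≤ centralizer {s} := fun k hk => mem_centralizer_singleton_iff.2 (hz.2 k hk).symm
  obtain ⟨c, hc, hc2⟩ := hP.exists_conj (w.two hz.1) hKs
  refine ⟨c, mem_centralizer_singleton_iff.1 hc, ?_⟩
  apply w.om_eq hS hP.two (fun u hu => (hKD u hu).trans hDP) (w.conjZ z hz.1 c)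
  rw [w.conjK z hz.1]
  intro x hx
  rw [mem_cj] at hx
  have := hc2 _ hx
  have e : c * (c⁻¹ * x * c) * c⁻¹ = x := by group
  rwa [e] at this

theorem om_mem {s z : G} (hs : s ∈ TS Z K S) (hz : z ∈ OmZ Z K S) : z ∈ Om Z K s := ⟨hz.1, w.TS_ce hS hs hz⟩

end XW

end Cfsg.Agent.Cit.Nil.ANTwo
end

-- part: Cit/Nil/ANTwo/One
section
/-!
# Step (1) of `AN(s)`, any `r`

* `NW Z K` : the world of points with nil C-pairs;
* `Fr Z K S KK` : the frame; `NW.exists_fr` : if a point of `C(s)`, `s ∈ T_S`, `s ≠ 1`, is not nil, there is a frame;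
* `Fr.not_mem` : `T₀ ∩ Z = ∅`.
-/

set_option autoImplicit false
set_option linter.unusedSectionVars false
set_option linter.style.haveILetI false

namespace Cfsg.Agent.Cit.Nil.ANTwo

open Subgroup Cfsg.Agent.Cit Cfsg.Agent.StdEven.Syl Cfsg.Agent.OddOrderLocal.NilParts
open Cfsg.Agent.Cit.Nil.AN (Cm Ce OmZ T0 TS Om St Cl Gp OneC cl_refl cl_sub cl_step cl_cm cl_symm cl_trans cl_eq le_Gp
  Gp_le Gp_ce M0 isSyl_cj isPGroup_zpowers_inv self_mem_oP)

variable {G : Type*} [Group G]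

/-- the world of points, all C-pairs are nil -/
structure NW (Z : Set G) (K : G → Subgroup G) : Prop where
  gw : CompR.GW Z K
  nil : ∀ z ∈ Z, ∀ u ∈ Z, Cm (K z) (K u) → u ∈ oP 2 (centralizer {z})

theorem NW.w {Z : Set G} {K : G → Subgroup G} (n : NW Z K) : XW Z K := XW.of_gw n.gw

/-- the frame obtained in step (1) -/
structure Fr (Z : Set G) (K : G → Subgroup G) (S : Subgroup G) (KK : Set G) : Prop where
  sub : OmZ Z K S ⊆ KK
  om : ∀ t ∈ T0 Z K S, t ≠ 1 → Om Z K t = KK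
  one : ∀ u ∈ KK, ∀ v ∈ KK, Cm (K u) (K v) → ∀ x ∈ KK, Ce (u * v) (K x)
  nnil : ∀ t ∈ T0 Z K S, t ≠ 1 → ∀ z ∈ OmZ Z K S, z ∉ oP 2 (centralizer {t})

variable {Z : Set G} {K : G → Subgroup G} {S : Subgroup G} {KK : Set G}

namespace NW

variable (n : NW Z K) [Finite G] (hS : IsSyl S ⊤)

include n hS

/-- (1a) -/
theorem all_mem {s z : G} (hs : s ∈ TS Z K S) (hz : z ∈ OmZ Z K S) (hn : z ∉ oP 2 (centralizer {s})) {u : G}
    (hu : u ∈ OmZ Z K S) : u ∈ Cl Z K s z := by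
  by_contra hc
  apply hn
  have hzs := n.w.om_mem hS hs hz
  have hus := n.w.om_mem hS hs hu
  have h1 : Gp K (Cl Z K s z) ≤ centralizer {u} := Gp_le fun v hv k hk =>
    mem_centralizer_singleton_iff.2 (cl_cm hv hus hc k hk u (n.w.mem u hu.1))
  apply n.w.oP_up hzs
  have h2 : z ∈ oP 2 (centralizer {u}) := n.nil u hu.1 z hz.1 (cl_cm (cl_refl s z) hus hc).symm
  exact AN.BW.oP_down h1 h2 (le_Gp (cl_refl s z) (n.w.mem z hz.1))

/-- Step (1). -/
theorem exists_fr (tp : ∀ s ∈ TS Z K S, s ≠ 1 → CompR.TPs Z K s)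
    {s z0 : G} (hs : s ∈ TS Z K S) (hs1 : s ≠ 1) (hz0 : z0 ∈ Om Z K s) (hn0 : z0 ∉ oP 2 (centralizer {s}))
    {a b : G} (ha : a ∈ OmZ Z K S) (hb : b ∈ OmZ Z K S) (hab : a ≠ b) : ∃ KK, Fr Z K S KK := by
  have w := n.w
  -- a member of `S` which is not nil
  obtain ⟨c, hc, hcz⟩ := w.om_into hS (fun z hz => w.TS_ce hS hs hz) hz0
  set z := c * z0 * c⁻¹ with hzdef
  have hn : z ∉ oP 2 (centralizer {s}) := by
    intro h
    apply hn0
    have h1 : c⁻¹ ∈ normalizer (oP 2 (centralizer {s}) : Set G) :=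
      le_normalizer_oP 2 _ (inv_mem (mem_centralizer_singleton_iff.2 hc))
    have h2 := conj_mem_of_mem_normalizer h1 h
    have e : c⁻¹ * z * c⁻¹⁻¹ = z0 := by rw [hzdef]; group
    rwa [e] at h2
  have hzs := w.om_mem hS hs hcz
  have hone := (tp s hs hs1 z hzs).resolve_left hn
  have hall : ∀ u ∈ OmZ Z K S, u ∈ Cl Z K s z := fun u hu => n.all_mem hS hs hcz hn hu
  -- `T₀` centralises the class
  have hT0 : ∀ t ∈ T0 Z K S, ∀ u ∈ Cl Z K s z, Ce t (K u) := by
    intro t ht u hu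
    have h1 : T0 Z K S ≤ centralizer (K u : Set G) := by
      unfold T0
      rw [closure_le]
      rintro _ ⟨x, hx, y, hy, rfl⟩
      rw [SetLike.mem_coe, mem_centralizer_iff]
      intro k hk
      by_cases hxy : x = y
      · subst hxy
        rw [w.sq x hx.1, one_mul, mul_one]
      · exact (hone x (hall x hx) y (hall y hy) (w.om_cm hx hy hxy hS.two) u hu k hk).symm
    intro k hk
    exact (mem_centralizer_iff.1 (h1 ht) k hk).symm
  -- no `t ∈ T₀#` is nil
  have hnt : ∀ t ∈ T0 Z K S, t ≠ 1 → z ∉ oP 2 (centralizer {t}) := by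
    intro t ht _ h
    apply hn
    apply w.oP_up hzs
    have h1 : Gp K (Cl Z K s z) ≤ centralizer {t} := Gp_le fun v hv k hk =>
      mem_centralizer_singleton_iff.2 (hT0 t ht v hv k hk).symm
    exact AN.BW.oP_down h1 h (le_Gp (cl_refl s z) (w.mem z hcz.1))
  have hall' : ∀ t ∈ T0 Z K S, t ≠ 1 → ∀ u ∈ OmZ Z K S, u ∈ Cl Z K t z := fun t ht ht1 u hu =>
    n.all_mem hS (w.T0_le ht) hcz (hnt t ht ht1) hu
  have hone' : ∀ t ∈ T0 Z K S, t ≠ 1 → OneC Z K t z := fun t ht ht1 =>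
    (tp t (w.T0_le ht) ht1 z (w.om_mem hS (w.T0_le ht) hcz)).resolve_left (hnt t ht ht1)
  have hT0' : ∀ t ∈ T0 Z K S, t ≠ 1 → ∀ t' ∈ T0 Z K S, ∀ u ∈ Cl Z K t z, Ce t' (K u) := by
    intro t ht ht1 t' ht' u hu
    have h1 : T0 Z K S ≤ centralizer (K u : Set G) := by
      unfold T0
      rw [closure_le]
      rintro _ ⟨x, hx, y, hy, rfl⟩
      rw [SetLike.mem_coe, mem_centralizer_iff]
      intro k hk
      by_cases hxy : x = y
      · subst hxy
        rw [w.sq x hx.1, one_mul, mul_one]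
      · exact (hone' t ht ht1 x (hall' t ht ht1 x hx) y (hall' t ht ht1 y hy) (w.om_cm hx hy hxy hS.two) u hu k hk).symm
    intro k hk
    exact (mem_centralizer_iff.1 (h1 ht') k hk).symm
  -- the class does not depend on `t`
  have hsub : ∀ t ∈ T0 Z K S, t ≠ 1 → ∀ t' ∈ T0 Z K S, Cl Z K t z ⊆ Cl Z K t' z := by
    intro t ht ht1 t' ht' u hu
    have hu' : Relation.ReflTransGen (St Z K t) z u := hu
    clear hu
    induction hu' with
    | refl => exact cl_refl _ _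
    | @tail b c h1 h2 ih =>
      refine cl_step ih ⟨h2.1.1, ?_⟩ h2.2
      exact hT0' t ht ht1 t' ht' c (Relation.ReflTransGen.tail h1 h2)
  -- every member of `C(t)` lies in the class
  have hom : ∀ t ∈ T0 Z K S, t ≠ 1 → Om Z K t = Cl Z K t z := by
    intro t ht ht1
    have hzt := w.om_mem hS (w.T0_le ht) hcz
    apply Set.Subset.antisymm
    · intro u hu
      obtain ⟨c, hc, hcu⟩ := w.om_into hS (fun z hz => w.T0_ce hS ht hz) hu
      have hc' : c⁻¹ * t = t * c⁻¹ := by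
        calc c⁻¹ * t = c⁻¹ * (t * c) * c⁻¹ := by group
          _ = c⁻¹ * (c * t) * c⁻¹ := by rw [hc]
          _ = t * c⁻¹ := by group
      have h1 := w.cl_conj hc' hzt (hall' t ht ht1 _ hcu)
      have e : c⁻¹ * (c * u * c⁻¹) * c⁻¹⁻¹ = u := by group
      rw [e] at h1
      -- `h1 : u ∈ Cl t (c⁻¹ z c)`
      by_cases hcl : c⁻¹ * z * c⁻¹⁻¹ ∈ Cl Z K t z
      · exact cl_trans hcl h1
      · exfalso
        apply hcl
        apply hall' t ht ht1
        have hzc : c⁻¹ * z * c⁻¹⁻¹ ∈ Om Z K t := w.om_conj' hc' hzt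
        apply w.om_of_cm hS hzc.1
        intro v hv _
        exact cl_cm (hall' t ht ht1 v hv) hzc hcl
    · exact fun u hu => cl_sub hzt hu
  -- an element of `T₀#`
  have habT : a * b ∈ T0 Z K S := w.mul_mem_T0 ha hb
  have hab1 : a * b ≠ 1 := by
    intro h
    apply hab
    rw [← w.inv hb.1]
    exact eq_inv_of_mul_eq_one_left h
  refine ⟨Cl Z K (a * b) z, fun u hu => hall' _ habT hab1 u hu, fun t ht ht1 => ?_, ?_, fun t ht ht1 u hu h1 => ?_⟩
  · rw [hom t ht ht1]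
    exact Set.Subset.antisymm (hsub t ht ht1 _ habT) (hsub _ habT hab1 t ht)
  · exact hone' _ habT hab1
  · have hzt := w.om_mem hS (w.T0_le ht) hcz
    exact hnt t ht ht1 ((CompR.nil_cl n.gw hzt (hall' t ht ht1 u hu)).1 h1)

end NW

end Cfsg.Agent.Cit.Nil.ANTwo
end

-- part: Cit/Nil/ANTwo/Two
section
/-!
# Steps (2), (3) of `AN(s)`, any `r`

* `JArg Z K` : the J-ARGUMENT (helper762), `SwapI Z K` : the swap lemma; these are the only facts on `K x`;
* `Fs Z K S KK` : the situation of the steps (2) - (4) (`m ≥ 3`);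
* **`Fs.cent_om`** (2) : `C(z) ≤ M₀` for `z ∈ OmZ S`; **`Fs.mem_kk_of_S`**, `Fs.mem_kk_of_M0`, `Fs.mem_M0` (3).
-/

set_option autoImplicit false
set_option linter.unusedSectionVars false
set_option linter.style.haveILetI false

namespace Cfsg.Agent.Cit.Nil.ANTwo

open Subgroup Cfsg.Agent.Cit Cfsg.Agent.StdEven.Syl Cfsg.Agent.OddOrderLocal.NilParts
open Cfsg.Agent.Cit.Nil.AN (Cm Ce OmZ T0 TS Om St Cl Gp OneC cl_refl cl_sub cl_step cl_cm cl_symm cl_trans cl_eq le_Gp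
  Gp_le Gp_ce M0 isSyl_cj isPGroup_zpowers_inv self_mem_oP)

variable {G : Type*} [Group G]

/-- the J-ARGUMENT -/
def JArg (Z : Set G) (K : G → Subgroup G) : Prop := ∀ x ∈ Z, ∀ A : Subgroup G, (∀ a ∈ A, ∀ b ∈ A, a * b = b * a) →
  (∀ a ∈ A, a * a = 1) → x ∉ A → (∀ t ∈ A, t * x = x * t) →
  (∀ t ∈ A, t ≠ 1 → ∀ r ∈ K x, t * r = r * t → ∀ a ∈ A, r * a * r⁻¹ ∈ A) →
  (∃ s ∈ A, ∃ t ∈ A, s ≠ 1 ∧ t ≠ 1 ∧ s ≠ t) → (∃ t ∈ A, t ≠ 1 ∧ Ce t (K x)) ∨ ∃ j ∈ A, j ∈ K x ∧ j ≠ 1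

/-- the swap lemma -/
def SwapI (Z : Set G) (K : G → Subgroup G) : Prop := ∀ x ∈ Z, ∀ u ∈ Z, Cm (K u) (K (x * u * x⁻¹)) →
  Ce (u * (x * u * x⁻¹)) (K x) ∨ u * (x * u * x⁻¹) ∈ Z

/-- the situation of the steps (2) - (4) -/
structure Fs (Z : Set G) (K : G → Subgroup G) (S : Subgroup G) (KK : Set G) : Prop where
  n : NW Z K
  hS : IsSyl S ⊤
  fr : Fr Z K S KK
  three : ∃ z₁ ∈ OmZ Z K S, ∃ z₂ ∈ OmZ Z K S, ∃ z₃ ∈ OmZ Z K S, z₁ ≠ z₂ ∧ z₁ ≠ z₃ ∧ z₂ ≠ z₃

variable {Z : Set G} {K : G → Subgroup G} {S : Subgroup G} {KK : Set G}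

theorem Fs.w (F : Fs Z K S KK) : XW Z K := F.n.w

theorem XW.omZ_cj (w : XW Z K) {g z : G} : z ∈ OmZ Z K (cj g S) ↔ g⁻¹ * z * g ∈ OmZ Z K S := by
  constructor
  · rintro ⟨h1, h2⟩
    have h3 := w.conjZ z h1 g⁻¹
    have h4 := w.conjK z h1 g⁻¹
    rw [inv_inv] at h3 h4
    refine ⟨h3, ?_⟩
    rw [h4]
    have := cj_mono g⁻¹ h2
    rwa [cj_inv_cj] at this
  · rintro ⟨h1, h2⟩
    have h3 := w.conjZ _ h1 g
    have h4 := w.conjK _ h1 g
    have e : g * (g⁻¹ * z * g) * g⁻¹ = z := by group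
    rw [e] at h3 h4
    exact ⟨h3, by rw [h4]; exact cj_mono g h2⟩

theorem XW.T0_cj (w : XW Z K) (g : G) : T0 Z K (cj g S) = cj g (T0 Z K S) := by
  have key : ∀ (S : Subgroup G) (g : G), T0 Z K (cj g S) ≤ cj g (T0 Z K S) := by
    intro S g
    conv_lhs => unfold T0
    rw [closure_le]
    rintro _ ⟨z, hz, u, hu, rfl⟩
    rw [SetLike.mem_coe, mem_cj]
    have : g⁻¹ * (z * u) * g = (g⁻¹ * z * g) * (g⁻¹ * u * g) := by group
    rw [this]
    exact w.mul_mem_T0 (w.omZ_cj.1 hz) (w.omZ_cj.1 hu)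
  apply le_antisymm (key S g)
  have h1 := key (cj g S) g⁻¹
  rw [cj_inv_cj] at h1
  have h2 := cj_mono g h1
  rwa [cj_cj_inv] at h2


namespace Fs

variable [Finite G] (F : Fs Z K S KK)

include F

theorem conj (g : G) : Fs Z K (cj g S) ((fun z => g * z * g⁻¹) '' KK) := by
  have e : ∀ x : G, g⁻¹ * (g * x * g⁻¹) * g = x := fun x => by group
  have e' : ∀ x : G, g * (g⁻¹ * x * g) * g⁻¹ = x := fun x => by group
  have hsub : ∀ u ∈ KK, u ∈ Z := by
    obtain ⟨a, ha, b, hb, -, -, hab, -, -⟩ := F.three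
    intro u hu
    have h1 : a * b ≠ 1 := fun h => hab (by rw [← F.w.inv hb.1]; exact eq_inv_of_mul_eq_one_left h)
    rw [← F.fr.om _ (F.w.mul_mem_T0 ha hb) h1] at hu
    exact hu.1
  refine ⟨F.n, isSyl_cj F.hS g, ⟨?_, ?_, ?_, ?_⟩, ?_⟩
  · intro z hz
    exact ⟨_, F.fr.sub (F.w.omZ_cj.1 hz), e' z⟩
  · intro t ht ht1
    rw [F.w.T0_cj, mem_cj] at ht
    have ht1' : g⁻¹ * t * g ≠ 1 := by
      intro h
      apply ht1
      rw [← e' t, h]
      group
    have h1 := F.fr.om _ ht ht1'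
    ext z
    constructor
    · intro hz
      refine ⟨g⁻¹ * z * g, ?_, e' z⟩
      rw [← h1]
      have h2 := F.w.conjZ z hz.1 g⁻¹
      have h3 := F.w.conjK z hz.1 g⁻¹
      rw [inv_inv] at h2 h3
      refine ⟨h2, ?_⟩
      rw [h3]
      have h4 := hz.2.cj g⁻¹
      rwa [inv_inv] at h4
    · rintro ⟨z, hz, rfl⟩
      rw [← h1] at hz
      refine ⟨F.w.conjZ z hz.1 g, ?_⟩
      show Ce t (K (g * z * g⁻¹))
      rw [F.w.conjK z hz.1]
      have h4 := hz.2.cj g
      rwa [e'] at h4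
  · rintro _ ⟨u, hu, rfl⟩ _ ⟨v, hv, rfl⟩ hc _ ⟨x, hx, rfl⟩
    have h1 := F.fr.one u hu v hv ((F.w.cm_conj_iff (hsub u hu) (hsub v hv) g).1 hc) x hx
    show Ce (g * u * g⁻¹ * (g * v * g⁻¹)) (K (g * x * g⁻¹))
    rw [F.w.conjK x (hsub x hx)]
    have h2 := h1.cj g
    have h3 : g * (u * v) * g⁻¹ = g * u * g⁻¹ * (g * v * g⁻¹) := by group
    rwa [h3] at h2
  · intro t ht ht1 z hz hzt
    rw [F.w.T0_cj, mem_cj] at ht
    have ht1' : g⁻¹ * t * g ≠ 1 := by
      intro h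
      apply ht1
      rw [← e' t, h]
      group
    apply F.fr.nnil _ ht ht1' _ (F.w.omZ_cj.1 hz)
    have h1 : g⁻¹ * z * g⁻¹⁻¹ ∈ cj g⁻¹ (oP 2 (centralizer {t})) := conj_mem_cj hzt
    have h2 := CompR.cj_oP_le g⁻¹ _ h1
    rwa [cj_centralizer, inv_inv] at h2
  · obtain ⟨a, ha, b, hb, c, hc, hab, hac, hbc⟩ := F.three
    refine ⟨g * a * g⁻¹, F.w.om_conj ha g, g * b * g⁻¹, F.w.om_conj hb g, g * c * g⁻¹, F.w.om_conj hc g, ?_, ?_, ?_⟩
    · intro h; exact hab (by rw [← e a, h, e])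
    · intro h; exact hac (by rw [← e a, h, e])
    · intro h; exact hbc (by rw [← e b, h, e])

/-- two other members -/
theorem exists_two {z : G} (_ : z ∈ OmZ Z K S) :
    ∃ u ∈ OmZ Z K S, ∃ v ∈ OmZ Z K S, z ≠ u ∧ z ≠ v ∧ u ≠ v := by
  obtain ⟨a, ha, b, hb, c, hc, hab, hac, hbc⟩ := F.three
  by_cases h1 : z = a
  · subst h1; exact ⟨b, hb, c, hc, hab, hac, hbc⟩
  by_cases h2 : z = b
  · subst h2; exact ⟨a, ha, c, hc, h1, hbc, hac⟩
  · exact ⟨a, ha, b, hb, h1, h2, hab⟩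

omit [Finite G] in
theorem mul_ne {u v : G} (hv : v ∈ OmZ Z K S) (h : u ≠ v) : u * v ≠ 1 := fun h1 =>
  h (by rw [← F.w.inv hv.1]; exact eq_inv_of_mul_eq_one_left h1)

theorem exists_t : ∃ t ∈ T0 Z K S, t ≠ 1 := by
  obtain ⟨a, ha, b, hb, -, -, hab, -, -⟩ := F.three
  exact ⟨a * b, F.w.mul_mem_T0 ha hb, F.mul_ne hb hab⟩

theorem kk_Z {u : G} (hu : u ∈ KK) : u ∈ Z := by
  obtain ⟨t, ht, ht1⟩ := F.exists_t
  rw [← F.fr.om t ht ht1] at hu
  exact hu.1

theorem kk_ce {u : G} (hu : u ∈ KK) {t : G} (ht : t ∈ T0 Z K S) : Ce t (K u) := by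
  by_cases h1 : t = 1
  · rw [h1]; exact Ce.one _
  · rw [← F.fr.om t ht h1] at hu
    exact hu.2

theorem mem_kk {u : G} (hu : u ∈ Z) {t : G} (ht : t ∈ T0 Z K S) (ht1 : t ≠ 1) (h : Ce t (K u)) : u ∈ KK := by
  rw [← F.fr.om t ht ht1]
  exact ⟨hu, h⟩

/-- `M₀` stabilises `KK` -/
theorem kk_conj {g z : G} (hg : g ∈ M0 Z K S) (hz : z ∈ KK) : g * z * g⁻¹ ∈ KK := by
  obtain ⟨t, ht, ht1⟩ := F.exists_t
  have hzZ := F.kk_Z hz
  have h1 : g * t * g⁻¹ ∈ T0 Z K S := conj_mem_of_mem_normalizer hg ht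
  have h2 : g * t * g⁻¹ ≠ 1 := by
    intro h
    apply ht1
    calc t = g⁻¹ * (g * t * g⁻¹) * g := by group
      _ = 1 := by rw [h]; group
  apply F.mem_kk (F.w.conjZ z hzZ g) h1 h2
  rw [F.w.conjK z hzZ]
  exact (F.kk_ce hz ht).cj g

theorem mem_M0_of_perm {g : G} (hg : ∀ z ∈ OmZ Z K S, g * z * g⁻¹ ∈ OmZ Z K S) : g ∈ M0 Z K S :=
  mem_normalizer_of_conj_le fun _ ht => F.w.T0_nor hg ht

theorem S_le : S ≤ M0 Z K S := fun _ hs => F.mem_M0_of_perm fun _ hz => F.w.S_nor F.hS hs hz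

/-- the stabiliser of `KK` is contained in `M₀` -/
theorem mem_M0_of_kk {g : G} (hg : ∀ z ∈ KK, g * z * g⁻¹ ∈ KK) : g ∈ M0 Z K S := by
  obtain ⟨D, -, hD2, hKD, -⟩ := F.w.exists_D F.hS
  set D' : Subgroup G := ⨆ u : OmZ Z K S, K u with hD'
  have hD'D : D' ≤ D := iSup_le fun u => hKD u u.2
  have hD'2 : IsPGroup 2 D' := hD2.to_le hD'D
  have hD'B : D' ≤ Gp K KK := iSup_le fun u => le_Gp (F.fr.sub u.2)
  obtain ⟨P, hP, hDP⟩ := exists_isSyl hD'2 hD'B
  -- the conjugate of `D'`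
  have h1 : cj g D' ≤ Gp K KK := by
    intro x hx
    rw [mem_cj] at hx
    have h2 : D' ≤ (Gp K KK).comap (MulAut.conj g).toMonoidHom := iSup_le fun u k hk => by
      show g * k * g⁻¹ ∈ Gp K KK
      have h3 : g * k * g⁻¹ ∈ K (g * u * g⁻¹) := by
        rw [F.w.conjK u u.2.1]
        exact conj_mem_cj hk
      exact le_Gp (hg u (F.fr.sub u.2)) h3
    have h3 : g * (g⁻¹ * x * g) * g⁻¹ ∈ Gp K KK := h2 hx
    have e : g * (g⁻¹ * x * g) * g⁻¹ = x := by group
    rwa [e] at h3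
  obtain ⟨b, hb, hb2⟩ := hP.exists_conj (isPGroup_cj hD'2) h1
  have hbM : b ∈ M0 Z K S := by
    apply mem_normalizer_of_conj_le
    intro t ht
    have h2 : Ce t (Gp K KK) := Gp_ce fun u hu => F.kk_ce hu ht
    have h3 := h2 b hb
    rw [← h3, mul_inv_cancel_right]
    exact ht
  have hbg : b * g ∈ M0 Z K S := by
    apply F.mem_M0_of_perm
    intro z hz
    apply F.w.om_eq F.hS hP.two (fun u hu => (le_iSup (fun u : OmZ Z K S => K u) ⟨u, hu⟩).trans hDP)
      (F.w.conjZ z hz.1 _)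
    rw [F.w.conjK z hz.1]
    intro x hx
    rw [mem_cj] at hx
    have h3 : (b * g)⁻¹ * x * (b * g) ∈ D' := (le_iSup (fun u : OmZ Z K S => K u) ⟨z, hz⟩) hx
    have h4 := hb2 _ (conj_mem_cj (g := g) h3)
    have e : b * (g * ((b * g)⁻¹ * x * (b * g)) * g⁻¹) * b⁻¹ = x := by group
    rwa [e] at h4
  have : g = b⁻¹ * (b * g) := by group
  rw [this]
  exact mul_mem (inv_mem hbM) hbg

/-- `T₀` is TI -/
theorem ti {g t : G} (ht : t ∈ T0 Z K S) (ht1 : t ≠ 1) (h : g * t * g⁻¹ ∈ T0 Z K S) : g ∈ M0 Z K S := by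
  apply F.mem_M0_of_kk
  intro z hz
  have hzZ := F.kk_Z hz
  have h2 : g * t * g⁻¹ ≠ 1 := by
    intro h
    apply ht1
    calc t = g⁻¹ * (g * t * g⁻¹) * g := by group
      _ = 1 := by rw [h]; group
  apply F.mem_kk (F.w.conjZ z hzZ g) h h2
  rw [F.w.conjK z hzZ]
  exact (F.kk_ce hz ht).cj g

theorem cent_le {g t : G} (ht : t ∈ T0 Z K S) (ht1 : t ≠ 1) (h : g * t = t * g) : g ∈ M0 Z K S := by
  apply F.ti ht ht1
  rw [h, mul_inv_cancel_right]
  exact ht

theorem exists_c {u : G} (hu : u ∈ KK) : ∃ c ∈ M0 Z K S, c * u * c⁻¹ ∈ OmZ Z K S := by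
  obtain ⟨t, ht, ht1⟩ := F.exists_t
  rw [← F.fr.om t ht ht1] at hu
  obtain ⟨c, hc, hcu⟩ := F.w.om_into F.hS (fun z hz => F.w.T0_ce F.hS ht hz) hu
  exact ⟨c, F.cent_le ht ht1 hc, hcu⟩

/-- `T₀ ∩ Z = ∅` -/
theorem not_mem {t : G} (ht : t ∈ T0 Z K S) : t ∉ Z := by
  intro hZ
  have ht1 := F.w.ne t hZ
  have h1 : t ∈ Om Z K t := ⟨hZ, F.w.ce_self hZ⟩
  obtain ⟨z, hz, -⟩ := F.three
  have hzt := F.w.om_mem F.hS (F.w.T0_le ht) hz
  -- `t ∈ KK` commutes with all of `KK`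
  have h2 : z ∈ oP 2 (centralizer {t}) := by
    by_cases hne : z = t
    · subst hne
      exact self_mem_oP (F.w.sq z hZ)
    · exact F.n.nil t hZ z hz.1 (F.w.csymm z hz.1 t hZ (F.w.T0_ce F.hS ht hz) hne).symm
  exact F.fr.nnil t ht ht1 z hz h2

/-- `O₂(C(z)) ≤ M₀` for `z ∈ OmZ S` -/
theorem oP_le_M0 {z : G} (hz : z ∈ OmZ Z K S) : oP 2 (centralizer {z}) ≤ M0 Z K S := by
  obtain ⟨D, hDS, hD2, hKD, -⟩ := F.w.exists_D F.hS
  set D' : Subgroup G := ⨆ u : OmZ Z K S, K u with hD'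
  have hD'D : D' ≤ D := iSup_le fun u => hKD u u.2
  have hD'2 : IsPGroup 2 D' := hD2.to_le hD'D
  have hD'C : D' ≤ centralizer {z} := iSup_le fun u k hk => by
    rw [mem_centralizer_singleton_iff]
    by_cases h : (u : G) = z
    · have hk' : k ∈ K z := by rw [← h]; exact hk
      exact (F.w.ce_self hz.1 k hk').symm
    · exact F.w.om_cm u.2 hz h F.hS.two k hk z (F.w.mem z hz.1)
  have h1 : IsPGroup 2 (D' ⊔ oP 2 (centralizer {z}) : Subgroup G) :=
    OneBasic.isPGroup_sup_of_normalizes hD'2 (isPGroup_oP 2 _) (hD'C.trans (le_normalizer_oP 2 _))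
  intro p hp
  apply F.mem_M0_of_perm
  intro u hu
  exact F.w.om_perm F.hS h1 (fun v hv => (le_iSup (fun u : OmZ Z K S => K u) ⟨v, hv⟩).trans le_sup_left)
    ((le_sup_right : oP 2 (centralizer {z}) ≤ _) hp) hu

theorem om_mem_oP {z u : G} (hz : z ∈ OmZ Z K S) (hu : u ∈ OmZ Z K S) : u ∈ oP 2 (centralizer {z}) := by
  by_cases h : z = u
  · subst h; exact self_mem_oP (F.w.sq z hz.1)
  · exact F.n.nil z hz.1 u hu.1 (F.w.om_cm hz hu h F.hS.two)

theorem T0_le_oP {z : G} (hz : z ∈ OmZ Z K S) : T0 Z K S ≤ oP 2 (centralizer {z}) := by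
  conv_lhs => unfold T0
  rw [closure_le]
  rintro _ ⟨u, hu, v, hv, rfl⟩
  exact mul_mem (F.om_mem_oP hz hu) (F.om_mem_oP hz hv)

/-- Step (2): `C(z) ≤ M₀` for `z ∈ OmZ S` -/
theorem cent_om (j : JArg Z K) {z g : G} (hz : z ∈ OmZ Z K S) (hg : g * z = z * g) : g ∈ M0 Z K S := by
  by_contra hgM
  have F' := F.conj g
  set S' := cj g S with hS'
  set KK' := (fun z => g * z * g⁻¹) '' KK with hKK'
  have hzg : g * z * g⁻¹ = z := by rw [hg, mul_inv_cancel_right]
  have hz' : z ∈ OmZ Z K S' := by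
    have := F.w.om_conj hz g
    rwa [hzg] at this
  -- `T₀ ∩ T₁ = 1`
  have hti : ∀ t ∈ T0 Z K S, t ∈ T0 Z K S' → t = 1 := by
    intro t ht ht'
    by_contra ht1
    rw [hS', F.w.T0_cj, mem_cj] at ht'
    apply hgM
    have e : g * (g⁻¹ * t * g) * g⁻¹ = t := by group
    refine F.ti ht' ?_ (by rw [e]; exact ht)
    intro h
    apply ht1
    rw [← e, h]; group
  -- they commute
  have hcomm : ∀ t ∈ T0 Z K S, ∀ s ∈ T0 Z K S', t * s = s * t := by
    intro t ht s hs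
    have h1 : s ∈ M0 Z K S := F.oP_le_M0 hz (F'.T0_le_oP hz' hs)
    have h2 : t ∈ M0 Z K S' := F'.oP_le_M0 hz' (F.T0_le_oP hz ht)
    have h3 : t * s * t⁻¹ * s⁻¹ ∈ T0 Z K S := by
      have : t * s * t⁻¹ * s⁻¹ = t * (s * t⁻¹ * s⁻¹) := by group
      rw [this]
      exact mul_mem ht (conj_mem_of_mem_normalizer h1 (inv_mem ht))
    have h4 : t * s * t⁻¹ * s⁻¹ ∈ T0 Z K S' :=
      mul_mem (conj_mem_of_mem_normalizer h2 hs) (inv_mem hs)
    have h5 := hti _ h3 h4
    calc t * s = (t * s * t⁻¹ * s⁻¹) * (s * t) := by group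
      _ = s * t := by rw [h5, one_mul]
  -- (A)
  have hA : ∀ x ∈ OmZ Z K S, z ≠ x → x ∉ KK' := by
    intro x hx hzx hxK
    have hzxT := F.w.mul_mem_T0 hz hx
    have hzx1 := F.mul_ne hx hzx
    have hCzx := F.w.om_cm hz hx hzx F.hS.two
    have h1 := F'.fr.one x hxK z (F'.fr.sub hz') hCzx.symm
    have h2 : x ∈ OmZ Z K S' := by
      apply F.w.om_of_cm F'.hS hx.1
      intro y hy hyx
      by_cases hyz : y = z
      · rw [hyz]; exact hCzx
      · apply F.w.csymm y hy.1 x hx.1 _ hyx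
        have h3 : Ce z (K y) := fun k hk => (F.w.om_cm hz' hy (Ne.symm hyz) F'.hS.two) z (F.w.mem z hz.1) k hk
        have h4 := (h1 y (F'.fr.sub hy)).mul h3
        have h5 : x * z * z = x := by rw [mul_assoc, F.w.sq z hz.1, mul_one]
        rwa [h5] at h4
    exact hzx1 (hti _ hzxT (F.w.mul_mem_T0 hz' h2))
  obtain ⟨x, hx, y, hy, hzx, hzy, hxy⟩ := F.exists_two hz
  obtain ⟨a, ha, b, hb, hza, hzb, hab⟩ := F'.exists_two hz'
  have hxZ : x ∉ T0 Z K S' := fun h1 => F'.not_mem h1 hx.1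
  -- `x` commutes with `T₁`
  have hxt : ∀ t ∈ T0 Z K S', t * x = x * t := by
    intro t ht
    have h1 := hcomm _ (F.w.mul_mem_T0 hz hx) t ht
    have h2 : t * z = z * t := F.w.T0_ce F'.hS ht hz' z (F.w.mem z hz.1)
    have h3 : x = z * (z * x) := by rw [← mul_assoc, F.w.sq z hz.1, one_mul]
    calc t * x = t * (z * (z * x)) := by rw [← h3]
      _ = (t * z) * (z * x) := by group
      _ = z * (t * (z * x)) := by rw [h2]; group
      _ = z * (z * x * t) := by rw [h1]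
      _ = z * (z * x) * t := by group
      _ = x * t := by rw [← h3]
  rcases j x hx.1 (T0 Z K S') (fun a ha b hb => F.w.T0_comm F'.hS ha hb)
    (fun a ha => F.w.TS_sq F'.hS (F.w.T0_le ha)) hxZ hxt
    (fun t ht ht1 r _ hc a ha => conj_mem_of_mem_normalizer (F'.cent_le ht ht1 hc.symm) ha)
    ⟨z * a, F.w.mul_mem_T0 hz' ha, z * b, F.w.mul_mem_T0 hz' hb, F'.mul_ne ha hza, F'.mul_ne hb hzb,
      fun h1 => hab (mul_left_cancel h1)⟩ with ⟨t, ht, ht1, h1⟩ | ⟨q, hq, hqx, hq1⟩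
  · exact hA x hx hzx (F'.mem_kk hx.1 ht ht1 h1)
  · exact hA y hy hzy (F'.mem_kk hy.1 hq hq1 fun k hk => F.w.om_cm hx hy hxy F.hS.two q hqx k hk)

/-- Step (2): `C(z) ≤ M₀` for `z ∈ KK` -/
theorem cent_kk (j : JArg Z K) {z g : G} (hz : z ∈ KK) (hg : g * z = z * g) : g ∈ M0 Z K S := by
  obtain ⟨c, hc, hcz⟩ := F.exists_c hz
  have h1 : c * g * c⁻¹ ∈ M0 Z K S := by
    apply F.cent_om j hcz
    calc c * g * c⁻¹ * (c * z * c⁻¹) = c * (g * z) * c⁻¹ := by group
      _ = c * (z * g) * c⁻¹ := by rw [hg]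
      _ = c * z * c⁻¹ * (c * g * c⁻¹) := by group
  have : g = c⁻¹ * (c * g * c⁻¹) * c := by group
  rw [this]
  exact mul_mem (mul_mem (inv_mem hc) h1) hc

theorem isSyl_M0 : IsSyl S (M0 Z K S) := F.hS.mono F.S_le le_top

/-- a point with `K y ≤ M₀` lies in `KK` -/
theorem kk_of_le {y : G} (hy : y ∈ Z) (hle : K y ≤ M0 Z K S) : y ∈ KK := by
  obtain ⟨n, hn, hn2⟩ := F.isSyl_M0.exists_conj (F.w.two hy) hle
  have h2 : n * y * n⁻¹ ∈ OmZ Z K S := by
    refine ⟨F.w.conjZ y hy n, ?_⟩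
    rw [F.w.conjK y hy]
    intro x hx
    rw [mem_cj] at hx
    have := hn2 _ hx
    have e : n * (n⁻¹ * x * n) * n⁻¹ = x := by group
    rwa [e] at this
  have h3 := F.kk_conj (inv_mem hn) (F.fr.sub h2)
  have e : n⁻¹ * (n * y * n⁻¹) * n⁻¹⁻¹ = y := by group
  rwa [e] at h3

/-- every point has a C-partner -/
theorem exists_cm {x : G} (hx : x ∈ Z) : ∃ y ∈ Z, Cm (K x) (K y) := by
  obtain ⟨n, -, hn⟩ := F.hS.exists_conj (F.w.two hx) le_top
  have h1 : n * x * n⁻¹ ∈ OmZ Z K S := by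
    refine ⟨F.w.conjZ x hx n, ?_⟩
    rw [F.w.conjK x hx]
    intro y hy
    rw [mem_cj] at hy
    have := hn _ hy
    have e : n * (n⁻¹ * y * n) * n⁻¹ = y := by group
    rwa [e] at this
  obtain ⟨u, hu, -, -, hne, -, -⟩ := F.exists_two h1
  have h2 := F.w.cm_conj h1.1 hu.1 n⁻¹ (F.w.om_cm h1 hu hne F.hS.two)
  have e : n⁻¹ * (n * x * n⁻¹) * n⁻¹⁻¹ = x := by group
  rw [e] at h2
  exact ⟨_, F.w.conjZ u hu.1 n⁻¹, h2⟩

/-- an element of `Z ∩ S` lies in `KK` -/
theorem mem_kk_of_S (j : JArg Z K) (sw : SwapI Z K) {x : G} (hx : x ∈ Z) (hxS : x ∈ S) : x ∈ KK := by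
  by_contra hno
  have hce : ∀ t ∈ T0 Z K S, t ≠ 1 → ¬ Ce t (K x) := fun t ht ht1 h => hno (F.mem_kk hx ht ht1 h)
  -- `x` fixes all `z`
  have hfix : ∀ z ∈ OmZ Z K S, x * z = z * x := by
    intro z hz
    by_contra h
    have h1 : x * z * x⁻¹ ∈ OmZ Z K S := F.w.S_nor F.hS hxS hz
    have h2 : z ≠ x * z * x⁻¹ := by
      intro h3
      apply h
      calc x * z = x * z * x⁻¹ * x := by group
        _ = z * x := by rw [← h3]
    rcases sw x hx z hz.1 (F.w.om_cm hz h1 h2 F.hS.two) with h3 | h3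
    · exact hce _ (F.w.mul_mem_T0 hz h1) (F.mul_ne h1 h2) h3
    · exact F.not_mem (F.w.mul_mem_T0 hz h1) h3
  have hxt : ∀ t ∈ T0 Z K S, t * x = x * t := by
    intro t ht
    have h1 : TS Z K S ≤ centralizer {x} := by
      unfold TS
      rw [closure_le]
      intro z hz
      exact mem_centralizer_singleton_iff.2 (hfix z hz).symm
    exact mem_centralizer_singleton_iff.1 (h1 (F.w.T0_le ht))
  obtain ⟨a, ha, b, hb, c, hc, hab, hac, hbc⟩ := F.three
  rcases j x hx (T0 Z K S) (fun a ha b hb => F.w.T0_comm F.hS ha hb) (fun a ha => F.w.TS_sq F.hS (F.w.T0_le ha))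
    (fun h1 => F.not_mem h1 hx) hxt
    (fun t ht ht1 r _ hc a ha => conj_mem_of_mem_normalizer (F.cent_le ht ht1 hc.symm) ha)
    ⟨a * b, F.w.mul_mem_T0 ha hb, a * c, F.w.mul_mem_T0 ha hc, F.mul_ne hb hab, F.mul_ne hc hac,
      fun h1 => hbc (mul_left_cancel h1)⟩ with ⟨t, ht, ht1, h1⟩ | ⟨q, hq, hqx, hq1⟩
  · exact hce t ht ht1 h1
  · obtain ⟨y, hy, hxy⟩ := F.exists_cm hx
    have h2 : y ∈ KK := F.kk_of_le hy fun k hk => F.cent_le hq hq1 (hxy q hqx k hk).symm
    exact hno (F.kk_of_le hx fun k hk => F.cent_kk j h2 (hxy k hk y (F.w.mem y hy)))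

/-- Step (3): `Z ∩ M₀ = KK` -/
theorem mem_kk_of_M0 (j : JArg Z K) (sw : SwapI Z K) {x : G} (hx : x ∈ Z) (hxM : x ∈ M0 Z K S) : x ∈ KK := by
  have h1 : zpowers x ≤ M0 Z K S := by rwa [zpowers_le]
  obtain ⟨n, hn, hn2⟩ := F.isSyl_M0.exists_conj (isPGroup_zpowers_inv (F.w.sq x hx)) h1
  have h2 := F.mem_kk_of_S j sw (F.w.conjZ x hx n) (hn2 x (mem_zpowers x))
  have h3 := F.kk_conj (inv_mem hn) h2
  have e : n⁻¹ * (n * x * n⁻¹) * n⁻¹⁻¹ = x := by group
  rwa [e] at h3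

/-- Step (3'): an element conjugating an element of `KK` into `M₀` lies in `M₀` -/
theorem mem_M0 (j : JArg Z K) (sw : SwapI Z K) {z g : G} (hz : z ∈ KK) (h : g * z * g⁻¹ ∈ M0 Z K S) : g ∈ M0 Z K S := by
  have h1 := F.mem_kk_of_M0 j sw (F.w.conjZ z (F.kk_Z hz) g) h
  -- move both into `OmZ S`
  obtain ⟨c, hc, hcz⟩ := F.exists_c hz
  obtain ⟨d, hd, hdz⟩ := F.exists_c h1
  -- `g' = d g c⁻¹` maps `c z c⁻¹` to `d (g z g⁻¹) d⁻¹`
  set z1 := c * z * c⁻¹ with hz1
  set z2 := d * (g * z * g⁻¹) * d⁻¹ with hz2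
  set g' := d * g * c⁻¹ with hg'
  have h2 : g' * z1 * g'⁻¹ = z2 := by rw [hg', hz1, hz2]; group
  suffices hs : g' ∈ M0 Z K S by
    have : g = d⁻¹ * g' * c := by rw [hg']; group
    rw [this]
    exact mul_mem (mul_mem (inv_mem hd) hs) hc
  -- Sylow's theorem in `C(z2)`
  set D' : Subgroup G := ⨆ u : OmZ Z K S, K u with hD'
  obtain ⟨D, -, hD2, hKD, -⟩ := F.w.exists_D F.hS
  have hD'D : D' ≤ D := iSup_le fun u => hKD u u.2
  have hD'2 : IsPGroup 2 D' := hD2.to_le hD'D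
  have hD'C : ∀ z ∈ OmZ Z K S, D' ≤ centralizer {z} := fun z hz => iSup_le fun u k hk => by
    rw [mem_centralizer_singleton_iff]
    by_cases h : (u : G) = z
    · have hk' : k ∈ K z := by rw [← h]; exact hk
      exact (F.w.ce_self hz.1 k hk').symm
    · exact F.w.om_cm u.2 hz h F.hS.two k hk z (F.w.mem z hz.1)
  obtain ⟨P, hP, hDP⟩ := exists_isSyl hD'2 (hD'C z2 hdz)
  have h3 : cj g' D' ≤ centralizer {z2} := by
    have h4 := cj_mono g' (hD'C z1 hcz)
    rwa [cj_centralizer, h2] at h4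
  obtain ⟨b, hb, hb2⟩ := hP.exists_conj (isPGroup_cj hD'2) h3
  have hbM : b ∈ M0 Z K S := F.cent_om j hdz (mem_centralizer_singleton_iff.1 hb)
  have hbg : b * g' ∈ M0 Z K S := by
    apply F.mem_M0_of_perm
    intro z hz
    apply F.w.om_eq F.hS hP.two (fun u hu => (le_iSup (fun u : OmZ Z K S => K u) ⟨u, hu⟩).trans hDP)
      (F.w.conjZ z hz.1 _)
    rw [F.w.conjK z hz.1]
    intro x hx
    rw [mem_cj] at hx
    have h3 : (b * g')⁻¹ * x * (b * g') ∈ D' := (le_iSup (fun u : OmZ Z K S => K u) ⟨z, hz⟩) hx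
    have h4 := hb2 _ (conj_mem_cj (g := g') h3)
    have e : b * (g' * ((b * g')⁻¹ * x * (b * g')) * g'⁻¹) * b⁻¹ = x := by group
    rwa [e] at h4
  have : g' = b⁻¹ * (b * g') := by group
  rw [this]
  exact mul_mem (inv_mem hbM) hbg

end Fs

end Cfsg.Agent.Cit.Nil.ANTwo
end

-- part: Cit/Nil/ANTwo/Four
section
/-!
# Step (4) of `AN(s)`, any `r`: `T₀` is strongly closed in `S`; the theorem for `m ≥ 3`

* **`Fs.closed`** : `T₀` is strongly closed in `S`; **`an`** : `AN(s)`.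
-/

set_option autoImplicit false
set_option linter.unusedSectionVars false
set_option linter.style.haveILetI false

namespace Cfsg.Agent.Cit.Nil.ANTwo

open Subgroup Cfsg Cfsg.Agent.Cit Cfsg.Agent.StdEven.Syl Cfsg.Agent.OddOrderLocal.NilParts
open Cfsg.Agent.Cit.Nil.AN (Cm Ce OmZ T0 TS Om St Cl Gp OneC cl_refl cl_sub cl_step cl_cm cl_symm cl_trans cl_eq le_Gp
  Gp_le Gp_ce M0 isSyl_cj isPGroup_zpowers_inv self_mem_oP)
open RG (WR RR Ov)

variable {G : Type*} [Group G] {Ω : Set (Subgroup G)} {S : Subgroup G} {KK : Set G}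

theorem ncard_omZ_cj [Finite G] {Z : Set G} {K : G → Subgroup G} (w : XW Z K) (g : G) (S : Subgroup G) :
    Nat.card ↥(OmZ Z K (cj g S)) = Nat.card ↥(OmZ Z K S) := by
  have h1 : OmZ Z K (cj g S) = (fun x => g * x * g⁻¹) '' OmZ Z K S := by
    ext x
    constructor
    · intro hx
      exact ⟨g⁻¹ * x * g, w.omZ_cj.1 hx, by group⟩
    · rintro ⟨y, hy, rfl⟩
      refine w.omZ_cj.2 ?_
      have e : g⁻¹ * (g * y * g⁻¹) * g = y := by group
      rwa [e]
  rw [Nat.card_coe_set_eq, Nat.card_coe_set_eq, h1]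
  refine Set.ncard_image_of_injective _ fun a b hab => ?_
  exact mul_left_cancel (mul_right_cancel hab)

/-- Step (4): `T₀` is strongly closed in `S` -/
theorem Fs.closed [Finite G] (F : Fs (RG.ZZ Ω) (RR Ω) S KK) (h : WR Ω) (j : JArg (RG.ZZ Ω) (RR Ω))
    (sw : SwapI (RG.ZZ Ω) (RR Ω)) : IsStronglyClosed (T0 (RG.ZZ Ω) (RR Ω) S) S := by
  obtain ⟨Z, hZ⟩ : ∃ Z, Z = RG.ZZ Ω := ⟨_, rfl⟩
  obtain ⟨K, hK⟩ : ∃ K, K = RR Ω := ⟨_, rfl⟩
  rw [← hZ, ← hK] at F j sw ⊢
  have hT0S : T0 Z K S ≤ S := F.w.T0_le.trans (F.w.TS_le_S F.hS.two)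
  refine ⟨hT0S, fun t ht g hb => ?_⟩
  by_contra hno
  set b := g * t * g⁻¹ with hbdef
  have ht1 : t ≠ 1 := by
    rintro rfl
    apply hno
    rw [hbdef, mul_one, mul_inv_cancel]
    exact one_mem _
  have htt : t * t = 1 := F.w.TS_sq F.hS (F.w.T0_le ht)
  have hbb : b * b = 1 := by
    calc b * b = g * (t * t) * g⁻¹ := by rw [hbdef]; group
      _ = 1 := by rw [htt]; group
  have hgM : g ∉ M0 Z K S := fun hg => hno (conj_mem_of_mem_normalizer hg ht)
  -- elements commuting with `b`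
  have hC : ∀ x : G, x * b = b * x → g⁻¹ * x * g ∈ M0 Z K S := by
    intro x hx
    apply F.cent_le ht ht1
    calc g⁻¹ * x * g * t = g⁻¹ * (x * b) * g := by rw [hbdef]; group
      _ = g⁻¹ * (b * x) * g := by rw [hx]
      _ = t * (g⁻¹ * x * g) := by rw [hbdef]; group
  -- `b` moves all points
  have hmv : ∀ z ∈ OmZ Z K S, b * z * b⁻¹ ≠ z := by
    intro z hz he
    have h1 : z * b = b * z := by
      calc z * b = b * z * b⁻¹ * b := by rw [he]
        _ = b * z := by group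
    have h2 := hC z h1
    have h3 : g⁻¹ * z * g⁻¹⁻¹ ∈ M0 Z K S := by rwa [inv_inv]
    have h4 := F.mem_M0 j sw (F.fr.sub hz) h3
    exact hgM (by rw [← inv_inv g]; exact inv_mem h4)
  have hbz : ∀ z ∈ OmZ Z K S, b * z * b⁻¹ ∈ OmZ Z K S := fun z hz => F.w.S_nor F.hS hb hz
  -- the Sylow subgroup `S'`
  set C : Subgroup G := S ⊓ centralizer {b} with hCdef
  have hC2 : IsPGroup 2 C := F.hS.two.to_le inf_le_left
  have hCg : cj g⁻¹ C ≤ M0 Z K S := by
    intro x hx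
    rw [mem_cj, inv_inv] at hx
    have h1 := hC _ (mem_centralizer_singleton_iff.1 (mem_inf.1 hx).2)
    have e : g⁻¹ * (g * x * g⁻¹) * g = x := by group
    rwa [e] at h1
  obtain ⟨n, hn, hn2⟩ := F.isSyl_M0.exists_conj (isPGroup_cj hC2) hCg
  set g' := g * n⁻¹ with hg'
  have hg'M : g' ∉ M0 Z K S := by
    intro h1
    apply hgM
    have : g = g' * n := by rw [hg']; group
    rw [this]
    exact mul_mem h1 hn
  have hCS' : C ≤ cj g' S := by
    intro x hx
    rw [mem_cj]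
    have h1 := hn2 _ (conj_mem_cj (g := g⁻¹) hx)
    have e : n * (g⁻¹ * x * g⁻¹⁻¹) * n⁻¹ = g'⁻¹ * x * g' := by rw [hg']; group
    rwa [e] at h1
  have hbi : b⁻¹ = b := inv_eq_of_mul_eq_one_right hbb
  have hmem : ∀ z ∈ OmZ Z K S, ∀ k ∈ K z, k * (b * k * b⁻¹) ∈ C := by
    intro z hz k hk
    have h1 : k ∈ S := hz.2 hk
    have h2 : b * k * b⁻¹ ∈ K (b * z * b⁻¹) := by
      rw [F.w.conjK z hz.1]
      exact conj_mem_cj hk
    have h3 : k * (b * k * b⁻¹) = (b * k * b⁻¹) * k :=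
      F.w.om_cm hz (hbz z hz) (Ne.symm (hmv z hz)) F.hS.two k hk _ h2
    refine mem_inf.2 ⟨mul_mem h1 (mul_mem (mul_mem hb h1) (inv_mem hb)), ?_⟩
    rw [mem_centralizer_singleton_iff]
    calc k * (b * k * b⁻¹) * b = k * b * k := by group
      _ = (b * b) * (k * b * k) := by rw [hbb, one_mul]
      _ = b * ((b * k * b) * k) := by group
      _ = b * ((b * k * b⁻¹) * k) := by rw [hbi]
      _ = b * (k * (b * k * b⁻¹)) := by rw [h3]
  -- the action on the points of `S'`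
  have hX : ∀ c ∈ C, ∀ x ∈ OmZ Z K (cj g' S), c * x * c⁻¹ ∈ OmZ Z K (cj g' S) := fun c hc x hx =>
    F.w.S_nor (isSyl_cj F.hS g') (hCS' hc) hx
  -- a member over each point
  have hmemb : ∀ z : ↥(OmZ Z K S), ∃ L, L ∈ Ov Ω (z : G) := fun z => by
    have h1 : (z : G) ∈ RG.ZZ Ω := by rw [← hZ]; exact z.2.1
    obtain ⟨L, h2, h3⟩ := h1
    exact ⟨L, h2, h3⟩
  choose L hL using hmemb
  have hLK : ∀ z : ↥(OmZ Z K S), L z ≤ K z := fun z => by
    have h1 : L z ≤ RR Ω (z : G) := WR.le_RR (hL z)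
    exact h1.trans (le_of_eq (congrFun hK.symm _))
  let σ : ↥(OmZ Z K S) → ↥(OmZ Z K S) := fun z => ⟨b * z * b⁻¹, hbz z z.2⟩
  have hcomm : ∀ u ∈ OmZ Z K S, ∀ v ∈ OmZ Z K S, u ≠ v → ∀ x ∈ K u, ∀ y ∈ K v, x * y = y * x :=
    fun u hu v hv hne => F.w.om_cm hu hv hne F.hS.two
  have hbK : ∀ z ∈ OmZ Z K S, ∀ y ∈ K z, b * y * b⁻¹ ∈ K (b * z * b⁻¹) := fun z hz y hy => by
    rw [F.w.conjK z hz.1]
    exact conj_mem_cj hy
  have cn : RG.Cn Ω C b σ L (RG.actX C (OmZ Z K (cj g' S)) hX) := by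
    refine
      { h := h
        mem := fun z => (hL z).1
        inv := fun z => Subtype.ext ?_
        ne := fun z e => hmv z z.2 (congrArg Subtype.val e)
        c0 := fun z x hx y hy => hcomm z z.2 _ (hbz z z.2) (hmv z z.2).symm x (hLK z hx) _ (hbK z z.2 y (hLK z hy))
        c1 := fun z u hne _ x hx y hy =>
          hcomm z z.2 u u.2 (fun e => hne (Subtype.ext e)) x (hLK z hx) y (hLK u hy)
        c2 := fun z u _ hne x hx y hy => ?_
        mv := fun z e => ?_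
        le := fun z k hk => hmem z z.2 k (hLK z hk)
        card := ncard_omZ_cj F.w g' S
        fx := fun x z hxz he => ?_ }
    · show b * (b * z * b⁻¹) * b⁻¹ = z
      calc b * (b * z * b⁻¹) * b⁻¹ = (b * b) * z * (b * b)⁻¹ := by group
        _ = z := by rw [hbb]; group
    · refine hcomm z z.2 _ (hbz u u.2) (fun e => hne (Subtype.ext ?_)) x (hLK z hx) _ (hbK u u.2 y (hLK u hy))
      show b * z * b⁻¹ = u
      rw [e]
      calc b * (b * u * b⁻¹) * b⁻¹ = (b * b) * u * (b * b)⁻¹ := by group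
        _ = u := by rw [hbb]; group
    · rw [(hL z).2] at e
      exact hmv z z.2 e
    · rw [(hL z).2] at hxz
      -- `x` fixes all points of `S'`
      have hne : (x : G) ≠ 1 := by rw [hxz]; exact F.mul_ne (hbz z z.2) (hmv z z.2).symm
      have hxT : (x : G) ∈ T0 Z K S := by rw [hxz]; exact F.w.mul_mem_T0 z.2 (hbz z z.2)
      obtain ⟨a, ha, -⟩ := (F.conj g').three
      have h1 := congrArg (fun f : Equiv.Perm ↥(OmZ Z K (cj g' S)) => ((f ⟨a, ha⟩ : ↥(OmZ Z K (cj g' S))) : G)) he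
      have h2 : (x : G) * a * (x : G)⁻¹ = a := h1
      have h3 : a * x = x * a := by
        calc a * x = x * a * (x : G)⁻¹ * x := by rw [h2]
          _ = x * a := by group
      have h4 : a ∈ M0 Z K S := F.cent_le hxT hne h3
      have h5 := F.w.omZ_cj.1 ha
      apply hg'M
      apply F.mem_M0 j sw (F.fr.sub h5)
      have e : g' * (g'⁻¹ * a * g') * g'⁻¹ = a := by group
      rwa [e]
  haveI : Nonempty ↥(OmZ Z K S) := by
    obtain ⟨a, ha, -⟩ := F.three
    exact ⟨⟨a, ha⟩⟩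
  exact cn.false

/-- the end: there is no strongly closed commutative subgroup -/
def NoCl (Z : Set G) (S : Subgroup G) : Prop :=
  ∀ A : Subgroup G, A ≠ ⊥ → A ≤ closure Z → (∀ x ∈ A, ∀ y ∈ A, x * y = y * x) → IsStronglyClosed A S → False

/-- **`AN(s)`** for `m ≥ 3` -/
theorem an [Finite G] (n : NW (RG.ZZ Ω) (RR Ω)) (h : WR Ω) (hS : IsSyl S ⊤) (j : JArg (RG.ZZ Ω) (RR Ω))
    (sw : SwapI (RG.ZZ Ω) (RR Ω))
    (three : ∃ z₁ ∈ OmZ (RG.ZZ Ω) (RR Ω) S, ∃ z₂ ∈ OmZ (RG.ZZ Ω) (RR Ω) S, ∃ z₃ ∈ OmZ (RG.ZZ Ω) (RR Ω) S,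
      z₁ ≠ z₂ ∧ z₁ ≠ z₃ ∧ z₂ ≠ z₃)
    (tp : ∀ s ∈ TS (RG.ZZ Ω) (RR Ω) S, s ≠ 1 → CompR.TPs (RG.ZZ Ω) (RR Ω) s) (ncl : NoCl (RG.ZZ Ω) S) {s : G}
    (hs : s ∈ TS (RG.ZZ Ω) (RR Ω) S) (hs1 : s ≠ 1) {z : G} (hz : z ∈ RG.ZZ Ω) (hsz : Ce s (RR Ω z)) :
    z ∈ oP 2 (centralizer {s}) := by
  by_contra hn
  have three' := three
  obtain ⟨a, ha, b, hb, -, -, hab, -, -⟩ := three'
  obtain ⟨KK, fr⟩ := n.exists_fr hS tp hs hs1 ⟨hz, hsz⟩ hn ha hb hab
  have F : Fs (RG.ZZ Ω) (RR Ω) S KK := ⟨n, hS, fr, three⟩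
  obtain ⟨t, ht, ht1⟩ := F.exists_t
  refine ncl (T0 (RG.ZZ Ω) (RR Ω) S) ?_ ?_ (fun x hx y hy => n.w.T0_comm hS hx hy) (F.closed h j sw)
  · intro h1
    rw [h1, mem_bot] at ht
    exact ht1 ht
  · refine n.w.T0_le.trans ?_
    exact closure_mono fun x hx => hx.1

end Cfsg.Agent.Cit.Nil.ANTwo
end

-- part: Cit/Nil/ANTwo/Inst
section
/-!
# `r = 2` : the J-ARGUMENT and the swap lemma; `AN(s)` for `m ≥ 3`

* **`jarg`** : `WM Om → JArg (ZZ Om) (RR Om)` (from helper762's J-ARGUMENT, `JF.main`); **`swapI`** : the swap lemma;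
* `omZ_eq`, `cent_all` : a member centralised by `s ∈ T_S`: all members over its involution are;
* **`ant_of`** : nil C-pairs, `T'` for `C(s)`, `s ∈ T_S`, no strongly closed commutative subgroup, `m ≥ 3`: `ANT Om`.
-/

set_option autoImplicit false
set_option linter.unusedSectionVars false
set_option linter.style.haveILetI false

namespace Cfsg.Agent.Cit.Nil.ANTwo

open Subgroup Cfsg Cfsg.Agent.Cit Cfsg.Agent.StdEven.Syl Cfsg.Agent.OddOrderLocal.NilParts
open Cfsg.Agent.Cit.Nil.AN (Cm Ce OmZ T0 TS Om)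
open RG (WR RR Ov InO)
open RI (CS)
open RTwoM (WM Mem InZ CX RZ As TI Swp qq TT ANt ANT)

variable {G : Type*} [Group G] {Ω : Set (Subgroup G)} {S : Subgroup G} {K L M : Subgroup G} {e s t u v w x y z g k : G}

section

variable [Finite G]

theorem ce_iff (h : WM Ω) : Ce t (RR Ω x) ↔ t ∈ CX Ω x := by
  rw [RTwoM.mem_CX]
  constructor
  · intro h1 K hK k hk
    exact h1 k (WR.le_RR hK hk)
  · intro h1 k hk
    rw [RTwoM.RR_eq] at hk
    exact RTwoM.CX_comm hk (RTwoM.mem_CX.2 h1)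

/-- **the J-ARGUMENT** -/
theorem jarg (h : WM Ω) : JArg (RG.ZZ Ω) (RR Ω) := by
  intro x hx A hcomm hsq hxA hAx hnor hthree
  by_cases h0 : ∃ t ∈ A, t ≠ 1 ∧ Ce t (RR Ω x)
  · exact Or.inl h0
  right
  push Not at h0
  have hxZ : InZ Ω x := hx
  have jf : RTwoM.JF Ω A A x :=
    { inZ := hxZ
      comm' := hcomm
      sq := hsq
      nin := hxA
      le := le_rfl
      tx := hAx
      nor := fun t ht ht1 r hr hc a ha => hnor t ht ht1 r (by rw [RTwoM.RR_eq]; exact hr) hc a ha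
      ff := fun t ht hc => by
        by_contra ht1
        exact h0 t ht ht1 ((ce_iff h).2 hc)
      three := hthree }
  obtain ⟨K, hK⟩ := hxZ
  obtain ⟨p, -, s, -, a, ha, hsw, -, -, haa, -, -, -, hJ, -⟩ := jf.main h hK
  refine ⟨_, hJ, ?_, ?_⟩
  · rw [RTwoM.RR_eq]
    exact mul_mem (RTwoM.z_mem_RZ hK.inZ h) (RTwoM.qq_mem hsw h hK ha)
  · intro h1
    have h2 : qq p a = x := by
      have h3 := eq_inv_of_mul_eq_one_right h1
      rwa [hK.inZ.inv h] at h3
    have h3 := (hsw.as_qq h hK ha).1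
    rw [h2] at h3
    exact hK.not_as_one h h3 haa (hK.as_z h)

/-- the elements `k k^x`, `k ∈ K_u`, if `(u, u^x)` is a C-pair -/
theorem sw_comm (h : WM Ω) (hx : x * x = 1) (hc : Cm (RR Ω u) (RR Ω (x * u * x⁻¹))) (hk : k ∈ RR Ω u) :
    k * (x * k * x⁻¹) * x = x * (k * (x * k * x⁻¹)) := by
  have h1 := hc k hk (x * k * x⁻¹) (by
    have h2 := h.wr.RR_cj (z := u) hk x
    exact h2)
  have hx' : x⁻¹ = x := inv_eq_of_mul_eq_one_right hx
  rw [h1]
  calc x * k * x⁻¹ * k * x = x * k * x⁻¹ * k * x⁻¹ := by rw [hx']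
    _ = x * (k * x⁻¹ * k * x⁻¹) := by group
    _ = x * (k * x * k * x⁻¹) := by rw [hx']
    _ = x * (k * (x * k * x⁻¹)) := by group
    _ = x * (x * k * x⁻¹ * k) := by rw [h1]

theorem sw_mul (h : WM Ω) (hc : Cm (RR Ω u) (RR Ω (x * u * x⁻¹))) (hk : k ∈ RR Ω u) (hg : g ∈ RR Ω u) :
    k * g * (x * (k * g) * x⁻¹) = (k * (x * k * x⁻¹)) * (g * (x * g * x⁻¹)) := by
  have h1 := hc g hg (x * k * x⁻¹) (h.wr.RR_cj (z := u) hk x)
  calc k * g * (x * (k * g) * x⁻¹) = k * (g * (x * k * x⁻¹)) * (x * g * x⁻¹) := by group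
    _ = k * ((x * k * x⁻¹) * g) * (x * g * x⁻¹) := by rw [h1]
    _ = _ := by group

/-- `u u^x` acts on the members over `x` as an inner automorphism -/
theorem sw_inn (h : WM Ω) (hx : InZ Ω x) (hu : InZ Ω u) (hc : Cm (RR Ω u) (RR Ω (x * u * x⁻¹))) (hL : Mem Ω x L) :
    RG.Inn (u * (x * u * x⁻¹)) L := by
  obtain ⟨K, q, hK, hq⟩ := hu.exists_q3 h
  have hxx := hx.z2 h
  have huu := hu.z2 h
  have hKR : ∀ {k}, k ∈ K → k ∈ RR Ω u := fun hk => WR.le_RR (z := u) hK hk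
  have huR : u ∈ RR Ω u := hKR (hK.zmem h)
  -- `e² = 1`
  have hee : (u * (x * u * x⁻¹)) * (u * (x * u * x⁻¹)) = 1 := by
    rw [← sw_mul h hc huR huR, huu, mul_one, mul_inv_cancel, one_mul]
  -- `d_k² = e`
  have hdd : ∀ i, (q i * (x * q i * x⁻¹)) * (q i * (x * q i * x⁻¹)) = u * (x * u * x⁻¹) := fun i => by
    rw [← sw_mul h hc (hKR (hq.mem i)) (hKR (hq.mem i)), hq.sq i]
  -- one of the `d_i` fixes `L`
  have hfix : ∃ i, cj (q i * (x * q i * x⁻¹)) L = L := by
    by_contra hcon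
    push Not at hcon
    obtain ⟨L', hL', hne, hall⟩ := hL.other h
    have hd : ∀ i, cj (q i * (x * q i * x⁻¹)) L = L' ∧ cj (q i * (x * q i * x⁻¹)) L' = L := fun i => by
      rcases RTwoM.cj_cases h hL hL' hne (sw_comm h hxx hc (hKR (hq.mem i))) with h1 | h1
      · exact absurd h1.1 (hcon i)
      · exact h1
    apply hcon 2
    have h1 : q 2 * (x * q 2 * x⁻¹) = (q 0 * (x * q 0 * x⁻¹)) * (q 1 * (x * q 1 * x⁻¹)) := by
      have h2 : q 0 * q 1 = q 2 := hq.mul 0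
      rw [← sw_mul h hc (hKR (hq.mem 0)) (hKR (hq.mem 1)), h2]
    rw [h1, cj_mul, (hd 1).1, (hd 0).2]
  obtain ⟨i, hi⟩ := hfix
  have h1 := h.wr.inn_sq hL.1 hi (by rw [hdd i]; exact hee)
  rwa [hdd i] at h1

/-- **the swap lemma** -/
theorem swapI (h : WM Ω) : SwapI (RG.ZZ Ω) (RR Ω) := by
  intro x hx u hu hc
  have hxZ : InZ Ω x := hx
  have huZ : InZ Ω u := hu
  obtain ⟨L, hL⟩ := id hxZ
  have hxx := hxZ.z2 h
  have huu := huZ.z2 h
  have hxi : x⁻¹ = x := hxZ.inv h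
  have hui : u⁻¹ = u := huZ.inv h
  have huR : u ∈ RR Ω u := h.wr.RR_mem hu
  have hvR : x * u * x⁻¹ ∈ RR Ω (x * u * x⁻¹) := h.wr.RR_mem (h.wr.zz_cj hu x)
  have huv : u * (x * u * x⁻¹) = (x * u * x⁻¹) * u := hc u huR _ hvR
  obtain ⟨e, he⟩ : ∃ e, e = u * (x * u * x⁻¹) := ⟨_, rfl⟩
  have hne : u ≠ x * u * x⁻¹ := by
    intro h1
    rw [← h1] at hc
    obtain ⟨K, q, hK, hq⟩ := huZ.exists_q3 h
    have h2 := hc _ (WR.le_RR (z := u) hK (hq.mem 0)) _ (WR.le_RR (z := u) hK (hq.mem 1))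
    have h3 := hq.anti (i := 0) (j := 1) (by decide)
    rw [h2, mul_assoc] at h3
    exact hq.zne _ h3.symm
  have hex : e * x = x * e := by rw [he]; exact sw_comm h hxx hc huR
  -- `x e = u x u⁻¹`
  have hxe : x * e = u * x * u⁻¹ := by
    rw [he, huv, hui]
    calc x * (x * u * x⁻¹ * u) = (x * x) * u * x⁻¹ * u := by group
      _ = u * x * u := by rw [hxx, hxi, one_mul]
  have hxeZ : InZ Ω (x * e) := by rw [hxe]; exact hxZ.conj h u
  have hinn : ∀ k ∈ L, (x * e) * k * (x * e)⁻¹ = k ∨ (x * e) * k * (x * e)⁻¹ = x * k := by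
    intro k hk
    obtain ⟨y, hy, h1⟩ := sw_inn h hxZ huZ hc hL
    rw [← he] at h1
    have h2 : (x * e) * k * (x * e)⁻¹ = e * k * e⁻¹ := by
      have h3 : e * k * e⁻¹ ∈ L := by rw [h1 k hk]; exact mul_mem (mul_mem hy hk) (inv_mem hy)
      calc (x * e) * k * (x * e)⁻¹ = x * (e * k * e⁻¹) * x⁻¹ := by group
        _ = (e * k * e⁻¹) * x * x⁻¹ := by rw [hL.comm_z h h3]
        _ = _ := by group
    rw [h2, h1 k hk]
    exact hL.comm_or h hk hy
  have he1 : e ≠ 1 := by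
    intro h1
    apply hne
    rw [he] at h1
    have h2 := eq_inv_of_mul_eq_one_right h1
    rw [hui] at h2
    exact h2.symm
  rw [← he]
  rcases RTwoM.inn_cases h hL hxeZ hinn with h1 | h1 | h1
  · exact absurd (mul_eq_left.1 h1.symm) he1
  · left
    intro k hk
    rw [RTwoM.RR_eq] at hk
    have h2 := RTwoM.CX_comm hk (RTwoM.cp_cx h hxeZ h1)
    have h3 := RTwoM.RZ_le_centralizer h hk
    calc e * k = x * (x * e * k) := by
          calc e * k = (x * x) * e * k := by rw [hxx, one_mul]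
            _ = _ := by group
      _ = x * (k * (x * e)) := by rw [h2]
      _ = (x * k) * (x * e) := by group
      _ = (k * x) * (x * e) := by rw [h3]
      _ = k * ((x * x) * e) := by group
      _ = k * e := by rw [hxx, one_mul]
  · right
    have h2 := h1.inZ_mul h
    rw [← mul_assoc, hxx, one_mul] at h2
    exact h2

/-- the points of `S` -/
theorem omZ_eq (h : WM Ω) (S : Sylow 2 G) : OmZ (RG.ZZ Ω) (RR Ω) (S : Subgroup G) = CS Ω (S : Subgroup G) := by
  ext z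
  constructor
  · rintro ⟨⟨K, hK, hz⟩, hle⟩
    exact ⟨K, ⟨hK, hz⟩, (WR.le_RR (z := z) ⟨hK, hz⟩).trans hle⟩
  · intro hz
    refine ⟨RTwoM.CS.inZ hz, ?_⟩
    have h1 := RTwoM.CS.RZ_le hz h
    intro x hx
    rw [RTwoM.RR_eq] at hx
    exact h1 hx

theorem ts_eq (h : WM Ω) (S : Sylow 2 G) : TS (RG.ZZ Ω) (RR Ω) (S : Subgroup G) = TT Ω (S : Subgroup G) := by
  rw [TS, omZ_eq h S]
  rfl

/-- a member centralised by `s ∈ T_S`: `s` centralises all members over its involution -/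
theorem cent_all (h : WM Ω) (S : Sylow 2 G) (hs : s ∈ TT Ω (S : Subgroup G)) (hK : Mem Ω z K)
    (hc : ∀ k ∈ K, s * k = k * s) : s ∈ CX Ω z := by
  haveI : Fact (Nat.Prime 2) := ⟨Nat.prime_two⟩
  -- the product of the members of `S`
  obtain ⟨D, hDS, hD2, hKD, hD⟩ := (XW.of_gw (CompR.GW.of_wr h.wr h.hyp)).exists_D (isSyl_top_of_sylow S)
  have hsD : Ce s D := hD s fun u hu => by
    rw [ce_iff h]
    rw [omZ_eq h S] at hu
    exact RTwoM.TT_cx h S.isPGroup' hu hs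
  have hDs : D ≤ centralizer {s} := fun d hd => mem_centralizer_singleton_iff.2 (hsD d hd).symm
  obtain ⟨P, hP, hDP⟩ := exists_isSyl hD2 hDs
  have hKs : K ≤ centralizer {s} := fun k hk => mem_centralizer_singleton_iff.2 (hc k hk).symm
  obtain ⟨c, hc1, hc2⟩ := hP.exists_conj (h.isPGroup hK.1) hKs
  have hcs : c * s = s * c := mem_centralizer_singleton_iff.1 hc1
  have hKc := hK.cj h c
  have hle : cj c K ≤ P := by
    rintro _ ⟨k, hk, rfl⟩
    exact hc2 k hk
  -- `K^c ≤ S`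
  have h1 : cj c K ≤ (S : Subgroup G) := by
    refine RTwoM.le_of_clique h S hKc.1 fun L hL hLS hne a ha b hb => ?_
    have hLD : L ≤ D := by
      have h2 : zz L ∈ OmZ (RG.ZZ Ω) (RR Ω) (S : Subgroup G) := by
        rw [omZ_eq h S]
        exact ⟨L, ⟨hL, rfl⟩, hLS⟩
      exact (WR.le_RR (z := zz L) ⟨hL, rfl⟩).trans (hKD _ h2)
    exact RTwoM.com h hP.two hKc.1 hL hle (hLD.trans hDP) hne.symm a ha b hb
  have h2 : c * z * c⁻¹ ∈ CS Ω (S : Subgroup G) := ⟨cj c K, hKc, h1⟩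
  have h3 := RTwoM.TT_cx h S.isPGroup' h2 hs
  have h4 := (RTwoM.CX_conj h c (x := s) (z := z)).1 (by rwa [hcs, mul_inv_cancel_right])
  exact h4

/-- **`AN(s)` for all `s ∈ T_S`, `s ≠ 1`, `m ≥ 3`** -/
theorem ant_of (h : WM Ω)
    (nil : ∀ z ∈ RG.ZZ Ω, ∀ u ∈ RG.ZZ Ω, ROne.CP (RR Ω) z u → u ∈ oP 2 (centralizer {z}))
    (tp : CompR.TP (RG.ZZ Ω) (RR Ω)) (ncl : ∀ S : Sylow 2 G, NoCl (RG.ZZ Ω) (S : Subgroup G))
    (three : ∀ S : Sylow 2 G, 3 ≤ (CS Ω (S : Subgroup G)).ncard) : ANT Ω := by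
  have gw := CompR.GW.of_wr h.wr h.hyp
  have n : NW (RG.ZZ Ω) (RR Ω) :=
    { gw := gw
      nil := fun z hz u hu hc => nil z hz u hu ((CompR.cp_iff gw hz).2 hc) }
  intro S s hs hs1 K hK hc
  have hsz : Ce s (RR Ω (zz K)) := (ce_iff h).2 (cent_all h S hs ⟨hK, rfl⟩ hc)
  have h1 : zz K ∈ oP 2 (centralizer {s}) := by
    refine an n h.wr (isSyl_top_of_sylow S) (jarg h) (swapI h) ?_ (fun t ht ht1 => tp S t ?_ ht1) (ncl S) ?_ hs1
      ⟨K, hK, rfl⟩ hsz
    · rw [omZ_eq h S]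
      obtain ⟨a, ha, b, hb, c, hc, hab, hac, hbc⟩ := (Set.two_lt_ncard (Set.toFinite _)).1 (three S)
      exact ⟨a, ha, b, hb, c, hc, hab, hac, hbc⟩
    · exact ht
    · rwa [ts_eq h S]
  exact ⟨oP 2 (centralizer {s}), oP_le 2 _, le_normalizer_oP 2 _, isPGroup_oP 2 _, h1⟩

end

end Cfsg.Agent.Cit.Nil.ANTwo
end

private theorem dce_bcc46080d474 : _root_.True := by
  try have : _root_.True := by simp only [_root_.Cfsg.Agent.Cit.Nil.AN.TS.eq_1]
  exact _root_.True.intro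
end

-- part: Cit/Nil/RTwoM/L1/TwinA
section
set_option linter.all false
open scoped Cfsg.Agent.FastGrp

/-!
# S1309, (6b), `r = 2`: twins, (5.1) - (5.5) of helper545's text with (R+) (helper599, helper762)

* `RR Om z u` : (R+)(z,u): the elements of `C(R_z) ∩ C(u)` act on `R_u` as inner automorphisms (`Inn Om u g`);
* `ClS Om` : CLAIM S;
* `no_swap`, `comm_of_RR` (5.1); `CP_of_RR`, `cl_eq_of_RR` (5.2); `tw_of_RR` (5.3); `CS_of_tw` : `[z] ≤ C_S`;
* `RR_of_swap`, `tw_of_swap` (5.5).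
-/

set_option autoImplicit false
set_option linter.style.haveILetI false
set_option linter.unusedSectionVars false

namespace Cfsg.Agent.Cit.Nil.RTwoM.L1

open Subgroup Cfsg Cfsg.Agent.Cit
open ROne (CSw Cen NC cl Tw wt self_mem_NC conj_mem_NC OneCls CS TT)

variable {G : Type*} [Group G] {Om : Set (Subgroup G)} {K L M : Subgroup G} {z t u v g x y s n k a b : G}

/-- (R+)(z,u) -/
def RR (Om : Set (Subgroup G)) (z u : G) : Prop := ∀ g, g ∈ CX Om z → g * u = u * g → Inn Om u g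

/-- CLAIM S -/
def ClS (Om : Set (Subgroup G)) : Prop := ∀ u v M N, Mem Om u M → Mem Om v N → CSw (RZ Om) u v →
  ∀ f : ↥(M ⊔ N) →* ℤˣ, ∀ (x : G) (hx : x ∈ M), f ⟨x, mem_sup_left hx⟩ = 1

section

variable [Finite G]

theorem le_CX_of_cp (hc : ROne.CP (RZ Om) z u) (hM : Mem Om u M) : M ≤ CX Om z := by
  intro k hk
  rw [mem_CX]
  intro K hK a ha
  exact (hc.2 a (hK.le_RZ ha) k (hM.le_RZ hk)).symm

/-- **(5.1)** -/
theorem no_swap (h : WM Om) (cS : ClS Om) (hzu : ROne.CP (RZ Om) z u) (R : RR Om z u) (hu : u ∈ Zs Om)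
    (hv : v ∈ Zs Om) (hzv : ROne.CP (RZ Om) z v) (hs : CSw (RZ Om) u v) : False := by
  obtain ⟨M, hM⟩ : InZ Om u := hu
  obtain ⟨N, hN⟩ : InZ Om v := hv
  obtain ⟨q, hq⟩ := h.exists_q3 hM
  have hy : q 0 ∈ M := hq.mem 0
  have hyy : q 0 * q 0 = u := hq.sq 0
  have huu : u * u = 1 := hM.inZ.z2 h
  have hu1 : u ≠ 1 := hM.inZ.z1 h
  have hy4 : orderOf (q 0) = 4 := by
    have h1 : ¬ q 0 ^ 2 ^ 1 = 1 := by rw [pow_one, pow_two, hyy]; exact hu1
    have h2 : q 0 ^ 2 ^ (1 + 1) = 1 := by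
      have : q 0 ^ 2 ^ (1 + 1) = (q 0 * q 0) * (q 0 * q 0) := by
        rw [show (2 : ℕ) ^ (1 + 1) = 2 + 2 from rfl, pow_add, pow_two]
      rw [this, hyy, huu]
    exact orderOf_eq_prime_pow h1 h2
  obtain ⟨f, hf⟩ := Cit.ROne.tau_in h.hyp hM.1 (h.card M hM.1) (le_CX_of_cp hzu hM) hy hy4 (by
    intro g hgD hgN
    have hgu : g * u = u * g := hM.of_cj h (mem_normalizer_iff_cj.1 hgN)
    have h1 := R g hgD hgu M hM (q 0) hy
    rw [mem_normalizer_iff_cj, cj_def, MonoidHom.map_zpowers]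
    have e : (MulAut.conj g).toMonoidHom (q 0) = g * q 0 * g⁻¹ := rfl
    rw [e]
    rcases h1 with h1 | h1
    · rw [h1]
    · rw [h1, ← hM.inv_eq h hy hyy, zpowers_inv])
  have hle : M ⊔ N ≤ CX Om z := sup_le (le_CX_of_cp hzu hM) (le_CX_of_cp hzv hN)
  have h1 := cS u v M N hM hN hs (f.comp (Subgroup.inclusion hle))
  have h2 : M ≤ zpowers (q 0) := by
    intro x hx
    rw [← hf x hx]
    exact h1 x hx
  have h3 := Subgroup.card_le_of_le h2
  rw [h.card M hM.1, Nat.card_zpowers, hy4] at h3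
  omega

/-- **(5.1)** : the C-partners of `z` commute with `u` -/
theorem comm_of_RR (h : WM Om) (cS : ClS Om) (an : ANs Om z) (hz : z ∈ Zs Om) (hu : u ∈ Zs Om)
    (hzu : ROne.CP (RZ Om) z u) (R : RR Om z u) (hx : x ∈ Zs Om) (hzx : ROne.CP (RZ Om) z x) : x * u = u * x := by
  have c : S2 Om z u := ⟨h, an, hu, h.wg.cen_of_cp hz hzu.symm⟩
  have hx' : x ∈ ZS Om z := ⟨hx, h.wg.cen_of_cp hz hzx.symm⟩
  by_contra hne
  have hxN := c.mem_of_ne hx' self_mem_NC hne
  have hnc : ¬ ∀ a ∈ NC z u, ∀ b ∈ NC z u, a * b = b * a := fun h1 => hne (h1 x hxN u self_mem_NC)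
  obtain ⟨g, hg, hgy⟩ := c.exists_nc hnc
  have hx'Z : g * u * g⁻¹ ∈ Zs Om := h.wg.conjZ u hu g
  have hcs : CSw (RZ Om) u (g * u * g⁻¹) := c.csw (conj_mem_NC hg) (by rwa [Ne, mul_inv_eq_iff_eq_mul])
  have hzx' : ROne.CP (RZ Om) z (g * u * g⁻¹) := by
    have := h.wg.cp_conj hz hu hzu g
    rwa [hg, mul_inv_cancel_right] at this
  exact no_swap h cS hzu R hu hx'Z hzx' hcs

/-- an element of `L`, over the type I partner `x` of `u`, which commutes with `u` and is not inner on `R_u` -/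
theorem _root_.Cfsg.Agent.Cit.Nil.RTwoM.TI.exists_out (hti : TI Om u x) (h : WM Om) (hL : Mem Om x L) :
    ∃ b ∈ L, b * u = u * b ∧ ¬ Inn Om u b := by
  obtain ⟨M, hM⟩ := hti.inZ
  obtain ⟨y, hy, hyy⟩ := hti.exists_as h hM
  obtain ⟨b, hb, hbb⟩ := (hti.symm h).exists_as h hL
  refine ⟨b, hb.1, hb.comm.symm, fun hI => ?_⟩
  obtain ⟨v, hv, hvv, hyv⟩ := hM.exists_nc h hy.1 hyy
  have huu : u * u = 1 := hM.inZ.z2 h
  have hu1 : u ≠ 1 := hM.inZ.z1 h
  have y1 : y ≠ 1 := by rintro rfl; rw [one_mul] at hyy; exact hu1 hyy.symm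
  have yu : y ≠ u := by rintro rfl; rw [huu] at hyy; exact hu1 hyy.symm
  rcases ((hti.symm h).rot h hL hM hb hy).2.2 v hv hvv hyv with h1 | h1 <;> rcases hI M hM v hv with h2 | h2 <;>
    rw [h1] at h2
  · exact y1 (mul_eq_right.1 h2)
  · exact yu (mul_right_cancel h2)
  · rw [← mul_assoc] at h2
    have h3 := mul_eq_right.1 h2
    apply yu
    calc y = u * (u * y) := by rw [← mul_assoc, huu, one_mul]
      _ = u := by rw [h3, mul_one]
  · exact y1 (mul_eq_right.1 (mul_left_cancel h2))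

/-- **(5.2)** -/
theorem CP_of_RR (h : WM Om) (cS : ClS Om) (an : ANs Om z) (hz : z ∈ Zs Om) (hu : u ∈ Zs Om)
    (hzu : ROne.CP (RZ Om) z u) (R : RR Om z u) (hx : x ∈ Zs Om) (hzx : ROne.CP (RZ Om) z x) (hxu : x ≠ u) :
    ROne.CP (RZ Om) u x := by
  have hc := comm_of_RR h cS an hz hu hzu R hx hzx
  have hxD : x ∈ CX Om z := cen_iff'.1 (h.wg.cen_of_cp hx hzx)
  rcases Inn.cases (R x hxD hc) h hu hx with h1 | h1 | h1
  · exact absurd h1.symm hxu
  · exact (cp_iff h hu hx).2 h1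
  · exfalso
    obtain ⟨L, hL⟩ : InZ Om x := hx
    obtain ⟨b, hb, hbu, hbn⟩ := h1.exists_out h hL
    exact hbn (R b (le_CX_of_cp hzx hL hb) hbu)

/-- **(5.2)** : `(R+)(z,u)` implies `c[z] = c[u]` -/
theorem cl_eq_of_RR (h : WM Om) (cS : ClS Om) (hone : OneCls (Zs Om)) (an : ANs Om z) (hz : z ∈ Zs Om)
    (hu : u ∈ Zs Om) (hzu : ROne.CP (RZ Om) z u) (R : RR Om z u) : cl (Zs Om) (RZ Om) z = cl (Zs Om) (RZ Om) u := by
  have h1 : cl (Zs Om) (RZ Om) z ⊆ cl (Zs Om) (RZ Om) u := by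
    rintro x ⟨hx, h1 | h1⟩
    · refine ⟨hx, Or.inr ?_⟩
      rw [h1]; exact hzu.symm
    · by_cases h2 : x = u
      · exact ⟨hx, Or.inl h2⟩
      · exact ⟨hx, Or.inr (CP_of_RR h cS an hz hu hzu R hx h1 h2)⟩
  refine Set.eq_of_subset_of_ncard_le h1 ?_ (Set.toFinite _)
  obtain ⟨g, hg⟩ := hone z hz u hu
  have h2 : cl (Zs Om) (RZ Om) u = (fun x => g * x * g⁻¹) '' cl (Zs Om) (RZ Om) z := by
    rw [← hg]
    ext y
    constructor
    · intro hy
      refine ⟨g⁻¹ * y * g, ?_, by group⟩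
      rw [← h.wg.mem_cl_conj hz g]
      have e : g * (g⁻¹ * y * g) * g⁻¹ = y := by group
      rw [e]; exact hy
    · rintro ⟨x, hx, rfl⟩
      exact (h.wg.mem_cl_conj hz g).2 hx
  rw [h2]
  exact Set.ncard_image_le (Set.toFinite _)

/-- **(5.3)** : `(R+)(z,u)` implies `u ∈ [z]` -/
theorem tw_of_RR (h : WM Om) (cS : ClS Om) (hone : OneCls (Zs Om)) (an : ANs Om z) (hz : z ∈ Zs Om)
    (hu : u ∈ Zs Om) (hzu : ROne.CP (RZ Om) z u) (R : RR Om z u) : Tw (Zs Om) (RZ Om) z u :=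
  ⟨hu, cl_eq_of_RR h cS hone an hz hu hzu R⟩

/-- AN(w) for a C-swap -/
theorem an_wt (h : WM Om) (ha : ANT Om) (hu : u ∈ Zs Om) (hv : v ∈ Zs Om) (hs : CSw (RZ Om) u v) :
    ANs Om (wt u v) := by
  obtain ⟨S, -, -, h1⟩ := h.ws.wt_mem_TT hu hv hs
  exact an_of_tt h ha S h1 (h.wg.wt_ne hu hv hs)

theorem an_z (h : WM Om) (ha : ANT Om) (hz : z ∈ Zs Om) : ANs Om z := by
  obtain ⟨S, hS⟩ := h.wg.exists_sylow hz
  exact an_of_tt h ha S (subset_closure hS) (h.wg.ne z hz)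

/-- the context of section 2 for a C-swap -/
theorem s2_of_swap (h : WM Om) (an : ANs Om (wt u v)) (hu : u ∈ Zs Om) (hv : v ∈ Zs Om) (hs : CSw (RZ Om) u v) :
    S2 Om (wt u v) u ∧ v ∈ NC (wt u v) u ∧ ¬ ∀ a ∈ NC (wt u v) u, ∀ b ∈ NC (wt u v) u, a * b = b * a := by
  have c : S2 Om (wt u v) u := ⟨h, an, hu, h.ws.wt_cen_u hu hv hs⟩
  have hne : v * u ≠ u * v := (h.ws.csw_not_comm hu hv hs).symm
  have hvN : v ∈ NC (wt u v) u := c.mem_of_ne ⟨hv, h.ws.wt_cen_v hu hv hs⟩ self_mem_NC hne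
  exact ⟨c, hvN, fun h1 => hne (h1 v hvN u self_mem_NC)⟩

/-- **(5.5)** -/
theorem RR_of_swap (h : WM Om) (an : ANs Om (wt u v)) (hu : u ∈ Zs Om) (hv : v ∈ Zs Om) (hs : CSw (RZ Om) u v) :
    RR Om u (v * u * v⁻¹) := by
  obtain ⟨c, hvN, hnc⟩ := s2_of_swap h an hu hv hs
  have hu' := h.wg.conjZ u hu v
  have hwu : wt u v * u = u * wt u v := h.wg.wt_comm_u hu hv hs
  have hwv : wt u v * v = v * wt u v := h.wg.wt_comm_v hu hv hs
  have hwu' : Cen (RZ Om) (wt u v) (v * u * v⁻¹) := h.ws.wt_cen_u' hu hv hs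
  intro g hg hgu'
  have hgu : g * u = u * g := CX_comm (h.wg.mem u hu) hg
  have hgw : g * wt u v = wt u v * g := by
    unfold wt
    rw [← mul_assoc, hgu, mul_assoc, hgu', ← mul_assoc]
  -- `g` acts on `R_u'` as `n`
  obtain ⟨n, hn⟩ : ∃ n, n = g * v * g⁻¹ * v⁻¹ := ⟨_, rfl⟩
  have hnN : n ∈ NC (wt u v) u := by
    rw [hn]
    exact mul_mem (ROne.mem_NC_conj hgw hvN) (inv_mem hvN)
  have hact : ∀ M, Mem Om (v * u * v⁻¹) M → ∀ x ∈ M, g * x * g⁻¹ = n * x * n⁻¹ := by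
    intro M hM x hx
    have h1 : g * (v⁻¹ * x * v) = (v⁻¹ * x * v) * g := by
      refine CX_comm ?_ hg
      have h2 := (hM.cj h v⁻¹).le_RZ (conj_mem_cj (g := v⁻¹) hx)
      rwa [inv_inv, show v⁻¹ * (v * u * v⁻¹) * v = u by group] at h2
    have h2 : g * (v⁻¹ * x * v) * g⁻¹ = v⁻¹ * x * v := by rw [h1, mul_inv_cancel_right]
    symm
    calc n * x * n⁻¹ = g * v * g⁻¹ * (v⁻¹ * x * v) * (g * v * g⁻¹)⁻¹ := by rw [hn]; group
      _ = g * v * g⁻¹ * (g * (v⁻¹ * x * v) * g⁻¹) * (g * v * g⁻¹)⁻¹ := by rw [h2]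
      _ = g * x * g⁻¹ := by group
  have hnu' : n * (v * u * v⁻¹) = v * u * v⁻¹ * n := by
    obtain ⟨M, hM⟩ : InZ Om (v * u * v⁻¹) := hu'
    have h1 := hact M hM _ (hM.zmem h)
    rw [hgu', mul_inv_cancel_right] at h1
    exact (eq_mul_inv_iff_mul_eq.1 h1).symm
  intro M hM k hk
  rw [hact M hM k hk]
  exact c.inn hnc ⟨hu', hwu'⟩ hnN hnu' M hM k hk

/-- **(5.5)** : `u' = v u v⁻¹ ∈ [u]` for a C-swap `(u, v)` -/
theorem tw_of_swap (h : WM Om) (cS : ClS Om) (hone : OneCls (Zs Om)) (ha : ANT Om) (hu : u ∈ Zs Om)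
    (hv : v ∈ Zs Om) (hs : CSw (RZ Om) u v) : Tw (Zs Om) (RZ Om) u (v * u * v⁻¹) :=
  tw_of_RR h cS hone (an_z h ha hu) hu (h.wg.conjZ u hu v) hs (RR_of_swap h (an_wt h ha hu hv hs) hu hv hs)

end

end Cfsg.Agent.Cit.Nil.RTwoM.L1
end

-- part: Cit/Nil/RTwoM/L1/TwinB
section
set_option linter.all false
open scoped Cfsg.Agent.FastGrp

/-!
# S1309, (6b), `r = 2`: (5.6), (5.7), (5.8) of helper545's text, the involutions `t_u`

`TC Om` : `WM Om`, AN, one class, CLAIM S. `ROne.tt (Zs Om) (RZ Om) u` is the common value of the `w(u, v)`.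

* `TC.move` (5.6): `(u, v)` a C-swap, `y ∈ [u]`: `(y, v)` is a C-swap, `w(y, v) = w(u, v)`, `v y v⁻¹ = y w(u, v)`;
* `TC.wt_eq` (5.7): `w(u, v)` depends on `u` only;
* `TC.tt_conj`, `tt_comm`, `tt_tw`, `tt_swap`, `tt_cen`, `tt_cen_of`, `tt_ne`, `tt_sq`, `tt_prod`;
* `TC.tt_not_mem` (5.8): `t_u ∉ Z`.
-/

set_option autoImplicit false
set_option linter.style.haveILetI false
set_option linter.unusedSectionVars false

namespace Cfsg.Agent.Cit.Nil.RTwoM.L1

open Subgroup Cfsg Cfsg.Agent.Cit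
open ROne (CSw Cen NC cl Tw wt self_mem_NC conj_mem_NC OneCls CS TT tt tt_of_not)

variable {G : Type*} [Group G] {Om : Set (Subgroup G)} {K L M : Subgroup G} {z t u v g x y s n k a b : G}

/-- the context of section 5 -/
structure TC (Om : Set (Subgroup G)) : Prop where
  w : WM Om
  an : ANT Om
  one : OneCls (Zs Om)
  cS : ClS Om

section

variable [Finite G]

theorem csw_ne_conj (hs : CSw (RZ Om) u v) : v * u * v⁻¹ ≠ u := fun h1 => hs.1 h1.symm

/-- `v u v⁻¹ = u w(u, v)` -/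
theorem conj_eq (h : WM Om) (hu : u ∈ Zs Om) : v * u * v⁻¹ = u * wt u v := by
  unfold wt
  rw [← mul_assoc, h.wg.sq u hu, one_mul]

/-- `g` commutes with `z` if it centralises `R_z` -/
theorem cen_comm (h : WM Om) (hz : z ∈ Zs Om) (hc : Cen (RZ Om) g z) : g * z = z * g := hc z (h.wg.mem z hz)

theorem cen_self (h : WM Om) (hu : u ∈ Zs Om) : Cen (RZ Om) u u := fun _ hk => (h.wg.cent hu hk).symm

/-- `R_y` commutes with the twins of `y` -/
theorem tw_cen (h : WM Om) (hz : z ∈ Zs Om) (hu : Tw (Zs Om) (RZ Om) z u) (hy : Tw (Zs Om) (RZ Om) z y) :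
    Cen (RZ Om) u y := by
  by_cases h1 : y = u
  · rw [h1]; exact cen_self h hu.1
  · exact h.wg.cen_of_cp hu.1 (Tw.cp hy.1 ((hy.symm hz).trans hu) h1)

namespace TC

variable (c : TC Om)

include c

theorem twin (hu : u ∈ Zs Om) (hv : v ∈ Zs Om) (hs : CSw (RZ Om) u v) : Tw (Zs Om) (RZ Om) u (v * u * v⁻¹) :=
  tw_of_swap c.w c.cS c.one c.an hu hv hs

theorem symm (hu : u ∈ Zs Om) (hv : v ∈ Zs Om) (hs : CSw (RZ Om) u v) : CSw (RZ Om) v u := c.w.ws.csw_symm hu hv hs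

theorem wt_symm (hu : u ∈ Zs Om) (hv : v ∈ Zs Om) (hs : CSw (RZ Om) u v) : wt v u = wt u v :=
  c.w.ws.wt_symm hu hv hs

theorem anw (hu : u ∈ Zs Om) (hv : v ∈ Zs Om) (hs : CSw (RZ Om) u v) : ANs Om (wt u v) := an_wt c.w c.an hu hv hs

theorem s2 (hu : u ∈ Zs Om) (hv : v ∈ Zs Om) (hs : CSw (RZ Om) u v) : S2 Om (wt u v) u :=
  (s2_of_swap c.w (c.anw hu hv hs) hu hv hs).1

/-- `v ∈ ⟨u ^ C(w)⟩` -/
theorem right_mem (hu : u ∈ Zs Om) (hv : v ∈ Zs Om) (hs : CSw (RZ Om) u v) : v ∈ NC (wt u v) u :=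
  (s2_of_swap c.w (c.anw hu hv hs) hu hv hs).2.1

theorem ncab (hu : u ∈ Zs Om) (hv : v ∈ Zs Om) (hs : CSw (RZ Om) u v) :
    ¬ ∀ a ∈ NC (wt u v) u, ∀ b ∈ NC (wt u v) u, a * b = b * a := (s2_of_swap c.w (c.anw hu hv hs) hu hv hs).2.2

theorem mem_or (hu : u ∈ Zs Om) (hv : v ∈ Zs Om) (hs : CSw (RZ Om) u v) (hx : x ∈ Zs Om)
    (hc : Cen (RZ Om) (wt u v) x) : x ∈ NC (wt u v) u ∨ ∀ n ∈ NC (wt u v) u, Cen (RZ Om) n x :=
  c.w.nc_in_or (c.anw hu hv hs) (c.s2 hu hv hs).mem ⟨hx, hc⟩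

theorem act (hu : u ∈ Zs Om) (hv : v ∈ Zs Om) (hs : CSw (RZ Om) u v) (hn : n ∈ NC (wt u v) u) :
    n * u * n⁻¹ = u ∨ n * u * n⁻¹ = u * wt u v := by
  by_cases h1 : n * u * n⁻¹ = u
  · exact Or.inl h1
  right
  rw [c.w.nc_uniq (c.anw hu hv hs) (c.s2 hu hv hs).mem hn (c.right_mem hu hv hs) h1 (csw_ne_conj hs), conj_eq c.w hu]

theorem cent (hu : u ∈ Zs Om) (hv : v ∈ Zs Om) (hs : CSw (RZ Om) u v) (hn : n ∈ NC (wt u v) u)
    (hc : ∀ m ∈ NC (wt u v) u, n * m = m * n) : Cen (RZ Om) n u :=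
  c.w.nc_centre' (c.anw hu hv hs) (c.s2 hu hv hs).mem (c.ncab hu hv hs) hn hc

theorem inn (hu : u ∈ Zs Om) (hv : v ∈ Zs Om) (hs : CSw (RZ Om) u v) (hx : x ∈ Zs Om)
    (hc : Cen (RZ Om) (wt u v) x) (hn : n ∈ NC (wt u v) u) (hnx : n * x = x * n) : Inn Om x n :=
  (c.s2 hu hv hs).inn (c.ncab hu hv hs) ⟨hx, hc⟩ hn hnx

/-- (3.3) -/
theorem tri {p q v' : G} (hp : p ∈ Zs Om) (hq : q ∈ Zs Om) (hpq : CSw (RZ Om) p q) (hu : u ∈ Zs Om)
    (hv : v ∈ Zs Om) (hv' : v' ∈ Zs Om) (hs : CSw (RZ Om) u v) (hs' : CSw (RZ Om) u v')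
    (h1 : Cen (RZ Om) (wt p q) u) (h2 : Cen (RZ Om) (wt p q) v) (h3 : Cen (RZ Om) (wt p q) v') :
    wt u v = wt u v' :=
  S2.wt_unique ⟨c.w, c.anw hp hq hpq, hu, h1⟩ ⟨hv, h2⟩ ⟨hv', h3⟩ (c.w.ws.csw_not_comm hu hv hs).symm
    (c.w.ws.csw_not_comm hu hv' hs').symm

theorem wt_cen_left (hu : u ∈ Zs Om) (hv : v ∈ Zs Om) (hs : CSw (RZ Om) u v) : Cen (RZ Om) (wt u v) u :=
  c.w.ws.wt_cen_u hu hv hs

theorem wt_cen_right (hu : u ∈ Zs Om) (hv : v ∈ Zs Om) (hs : CSw (RZ Om) u v) : Cen (RZ Om) (wt u v) v :=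
  c.w.ws.wt_cen_v hu hv hs

/-- `⟨u ^ C(w)⟩ = ⟨v ^ C(w)⟩` -/
theorem NC_eq (hu : u ∈ Zs Om) (hv : v ∈ Zs Om) (hs : CSw (RZ Om) u v) : NC (wt u v) v = NC (wt u v) u := by
  apply le_antisymm
  · exact ROne.NC_le_NC (c.right_mem hu hv hs)
  · apply ROne.NC_le_NC
    have h1 := c.right_mem hv hu (c.symm hu hv hs)
    rwa [c.wt_symm hu hv hs] at h1

/-- (5.6), the inverse direction `v ∉ C(y)` -/
theorem move_ne (hu : u ∈ Zs Om) (hv : v ∈ Zs Om) (hs : CSw (RZ Om) u v) (hy : Tw (Zs Om) (RZ Om) u y) :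
    v * y * v⁻¹ ≠ y := by
  intro hvy
  have hvy' : v * y = y * v := mul_inv_eq_iff_eq_mul.1 hvy
  have hyZ := hy.1
  -- `v` does not commute with `u`
  have hnc : v * u ≠ u * v := by
    intro h1
    apply csw_ne_conj hs
    rw [h1, mul_inv_cancel_right]
  have hcl : ∀ x ∈ cl (Zs Om) (RZ Om) y, x * u = u * x := by
    intro x hx
    rw [← hy.2] at hx
    rcases hx.2 with h1 | h1
    · rw [h1]
    · exact (c.w.wg.comm_of_cp hu hx.1 h1).symm
  have hyv : y ≠ v := by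
    intro h1
    exact hnc (hcl v (by rw [h1]; exact ROne.self_mem_cl hv))
  have hncp : ¬ ROne.CP (RZ Om) y v := fun h1 => hnc (hcl v ⟨hv, Or.inr h1⟩)
  have hu' := c.twin hu hv hs
  have hwy : Cen (RZ Om) (wt u v) y := (tw_cen c.w hu (Tw.refl hu) hy).mul (tw_cen c.w hu hu' hy)
  -- `y ∈ N`
  have hyN : y ∈ NC (wt u v) u := by
    rcases c.mem_or hu hv hs hyZ hwy with h1 | h1
    · exact h1
    · exact absurd (c.w.wg.csymm hyZ hv hyv (h1 v (c.right_mem hu hv hs))) hncp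
  have hs' := c.symm hu hv hs
  -- `y` acts on `R_v` as an inner automorphism
  have hI : Inn Om v y := c.inn hu hv hs hv (c.wt_cen_right hu hv hs) hyN hvy'.symm
  rcases Inn.cases hI c.w hv hyZ with h1 | h1 | h1
  · exact hyv h1.symm
  · exact hncp ((cp_iff c.w hv hyZ).2 h1).symm
  obtain ⟨N, hN⟩ : InZ Om v := hv
  obtain ⟨l, hl, hll⟩ := h1.exists_as c.w hN
  have hlN : l ∈ N := hl.1
  have hly : l * y * l⁻¹ = y := by rw [← hl.comm, mul_inv_cancel_right]
  have hvZ : v ∈ Zs Om := ⟨N, hN⟩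
  -- `l u l⁻¹ ∈ c[y] = c[u]`
  have h2 : l * u * l⁻¹ ∈ cl (Zs Om) (RZ Om) y := by
    have h3 : u ∈ cl (Zs Om) (RZ Om) y := by rw [← hy.2]; exact ROne.self_mem_cl hu
    have h4 := (c.w.wg.mem_cl_conj (x := u) hyZ l).2 h3
    rwa [hly] at h4
  have h3 := hcl _ h2
  have huu := c.w.wg.sq u hu
  have hsq : (l * (u * l⁻¹ * u)) * (l * (u * l⁻¹ * u)) = 1 := by
    have h4 : l * (u * l⁻¹ * u) = (l * u * l⁻¹) * u := by group
    rw [h4]
    calc (l * u * l⁻¹) * u * ((l * u * l⁻¹) * u) = (l * u * l⁻¹) * u * (u * (l * u * l⁻¹)) := by rw [h3]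
      _ = (l * u * l⁻¹) * (u * u) * (l * u * l⁻¹) := by group
      _ = 1 := by rw [huu, mul_one, c.w.wg.sq _ (c.w.wg.conjZ u hu l)]
  -- `l` commutes with `u l⁻¹ u ∈ R (u v u⁻¹)`
  have hcomm : l * (u * l⁻¹ * u) = (u * l⁻¹ * u) * l := by
    have h4 : u * l⁻¹ * u ∈ RZ Om (u * v * u⁻¹) := by
      have h5 := (hN.cj c.w u).le_RZ (conj_mem_cj (g := u) (inv_mem hlN))
      rwa [show u * l⁻¹ * u⁻¹ = u * l⁻¹ * u by rw [c.w.wg.inv hu]] at h5
    exact hs'.2 l (hN.le_RZ hlN) _ h4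
  have hl2 : l⁻¹ * l⁻¹ = v := by
    have := congrArg (fun t => t⁻¹) hll
    simp only [mul_inv_rev] at this
    rw [this, c.w.wg.inv hvZ]
  have h5 : (l * (u * l⁻¹ * u)) * (l * (u * l⁻¹ * u)) = v * (u * v * u) := by
    calc (l * (u * l⁻¹ * u)) * (l * (u * l⁻¹ * u)) = l * ((u * l⁻¹ * u) * l) * (u * l⁻¹ * u) := by group
      _ = l * (l * (u * l⁻¹ * u)) * (u * l⁻¹ * u) := by rw [hcomm]
      _ = (l * l) * (u * (l⁻¹ * (u * u) * l⁻¹) * u) := by group
      _ = v * (u * v * u) := by rw [huu, mul_one, hl2, hll]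
  rw [h5] at hsq
  apply c.w.wg.wt_ne hvZ hu hs'
  unfold wt
  rw [c.w.wg.inv hu]
  exact hsq

/-- (5.6) : `(u, v)` a C-swap, `y ∈ [u]` -/
theorem move (hu : u ∈ Zs Om) (hv : v ∈ Zs Om) (hs : CSw (RZ Om) u v) (hy : Tw (Zs Om) (RZ Om) u y) :
    CSw (RZ Om) y v ∧ wt y v = wt u v ∧ v * y * v⁻¹ = y * wt u v := by
  have hne := c.move_ne hu hv hs hy
  have hu' := c.twin hu hv hs
  have h1 : Tw (Zs Om) (RZ Om) u (v * y * v⁻¹) := hu'.trans (c.w.wg.tw_conj hu hy v)
  have h2 : CSw (RZ Om) y v := Tw.cp hy.1 ((hy.symm hu).trans h1) hne.symm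
  have h3 : Cen (RZ Om) (wt u v) y := (tw_cen c.w hu (Tw.refl hu) hy).mul (tw_cen c.w hu hu' hy)
  have h4 : wt y v = wt u v := by
    rw [← c.wt_symm hy.1 hv h2, ← c.wt_symm hu hv hs]
    exact c.tri hu hv hs hv hy.1 hu (c.symm hy.1 hv h2) (c.symm hu hv hs)
      (c.wt_cen_right hu hv hs) h3 (c.wt_cen_left hu hv hs)
  exact ⟨h2, h4, by rw [conj_eq c.w hy.1, h4]⟩

/-- (5.7) -/
theorem wt_eq (hu : u ∈ Zs Om) (hv : v ∈ Zs Om) {v' : G} (hv' : v' ∈ Zs Om) (hs : CSw (RZ Om) u v)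
    (hs' : CSw (RZ Om) u v') : wt u v = wt u v' := by
  obtain ⟨u1, hu1⟩ : ∃ u1, u1 = v' * u * v'⁻¹ := ⟨_, rfl⟩
  have hu1T : Tw (Zs Om) (RZ Om) u u1 := by rw [hu1]; exact c.twin hu hv' hs'
  have hu1Z := hu1T.1
  obtain ⟨hs1, hw1, hm1⟩ := c.move hu hv hs hu1T
  -- `u1 ∈ N`
  have hN : ∀ {a : G}, a ∈ Zs Om → CSw (RZ Om) a v → wt a v = wt u v → a ∈ NC (wt u v) v := by
    intro a ha hsa hwa
    have h1 := c.right_mem hv ha (c.symm ha hv hsa)
    rwa [c.wt_symm ha hv hsa, hwa] at h1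
  have huN : u ∈ NC (wt u v) v := hN hu hs rfl
  have hu1N : u1 ∈ NC (wt u v) v := hN hu1Z hs1 hw1
  -- every conjugate `x` of `v` under `C(w)` commutes with `u * u1`
  have hx : ∀ g, g * wt u v = wt u v * g → (g * v * g⁻¹) * (u * u1) = (u * u1) * (g * v * g⁻¹) := by
    intro g hg
    obtain ⟨x, hxdef⟩ : ∃ x, x = g * v * g⁻¹ := ⟨_, rfl⟩
    rw [← hxdef]
    have hxZ : x ∈ Zs Om := hxdef ▸ c.w.wg.conjZ v hv g
    have hxN : x ∈ NC (wt u v) v := subset_closure ⟨g, hg, hxdef⟩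
    have hxN1 : x ∈ NC (wt u v) u := by rw [← c.NC_eq hu hv hs]; exact hxN
    have hxN2 : x ∈ NC (wt u1 v) u1 := by rw [← c.NC_eq hu1Z hv hs1, hw1]; exact hxN
    by_cases hxu : x * u * x⁻¹ = u
    · by_cases hxu1 : x * u1 * x⁻¹ = u1
      · have h1 : Commute x u := mul_inv_eq_iff_eq_mul.1 hxu
        have h2 : Commute x u1 := mul_inv_eq_iff_eq_mul.1 hxu1
        exact (h1.mul_right h2).eq
      · exfalso
        rcases c.act hu1Z hv hs1 hxN2 with h1 | h1
        · exact hxu1 h1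
        have h2 : CSw (RZ Om) u1 x := by
          unfold CSw
          rw [h1, ← conj_eq c.w hu1Z]
          exact hs1
        exact c.move_ne hu1Z hxZ h2 (hu1T.symm hu) hxu
    · rcases c.act hu hv hs hxN1 with h1 | h1
      · exact absurd h1 hxu
      have h2 : CSw (RZ Om) u x := by
        unfold CSw
        rw [h1, ← conj_eq c.w hu]
        exact hs
      have h3 : wt u x = wt u v := by
        have h4 : u * wt u x = u * wt u v := by rw [← conj_eq c.w hu, h1]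
        exact mul_left_cancel h4
      have h4 := (c.move hu hxZ h2 hu1T).2.2
      rw [h3] at h4
      have h5 : x * (u * u1) * x⁻¹ = u * u1 := by
        calc x * (u * u1) * x⁻¹ = (x * u * x⁻¹) * (x * u1 * x⁻¹) := by group
          _ = u * (wt u v * u1) * wt u v := by rw [h1, h4]; group
          _ = u * (u1 * wt u v) * wt u v := by
            have h6 := c.w.wg.wt_comm_u hu1Z hv hs1
            rw [hw1] at h6
            rw [h6]
          _ = u * u1 * (wt u v * wt u v) := by group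
          _ = u * u1 := by rw [c.w.wg.wt_sq hu hv hs, mul_one]
      exact mul_inv_eq_iff_eq_mul.1 h5
  -- `w1 = u * u1` is central in `N`
  have hcen : ∀ m ∈ NC (wt u v) v, (u * u1) * m = m * (u * u1) :=
    ROne.comm_of_gens fun g hg => (hx g hg).symm
  have hw1N : u * u1 ∈ NC (wt u v) u := by
    rw [← c.NC_eq hu hv hs]; exact mul_mem huN hu1N
  have hcu : Cen (RZ Om) (u * u1) u := c.cent hu hv hs hw1N (by
    intro m hm; rw [← c.NC_eq hu hv hs] at hm; exact hcen m hm)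
  have hcv : Cen (RZ Om) (u * u1) v := by
    have hs2 := c.symm hu hv hs
    have hws := c.wt_symm hu hv hs
    refine c.cent hv hu hs2 ?_ ?_
    · rw [hws]; exact mul_mem huN hu1N
    · intro m hm; rw [hws] at hm; exact hcen m hm
  have e : wt u v' = u * u1 := by rw [hu1]; rfl
  exact c.tri hu hv' hs' hu hv hv' hs hs' (by rw [e]; exact hcu) (by rw [e]; exact hcv)
    (c.wt_cen_right hu hv' hs')

/-! ### `t_u` -/

theorem tt_eq (hu : u ∈ Zs Om) (hv : v ∈ Zs Om) (hs : CSw (RZ Om) u v) : tt (Zs Om) (RZ Om) u = wt u v := by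
  have h1 : ∃ v ∈ Zs Om, CSw (RZ Om) u v := ⟨v, hv, hs⟩
  rw [tt, dif_pos h1]
  exact c.wt_eq hu h1.choose_spec.1 hv h1.choose_spec.2 hs

theorem tt_conj (hu : u ∈ Zs Om) (g : G) : tt (Zs Om) (RZ Om) (g * u * g⁻¹) = g * tt (Zs Om) (RZ Om) u * g⁻¹ := by
  by_cases h1 : ∃ v ∈ Zs Om, CSw (RZ Om) u v
  · obtain ⟨v, hv, hs⟩ := h1
    rw [c.tt_eq hu hv hs, c.tt_eq (c.w.wg.conjZ u hu g) (c.w.wg.conjZ v hv g) (c.w.wg.csw_conj hu hs g),
      ROne.wt_conj]
  · have h2 : ¬ ∃ v ∈ Zs Om, CSw (RZ Om) (g * u * g⁻¹) v := by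
      rintro ⟨v, hv, hs⟩
      apply h1
      refine ⟨g⁻¹ * v * g, ?_, ?_⟩
      · have := c.w.wg.conjZ v hv g⁻¹
        rwa [inv_inv] at this
      · have := c.w.wg.csw_conj (c.w.wg.conjZ u hu g) hs g⁻¹
        have e1 : g⁻¹ * (g * u * g⁻¹) * g⁻¹⁻¹ = u := by group
        have e2 : g⁻¹ * v * g⁻¹⁻¹ = g⁻¹ * v * g := by group
        rwa [e1, e2] at this
    rw [tt_of_not h1, tt_of_not h2]
    group

/-- `C(u) ≤ C(t_u)` -/
theorem tt_comm (hu : u ∈ Zs Om) (hg : g * u = u * g) : g * tt (Zs Om) (RZ Om) u = tt (Zs Om) (RZ Om) u * g := by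
  have h1 := c.tt_conj hu g
  rw [hg, mul_inv_cancel_right] at h1
  exact (eq_mul_inv_iff_mul_eq.1 h1).symm

/-- `t` is constant on twins -/
theorem tt_tw (hu : u ∈ Zs Om) (hy : Tw (Zs Om) (RZ Om) u y) : tt (Zs Om) (RZ Om) y = tt (Zs Om) (RZ Om) u := by
  by_cases h1 : ∃ v ∈ Zs Om, CSw (RZ Om) u v
  · obtain ⟨v, hv, hs⟩ := h1
    obtain ⟨h2, h3, -⟩ := c.move hu hv hs hy
    rw [c.tt_eq hu hv hs, c.tt_eq hy.1 hv h2, h3]
  · have h2 : ¬ ∃ v ∈ Zs Om, CSw (RZ Om) y v := by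
      rintro ⟨v, hv, hs⟩
      exact h1 ⟨v, hv, (c.move hy.1 hv hs (hy.symm hu)).1⟩
    rw [tt_of_not h1, tt_of_not h2]

/-- `t_u = t_v` on C-swaps -/
theorem tt_swap (hu : u ∈ Zs Om) (hv : v ∈ Zs Om) (hs : CSw (RZ Om) u v) :
    tt (Zs Om) (RZ Om) u = tt (Zs Om) (RZ Om) v := by
  rw [c.tt_eq hu hv hs, c.tt_eq hv hu (c.symm hu hv hs), c.wt_symm hu hv hs]

/-- `[R_u, t_u] = 1` -/
theorem tt_cen (hu : u ∈ Zs Om) : Cen (RZ Om) (tt (Zs Om) (RZ Om) u) u := by
  by_cases h1 : ∃ v ∈ Zs Om, CSw (RZ Om) u v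
  · obtain ⟨v, hv, hs⟩ := h1
    rw [c.tt_eq hu hv hs]
    exact c.wt_cen_left hu hv hs
  · rw [tt_of_not h1]
    intro k _
    simp

/-- if `R_x` centralises all twins of `u`, it centralises `t_u` -/
theorem tt_cen_of (hu : u ∈ Zs Om) (hx : ∀ y, Tw (Zs Om) (RZ Om) u y → Cen (RZ Om) y x) :
    Cen (RZ Om) (tt (Zs Om) (RZ Om) u) x := by
  by_cases h1 : ∃ v ∈ Zs Om, CSw (RZ Om) u v
  · obtain ⟨v, hv, hs⟩ := h1
    rw [c.tt_eq hu hv hs]
    exact (hx u (Tw.refl hu)).mul (hx _ (c.twin hu hv hs))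
  · rw [tt_of_not h1]
    intro k _
    simp

theorem tt_sq (hu : u ∈ Zs Om) : tt (Zs Om) (RZ Om) u * tt (Zs Om) (RZ Om) u = 1 := by
  by_cases h1 : ∃ v ∈ Zs Om, CSw (RZ Om) u v
  · obtain ⟨v, hv, hs⟩ := h1
    rw [c.tt_eq hu hv hs]
    exact c.w.wg.wt_sq hu hv hs
  · rw [tt, dif_neg h1, mul_one]

theorem tt_ne (hu : u ∈ Zs Om) (hv : v ∈ Zs Om) (hs : CSw (RZ Om) u v) : tt (Zs Om) (RZ Om) u ≠ 1 := by
  rw [c.tt_eq hu hv hs]
  exact c.w.wg.wt_ne hu hv hs

/-- `t_u = u · v u v⁻¹` with `v u v⁻¹ ∈ [u]` -/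
theorem tt_prod (hu : u ∈ Zs Om) (hv : v ∈ Zs Om) (hs : CSw (RZ Om) u v) :
    tt (Zs Om) (RZ Om) u = u * (v * u * v⁻¹) ∧ Tw (Zs Om) (RZ Om) u (v * u * v⁻¹) :=
  ⟨c.tt_eq hu hv hs, c.twin hu hv hs⟩

/-- one C-swap: every `u` is in a C-swap -/
theorem exists_swap (ha : a ∈ Zs Om) (hb : b ∈ Zs Om) (hs : CSw (RZ Om) a b) (hu : u ∈ Zs Om) :
    ∃ v ∈ Zs Om, CSw (RZ Om) u v := by
  obtain ⟨g, rfl⟩ := c.one a ha u hu
  exact ⟨_, c.w.wg.conjZ b hb g, c.w.wg.csw_conj ha hs g⟩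

/-- (5.8) -/
theorem tt_not_mem (hu : u ∈ Zs Om) (hv : v ∈ Zs Om) (hs : CSw (RZ Om) u v) : tt (Zs Om) (RZ Om) u ∉ Zs Om := by
  intro hsZ
  obtain ⟨s, hsdef⟩ : ∃ s, s = tt (Zs Om) (RZ Om) u := ⟨_, rfl⟩
  rw [← hsdef] at hsZ
  have hwe : s = wt u v := hsdef.trans (c.tt_eq hu hv hs)
  -- `C(u) = C(s)`
  have hle : centralizer {u} ≤ centralizer {s} := by
    intro g hg
    rw [mem_centralizer_singleton_iff] at hg ⊢
    rw [hsdef]
    exact c.tt_comm hu hg
  have heq : centralizer {u} = centralizer {s} := by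
    obtain ⟨g, hg⟩ := c.one u hu s hsZ
    refine eq_of_le_of_card_ge hle ?_
    rw [← hg, ← cj_centralizer, card_cj]
  -- `c[u] ⊆ c[s]`
  have hsub : cl (Zs Om) (RZ Om) u ⊆ cl (Zs Om) (RZ Om) s := by
    intro y hy
    refine ⟨hy.1, ?_⟩
    by_cases hys : y = s
    · exact Or.inl hys
    right
    have h1 : Cen (RZ Om) s y := by
      intro k hk
      have h2 : k ∈ centralizer {u} := by
        rw [mem_centralizer_singleton_iff]
        rcases hy.2 with h3 | h3
        · rw [h3] at hk; exact c.w.wg.cent hu hk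
        · exact (h3.2 u (c.w.wg.mem u hu) k hk).symm
      rw [heq, mem_centralizer_singleton_iff] at h2
      exact h2.symm
    exact (c.w.wg.csymm hy.1 hsZ hys h1).symm
  have hcl : cl (Zs Om) (RZ Om) u = cl (Zs Om) (RZ Om) s := by
    obtain ⟨g, hg⟩ := c.one u hu s hsZ
    have h1 : cl (Zs Om) (RZ Om) s = (fun x => g * x * g⁻¹) '' cl (Zs Om) (RZ Om) u := by
      ext x
      constructor
      · intro hx
        refine ⟨g⁻¹ * x * g, ?_, by group⟩
        rw [← c.w.wg.mem_cl_conj hu g, hg]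
        have e : g * (g⁻¹ * x * g) * g⁻¹ = x := by group
        rwa [e]
      · rintro ⟨y, hy, rfl⟩
        rw [← hg]
        exact (c.w.wg.mem_cl_conj hu g).2 hy
    refine Set.eq_of_subset_of_ncard_le hsub ?_ (Set.toFinite _)
    rw [h1]
    exact Set.ncard_image_le (Set.toFinite _)
  have hT : Tw (Zs Om) (RZ Om) u s := ⟨hsZ, hcl⟩
  apply c.move_ne hu hv hs hT
  have h2 := cen_comm c.w hv (c.wt_cen_right hu hv hs)
  rw [← hwe] at h2
  rw [← h2, mul_inv_cancel_right]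

end TC

end

end Cfsg.Agent.Cit.Nil.RTwoM.L1
end

-- part: Cit/Nil/RTwoM/L1/NoTS
section
set_option linter.all false
open scoped Cfsg.Agent.FastGrp

/-!
# S1309, (6b), `r = 2`, LAMBDA1 (C-swaps exist): all N-pairs are of type I, `t` is constant on N-pairs

helper599, bb #16443 (2). `LOne Om` : `TC Om` and a C-swap. `tz Om u = t_u`.

* `LOne.np_tw` (6.1); `LOne.not_cen` : `z` not inner on `R_x`: `t_z ∉ C(R_x)`;
* `LOne.ti_cen` (2a); `LOne.inn_of_swp` (2b); `LOne.inn_of_ff` (2c); `LOne.no_ff` (2d); `LOne.no_swp` (2e);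
* **`LOne.ti_of_np`** : N-pairs are of type I; **`LOne.tz_np`** : `t_z = t_x`;
* **`LOne.gd`** : `GD (Zs Om) (RZ Om)`; **`LOne.wone`** : `WOne (Zs Om) (RZ Om) fun z => zpowers (tz Om z)`.
-/

set_option autoImplicit false
set_option linter.style.haveILetI false
set_option linter.unusedSectionVars false

namespace Cfsg.Agent.Cit.Nil.RTwoM.L1

open Subgroup Cfsg Cfsg.Agent.Cit
open ROne (CSw Cen NC cl Tw wt self_mem_NC conj_mem_NC OneCls CS TT tt NP)
open RG (Tr)

variable {G : Type*} [Group G] {Om : Set (Subgroup G)} {K L M : Subgroup G} {z t u v g x y s n k a b : G}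

/-- `t_u` -/
noncomputable abbrev tz (Om : Set (Subgroup G)) (u : G) : G := tt (Zs Om) (RZ Om) u

/-- LAMBDA1 -/
structure LOne (Om : Set (Subgroup G)) : Prop extends TC Om where
  sw : ∃ a ∈ Zs Om, ∃ b ∈ Zs Om, CSw (RZ Om) a b

section

variable [Finite G]

theorem as_inn (h : WM Om) (hK : Mem Om z K) (ha : As K g a) (hk : k ∈ K) : g * k * g⁻¹ = k ∨ g * k * g⁻¹ = z * k := by
  rw [ha.2 k hk]
  exact hK.comm_or h hk ha.1

theorem np_of_ti (h : WM Om) (hti : TI Om z x) : NP (RZ Om) z x :=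
  ⟨hti.ne, hti.comm, fun hc => hti.not_cp h ((cp_iff h hti.inZ hti.inT).1 hc)⟩

theorem not_inn_of_ff (h : WM Om) (hx : InZ Om x) (hf : Ff Om x z) : ¬ Inn Om x z := fun hi =>
  hi |> fun hi => by
    obtain ⟨M, hM⟩ := hx
    exact (hf.2 M hM).2 (hi M hM)

theorem not_inn_of_swp (h : WM Om) (hx : InZ Om x) (hs : Swp Om x z) : ¬ Inn Om x z := fun hi => by
  obtain ⟨M, hM⟩ := hx
  exact hs.2 M hM (hi.cj_eq hM h)

namespace LOne

variable (c : LOne Om)

include c

theorem ex (hu : u ∈ Zs Om) : ∃ v ∈ Zs Om, CSw (RZ Om) u v := by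
  obtain ⟨a, ha, b, hb, hs⟩ := c.sw
  exact c.toTC.exists_swap ha hb hs hu

theorem tz_ne (hu : u ∈ Zs Om) : tz Om u ≠ 1 := by
  obtain ⟨v, hv, hs⟩ := c.ex hu
  exact c.toTC.tt_ne hu hv hs

/-- `u t_u ∈ [u]` -/
theorem tw_mul (hu : u ∈ Zs Om) : Tw (Zs Om) (RZ Om) u (u * tz Om u) := by
  obtain ⟨v, hv, hs⟩ := c.ex hu
  obtain ⟨h1, h2⟩ := c.toTC.tt_prod hu hv hs
  have h3 : u * tz Om u = v * u * v⁻¹ := by
    change u * tt (Zs Om) (RZ Om) u = _
    rw [h1, ← mul_assoc, c.w.wg.sq u hu, one_mul]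
  rwa [h3]

theorem ne_mul (hu : u ∈ Zs Om) : u ≠ u * tz Om u := fun h1 => c.tz_ne hu (mul_eq_left.1 h1.symm)

theorem tz_mul (hu : u ∈ Zs Om) : tz Om (u * tz Om u) = tz Om u := c.toTC.tt_tw hu (c.tw_mul hu)

/-- the context of section 2 for `t_u`, `u` -/
theorem s2t (hu : u ∈ Zs Om) :
    S2 Om (tz Om u) u ∧ ¬ ∀ a ∈ NC (tz Om u) u, ∀ b ∈ NC (tz Om u) u, a * b = b * a := by
  obtain ⟨v, hv, hs⟩ := c.ex hu
  rw [show tz Om u = wt u v from c.toTC.tt_eq hu hv hs]
  exact ⟨c.toTC.s2 hu hv hs, c.toTC.ncab hu hv hs⟩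

/-- (6.1) -/
theorem np_tw (hz : z ∈ Zs Om) (hx : x ∈ Zs Om) (hn : NP (RZ Om) z x) (hy : Tw (Zs Om) (RZ Om) z y) :
    NP (RZ Om) y x := by
  have w := c.w.wg
  have hyZ := hy.1
  -- `x ∉ c[z] = c[y]`
  have hcl : x ∉ cl (Zs Om) (RZ Om) y := by
    rw [← hy.2]
    rintro ⟨-, h1 | h1⟩
    · exact hn.1 h1.symm
    · exact hn.2.2 h1
  have hxz : x * z * x⁻¹ = z := by rw [← hn.2.1, mul_inv_cancel_right]
  have h1 : Tw (Zs Om) (RZ Om) z (x * y * x⁻¹) := by
    have := w.tw_conj hz hy x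
    rwa [hxz] at this
  refine ⟨fun h2 => hcl ⟨hx, Or.inl h2.symm⟩, ?_, fun h2 => hcl ⟨hx, Or.inr h2⟩⟩
  by_contra h2
  have h3 : y ≠ x * y * x⁻¹ := by
    intro h3
    apply h2
    rw [eq_mul_inv_iff_mul_eq] at h3
    exact h3
  have h4 : CSw (RZ Om) y x := Tw.cp hyZ ((hy.symm hz).trans h1) h3
  exact c.toTC.move_ne hyZ hx h4 (hy.symm hz) hxz

/-- `z` not inner on `R_x` : `t_z` does not centralise `R_x` -/
theorem not_cen (hz : z ∈ Zs Om) (hx : x ∈ Zs Om) (hc : z * x = x * z) (hni : ¬ Inn Om x z) :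
    ¬ Cen (RZ Om) (tz Om z) x := fun h1 =>
  hni ((c.s2t hz).1.inn (c.s2t hz).2 ⟨hx, h1⟩ self_mem_NC hc)

/-- `t_z` commutes with `C(z)` -/
theorem tz_comm (hz : z ∈ Zs Om) (hg : g * z = z * g) : g * tz Om z = tz Om z * g := c.toTC.tt_comm hz hg

/-- (2a), first half -/
theorem inn_of_ti (hti : TI Om x z) : Inn Om x (tz Om z) := by
  have h := c.w
  have hz : z ∈ Zs Om := hti.inT
  obtain ⟨t, ht0⟩ : ∃ t, t = tz Om z := ⟨_, rfl⟩
  have ht : ∀ g, g * z = z * g → g * t = t * g := fun g hg => by rw [ht0]; exact c.tz_comm hz hg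
  rw [← ht0]
  have hxx := hti.inZ.z2 h
  intro M hM k hk
  obtain ⟨M', hM', hne, -⟩ := hM.other h
  obtain ⟨y, hy, hyy⟩ := hti.exists_as h hM
  obtain ⟨y', hy', hyy'⟩ := hti.exists_as h hM'
  by_cases hky : y * k = k * y
  · left
    have h1 : z * k * z⁻¹ = k := by rw [hy.2 k hk, hky, mul_inv_cancel_right]
    rw [mul_inv_eq_iff_eq_mul] at h1
    rw [← ht k h1.symm, mul_inv_cancel_right]
  have hkk : k * k = x := by
    rcases hM.sq_cases h hk with h1 | h1 | h1
    · exfalso; apply hky; rw [h1, one_mul, mul_one]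
    · exfalso; apply hky; rw [h1, hM.comm_z h hy.1]
    · exact h1
  have hzk : z * k * z⁻¹ = x * k := by
    rw [hy.2 k hk]
    exact hM.anti h hk hkk hy.1 hyy (fun h1 => hky h1.symm)
  obtain ⟨k', hk', hkk', hyk'⟩ := hM'.exists_nc h hy'.1 hyy'
  have hzk' : z * k' * z⁻¹ = x * k' := by
    rw [hy'.2 k' hk']
    exact hM'.anti h hk' hkk' hy'.1 hyy' (fun h1 => hyk' h1.symm)
  have hkx : k * x = x * k := hM.comm_z h hk
  have hcomm : (k * k') * z = z * (k * k') := by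
    have h1 : z * (k * k') * z⁻¹ = k * k' := by
      calc z * (k * k') * z⁻¹ = (z * k * z⁻¹) * (z * k' * z⁻¹) := by group
        _ = (x * k) * (x * k') := by rw [hzk, hzk']
        _ = x * (k * x) * k' := by group
        _ = (x * x) * (k * k') := by rw [hkx]; group
        _ = k * k' := by rw [hxx, one_mul]
    rw [mul_inv_eq_iff_eq_mul] at h1
    exact h1.symm
  have htk := ht _ hcomm
  have hxt : x * t = t * x := ht x hti.comm
  have hyt : y * t = t * y := ht y hy.comm.symm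
  rcases cj_cases h hM hM' hne hxt.symm with ⟨h1, h2⟩ | ⟨h1, -⟩
  swap
  · exfalso
    have h3 : y ∈ M' := by
      have h4 := conj_mem_cj (g := t) hy.1
      rwa [h1, ← hyt, mul_inv_cancel_right] at h4
    rcases hM.inf hM' h hne hy.1 h3 with h4 | h4
    · rw [h4, one_mul] at hyy; exact hti.inZ.z1 h hyy.symm
    · rw [h4, hxx] at hyy; exact hti.inZ.z1 h hyy.symm
  have m1 : t * k * t⁻¹ ∈ M := by
    have h3 := conj_mem_cj (g := t) hk
    rwa [h1] at h3
  have m2 : t * k' * t⁻¹ ∈ M' := by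
    have h3 := conj_mem_cj (g := t) hk'
    rwa [h2] at h3
  have h3 : (t * k * t⁻¹) * (t * k' * t⁻¹) = k * k' := by
    calc (t * k * t⁻¹) * (t * k' * t⁻¹) = t * (k * k') * t⁻¹ := by group
      _ = k * k' := by rw [← htk, mul_inv_cancel_right]
  have h4 : k⁻¹ * (t * k * t⁻¹) = k' * (t * k' * t⁻¹)⁻¹ := by
    rw [eq_mul_inv_iff_mul_eq, mul_assoc, h3, inv_mul_cancel_left]
  rcases hM.inf hM' h hne (mul_mem (inv_mem hk) m1) (by rw [h4]; exact mul_mem hk' (inv_mem m2)) with h5 | h5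
  · left
    rw [inv_mul_eq_one] at h5
    exact h5.symm
  · right
    rw [inv_mul_eq_iff_eq_mul, hkx] at h5
    exact h5

/-- (2a) : `(z, x)` of type I : `t_z` centralises `R_x` -/
theorem ti_cen (hti : TI Om x z) : Cen (RZ Om) (tz Om z) x := by
  have h := c.w
  have hz : z ∈ Zs Om := hti.inT
  have hx : x ∈ Zs Om := hti.inZ
  have hT := c.tw_mul hz
  have hn : NP (RZ Om) (z * tz Om z) x := c.np_tw hz hx (np_of_ti h (hti.symm h)) hT
  have h1 : TI Om x (z * tz Om z) := by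
    rcases Inn.cases (hti.inn.mul (c.inn_of_ti hti) hti.inZ h) h hx hT.1 with h1 | h1 | h1
    · exact absurd h1.symm hn.1
    · exact absurd ((cp_iff h hx hT.1).2 h1).symm hn.2.2
    · exact h1
  have h2 := tt_II_cx h ((cp_iff h hz hT.1).1 (Tw.cp hz hT (c.ne_mul hz))) hti h1
  rw [← mul_assoc, hti.inT.z2 h, one_mul] at h2
  exact cen_iff'.2 h2

/-- (2b) : `z` interchanges the members over `x` : `t_z` is inner on `R_x` -/
theorem inn_of_swp (hz : z ∈ Zs Om) (hx : x ∈ Zs Om) (hn : NP (RZ Om) z x) (hs : Swp Om x z) :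
    Inn Om x (tz Om z) := by
  have h := c.w
  have hzz := c.w.wg.sq z hz
  obtain ⟨t, ht0⟩ : ∃ t, t = tz Om z := ⟨_, rfl⟩
  have ht : ∀ g, g * z = z * g → g * t = t * g := fun g hg => by rw [ht0]; exact c.tz_comm hz hg
  rw [← ht0]
  obtain ⟨M, hM⟩ : InZ Om x := hx
  have hx : x ∈ Zs Om := ⟨M, hM⟩
  have hM' := hs.mem h hM
  have hall : ∀ g a b, As M g a → As (cj z M) g b → Inn Om x g := by
    intro g a b ha hb N hN k hk
    rcases hM.cases hM' h (hs.ne hM) hN with h1 | h1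
    · subst h1; exact as_inn h hM ha hk
    · subst h1; exact as_inn h hM' hb hk
  rcases hs.cent h hzz hM (ht x hs.1.symm).symm (fun k hk => (ht _ (qq_comm hs h hzz hM hk).symm).symm) with
    ⟨a, -, ha, hb⟩ | ⟨-, a, -, ha, hb⟩
  · exact hall t _ _ ha hb
  exfalso
  have hI : Inn Om x (t * z) := hall _ _ _ ha hb
  have htz : z * t = t * z := ht z rfl
  have hT := c.tw_mul hz
  have hn' := c.np_tw hz hx hn hT
  rw [← ht0] at hT hn'
  have h1 : TI Om x (z * t) := by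
    rcases Inn.cases (by rw [htz]; exact hI) h hx hT.1 with h1 | h1 | h1
    · exact absurd h1.symm hn'.1
    · exact absurd ((cp_iff h hx hT.1).2 h1).symm hn'.2.2
    · exact h1
  have h2 := c.ti_cen h1
  have h3 : tz Om (z * t) = t := by rw [ht0]; exact c.tz_mul hz
  rw [h3] at h2
  exact not_inn_of_swp h hx hs ((Inn.of_CX (cen_iff'.1 h2)).mul_left hI hx h)

/-- (2c) : `z` of type `f` at `x` : `t_z` is inner on `R_x` and commutes with the axes -/
theorem inn_of_ff (hz : z ∈ Zs Om) (hx : x ∈ Zs Om) (hn : NP (RZ Om) z x) (hf : Ff Om x z) :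
    Inn Om x (tz Om z) ∧ ∀ M, Mem Om x M → ∀ a, Tr z M a → tz Om z * a = a * tz Om z := by
  have h := c.w
  have hzz := c.w.wg.sq z hz
  have htz : z * tz Om z = tz Om z * z := c.tz_comm hz rfl
  have hT := c.tw_mul hz
  have hn' := c.np_tw hz hx hn hT
  have htm := c.tz_mul hz
  -- `z t` is of type `f` at `x`
  have hf' : Ff Om x (z * tz Om z) := by
    rcases tri h hx hT.1 hn'.1.symm hn'.2.1.symm with h1 | h1 | ⟨h1, -⟩
    · exact absurd ((cp_iff h hx hT.1).2 h1).symm hn'.2.2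
    · exfalso
      have h2 := c.ti_cen h1
      rw [htm] at h2
      exact c.not_cen hz hx hn.2.1 (not_inn_of_ff h hx hf) h2
    · rcases h1.cases with h2 | h2
      · exfalso
        have h3 := c.inn_of_swp hT.1 hx hn' h2
        rw [htm] at h3
        obtain ⟨M, hM⟩ : InZ Om x := hx
        apply h2.2 M hM
        rw [cj_mul, h3.cj_eq hM h, (hf.2 M hM).1]
      · exact h2
  have key : ∀ M, Mem Om x M → ∀ a, Tr z M a → As M (tz Om z) 1 ∨ As M (tz Om z) a := by
    intro M hM a ha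
    obtain ⟨b, hb⟩ := hf'.exists_tr h (c.w.wg.sq _ hT.1) hM
    have hcomm : z * (z * tz Om z) = (z * tz Om z) * z := by rw [mul_assoc, htz]
    have h1 := Tr.same h hM (hf.2 M hM).1 hcomm hb ha
    have h2 := Tr.mul_cases h hM (hf.2 M hM).1 (hf'.2 M hM).1 ha h1
    rwa [← mul_assoc, hzz, one_mul] at h2
  refine ⟨fun M hM k hk => ?_, fun M hM a ha => ?_⟩
  · obtain ⟨a, ha⟩ := hf.exists_tr h hzz hM
    rcases key M hM a ha with h1 | h1
    · exact as_inn h hM h1 hk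
    · exact as_inn h hM h1 hk
  · rcases key M hM a ha with h1 | h1
    · exact As.one_iff.1 h1 a ha.mem
    · exact h1.comm

/-- an N-pair is of type I or outer on both sides -/
theorem inn_of_out (hz : z ∈ Zs Om) (hx : x ∈ Zs Om) (hn : NP (RZ Om) z x) (ho : Out Om x z) :
    Inn Om x (tz Om z) := by
  rcases ho.cases with h1 | h1
  · exact c.inn_of_swp hz hx hn h1
  · exact (c.inn_of_ff hz hx hn h1).1

/-- (2d), half -/
theorem tz_ff (hz : z ∈ Zs Om) (hx : x ∈ Zs Om) (hn : NP (RZ Om) z x) (hf : Ff Om x z) :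
    tz Om (z * x) = tz Om z := by
  have h := c.w
  obtain ⟨M, hM⟩ : InZ Om x := hx
  have hx : x ∈ Zs Om := ⟨M, hM⟩
  obtain ⟨a, ha⟩ := hf.exists_tr h (h.wg.sq z hz) hM
  have h1 := (c.inn_of_ff hz hx hn hf).2 M hM a ha
  have hax : a * x = x * a := hM.comm_z h ha.mem
  have h2 : a * z * a⁻¹ = z * x := by
    have h3 : z * a * z⁻¹ = x * a := Tr.inv' ha hM h
    rw [mul_inv_eq_iff_eq_mul] at h3 ⊢
    -- `z a = x a z`
    have hxx := hM.inZ.z2 h
    calc a * z = (x * x) * (a * z) := by rw [hxx, one_mul]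
      _ = x * (x * a * z) := by group
      _ = x * (z * a) := by rw [h3]
      _ = (x * z) * a := by group
      _ = z * x * a := by rw [hn.2.1]
  have h3 := c.toTC.tt_conj hz a
  rw [h2] at h3
  change tt (Zs Om) (RZ Om) (z * x) = _
  rw [h3]
  change a * tz Om z * a⁻¹ = tz Om z
  rw [← h1, mul_inv_cancel_right]

/-- (2d) -/
theorem no_ff (hz : z ∈ Zs Om) (hx : x ∈ Zs Om) (hn : NP (RZ Om) z x) (hf : Ff Om x z) (hf' : Ff Om z x) :
    False := by
  have h1 := c.tz_ff hz hx hn hf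
  have h2 := c.tz_ff hx hz hn.symm hf'
  rw [← hn.2.1, h1] at h2
  refine c.not_cen hz hx hn.2.1 (not_inn_of_ff c.w hx hf) ?_
  rw [h2]
  exact c.toTC.tt_cen hx

/-- (2e) -/
theorem no_swp (hz : z ∈ Zs Om) (hx : x ∈ Zs Om) (hn : NP (RZ Om) z x) (hs : Swp Om x z) : False := by
  have h := c.w
  have hzz := c.w.wg.sq z hz
  have hxx := c.w.wg.sq x hx
  have hxi : x⁻¹ = x := inv_eq_of_mul_eq_one_right hxx
  have hzi : z⁻¹ = z := inv_eq_of_mul_eq_one_right hzz
  obtain ⟨t, ht0⟩ : ∃ t, t = tz Om z := ⟨_, rfl⟩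
  have ht : ∀ g, g * z = z * g → g * t = t * g := fun g hg => by rw [ht0]; exact c.tz_comm hz hg
  have htt : t * t = 1 := by rw [ht0]; exact c.toTC.tt_sq hz
  have hxt : x * t = t * x := ht x hs.1.symm
  have hI : Inn Om x t := by rw [ht0]; exact c.inn_of_swp hz hx hn hs
  have hni := not_inn_of_swp h hx hs
  have hnc : t ∉ CX Om x := by
    rw [← cen_iff', ht0]
    exact c.not_cen hz hx hn.2.1 hni
  rw [mem_CX] at hnc
  push Not at hnc
  obtain ⟨M, hM, k, hk, htk⟩ := hnc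
  have htk' : t * k * t⁻¹ = x * k := by
    refine (hI M hM k hk).resolve_left fun h1 => htk ?_
    exact mul_inv_eq_iff_eq_mul.1 h1
  have hkx : k * x = x * k := hM.comm_z h hk
  have hkk : k * k = x := by
    rcases hM.sq_cases h hk with h1 | h1 | h1
    · exfalso; apply htk; rw [h1, one_mul, mul_one]
    · exfalso; apply htk; rw [h1, hxt]
    · exact h1
  have hM' := hs.mem h hM
  have hk' : z * k * z⁻¹ ∈ cj z M := conj_mem_cj hk
  obtain ⟨k', hk'0⟩ : ∃ k', k' = z * k * z⁻¹ := ⟨_, rfl⟩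
  rw [← hk'0] at hk'
  have hkk' : k * k' = k' * k := hM.comm hM' h (hs.ne hM) hk hk'
  have hk'2 : k' * k' = x := by
    calc k' * k' = z * (k * k) * z⁻¹ := by rw [hk'0]; group
      _ = x := by rw [hkk, hs.1, mul_inv_cancel_right]
  -- `z2`
  obtain ⟨z2, hz2⟩ : ∃ z2, z2 = k * z * k⁻¹ := ⟨_, rfl⟩
  have hz2Z : z2 ∈ Zs Om := by rw [hz2]; exact h.wg.conjZ z hz k
  have hcomm : z * z2 = z2 * z := by
    have e1 : z * z2 = k' * k⁻¹ := by
      rw [hz2, hk'0]
      calc z * (k * z * k⁻¹) = z * k * z * k⁻¹ := by group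
        _ = z * k * z⁻¹ * k⁻¹ := by rw [hzi]
    have e2 : z2 * z = k * k'⁻¹ := by
      rw [hz2, hk'0]
      calc k * z * k⁻¹ * z = k * (z * k⁻¹ * z) := by group
        _ = k * (z * k⁻¹ * z⁻¹) := by rw [hzi]
        _ = k * (z * k * z⁻¹)⁻¹ := by group
    rw [e1, e2, mul_inv_eq_iff_eq_mul, mul_assoc]
    have e3 : k'⁻¹ * k = k * k'⁻¹ := by
      rw [inv_mul_eq_iff_eq_mul, ← mul_assoc, ← hkk', mul_inv_cancel_right]
    rw [e3, ← mul_assoc, hkk, ← hk'2, mul_inv_cancel_right]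
  have hkt : k * t * k⁻¹ = x * t := by
    rw [mul_inv_eq_iff_eq_mul] at htk' ⊢
    calc k * t = (x * x) * (k * t) := by rw [hxx, one_mul]
      _ = x * (x * k * t) := by group
      _ = x * (t * k) := by rw [htk']
      _ = x * t * k := by group
  have ht2 : tz Om z2 = x * t := by
    have h1 := c.toTC.tt_conj hz k
    change tz Om (k * z * k⁻¹) = k * tz Om z * k⁻¹ at h1
    rw [hz2, h1, ← ht0, hkt]
  have htne : tz Om z2 ≠ tz Om z := by
    rw [ht2, ← ht0]
    intro h1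
    exact h.wg.ne x hx (mul_eq_right.1 h1)
  have hne : z ≠ z2 := fun h1 => htne (by rw [← h1])
  -- `x = t_z t_{z2}`
  have hprod : tz Om z * tz Om z2 = x := by
    rw [ht2, ← ht0, hxt, ← mul_assoc, htt, one_mul]
  -- `x` is not C, not type I with `z2`
  have hkinv : k⁻¹ * z2 * k⁻¹⁻¹ = z := by rw [hz2]; group
  have hkx' : k⁻¹ * x * k⁻¹⁻¹ = x := by
    rw [inv_inv, mul_assoc, ← hkx, ← mul_assoc, inv_mul_cancel, one_mul]
  have hz2x : z2 ≠ x := by
    intro h1
    apply hn.1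
    rw [← hkinv, h1, hkx']
  have hncp : ¬ ROne.CP (RZ Om) z2 x := by
    intro h1
    have h2 := h.wg.cp_conj hz2Z hx h1 k⁻¹
    rw [hkinv, hkx'] at h2
    exact hn.2.2 h2
  have hend : Cen (RZ Om) (tz Om z) z2 → False := by
    intro h1
    have h2 := h1.mul (c.toTC.tt_cen hz2Z)
    change Cen (RZ Om) (tz Om z * tz Om z2) z2 at h2
    rw [hprod] at h2
    rcases (h.wg.cen_iff hz2Z hx).1 h2 with h3 | h3
    · exact hz2x h3
    · exact hncp h3
  rcases tri h hz hz2Z hne hcomm with h1 | h1 | ⟨-, h1⟩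
  · -- a C-pair
    have h1' := (cp_iff h hz hz2Z).2 h1
    apply hend
    refine c.toTC.tt_cen_of hz fun y hy => ?_
    have hyz : z2 ≠ y := by
      rintro rfl
      exact htne (c.toTC.tt_tw hz hy)
    exact h.wg.cen_of_cp hy.1 (Tw.cp_of hy hz2Z h1' hyz).symm
  · -- type I
    exact hend (c.ti_cen (h1.symm h))
  · -- `Out Om z2 z`
    have hn2 : NP (RZ Om) z z2 := ⟨hne, hcomm, fun h2 => h1.not_cp h hz2Z hz ((cp_iff h hz hz2Z).1 h2).symm⟩
    have h2 : Inn Om z2 (tz Om z) := c.inn_of_out hz hz2Z hn2 h1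
    have h3 : Inn Om z2 x := by
      have h4 := h2.mul (Inn.of_CX (cen_iff'.1 (c.toTC.tt_cen hz2Z))) hz2Z h
      change Inn Om z2 (tz Om z * tz Om z2) at h4
      rwa [hprod] at h4
    rcases Inn.cases h3 h hz2Z hx with h4 | h4 | h4
    · exact hz2x h4
    · exact hncp ((cp_iff h hz2Z hx).2 h4)
    · have h5 := h4.conj h k⁻¹
      rw [hkinv, hkx'] at h5
      exact hni (h5.symm h).inn

/-- **N-pairs are of type I** -/
theorem ti_of_np (hz : z ∈ Zs Om) (hx : x ∈ Zs Om) (hn : NP (RZ Om) z x) : TI Om z x := by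
  have h := c.w
  rcases tri h hz hx hn.1 hn.2.1 with h1 | h1 | ⟨h1, h2⟩
  · exact absurd ((cp_iff h hz hx).2 h1) hn.2.2
  · exact h1
  · exfalso
    rcases h1.cases with h3 | h3
    · exact c.no_swp hx hz hn.symm h3
    · rcases h2.cases with h4 | h4
      · exact c.no_swp hz hx hn h4
      · exact c.no_ff hz hx hn h4 h3

/-- half of `tz_np` -/
theorem tz_ti (hti : TI Om z x) : tz Om (z * x) = tz Om z := by
  have h := c.w
  obtain ⟨L, hL⟩ := hti.inT
  obtain ⟨y, hy, hyy⟩ := (hti.symm h).exists_as h hL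
  obtain ⟨u, hu, huu, hyu⟩ := hL.exists_nc h hy.1 hyy
  have h1 := hti.conj_z h hL hy hu huu hyu
  have h2 := c.toTC.tt_conj hti.inZ u
  rw [h1] at h2
  have h3 := c.ti_cen (hti.symm h) u (hL.le_RZ hu)
  change tt (Zs Om) (RZ Om) (z * x) = _
  rw [h2]
  change u * tz Om z * u⁻¹ = tz Om z
  rw [← h3, mul_inv_cancel_right]

/-- **`t` is constant on N-pairs** -/
theorem tz_np (hz : z ∈ Zs Om) (hx : x ∈ Zs Om) (hn : NP (RZ Om) z x) : tz Om z = tz Om x := by
  have hti := c.ti_of_np hz hx hn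
  rw [← c.tz_ti hti, ← c.tz_ti (hti.symm c.w), hti.comm]

/-! ### The input of the graph argument -/

/-- **the input of sections 8, 9** -/
theorem gd : GD (Zs Om) (RZ Om) where
  w := c.w.ws
  np z hz u hu hn := by
    have h1 := (c.ti_of_np hz hu hn).mul_right c.w
    exact ⟨h1.inT, np_of_ti c.w h1⟩
  two_four s hs y hy x hx h1 h2 := by
    obtain ⟨hs1, S, hS⟩ := hs
    exact c.w.nc_in_or (an_of_tt c.w c.an S hS hs1) ⟨hy, h1⟩ ⟨hx, h2⟩
  two_five s hs y hy h1 n hn := by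
    obtain ⟨hs1, S, hS⟩ := hs
    by_cases h2 : n * y * n⁻¹ = y
    · exact Or.inl h2
    · exact Or.inr (c.w.nc_csw (an_of_tt c.w c.an S hS hs1) ⟨hy, h1⟩ hn h2)
  twin u hu v hv hs := c.toTC.twin hu hv hs
  five_eight u hu v hv hs := by
    rw [← c.toTC.tt_eq hu hv hs]
    exact c.toTC.tt_not_mem hu hv hs

theorem wone : WOne (Zs Om) (RZ Om) (fun z => zpowers (tz Om z)) where
  eqv z hz g := by
    change zpowers (tt (Zs Om) (RZ Om) (g * z * g⁻¹)) = cj g (zpowers (tz Om z))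
    rw [c.toTC.tt_conj hz g, cj_def, MonoidHom.map_zpowers]
    rfl
  ne z hz h1 := c.tz_ne hz (zpowers_eq_bot.1 h1)
  le z hz := by
    obtain ⟨v, hv, hs⟩ := c.ex hz
    obtain ⟨h1, h2⟩ := c.toTC.tt_prod hz hv hs
    rw [zpowers_le]
    change tt (Zs Om) (RZ Om) z ∈ _
    rw [h1]
    exact mul_mem (subset_closure (Tw.refl hz)) (subset_closure h2)
  np z hz x hx hn := by rw [c.tz_np hz hx hn]
  tw z hz x hx := by
    change zpowers (tt (Zs Om) (RZ Om) z) = zpowers (tt (Zs Om) (RZ Om) x)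
    rw [c.toTC.tt_tw hz hx]
  sw z hz x hx hs := by
    change zpowers (tt (Zs Om) (RZ Om) z) = zpowers (tt (Zs Om) (RZ Om) x)
    rw [c.toTC.tt_swap hz hx hs]

end LOne

end

end Cfsg.Agent.Cit.Nil.RTwoM.L1
end

-- part: Cit/Nil/RTwoM/L1/ClaimS
section
set_option linter.all false
open scoped Cfsg.Agent.FastGrp

/-!
# S1309, (6b), `r = 2`: CLAIM S

`WM.claim_s` : `(u, v)` a C-swap, `M` ANY member over `u`, `N` ANY member over `v`: every homomorphism
`⟨M, N⟩ → ±1` is trivial on `M` (and on `N` : `claim_s'`; hence on `M ⊔ N` : `claim_s_top`).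
-/

set_option autoImplicit false
set_option linter.style.haveILetI false
set_option linter.unusedSectionVars false

namespace Cfsg.Agent.Cit.Nil.RTwoM

open Subgroup Cfsg Cfsg.Agent.Cit
open L1 (Zs S2 ZS ANs sel sel_u sel_v SD)
open ROne (NC NCab wt dg)

variable {G : Type*} [Group G] {Om : Set (Subgroup G)} {u v x k l : G} {M N : Subgroup G}

namespace WM

variable [Finite G] (h : WM Om) (ha : ANT Om) (hM : Mem Om u M) (hN : Mem Om v N)
  (hs : ROne.CSw (RZ Om) u v)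

include h ha hM hN hs

theorem sd_half (hl : l ∈ N) (hll : l * l = v) (hk : k ∈ M) :
    (dg u l * k * (dg u l)⁻¹ = k ∨ dg u l * k * (dg u l)⁻¹ = k * u) ∧
    (dg u l * k * (dg u l)⁻¹ = k → dg u l * dg v k * (dg u l)⁻¹ = dg v k) ∧
    (dg u l * k * (dg u l)⁻¹ = k * u → dg u l * dg v k * (dg u l)⁻¹ = dg v k * wt u v) := by
  have hu : u ∈ Zs Om := hM.inZ
  have hv : v ∈ Zs Om := hN.inZ
  have hs' := h.ws.csw_symm hu hv hs
  have hn : dg u l ∈ NC (wt u v) u := by
    have h1 := h.dg_mem ha hv hu hs' (hN.le_RZ hl) hll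
    rwa [h.ws.wt_symm hu hv hs, ← h.swap_NC ha hu hv hs] at h1
  have hc : dg u l * u = u * dg u l := h.ws.dg_comm_v hv hu hs' (hN.le_RZ hl)
  exact ⟨h.swap_mb ha hu hv hs hM hn hc hk, h.dg_conj ha hu hv hs hn (hM.le_RZ hk),
    h.dg_conj' ha hu hv hs hn (hM.le_RZ hk)⟩

theorem sd_of_swap : SD (sel M N u) u v := by
  have hu : u ∈ Zs Om := hM.inZ
  have hv : v ∈ Zs Om := hN.inZ
  have hs' := h.ws.csw_symm hu hv hs
  have hne : v ≠ u := (h.ws.csw_ne hu hv hs).symm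
  have e1 : sel M N u u = M := sel_u M N u
  have e2 : sel M N u v = N := sel_v M N hne
  have hw := h.ws.wt_symm hu hv hs
  refine ⟨L1.qa_of_mem h hM e1, L1.qa_of_mem h hN e2, ?_, ?_, ?_, ?_, h.ws.wt_ne hu hv hs, ?_, ?_, ?_, ?_, ?_, ?_⟩
  · rw [e1]
    exact fun a haM b hbM => hs.2 a (hM.le_RZ haM) _ (h.wg.conj_mem_K hu v (hM.le_RZ hbM))
  · rw [e2]
    exact fun a haM b hbM => hs'.2 a (hN.le_RZ haM) _ (h.wg.conj_mem_K hv u (hN.le_RZ hbM))
  · intro k hk
    rw [e1] at hk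
    exact h.ws.wt_cen_u hu hv hs k (hM.le_RZ hk)
  · intro k hk
    rw [e2] at hk
    exact h.ws.wt_cen_v hu hv hs k (hN.le_RZ hk)
  · rw [e1, e2]
    exact fun l hl hll k hk => (h.sd_half ha hM hN hs hl hll hk).1
  · rw [e1, e2]
    exact fun k hk hkk l hl => (h.sd_half ha hN hM hs' hk hkk hl).1
  · rw [e1, e2]
    exact fun l hl hll k hk => (h.sd_half ha hM hN hs hl hll hk).2.1
  · rw [e1, e2]
    exact fun l hl hll k hk => (h.sd_half ha hM hN hs hl hll hk).2.2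
  · rw [e1, e2]
    exact fun k hk hkk l hl => (h.sd_half ha hN hM hs' hk hkk hl).2.1
  · rw [e1, e2, ← hw]
    exact fun k hk hkk l hl => (h.sd_half ha hN hM hs' hk hkk hl).2.2

/-- **CLAIM S** -/
theorem claim_s (f : ↥(M ⊔ N) →* ℤˣ) (hx : x ∈ M) : f ⟨x, mem_sup_left hx⟩ = 1 :=
  L1.claim_of_sd h hM hN (h.ws.csw_ne hM.inZ hN.inZ hs).symm (h.sd_of_swap ha hM hN hs) f hx

end WM

end Cfsg.Agent.Cit.Nil.RTwoM
end

-- part: Cit/Nil/CompR/Loc
section
set_option linter.all false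
open scoped Cfsg.Agent.FastGrp

/-!
# S1309 (6b), COMP, `r = 2`: the local lemma of (F3) (helper397's FIX LEMMA, whole form)

`u`, `e` commuting involutions commuting with `x ∈ Z`; `u`, `e`, `ue` centralise the same elements of `R_x`.
Then `u` centralises `R_x`.

* `loc_mem` : on one member normalised by `u` and `e`; `no_swap`; `loc_RZ`;
* `Loc3 Z K`, `loc_of_wm`.
-/

set_option autoImplicit false
set_option linter.style.haveILetI false
set_option linter.unusedSectionVars false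

namespace Cfsg.Agent.Cit.Nil.CompR

open Subgroup Cfsg Cfsg.Agent.Cit Cfsg.Agent.Cit.Nil.AN
open Cfsg.Agent.Cit.Nil.ROne (CP CS TT OneCls)

variable {G : Type*} [Group G]

/-- **the local lemma** -/
def Loc3 (Z : Set G) (K : G → Subgroup G) : Prop :=
  ∀ x ∈ Z, ∀ u e : G, u * u = 1 → e * e = 1 → u * e = e * u → u * x = x * u → e * x = x * e →
    (∀ k ∈ K x, u * k = k * u ↔ e * k = k * e) → (∀ k ∈ K x, u * k = k * u ↔ u * e * k = k * (u * e)) →
    Ce u (K x)

section RTwo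

open RTwoM

variable [Finite G] {Om : Set (Subgroup G)} {K L : Subgroup G} {x u e v w a : G}

/-- an involution normalising `K` is inner or a transposition -/
theorem loc_cases (h : WM Om) (hK : Mem Om x K) (huK : cj u K = K) (hu2 : u * u = 1) :
    (∃ y, As K u y) ∨ ∃ a, RG.Tr u K a := by
  rcases h.wr.inn_or_tr hK.1 huK hu2 with ⟨y, hy, h4⟩ | h4
  · exact Or.inl ⟨y, hy, h4⟩
  · exact Or.inr h4

theorem loc_mem (h : WM Om) (hK : Mem Om x K) (huK : cj u K = K) (heK : cj e K = K) (hu2 : u * u = 1)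
    (he2 : e * e = 1) (hue : u * e = e * u) (h1 : ∀ k ∈ K, u * k = k * u ↔ e * k = k * e)
    (h2 : ∀ k ∈ K, u * k = k * u ↔ u * e * k = k * (u * e)) : ∀ k ∈ K, u * k = k * u := by
  have hx1 := hK.inZ.z1 h
  have hxx := hK.inZ.z2 h
  have triv : ∀ {g y : G}, As K g y → (y = 1 ∨ y = x) → ∀ k ∈ K, g * k = k * g := by
    rintro g y hg (rfl | rfl) k hk
    · exact As.one_iff.1 hg k hk
    · have h3 := hg.2 k hk
      rw [← hK.comm_z h hk, mul_inv_cancel_right, mul_inv_eq_iff_eq_mul] at h3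
      exact h3
  have cmi : ∀ {g k : G}, g * k = k * g → g * k * g⁻¹ = k := fun h3 => by rw [h3, mul_inv_cancel_right]
  have cmi' : ∀ {g k : G}, g * k * g⁻¹ = k → g * k = k * g := fun h3 => by rwa [mul_inv_eq_iff_eq_mul] at h3
  rcases loc_cases h hK huK hu2 with ⟨y, hy⟩ | ⟨a, ha⟩
  · rcases hK.sq_cases h hy.1 with h3 | h3 | h3
    · exact triv hy (Or.inl h3)
    · exact triv hy (Or.inr h3)
    have he := (h1 y hy.1).1 hy.comm
    rcases loc_cases h hK heK he2 with ⟨y', hy'⟩ | ⟨b, hb⟩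
    · -- `y'` commutes with `y`
      have h4 : y' * y * y'⁻¹ = y := by rw [← hy'.2 y hy.1]; exact cmi he
      have h5 := cmi' h4
      rcases hK.of_comm h hy.1 h3 hy'.1 h5.symm with h6 | h6 | h6 | h6
      · exact fun k hk => (h1 k hk).2 (triv hy' (Or.inl h6) k hk)
      · exact fun k hk => (h1 k hk).2 (triv hy' (Or.inr h6) k hk)
      · subst h6
        exact fun k hk => (h2 k hk).2 (triv (hy.mul hy') (Or.inr h3) k hk)
      · refine fun k hk => (h2 k hk).2 (triv (hy.mul hy') (Or.inl ?_) k hk)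
        rw [h6, ← mul_assoc, hK.comm_z h hy.1, mul_assoc, h3, hxx]
    · exfalso
      rcases Tr.comm_iff hb hK h hy.1 (cmi he) with h4 | h4
      · rw [h4, one_mul] at h3; exact hx1 h3.symm
      · rw [h4, hxx] at h3; exact hx1 h3.symm
  · rcases loc_cases h hK heK he2 with ⟨y', hy'⟩ | ⟨b, hb⟩
    · have hu := (h1 y' hy'.1).2 hy'.comm
      have h4 := Tr.comm_iff ha hK h hy'.1 (cmi hu)
      exact fun k hk => (h1 k hk).2 (triv hy' h4 k hk)
    · have hb' := Tr.same h hK huK hue hb ha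
      rcases Tr.mul_cases h hK huK heK ha hb' with h3 | h3
      · exact fun k hk => (h2 k hk).2 (As.one_iff.1 h3 k hk)
      · exfalso
        have h4 := (h2 a ha.mem).2 h3.comm
        have haa := Tr.sq' ha hK
        rcases Tr.comm_iff ha hK h ha.mem (cmi h4) with h5 | h5
        · rw [h5, one_mul] at haa; exact hx1 haa.symm
        · rw [h5, hxx] at haa; exact hx1 haa.symm

theorem no_swap (h : WM Om) (hK : Mem Om x K) (hs : Swp Om x v) (hv2 : v * v = 1) (hwK : cj w K = K)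
    (h1 : ∀ k ∈ RZ Om x, v * k = k * v → w * k = k * w) (h2 : ∀ k ∈ K, w * k = k * w → v * k = k * v) : False := by
  have hx1 := hK.inZ.z1 h
  have hxx := hK.inZ.z2 h
  obtain ⟨a, haK, ha, -⟩ := hs.cent_fix h hK hwK fun k hk => h1 _ (qq_mem hs h hK hk) (qq_comm hs h hv2 hK hk)
  -- an element `y` of order 4 of `K` commuting with `w`
  obtain ⟨y, hy, hyy, hwy⟩ : ∃ y ∈ K, y * y = x ∧ w * y = y * w := by
    rcases hK.sq_cases h haK with h3 | h3 | h3
    · obtain ⟨c, qc⟩ := h.exists_q3 hK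
      refine ⟨c 0, qc.mem 0, qc.sq 0, ?_⟩
      rw [h3] at ha
      exact As.one_iff.1 ha _ (qc.mem 0)
    · obtain ⟨c, qc⟩ := h.exists_q3 hK
      refine ⟨c 0, qc.mem 0, qc.sq 0, ?_⟩
      have h4 := ha.2 _ (qc.mem 0)
      rw [h3, ← hK.comm_z h (qc.mem 0), mul_inv_cancel_right, mul_inv_eq_iff_eq_mul] at h4
      exact h4
    · exact ⟨a, haK, h3, ha.comm⟩
  have h3 := h2 y hy hwy
  have h4 : y ∈ cj v K := by
    have := conj_mem_cj (g := v) hy
    rwa [h3, mul_inv_cancel_right] at this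
  rcases hs.inf h hK hy h4 rfl with h5 | h5
  · rw [h5, one_mul] at hyy; exact hx1 hyy.symm
  · rw [h5, hxx] at hyy; exact hx1 hyy.symm

theorem swp_of (h : WM Om) (hK : Mem Om x K) (hL : Mem Om x L) (hne : K ≠ L) (hv : v * x = x * v)
    (hvK : cj v K = L) : Swp Om x v := by
  refine ⟨hv, fun M hM hMM => ?_⟩
  rcases hK.cases hL h hne hM with h1 | h1
  · subst h1; exact hne (hMM.symm.trans hvK)
  · subst h1
    rcases cj_cases h hK hM hne hv with h2 | h2
    · exact hne (h2.1.symm.trans hvK)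
    · exact hne (h2.2.symm.trans hMM)

theorem loc_RZ (h : WM Om) (hx : InZ Om x) (hu2 : u * u = 1) (he2 : e * e = 1) (hue : u * e = e * u)
    (hux : u * x = x * u) (hex : e * x = x * e) (h1 : ∀ k ∈ RZ Om x, u * k = k * u ↔ e * k = k * e)
    (h2 : ∀ k ∈ RZ Om x, u * k = k * u ↔ u * e * k = k * (u * e)) : ∀ k ∈ RZ Om x, u * k = k * u := by
  obtain ⟨K, hK⟩ := hx
  obtain ⟨L, hL, hne, -⟩ := hK.other h
  have hue2 : u * e * (u * e) = 1 := by
    calc u * e * (u * e) = u * (e * u) * e := by group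
      _ = (u * u) * (e * e) := by rw [← hue]; group
      _ = 1 := by rw [hu2, he2, one_mul]
  rcases cj_cases h hK hL hne hux with ⟨c1, c2⟩ | ⟨c1, c2⟩ <;>
    rcases cj_cases h hK hL hne hex with ⟨d1, d2⟩ | ⟨d1, d2⟩
  · have h3 : RZ Om x ≤ centralizer {u} := RZ_le fun M hM k hk => by
      rw [mem_centralizer_singleton_iff]
      have hM' : cj u M = M ∧ cj e M = M := by
        rcases hK.cases hL h hne hM with h3 | h3
        · rw [h3]; exact ⟨c1, d1⟩
        · rw [h3]; exact ⟨c2, d2⟩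
      exact (loc_mem h hM hM'.1 hM'.2 hu2 he2 hue (fun k hk => h1 k (hM.le_RZ hk)) (fun k hk => h2 k (hM.le_RZ hk))
        k hk).symm
    exact fun k hk => (mem_centralizer_singleton_iff.1 (h3 hk)).symm
  · exfalso
    exact no_swap h hK (swp_of h hK hL hne hex d1) he2 c1 (fun k hk => (h1 k hk).2)
      (fun k hk => (h1 k (hK.le_RZ hk)).1)
  · exfalso
    exact no_swap h hK (swp_of h hK hL hne hux c1) hu2 d1 (fun k hk => (h1 k hk).1)
      (fun k hk => (h1 k (hK.le_RZ hk)).2)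
  · exfalso
    have h3 : cj (u * e) K = K := by rw [cj_mul, d1, c2]
    exact no_swap h hK (swp_of h hK hL hne hux c1) hu2 h3 (fun k hk => (h2 k hk).1)
      (fun k hk => (h2 k (hK.le_RZ hk)).2)

/-- **`r = 2`** -/
theorem loc_of_wm (h : WM Om) : Loc3 (RG.ZZ Om) (RG.RR Om) := by
  rintro x ⟨K, hK⟩ u e hu he hue hux hex h1 h2
  rw [RTwoM.RR_eq] at h1 h2 ⊢
  exact loc_RZ h ⟨K, hK⟩ hu he hue hux hex h1 h2

end RTwo

end Cfsg.Agent.Cit.Nil.CompR
end

-- part: Cit/Nil/CompR/ProdM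
section
prune_inst 0x4000000001100000000000010000020000000000000030001e12003020b0000018042060038100600110028a040080000010800590010000020000200000401200003308200340c00100000001801180c00000000000000000000000000000000000000000
set_option linter.all false
open scoped Cfsg.Agent.FastGrp

/-!
# S1309 (6b), COMP, `r = 2`: the product situation, (F3) when a good product exists (helper724, bb R18 #20156, part 1)

* `PW.not_le_PM`, `PW.comm_CS`, `PW.exists_sylow_le` : the setting;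
* `PW.good_mul` : `C(ue) ≤ M` if `u, e ∈ C_S` centralise a block;
* `PW.sf_of_good` : **(F3)** if there is a product `ue` with `C(ue) ≤ M`.
-/

set_option autoImplicit false
set_option linter.style.haveILetI false
set_option linter.unusedSectionVars false

namespace Cfsg.Agent.Cit.Nil.CompR

open Subgroup Cfsg Cfsg.Agent.Cit Cfsg.Agent.Cit.Nil.AN
open Cfsg.Agent.Cit.Nil.ROne (CP CS TT OneCls CSw)
open Cfsg.Agent.Cit.Nil.RTwoM.L1 (WG WS)
open Cfsg.Agent.OddOrderLocal.NilParts Cfsg.Agent.StdEven.Syl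

variable {G : Type*} [Group G] {Z : Set G} {K : G → Subgroup G} {z u v x y g s t e a b c : G} {A B : Set G}
  {F F' : Set (Set G)}

section card

variable [Finite G]

theorem two_mul_card_le {A B : Subgroup G} (hAB : A ≤ B) (hx : x ∈ B) (hxA : x ∉ A) :
    2 * Nat.card A ≤ Nat.card B := by
  have h1 : Nat.card A ∣ Nat.card B := card_dvd_of_le hAB
  obtain ⟨k, hk⟩ := h1
  have hB : 0 < Nat.card B := Nat.card_pos
  have hk0 : k ≠ 0 := by rintro rfl; omega
  have hk1 : k ≠ 1 := by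
    rintro rfl
    rw [mul_one] at hk
    have h2 := Subgroup.eq_of_le_of_card_ge hAB hk.le
    exact hxA (h2 ▸ hx)
  rw [hk, mul_comm]
  exact Nat.mul_le_mul_left _ (by omega)

omit [Finite G] in
/-- the elements of `⟨H, a⟩` for an involution `a` centralising `H` -/
theorem mem_sup_invol {H : Subgroup G} (haa : a * a = 1) (ha : ∀ h ∈ H, a * h = h * a)
    (hx : x ∈ (zpowers a ⊔ H : Subgroup G)) : x ∈ H ∨ a * x ∈ H := by
  let N : Subgroup G :=
    { carrier := {x | x ∈ H ∨ a * x ∈ H}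
      one_mem' := Or.inl (one_mem _)
      mul_mem' := by
        rintro x y (hx | hx) (hy | hy)
        · exact Or.inl (mul_mem hx hy)
        · right
          have : a * (x * y) = x * (a * y) := by rw [← mul_assoc, ha x hx, mul_assoc]
          rw [this]
          exact mul_mem hx hy
        · right
          rw [← mul_assoc]
          exact mul_mem hx hy
        · left
          have h1 := ha _ hx
          have : x * y = (a * x) * (a * y) := by
            calc x * y = (a * a) * x * y := by rw [haa, one_mul]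
              _ = (a * (a * x)) * y := by group
              _ = ((a * x) * a) * y := by rw [h1]
              _ = _ := by group
          rw [this]
          exact mul_mem hx hy
      inv_mem' := by
        rintro x (hx | hx)
        · exact Or.inl (inv_mem hx)
        · right
          have h1 := ha _ (inv_mem hx)
          rw [mul_inv_rev, ← mul_assoc] at h1
          have ha' : a⁻¹ = a := inv_eq_of_mul_eq_one_right haa
          rw [ha'] at h1
          have h2 : a * x⁻¹ = x⁻¹ * a := by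
            have h3 : a * x⁻¹ * a * a = x⁻¹ * a * a * a := by rw [h1]
            rw [mul_assoc, haa, mul_one, mul_assoc (x⁻¹ * a), haa, mul_one] at h3
            exact h3
          rw [h2]
          have h4 := inv_mem hx
          rwa [mul_inv_rev, ha'] at h4 }
  have hle : zpowers a ⊔ H ≤ N := by
    refine sup_le ((zpowers_le).2 (Or.inr ?_)) fun x hx => Or.inl hx
    rw [haa]
    exact one_mem _
  exact hle hx

/-- `|⟨H, a⟩| ≤ 2 |H|` for an involution `a` centralising `H` -/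
theorem card_sup_le {H : Subgroup G} (haa : a * a = 1) (ha : ∀ h ∈ H, a * h = h * a) :
    Nat.card (zpowers a ⊔ H : Subgroup G) ≤ 2 * Nat.card H := by
  have h2 : Nat.card (zpowers a ⊔ H : Subgroup G) ≤ ((H : Set G) ∪ (fun x => a * x) ⁻¹' (H : Set G)).ncard := by
    rw [← Nat.card_coe_set_eq]
    exact Nat.card_le_card_of_injective (fun x : (zpowers a ⊔ H : Subgroup G) => ⟨x.1, mem_sup_invol haa ha x.2⟩)
      fun x y hxy => Subtype.ext (by
        have := congrArg Subtype.val hxy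
        exact this)
  refine h2.trans ((Set.ncard_union_le _ _).trans ?_)
  have h3 : ((fun x => a * x) ⁻¹' (H : Set G)).ncard = (H : Set G).ncard :=
    Set.ncard_preimage_of_injective_subset_range (mul_right_injective a) fun x _ => ⟨a⁻¹ * x, by simp⟩
  rw [h3, ← Nat.card_coe_set_eq]
  have h4 : Nat.card (H : Set G) = Nat.card H := rfl
  omega

/-- a group generated by `n` commuting involutions has order at most `2 ^ n` -/
theorem card_closure_le (A : Finset G) (h2 : ∀ a ∈ A, a * a = 1) (hc : ∀ a ∈ A, ∀ b ∈ A, a * b = b * a) :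
    Nat.card (closure (A : Set G)) ≤ 2 ^ A.card := by
  classical
  induction A using Finset.induction_on with
  | empty => simp
  | insert a A ha ih =>
    have h1 := ih (fun b hb => h2 b (Finset.mem_insert_of_mem hb)) fun b hb c hc' =>
      hc b (Finset.mem_insert_of_mem hb) c (Finset.mem_insert_of_mem hc')
    rw [Finset.coe_insert, Set.insert_eq, Subgroup.closure_union, Finset.card_insert_of_notMem ha, pow_succ,
      ← zpowers_eq_closure]
    have h3 : ∀ b ∈ closure (A : Set G), a * b = b * a := by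
      intro b hb
      have h4 : closure (A : Set G) ≤ centralizer {a} := (closure_le _).2 fun b hb =>
        mem_centralizer_singleton_iff.2 (hc b (Finset.mem_insert_of_mem hb) a (Finset.mem_insert_self a A))
      exact (mem_centralizer_singleton_iff.1 (h4 hb)).symm
    have h5 := card_sup_le (h2 a (Finset.mem_insert_self a A)) h3
    omega

end card

namespace PW

variable [Finite G] (p : PW Z K)

include p

/-- conjugate an element of `Z ∩ M` into a Sylow subgroup -/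
theorem exists_conj_sylow (hz : z ∈ Z) {S : Sylow 2 G} (hzS : z ∈ CS Z K (S : Subgroup G)) {X : Subgroup G}
    (hX : IsPGroup 2 X) (hXM : X ≤ p.PM z hz) : ∃ n ∈ p.PM z hz, ∀ x ∈ X, n * x * n⁻¹ ∈ (S : Subgroup G) := by
  have hSM : (S : Subgroup G) ≤ p.PM z hz := p.sylow_le S.isPGroup' hz hzS.2
  have hSy : IsSyl (S : Subgroup G) (p.PM z hz) := (isSyl_top_of_sylow S).mono hSM le_top
  exact hSy.exists_conj hX hXM

/-- `M` preserves `Σ` -/
theorem sf_of_conj (hz : z ∈ Z) {n : G} (hn : n ∈ p.PM z hz) (h1 : SF Z K z (n * x * n⁻¹)) : SF Z K z x := by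
  have h2 := p.sf_conj n⁻¹ h1
  rw [conj_inv_conj] at h2
  exact p.sf_trans ((p.mem_PM_iff hz).1 (inv_mem hn)) h2

/-- `R_x ≤ M` is impossible for `x ∉ Σ` -/
theorem not_le_PM (hz : z ∈ Z) (hx : x ∈ Z) (hn : ¬ SF Z K z x) : ¬ K x ≤ p.PM z hz := by
  intro hle
  obtain ⟨S, hzS⟩ := p.w.exists_sylow hz
  obtain ⟨n, hn1, hn2⟩ := p.exists_conj_sylow hz hzS (p.w.two hx) hle
  refine hn (p.sf_of_conj hz hn1 (p.sf_CS S.isPGroup' hzS ⟨p.w.conjZ x hx n, ?_⟩))
  rw [p.w.conjK x hx]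
  intro k hk
  have h1 := hn2 _ (mem_cj.1 hk)
  have e1 : n * (n⁻¹ * k * n) * n⁻¹ = k := by group
  rwa [e1] at h1

variable (ws : WS Z K)

include ws

/-- an element of `Z ∩ S`, not in the frame of `z`, commutes with `C_S` -/
theorem comm_CS {S : Subgroup G} (hS : IsPGroup 2 S) (hz : z ∈ CS Z K S) (hx : x ∈ Z) (hxS : x ∈ S)
    (hn : ¬ SF Z K z x) : ∀ v ∈ CS Z K S, x * v = v * x := by
  intro v hv
  by_contra hne
  have hv' := p.conj_CS hxS hv
  have hne' : v ≠ x * v * x⁻¹ := fun e => hne (by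
    calc x * v = x * v * x⁻¹ * x := by group
      _ = v * x := by rw [← e])
  exact hn (p.sf_trans (p.sf_CS hS hz hv) (p.csw ws hv.1 hx (p.w.com S hS hv.1 hv'.1 hv.2 hv'.2 hne')))

/-- **the setting** -/
theorem exists_setting {S : Sylow 2 G} (hz : z ∈ CS Z K (S : Subgroup G)) (hx : x ∈ Z) (hxM : x ∈ p.PM z hz.1)
    (hn : ¬ SF Z K z x) : ∃ S' : Sylow 2 G, (S' : Subgroup G) ⊓ p.PM z hz.1 ≤ S ∧
      (CS Z K (S' : Subgroup G)).Nonempty ∧
      (∀ y ∈ CS Z K (S' : Subgroup G), y ∈ (S : Subgroup G) ∧ y ∈ p.PM z hz.1 ∧ ¬ SF Z K z y) ∧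
      ∀ y ∈ CS Z K (S' : Subgroup G), ∀ v ∈ CS Z K (S : Subgroup G), y * v = v * y := by
  -- `x` in `S`
  obtain ⟨n₀, hn₀, hn₀'⟩ := p.exists_conj_sylow hz.1 hz (isPGroup_zpowers_inv (p.w.sq x hx)) (by rwa [zpowers_le])
  obtain ⟨x₀, rfl⟩ : ∃ x₀, x₀ = n₀ * x * n₀⁻¹ := ⟨_, rfl⟩
  have hx₀S := hn₀' x (mem_zpowers x)
  set x₀ := n₀ * x * n₀⁻¹ with hx₀
  have hx₀Z : x₀ ∈ Z := p.w.conjZ x hx n₀
  have hnx₀ : ¬ SF Z K z x₀ := fun h1 => hn (p.sf_of_conj hz.1 hn₀ h1)
  have hc₀ := p.comm_CS ws S.isPGroup' hz hx₀Z hx₀S hnx₀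
  -- a Sylow subgroup containing `K x₀` and `T_S`
  have hT : IsPGroup 2 (K x₀ ⊔ TT Z K (S : Subgroup G) : Subgroup G) := by
    refine IsPGroup.to_sup_of_normal_left' (p.w.two hx₀Z) (S.isPGroup'.to_le p.w.TT_le) ?_
    have h1 : TT Z K (S : Subgroup G) ≤ centralizer {x₀} := (closure_le _).2 fun v hv =>
      mem_centralizer_singleton_iff.2 (hc₀ v hv).symm
    exact fun v hv => p.w.mem_norm hx₀Z (mem_centralizer_singleton_iff.1 (h1 hv))
  obtain ⟨S₁, hS₁⟩ := hT.exists_le_sylow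
  have hx₁ : x₀ ∈ CS Z K (S₁ : Subgroup G) := ⟨hx₀Z, le_sup_left.trans hS₁⟩
  have hv₁ : ∀ v ∈ CS Z K (S : Subgroup G), v ∈ (S₁ : Subgroup G) := fun v hv =>
    hS₁ (le_sup_right (a := K x₀) (subset_closure hv))
  have hcc : ∀ y ∈ CS Z K (S₁ : Subgroup G), ∀ v ∈ CS Z K (S : Subgroup G), v * y = y * v := fun y hy v hv =>
    p.comm_CS ws S₁.isPGroup' hx₁ hv.1 (hv₁ v hv)
      (fun h1 => hnx₀ (p.sf_trans (p.sf_CS S.isPGroup' hz hv) h1.symm)) y hy
  have hnS : ∀ y ∈ CS Z K (S₁ : Subgroup G), ¬ SF Z K z y := fun y hy h1 =>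
    hnx₀ (p.sf_trans h1 (p.sf_CS S₁.isPGroup' hx₁ hy).symm)
  have hyM : ∀ y ∈ CS Z K (S₁ : Subgroup G), y ∈ p.PM z hz.1 := fun y hy =>
    p.centralizer_le hz.1 (p.sf_refl hz.1) (mem_centralizer_singleton_iff.2 (hcc y hy z hz).symm)
  -- conjugate `S₁ ∩ M` into `S`
  obtain ⟨n, hnM, hn1⟩ := p.exists_conj_sylow hz.1 hz (X := (S₁ : Subgroup G) ⊓ p.PM z hz.1)
    (S₁.isPGroup'.to_le inf_le_left) inf_le_right
  have hgS : ((n • S₁ : Sylow 2 G) : Subgroup G) = cj n S₁ := rfl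
  have hback : ∀ y ∈ CS Z K ((n • S₁ : Sylow 2 G) : Subgroup G), ∃ y₁ ∈ CS Z K (S₁ : Subgroup G), y = n * y₁ * n⁻¹ := by
    intro y hy
    rw [hgS] at hy
    have e1 : y = n * (n⁻¹ * y * n) * n⁻¹ := by group
    have hyZ : n⁻¹ * y * n ∈ Z := by
      have := p.w.conjZ y hy.1 n⁻¹
      rwa [inv_inv] at this
    rw [e1] at hy
    exact ⟨_, (p.w.cj_CS n S₁ hyZ).1 hy, e1⟩
  have hin : ∀ y ∈ CS Z K ((n • S₁ : Sylow 2 G) : Subgroup G), y ∈ (S : Subgroup G) ∧ y ∈ p.PM z hz.1 ∧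
      ¬ SF Z K z y := by
    intro y hy
    obtain ⟨y₁, hy₁, rfl⟩ := hback y hy
    refine ⟨hn1 y₁ ⟨hy₁.2 (p.w.mem y₁ hy₁.1), hyM y₁ hy₁⟩, ?_, fun h1 => hnS y₁ hy₁ (p.sf_of_conj hz.1 hnM h1)⟩
    exact mul_mem (mul_mem hnM (hyM y₁ hy₁)) (inv_mem hnM)
  refine ⟨n • S₁, ?_, ⟨n * x₀ * n⁻¹, ?_⟩, hin, fun y hy => ?_⟩
  · intro y hy
    obtain ⟨h1, h2⟩ := mem_inf.1 hy
    rw [hgS, mem_cj] at h1
    have h3 : n⁻¹ * y * n ∈ p.PM z hz.1 := mul_mem (mul_mem (inv_mem hnM) h2) hnM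
    have h4 := hn1 _ ⟨h1, h3⟩
    have e1 : n * (n⁻¹ * y * n) * n⁻¹ = y := by group
    rwa [e1] at h4
  · rw [hgS]
    exact (p.w.cj_CS n S₁ hx₀Z).2 hx₁
  · exact p.comm_CS ws S.isPGroup' hz hy.1 (hin y hy).1 (hin y hy).2.2

omit ws in
omit p in
/-- `C_S` and `C_{S'}` have the same size -/
theorem _root_.Cfsg.Agent.Cit.Nil.CompR.GW.ncard_CS_eq (w : GW Z K) (S S' : Sylow 2 G) :
    (CS Z K (S' : Subgroup G)).ncard = (CS Z K (S : Subgroup G)).ncard := by
  haveI : Fact (Nat.Prime 2) := ⟨Nat.prime_two⟩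
  obtain ⟨g, hg⟩ := MulAction.exists_smul_eq G S S'
  have hgS : (S' : Subgroup G) = cj g S := by
    rw [← hg]
    rfl
  rw [hgS, w.ncard_CS_cj g S]

/-- the situation of (2), (3), (4) -/
theorem false_of_good (loc : Loc3 Z K) (cn : CnZ Z K) {S S' : Sylow 2 G} (hz : z ∈ CS Z K (S : Subgroup G))
    (hle : (S' : Subgroup G) ⊓ p.PM z hz.1 ≤ S)
    (hin : ∀ y ∈ CS Z K (S' : Subgroup G), y ∈ (S : Subgroup G) ∧ y ∈ p.PM z hz.1 ∧ ¬ SF Z K z y)
    (hcc : ∀ y ∈ CS Z K (S' : Subgroup G), ∀ v ∈ CS Z K (S : Subgroup G), y * v = v * y)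
    (hu : u ∈ CS Z K (S : Subgroup G)) (he : e ∈ CS Z K (S : Subgroup G)) (hue : u ≠ e)
    (hg : centralizer {u * e} ≤ p.PM z hz.1) : False := by
  classical
  have w := p.w
  have hS := S.isPGroup'
  have hS' := S'.isPGroup'
  set T := TT Z K (S : Subgroup G) with hT
  -- (a) `T` commutes with `y`
  have hTy : ∀ y ∈ CS Z K (S' : Subgroup G), ∀ t ∈ T, t * y = y * t := by
    intro y hy t ht
    have h1 : T ≤ centralizer {y} := (closure_le _).2 fun v hv =>
      mem_centralizer_singleton_iff.2 (hcc y hy v hv).symm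
    exact mem_centralizer_singleton_iff.1 (h1 ht)
  have hyT : ∀ y ∈ CS Z K (S' : Subgroup G), y ∉ T := fun y hy h1 =>
    (hin y hy).2.2 (p.sf_CS hS hz (w.mem_CS_of_mem_TT S hy.1 h1))
  -- the members are not in `M`
  have hnle : ∀ y ∈ CS Z K (S' : Subgroup G), ¬ K y ≤ p.PM z hz.1 := fun y hy =>
    p.not_le_PM hz.1 hy.1 (hin y hy).2.2
  have hgood : ∀ v ∈ CS Z K (S : Subgroup G), centralizer {v} ≤ p.PM z hz.1 := fun v hv =>
    p.centralizer_le hz.1 (p.sf_CS hS hz hv)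
  -- good elements do not centralise `K y`
  have hgn : ∀ t : G, centralizer {t} ≤ p.PM z hz.1 → ∀ y ∈ CS Z K (S' : Subgroup G), ¬ Ce t (K y) :=
    fun t ht y hy h1 => hnle y hy fun k hk => ht (mem_centralizer_singleton_iff.2 (h1 k hk).symm)
  -- `S` normalises `T`
  have hST : ∀ s ∈ (S : Subgroup G), ∀ t ∈ T, s * t * s⁻¹ ∈ T := by
    intro s hs t ht
    have h1 : T ≤ cj s⁻¹ T := (closure_le _).2 fun v hv => by
      rw [SetLike.mem_coe, mem_cj, inv_inv]
      exact subset_closure (p.conj_CS hs hv)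
    have h2 := h1 ht
    rwa [mem_cj, inv_inv] at h2
  -- (3)
  have h3 : ∀ y ∈ CS Z K (S' : Subgroup G), ∃ t ∈ T, t ∈ K y ∧ t ≠ 1 := by
    intro y hy
    by_contra hcon
    push Not at hcon
    have hP : ∀ t ∈ T, centralizer {t} ≤ p.PM z hz.1 → ∀ k ∈ K y, t * k = k * t ↔ k ∈ p.PM z hz.1 := by
      intro t ht htg k hk
      constructor
      · exact fun h1 => htg (mem_centralizer_singleton_iff.2 h1.symm)
      · intro h1
        have hkS : k ∈ (S : Subgroup G) := hle ⟨hy.2 hk, h1⟩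
        have h2 : k * t * k⁻¹ * t⁻¹ ∈ T := mul_mem (hST k hkS t ht) (inv_mem ht)
        have h4 : k * t * k⁻¹ * t⁻¹ ∈ K y := by
          have e1 : k * t * k⁻¹ * t⁻¹ = k * (t * k⁻¹ * t⁻¹) := by group
          rw [e1]
          refine mul_mem hk ?_
          exact (mem_normalizer_iff.1 (w.mem_norm hy.1 (hTy y hy t ht)) k⁻¹).1 (inv_mem hk)
        have h5 := hcon _ h2 h4
        rw [mul_inv_eq_one, mul_inv_eq_iff_eq_mul] at h5
        exact h5.symm
    have huT : u ∈ T := subset_closure hu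
    have heT : e ∈ T := subset_closure he
    have g1 := hP u huT (hgood u hu)
    have g2 := hP e heT (hgood e he)
    have g3 := hP (u * e) (mul_mem huT heT) hg
    refine hgn u (hgood u hu) y hy (loc y hy.1 u e (w.sq u hu.1) (w.sq e he.1) ?_ (hTy y hy u huT) (hTy y hy e heT)
      (fun k hk => (g1 k hk).trans (g2 k hk).symm) fun k hk => (g1 k hk).trans (g3 k hk).symm)
    exact w.comm_of_cp hu.1 he.1 (w.com S hS hu.1 he.1 hu.2 he.2 hue)
  choose! τ hτT hτK hτ1 using h3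
  -- (4)
  have hτc : ∀ y ∈ CS Z K (S' : Subgroup G), ∀ y' ∈ CS Z K (S' : Subgroup G), y ≠ y' → Ce (τ y) (K y') := by
    intro y hy y' hy' hne k hk
    exact (w.com S' hS' hy.1 hy'.1 hy.2 hy'.2 hne).2 (τ y) (hτK y hy) k hk
  have hτn : ∀ y ∈ CS Z K (S' : Subgroup G), ¬ Ce (τ y) (K y) := by
    intro y hy h1
    rcases cn y hy.1 (τ y) (hτK y hy) h1 with h2 | h2
    · exact hτ1 y hy h2
    · exact hyT y hy (h2 ▸ hτT y hy)
  -- the subgroups `W A`
  let W : Finset G → Subgroup G := fun A => T ⊓ ⨅ y ∈ A, centralizer (K y : Set G)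
  have memW : ∀ {A : Finset G} {t : G}, t ∈ W A ↔ t ∈ T ∧ ∀ y ∈ A, Ce t (K y) := by
    intro A t
    simp only [W, mem_inf, mem_iInf, mem_centralizer_iff]
    exact ⟨fun h => ⟨h.1, fun y hy k hk => (h.2 y hy k hk).symm⟩, fun h => ⟨h.1, fun y hy k hk => (h.2 y hy k hk).symm⟩⟩
  have hfin : (CS Z K (S' : Subgroup G)).Finite := Set.toFinite _
  have key : ∀ A B : Finset G, (∀ y ∈ A, y ∈ CS Z K (S' : Subgroup G)) → (∀ y ∈ B, y ∈ CS Z K (S' : Subgroup G)) →
      Disjoint A B → 2 ^ A.card * Nat.card (W (A ∪ B)) ≤ Nat.card (W B) := by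
    intro A B hA hB
    induction A using Finset.induction_on with
    | empty =>
      intro _
      rw [Finset.card_empty, pow_zero, one_mul, Finset.empty_union]
    | insert a A ha ih =>
      intro hd
      rw [Finset.disjoint_insert_left] at hd
      have h1 := ih (fun y hy => hA y (Finset.mem_insert_of_mem hy)) hd.2
      have haC := hA a (Finset.mem_insert_self a A)
      have h2 : 2 * Nat.card (W (insert a A ∪ B)) ≤ Nat.card (W (A ∪ B)) := by
        refine two_mul_card_le (x := τ a) (fun t ht => ?_) ?_ ?_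
        · rw [memW] at ht ⊢
          exact ⟨ht.1, fun y hy => ht.2 y (by rw [Finset.insert_union]; exact Finset.mem_insert_of_mem hy)⟩
        · rw [memW]
          refine ⟨hτT a haC, fun y hy => hτc a haC y ?_ ?_⟩
          · rcases Finset.mem_union.1 hy with h3 | h3
            · exact hA y (Finset.mem_insert_of_mem h3)
            · exact hB y h3
          · rintro rfl
            rcases Finset.mem_union.1 hy with h3 | h3
            · exact ha h3
            · exact hd.1 h3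
        · rw [memW]
          exact fun h3 => hτn a haC (h3.2 a (by rw [Finset.insert_union]; exact Finset.mem_insert_self _ _))
      rw [Finset.card_insert_of_notMem ha, pow_succ]
      calc 2 ^ A.card * 2 * Nat.card (W (insert a A ∪ B)) = 2 ^ A.card * (2 * Nat.card (W (insert a A ∪ B))) := by
            rw [mul_assoc]
        _ ≤ 2 ^ A.card * Nat.card (W (A ∪ B)) := Nat.mul_le_mul_left _ h2
        _ ≤ _ := h1
  set C' : Finset G := hfin.toFinset with hC'
  have memC' : ∀ {y : G}, y ∈ C' ↔ y ∈ CS Z K (S' : Subgroup G) := by intro y; rw [hC', Set.Finite.mem_toFinset]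
  -- `|T| ≤ 2 ^ m`
  have hfinS : (CS Z K (S : Subgroup G)).Finite := Set.toFinite _
  have hcardT : Nat.card T ≤ 2 ^ C'.card := by
    have h1 : C'.card = hfinS.toFinset.card := by
      rw [hC', ← Set.ncard_eq_toFinset_card _ hfin, ← Set.ncard_eq_toFinset_card _ hfinS]
      exact w.ncard_CS_eq S S'
    have h2 : T = closure (hfinS.toFinset : Set G) := by
      rw [Set.Finite.coe_toFinset]
      rfl
    rw [h1, h2]
    refine card_closure_le _ (fun a ha => ?_) fun a ha b hb => ?_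
    · rw [Set.Finite.mem_toFinset] at ha
      exact w.sq a ha.1
    · rw [Set.Finite.mem_toFinset] at ha hb
      exact w.TT_comm hS (subset_closure ha) (subset_closure hb)
  have hWT : W ∅ = T := by
    ext t
    rw [memW]
    exact ⟨fun h => h.1, fun h => ⟨h, fun y hy => absurd hy (Finset.notMem_empty y)⟩⟩
  -- `W C' = 1`
  have hW1 : W C' = ⊥ := by
    have h1 := key C' ∅ (fun y hy => memC'.1 hy) (fun y hy => absurd hy (Finset.notMem_empty y))
      (Finset.disjoint_empty_right _)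
    rw [Finset.union_empty, hWT] at h1
    have h2 : 2 ^ C'.card * Nat.card (W C') ≤ 2 ^ C'.card * 1 := by rw [mul_one]; exact h1.trans hcardT
    have h4 := Nat.le_of_mul_le_mul_left h2 (pow_pos (by norm_num) _)
    exact (Subgroup.card_le_one_iff_eq_bot _).1 h4
  -- index at most 2
  have hidx : ∀ y ∈ C', Nat.card T ≤ 2 * Nat.card (W {y}) := by
    intro y hy
    have h1 := key (C'.erase y) {y} (fun y' hy' => memC'.1 (Finset.mem_of_mem_erase hy'))
      (fun y' hy' => memC'.1 (by rw [Finset.mem_singleton.1 hy']; exact hy))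
      (Finset.disjoint_singleton_right.2 (Finset.notMem_erase y C'))
    have h2 : 1 ≤ Nat.card (W (C'.erase y ∪ {y})) := Nat.card_pos
    have h4 : C'.card = (C'.erase y).card + 1 := (Finset.card_erase_add_one hy).symm
    rw [h4, pow_succ] at hcardT
    calc Nat.card T ≤ 2 ^ (C'.erase y).card * 2 := hcardT
      _ = 2 * (2 ^ (C'.erase y).card * 1) := by ring
      _ ≤ 2 * (2 ^ (C'.erase y).card * Nat.card (W (C'.erase y ∪ {y}))) :=
        Nat.mul_le_mul_left _ (Nat.mul_le_mul_left _ h2)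
      _ ≤ _ := Nat.mul_le_mul_left _ h1
  -- `u e ∈ W C'`
  have hmem : u * e ∈ W C' := by
    rw [memW]
    refine ⟨mul_mem (subset_closure hu) (subset_closure he), fun y hy => ?_⟩
    have hyC := memC'.1 hy
    -- otherwise `W {y} < ⟨W {y}, u⟩ < T`
    by_contra hcon
    have huW : u ∉ W {y} := fun h1 => hgn u (hgood u hu) y hyC ((memW.1 h1).2 y (Finset.mem_singleton_self y))
    have heW : e ∉ W {y} := fun h1 => hgn e (hgood e he) y hyC ((memW.1 h1).2 y (Finset.mem_singleton_self y))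
    have hueW : u * e ∉ W {y} := fun h1 => hcon ((memW.1 h1).2 y (Finset.mem_singleton_self y))
    have huT : u ∈ T := subset_closure hu
    have heT : e ∈ T := subset_closure he
    have hWT' : W {y} ≤ T := fun t ht => (memW.1 ht).1
    have h1 : 2 * Nat.card (W {y}) ≤ Nat.card (zpowers u ⊔ W {y} : Subgroup G) :=
      two_mul_card_le le_sup_right (le_sup_left (a := zpowers u) (mem_zpowers u)) huW
    have h2 : (zpowers u ⊔ W {y} : Subgroup G) = T :=
      Subgroup.eq_of_le_of_card_ge (sup_le ((zpowers_le).2 huT) hWT') ((hidx y hy).trans h1)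
    have h4 : e ∈ (zpowers u ⊔ W {y} : Subgroup G) := by rw [h2]; exact heT
    rcases mem_sup_invol (w.sq u hu.1) (fun h hh => w.TT_comm hS huT (hWT' hh)) h4 with h5 | h5
    · exact heW h5
    · exact hueW h5
  rw [hW1, mem_bot] at hmem
  exact hue (by rw [mul_eq_one_iff_eq_inv] at hmem; rw [hmem, w.inv he.1])

/-- **(F3) if there is a good product** -/
theorem sf_of_good (loc : Loc3 Z K) (cn : CnZ Z K) {S : Sylow 2 G} (hz : z ∈ CS Z K (S : Subgroup G))
    (hu : u ∈ CS Z K (S : Subgroup G)) (he : e ∈ CS Z K (S : Subgroup G)) (hue : u ≠ e)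
    (hg : centralizer {u * e} ≤ p.PM z hz.1) (hx : x ∈ Z) (hxM : x ∈ p.PM z hz.1) : SF Z K z x := by
  by_contra hn
  obtain ⟨S', h1, -, h3, h4⟩ := p.exists_setting ws hz hx hxM hn
  exact p.false_of_good ws loc cn hz h1 h3 h4 hu he hue hg

omit ws in
/-- the product of two elements of `C_S` is good if they lie outside a block -/
theorem good_mul {S : Sylow 2 G} (hz : z ∈ CS Z K (S : Subgroup G)) (f : Frm Z K F) (hA : A ∈ F) (hzA : z ∈ A)
    (hu : u ∈ CS Z K (S : Subgroup G)) (he : e ∈ CS Z K (S : Subgroup G)) (hue : u ≠ e) (hB : B ∈ F)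
    (huB : u ∉ B) (heB : e ∉ B) : centralizer {u * e} ≤ p.PM z hz.1 := by
  have w := p.w
  have hS := S.isPGroup'
  intro c hc
  have hcc := mem_centralizer_singleton_iff.1 hc
  obtain ⟨C₁, hC₁, hu₁⟩ := p.exists_block f hA hzA (p.sf_CS hS hz hu)
  obtain ⟨C₂, hC₂, he₂⟩ := p.exists_block f hA hzA (p.sf_CS hS hz he)
  have e1 : ∀ b ∈ B, Cm (K u) (K b) := fun b hb =>
    (p.cp_of f hC₁ hB (by rintro rfl; exact huB hu₁) hu₁ hb).2
  have e2 : ∀ b ∈ B, Cm (K e) (K b) := fun b hb =>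
    (p.cp_of f hC₂ hB (by rintro rfl; exact heB he₂) he₂ hb).2
  have hcp := w.com S hS hu.1 he.1 hu.2 he.2 hue
  have hs : ∀ b ∈ B, Ce (u * e) (K b) := fun b hb =>
    (ce_of_cm w hu.1 (e1 b hb).symm).mul (ce_of_cm w he.1 (e2 b hb).symm)
  have huO : u ∈ Om Z K (u * e) := ⟨hu.1, (ce_self w hu.1).mul (ce_of_cm w he.1 hcp.2)⟩
  -- `c u c⁻¹ ∈ Om(ue)`
  have hx : c * u * c⁻¹ ∈ Om Z K (u * e) := by
    refine ⟨w.conjZ u hu.1 c, ?_⟩
    rw [w.conjK u hu.1]
    intro k hk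
    have h1 := huO.2 _ (mem_cj.1 hk)
    have hcc' : (u * e) * c = c * (u * e) := hcc.symm
    calc u * e * k = (u * e * c) * (c⁻¹ * k * c) * c⁻¹ := by group
      _ = c * (u * e * (c⁻¹ * k * c)) * c⁻¹ := by rw [hcc']; group
      _ = c * ((c⁻¹ * k * c) * (u * e)) * c⁻¹ := by rw [h1]
      _ = k * (c * (u * e)) * c⁻¹ := by group
      _ = k * (u * e) := by rw [← hcc']; group
  have hsu := p.sf_CS hS hz hu
  refine p.mem_PM_of_sf hz.1 hsu ?_
  by_cases hcm : Cm (K (c * u * c⁻¹)) (K u)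
  · exact p.cp hu.1 hx.1 ((cp_iff w hu.1).2 hcm.symm)
  · exact p.block' f hB (TP.of_mul w p.tp hu.1 he.1 hcp) hs huO e1 hx hcm hC₁ hu₁

/-- **(F3), or two blocks and `|C_S| = 2`** -/
theorem sf_or_two (loc : Loc3 Z K) (cn : CnZ Z K) {S : Sylow 2 G} (hz : z ∈ CS Z K (S : Subgroup G))
    (hx : x ∈ Z) (hxM : x ∈ p.PM z hz.1) (hn : ¬ SF Z K z x) :
    ∃ F, Frm Z K F ∧ ∃ A ∈ F, ∃ B ∈ F, A ≠ B ∧ z ∈ A ∧ (∀ C ∈ F, C = A ∨ C = B) ∧
      ∃ u, u ∈ B ∧ CS Z K (S : Subgroup G) = {z, u} := by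
  have hbad : ∀ u ∈ CS Z K (S : Subgroup G), ∀ e ∈ CS Z K (S : Subgroup G), u ≠ e →
      ¬ centralizer {u * e} ≤ p.PM z hz.1 := fun u hu e he hue hg =>
    hn (p.sf_of_good ws loc cn hz hu he hue hg hx hxM)
  obtain ⟨F, f, A, hA, hzA⟩ := p.fr z hz.1
  have hbl : ∀ v₁ ∈ CS Z K (S : Subgroup G), ∀ v₂ ∈ CS Z K (S : Subgroup G), v₁ ≠ v₂ → ∀ B ∈ F, v₁ ∈ B ∨ v₂ ∈ B := by
    intro v₁ h1 v₂ h2 hne B hB
    by_contra hcon
    push Not at hcon
    exact hbad v₁ h1 v₂ h2 hne (p.good_mul hz f hA hzA h1 h2 hne hB hcon.1 hcon.2)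
  obtain ⟨B, hB, hBA⟩ := f.other hA
  obtain ⟨u, huS, huB⟩ := p.meet f hz hA hzA hB
  have hzB : z ∉ B := fun h1 => hBA (f.disj p.w hB hA h1 hzA)
  have huA : u ∉ A := fun h1 => hBA (f.disj p.w hB hA huB h1)
  have hzu : z ≠ u := fun e => hzB (e ▸ huB)
  have hF : ∀ C ∈ F, C = A ∨ C = B := by
    intro C hC
    rcases hbl z hz u huS hzu C hC with h1 | h1
    · exact Or.inl (f.disj p.w hC hA h1 hzA)
    · exact Or.inr (f.disj p.w hC hB h1 huB)
  refine ⟨F, f, A, hA, B, hB, hBA.symm, hzA, hF, u, huB, ?_⟩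
  ext v
  constructor
  · intro hv
    by_contra hcon
    simp only [Set.mem_insert_iff, Set.mem_singleton_iff, not_or] at hcon
    obtain ⟨C, hC, hvC⟩ := p.exists_block f hA hzA (p.sf_CS S.isPGroup' hz hv)
    rcases hF C hC with rfl | rfl
    · rcases hbl z hz v hv (Ne.symm hcon.1) B hB with h3 | h3
      · exact hzB h3
      · exact hBA (f.disj p.w hB hC h3 hvC)
    · rcases hbl u huS v hv (Ne.symm hcon.2) A hA with h3 | h3
      · exact huA h3
      · exact hBA (f.disj p.w hC hA hvC h3)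
  · rintro (rfl | rfl)
    · exact hz
    · exact huS

end PW

end Cfsg.Agent.Cit.Nil.CompR
end

-- part: Cit/Nil/CompR/ProdTwoM
section
prune_inst 0x4200044001122000000180010200020001000000000030001e16003020b400001a0460e013850060011d02ce0484ac02003080059423800002a008a0000040120040370e2823c1c00110000405801180c00000000000000000000000000000000000000000
set_option linter.all false
open scoped Cfsg.Agent.FastGrp

/-!
# S1309 (6b), COMP, `r = 2`: the product situation, (F3), part 2: two blocks, `C_S = {z, u}` (helper724, bb R18)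

* `loc_two` : `t`, `e` commuting involutions centralising the same elements of `R_x`: `t e` is inner on `R_x`;
* `PW.exists_bad` : Z* : `C(zu) ≤ M`, or a bad `x = z^g`, `g ∈ C(zu)`, commuting with `z` and `u`;
* `BlkD Om A`, `BlkQ Om A` : the two facts on the block `A`;
* `PW.false_of_bad` : contradiction; **`PW.sf_of_mem`** : **(F3)**, `r = 2`.
-/

set_option autoImplicit false
set_option linter.style.haveILetI false
set_option linter.unusedSectionVars false

namespace Cfsg.Agent.Cit.Nil.CompR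

open Subgroup Cfsg Cfsg.Agent.Cit
open Cfsg.Agent.Cit.Nil.AN (Om Cl OneC Ce Cm)
open Cfsg.Agent.Cit.Nil.ROne (CP CS TT OneCls CSw)
open Cfsg.Agent.Cit.Nil.RTwoM.L1 (WG WS)
open Cfsg.Agent.OddOrderLocal.NilParts Cfsg.Agent.StdEven.Syl

section loc

open RTwoM

variable {G : Type*} [Group G] [Finite G] {Om : Set (Subgroup G)} {K L : Subgroup G} {x u e v w a t : G}

/-- inner on one member -/
theorem inn_of_as (h : WM Om) (hK : Mem Om x K) (ha : As K v a) : ∀ k ∈ K, v * k * v⁻¹ = k ∨ v * k * v⁻¹ = x * k := by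
  intro k hk
  rw [ha.2 k hk]
  exact hK.comm_or h hk ha.1

/-- an inner and a transposition -/
theorem as_tr (h : WM Om) (hK : Mem Om x K) (ht : As K t a) (he : RG.Tr e K w)
    (H : ∀ k ∈ K, t * k = k * t → e * k = k * e) : False := by
  have hx1 := hK.inZ.z1 h
  have hxx := hK.inZ.z2 h
  have cmi : ∀ {g k : G}, g * k = k * g → g * k * g⁻¹ = k := fun h3 => by rw [h3, mul_inv_cancel_right]
  -- an element of order 4 commuting with `t`
  obtain ⟨y, hy, hyy, hty⟩ : ∃ y ∈ K, y * y = x ∧ t * y = y * t := by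
    rcases hK.sq_cases h ht.1 with h3 | h3 | h3
    · refine ⟨w, he.mem, Tr.sq' he hK, ?_⟩
      rw [h3] at ht
      exact As.one_iff.1 ht _ he.mem
    · refine ⟨w, he.mem, Tr.sq' he hK, ?_⟩
      have h4 := ht.2 _ he.mem
      rw [h3, ← hK.comm_z h he.mem, mul_inv_cancel_right, mul_inv_eq_iff_eq_mul] at h4
      exact h4
    · exact ⟨a, ht.1, h3, ht.comm⟩
  rcases Tr.comm_iff he hK h hy (cmi (H y hy hty)) with h5 | h5
  · rw [h5, one_mul] at hyy; exact hx1 hyy.symm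
  · rw [h5, hxx] at hyy; exact hx1 hyy.symm

/-- **the second local lemma** -/
theorem loc_two (h : WM Om) (hx : InZ Om x) (ht2 : t * t = 1) (he2 : e * e = 1) (hte : t * e = e * t)
    (htx : t * x = x * t) (hex : e * x = x * e) (H : ∀ k ∈ RZ Om x, t * k = k * t ↔ e * k = k * e) :
    Inn Om x (t * e) := by
  obtain ⟨K, hK⟩ := hx
  obtain ⟨L, hL, hne, -⟩ := hK.other h
  -- both fix the members
  have key : ∀ M, Mem Om x M → cj t M = M → cj e M = M →
      ∀ k ∈ M, t * e * k * (t * e)⁻¹ = k ∨ t * e * k * (t * e)⁻¹ = x * k := by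
    intro M hM htM heM
    rcases loc_cases h hM htM ht2 with ⟨y, hy⟩ | ⟨a, ha⟩ <;> rcases loc_cases h hM heM he2 with ⟨y', hy'⟩ | ⟨b, hb⟩
    · exact inn_of_as h hM (hy.mul hy')
    · exact (as_tr h hM hy hb fun k hk => (H k (hM.le_RZ hk)).1).elim
    · exact (as_tr h hM hy' ha fun k hk => (H k (hM.le_RZ hk)).2).elim
    · have hb' := Tr.same h hM htM hte hb ha
      rcases Tr.mul_cases h hM htM heM ha hb' with h3 | h3
      · exact inn_of_as h hM h3
      · exact inn_of_as h hM h3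
  rcases cj_cases h hK hL hne htx with ⟨c1, c2⟩ | ⟨c1, c2⟩ <;>
    rcases cj_cases h hK hL hne hex with ⟨d1, d2⟩ | ⟨d1, d2⟩
  · intro M hM
    rcases hK.cases hL h hne hM with h3 | h3
    · rw [h3] at hM ⊢; exact key K hK c1 d1
    · rw [h3] at hM ⊢; exact key L hL c2 d2
  · exact (no_swap h hK (swp_of h hK hL hne hex d1) he2 c1 (fun k hk => (H k hk).2)
      (fun k hk => (H k (hK.le_RZ hk)).1)).elim
  · exact (no_swap h hK (swp_of h hK hL hne htx c1) ht2 d1 (fun k hk => (H k hk).1)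
      (fun k hk => (H k (hK.le_RZ hk)).2)).elim
  · have hs := swp_of h hK hL hne htx c1
    have h3 : cj (t * e) K = K := by rw [cj_mul, d1, c2]
    obtain ⟨a, -, ha, hb⟩ := hs.cent_fix h hK h3 fun k hk => by
      have e1 := qq_comm hs h ht2 hK hk
      have e2 := (H _ (qq_mem hs h hK hk)).1 e1
      rw [mul_assoc, e2, ← mul_assoc, e1, mul_assoc]
    intro M hM
    rcases hK.cases hL h hne hM with h4 | h4
    · rw [h4] at hM ⊢; exact inn_of_as h hM ha
    · rw [h4, ← c1] at hM ⊢; exact inn_of_as h hM hb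

end loc

variable {G : Type*} [Group G] {Z : Set G} {K : G → Subgroup G} {z u v x y g s t e a b c k : G} {A B : Set G}
  {F F' : Set (Set G)}

namespace PW

section two

variable [Finite G] (p : PW Z K)

include p

/-- with two blocks and `C_S = {z, u}`: the points `c` of the frame centralised by `zu` are `z` and `u` -/
theorem eq_of_ce (f : Frm Z K F) (hA : A ∈ F) (hB : B ∈ F) (hAB : A ≠ B) (hF : ∀ C ∈ F, C = A ∨ C = B)
    (hzA : z ∈ A) (huB : u ∈ B) {S : Sylow 2 G} (hCS : CS Z K (S : Subgroup G) = {z, u}) (hc : SF Z K z c)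
    (hch : Ce (z * u) (K c)) : c = z ∨ c = u := by
  have w := p.w
  have hzZ := f.sub A hA hzA
  have huZ := f.sub B hB huB
  have hcZ := hc.mem_right
  have hzu : z * u = u * z := w.comm_of_cp hzZ huZ (p.cp_of f hA hB hAB hzA huB)
  obtain ⟨C, hC, hcC⟩ := p.exists_block f hA hzA hc
  have h3 : c ∈ CS Z K (S : Subgroup G) := by
    refine w.mem_CS_of_clique S hcZ fun y hy => ?_
    rw [hCS] at hy
    rcases hF C hC with h1 | h1
    · rw [h1] at hcC
      have h4 : CP K c u := p.cp_of f hA hB hAB hcC huB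
      rcases hy with hy | hy
      · rw [hy]
        have h5 : Ce (z * u * u) (K c) := hch.mul (w.cen_of_cp huZ h4)
        rw [mul_assoc, w.sq u huZ, mul_one] at h5
        rcases (w.cen_iff hcZ hzZ).1 h5 with h6 | h6
        · exact Or.inl h6.symm
        · exact Or.inr h6.symm
      · have hy' : y = u := hy
        rw [hy']
        exact Or.inr h4.symm
    · rw [h1] at hcC
      have h4 : CP K c z := p.cp_of f hB hA (Ne.symm hAB) hcC hzA
      rcases hy with hy | hy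
      · rw [hy]
        exact Or.inr h4.symm
      · have hy' : y = u := hy
        rw [hy']
        have h5 : Ce (u * z * z) (K c) := by
          rw [← hzu]
          exact hch.mul (w.cen_of_cp hzZ h4)
        rw [mul_assoc, w.sq z hzZ, mul_one] at h5
        rcases (w.cen_iff hcZ huZ).1 h5 with h6 | h6
        · exact Or.inl h6.symm
        · exact Or.inr h6.symm
  rw [hCS] at h3
  exact h3

/-- **Z*** -/
theorem exists_bad (ws : WS Z K) (f : Frm Z K F) (hA : A ∈ F) (hB : B ∈ F) (hAB : A ≠ B)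
    (hF : ∀ C ∈ F, C = A ∨ C = B) (hz : z ∈ Z) (hzA : z ∈ A) (huB : u ∈ B) {S : Sylow 2 G}
    (hCS : CS Z K (S : Subgroup G) = {z, u})
    (cf : ∀ N : Subgroup G, N ≤ centralizer {z * u} → centralizer {z * u} ≤ normalizer (N : Set G) →
      Odd (Nat.card N) → N = ⊥) (hbad : ¬ centralizer {z * u} ≤ p.PM z hz) :
    ∃ g, g * (z * u) = (z * u) * g ∧ g * z * g⁻¹ ∈ p.PM z hz ∧ ¬ SF Z K z (g * z * g⁻¹) ∧
      (g * z * g⁻¹) * z = z * (g * z * g⁻¹) := by
  have w := p.w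
  have huZ := f.sub B hB huB
  have hcp := p.cp_of f hA hB hAB hzA huB
  have hzu : z * u = u * z := w.comm_of_cp hz huZ hcp
  have hzz := w.sq z hz
  have huu := w.sq u huZ
  by_contra hcon
  push Not at hcon
  apply hbad
  set h := z * u with hh
  have h_ne : h ≠ 1 := w.cp_mul_ne huZ hcp
  have hh2 : h * h = 1 := by
    rw [hh]
    calc z * u * (z * u) = z * (u * z) * u := by group
      _ = z * (z * u) * u := by rw [← hzu]
      _ = (z * z) * (u * u) := by group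
      _ = 1 := by rw [hzz, huu, one_mul]
  have e1 : h * z = u := by rw [hzu, mul_assoc, hzz, mul_one]
  have e3 : z * h = u := by rw [hh, ← mul_assoc, hzz, one_mul]
  have hz1h : z * h = h * z := e3.trans e1.symm
  have hsu : SF Z K z u := p.cp hz huZ hcp
  have hCez : Ce h (K z) := (ce_self w hz).mul (w.cen_of_cp huZ hcp)
  have inv : ∀ g : G, g * h = h * g → g * z * g⁻¹ = z ∨ g * z * g⁻¹ = h * z := by
    intro g hg
    refine Comp.zstar_mod hh2 h_ne cf hz1h hzz (w.ne z hz) (fun h3 => w.ne u huZ ?_) ?_ g hg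
    · rw [← e3, ← h3, hzz]
    · intro g hg h3
      rw [e1]
      have hcZ : g * z * g⁻¹ ∈ Z := w.conjZ z hz g
      have hce : Ce h (K (g * z * g⁻¹)) := by
        have h4 := w.ce_conj hz g hCez
        have e : g * h * g⁻¹ = h := by rw [hg, mul_inv_cancel_right]
        rwa [e] at h4
      refine p.eq_of_ce f hA hB hAB hF hzA huB hCS ?_ hce
      rcases h3 with h3 | h3
      · -- commuting
        by_contra hn
        exact hcon g hg (p.centralizer_le hz (p.sf_refl hz) (mem_centralizer_singleton_iff.2 h3.symm)) hn h3.symm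
      · -- a C-swap
        have hci : (g * z * g⁻¹)⁻¹ = g * z * g⁻¹ := w.inv hcZ
        refine p.csw ws hz hcZ ?_
        have h4 : g * z * g⁻¹ * z = h * (z * (g * z * g⁻¹)) := by
          rw [h3, ← mul_assoc, hh2, one_mul]
        have h5 : g * z * g⁻¹ * z * (g * z * g⁻¹)⁻¹ = u := by
          rw [h4, ← mul_assoc, e1, mul_assoc u, mul_inv_cancel, mul_one]
        change CP K z (g * z * g⁻¹ * z * (g * z * g⁻¹)⁻¹)
        rw [h5]
        exact hcp
  intro g hg
  have hg' := mem_centralizer_singleton_iff.1 hg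
  refine (p.mem_PM_iff hz).2 ?_
  rcases inv g hg' with h3 | h3
  · rw [h3]; exact p.sf_refl hz
  · rw [h3, e1]; exact hsu

end two

end PW

/-! ### The block facts -/

/-- (D) : an outer `x ∈ Z` commuting with `z ∈ A` commutes with a type I partner of `z` in `A` -/
def BlkD (Om : Set (Subgroup G)) (A : Set G) : Prop :=
  ∀ z ∈ A, ∀ x, RTwoM.InZ Om x → x * z = z * x → RTwoM.Out Om z x → ∃ t ∈ A, RTwoM.TI Om z t ∧ x * t = t * x

/-- (Q) : an involution of `R_z`, not a point, is inner at a type I partner of `z` in `A` -/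
def BlkQ (Om : Set (Subgroup G)) (A : Set G) : Prop :=
  ∀ z ∈ A, ∀ q ∈ RTwoM.RZ Om z, q * q = 1 → q ≠ 1 → q ≠ z → ¬ RTwoM.InZ Om q →
    ∃ t ∈ A, RTwoM.TI Om z t ∧ RTwoM.Inn Om t q

namespace PW

section om

open RTwoM (WM Mem InZ RZ CX Inn Swp Ff Out As mem_CX z_mem_CX z_mem_RZ)

variable [Finite G] {Om : Set (Subgroup G)} (h : WM Om) (p : PW (RG.ZZ Om) (RG.RR Om))

include h p

/-- points commuting with `z` modulo the frame: not C, hence type I or outer -/
theorem ti_or_out (hz : z ∈ RG.ZZ Om) (hx : x ∈ RG.ZZ Om) (hn : ¬ SF (RG.ZZ Om) (RG.RR Om) z x) (hc : x * z = z * x) :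
    RTwoM.TI Om x z ∨ (Out Om x z ∧ Out Om z x) := by
  rcases RTwoM.tri h hx hz (fun e => hn (by rw [e]; exact p.sf_refl hz)) hc with h1 | h1 | h1
  · exact (hn (p.cp hx hz ((cp_iff_wr h.wr).2 h1)).symm).elim
  · exact Or.inl h1
  · exact Or.inr h1

/-- a point inner at a point of the frame is of type I there -/
theorem ti_of_inn (ht : SF (RG.ZZ Om) (RG.RR Om) z t) (hx : x ∈ RG.ZZ Om)
    (hn : ¬ SF (RG.ZZ Om) (RG.RR Om) z x) (hi : Inn Om t x) : RTwoM.TI Om t x := by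
  rcases hi.cases h ht.mem_right hx with h1 | h1 | h1
  · exact (hn (h1 ▸ ht)).elim
  · exact (hn (p.sf_trans ht (p.cp ht.mem_right hx ((cp_iff_wr h.wr).2 h1)))).elim
  · exact h1

/-- the product of a type I pair of the block lies in the frame -/
theorem sf_mul (f : Frm (RG.ZZ Om) (RG.RR Om) F) (hA : A ∈ F) (hB : B ∈ F) (hAB : A ≠ B) (hzA : z ∈ A) (huB : u ∈ B)
    (htA : t ∈ A) (hti : RTwoM.TI Om z t) : SF (RG.ZZ Om) (RG.RR Om) z (z * t) := by
  have w := p.w
  have hzZ := f.sub A hA hzA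
  have huZ := f.sub B hB huB
  have heZ : z * t ∈ RG.ZZ Om := hti.inZ_mul h
  have hsu : SF (RG.ZZ Om) (RG.RR Om) z u := ⟨F, f, ⟨A, hA, hzA⟩, B, hB, huB⟩
  have hce : Ce (z * t) (RG.RR Om u) :=
    (w.cen_of_cp hzZ (p.cp_of f hB hA (Ne.symm hAB) huB hzA)).mul
      (w.cen_of_cp (f.sub A hA htA) (p.cp_of f hB hA (Ne.symm hAB) huB htA))
  rcases (w.cen_iff huZ heZ).1 hce with h1 | h1
  · rw [← h1]; exact hsu
  · exact p.sf_trans hsu (p.cp huZ heZ h1)

/-- **contradiction** from a bad `x = z^g`, `g ∈ C(zu)` -/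
theorem false_of_bad (hD : BlkD Om A) (hQ : BlkQ Om A) (f : Frm (RG.ZZ Om) (RG.RR Om) F) (hA : A ∈ F) (hB : B ∈ F)
    (hAB : A ≠ B) (hF : ∀ C ∈ F, C = A ∨ C = B) (hz : z ∈ RG.ZZ Om) (hzA : z ∈ A) (huB : u ∈ B) {S : Sylow 2 G}
    (hCS : CS (RG.ZZ Om) (RG.RR Om) (S : Subgroup G) = {z, u}) (hg : g * (z * u) = (z * u) * g)
    (hxM : g * z * g⁻¹ ∈ p.PM z hz) (hn : ¬ SF (RG.ZZ Om) (RG.RR Om) z (g * z * g⁻¹))
    (hxz : (g * z * g⁻¹) * z = z * (g * z * g⁻¹)) : False := by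
  have w := p.w
  have cn : CnZ (RG.ZZ Om) (RG.RR Om) := CnZ.of_wr h.wr
  have huZ := f.sub B hB huB
  have hcp := p.cp_of f hA hB hAB hzA huB
  have hzu : z * u = u * z := w.comm_of_cp hz huZ hcp
  have hzz := w.sq z hz
  have huu := w.sq u huZ
  have hzS : z ∈ CS (RG.ZZ Om) (RG.RR Om) (S : Subgroup G) := by rw [hCS]; exact Or.inl rfl
  have huS : u ∈ CS (RG.ZZ Om) (RG.RR Om) (S : Subgroup G) := by rw [hCS]; exact Or.inr rfl
  have hsu : SF (RG.ZZ Om) (RG.RR Om) z u := p.cp hz huZ hcp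
  obtain ⟨x, hxe⟩ : ∃ x, x = g * z * g⁻¹ := ⟨_, rfl⟩
  obtain ⟨x', hxe'⟩ : ∃ x', x' = g * u * g⁻¹ := ⟨_, rfl⟩
  rw [← hxe] at hxM hn hxz
  have hxZ : x ∈ RG.ZZ Om := by rw [hxe]; exact w.conjZ z hz g
  have hxZ' : x' ∈ RG.ZZ Om := by rw [hxe']; exact w.conjZ u huZ g
  have hxx := w.sq x hxZ
  have hx1 := w.ne x hxZ
  have hcpx : CP (RG.RR Om) x x' := by
    rw [hxe, hxe']
    have h1 := p.w.conjK z hz g
    have h2 := p.w.conjK u huZ g
    refine (cp_iff w (w.conjZ z hz g)).2 ?_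
    exact cm_conj w hz huZ g hcp.2
  -- `zu` centralises `R_x`
  have hch : Ce (z * u) (RG.RR Om x) := by
    have h4 := w.ce_conj hz g ((ce_self w hz).mul (w.cen_of_cp huZ hcp))
    have e : g * (z * u) * g⁻¹ = z * u := by rw [hg, mul_inv_cancel_right]
    rwa [e, ← hxe] at h4
  have hx_ne : x ≠ z := fun e => hn (by rw [e]; exact p.sf_refl hz)
  -- `z` and `u` centralise the same elements of `R_x`
  have huz : ∀ k ∈ RG.RR Om x, z * k = k * z → u * k = k * u := by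
    intro k hk h1
    have h2 := hch k hk
    have h3 : z * (u * k) = z * (k * u) := by
      rw [← mul_assoc, h2, ← mul_assoc, ← mul_assoc, ← h1]
    exact mul_left_cancel h3
  -- `R_x ∩ M` commutes with `z`
  have hP : ∀ k ∈ RG.RR Om x, k ∈ p.PM z hz → z * k = k * z := by
    intro k hk hkM
    have h1 : SF (RG.ZZ Om) (RG.RR Om) z (k * z * k⁻¹) := (p.mem_PM_iff hz).1 hkM
    have hkh : k * (z * u) = (z * u) * k := (hch k hk).symm
    have h2 : Ce (z * u) (RG.RR Om (k * z * k⁻¹)) := by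
      have h4 := w.ce_conj hz k ((ce_self w hz).mul (w.cen_of_cp huZ hcp))
      have e : k * (z * u) * k⁻¹ = z * u := by rw [hkh, mul_inv_cancel_right]
      rwa [e] at h4
    rcases p.eq_of_ce f hA hB hAB hF hzA huB hCS h1 h2 with h3 | h3
    · rw [mul_inv_eq_iff_eq_mul] at h3
      exact h3.symm
    · exfalso
      -- `zu ∈ R_x`
      have h5 : k * z * k⁻¹ * z⁻¹ ∈ RG.RR Om x := by
        have e1 : k * z * k⁻¹ * z⁻¹ = k * (z * k⁻¹ * z⁻¹) := by group
        rw [e1]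
        exact mul_mem hk ((mem_normalizer_iff.1 (w.mem_norm hxZ hxz.symm) k⁻¹).1 (inv_mem hk))
      rw [h3, w.inv hz, ← hzu] at h5
      rcases cn x hxZ _ h5 hch with h6 | h6
      · exact w.cp_mul_ne huZ hcp h6
      · have h7 : x ∈ TT (RG.ZZ Om) (RG.RR Om) (S : Subgroup G) := by
          rw [← h6]
          exact mul_mem (subset_closure hzS) (subset_closure huS)
        exact hn (p.sf_CS S.isPGroup' hzS (w.mem_CS_of_mem_TT S hxZ h7))
  -- good elements
  have hgd : ∀ v, SF (RG.ZZ Om) (RG.RR Om) z v → ∀ k ∈ RG.RR Om x, v * k = k * v → z * k = k * z :=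
    fun v hv k hk h1 => hP k hk (p.centralizer_le hz hv (mem_centralizer_singleton_iff.2 h1.symm))
  have hsA : ∀ t ∈ A, SF (RG.ZZ Om) (RG.RR Om) z t := fun t ht => ⟨F, f, ⟨A, hA, hzA⟩, A, hA, ht⟩
  rcases p.ti_or_out h hz hxZ hn hxz with hti | ⟨ho, ho'⟩
  · -- type I
    have hxu : x * u = u * x := (huz x (w.mem x hxZ) hxz.symm).symm
    have hnu : ¬ SF (RG.ZZ Om) (RG.RR Om) u x := fun h1 => hn (p.sf_trans hsu h1)
    have hiu : RTwoM.TI Om x u := by
      rcases p.ti_or_out h huZ hxZ hnu hxu with h1 | ⟨h1, -⟩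
      · exact h1
      · exfalso
        obtain ⟨L, hL⟩ := hti.inZ
        obtain ⟨y, hy, hyy⟩ := hti.exists_as h hL
        have hyx : y ∈ RG.RR Om x := by rw [RTwoM.RR_eq]; exact hL.le_RZ hy.1
        have h2 := huz y hyx hy.comm
        have hxx' := hL.inZ.z2 h
        have hfin : y = 1 ∨ y = x → False := by
          rintro (h3 | h3)
          · rw [h3, one_mul] at hyy; exact hx1 hyy.symm
          · rw [h3, hxx] at hyy; exact hx1 hyy.symm
        rcases h1.cases with h3 | h3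
        · have h4 : y ∈ cj u L := by
            have := conj_mem_cj (g := u) hy.1
            rwa [h2, mul_inv_cancel_right] at this
          exact hfin (h3.inf h hL hy.1 h4 rfl)
        · obtain ⟨a, ha⟩ := h3.exists_tr h huu hL
          exact hfin (RTwoM.Tr.comm_iff ha hL h hy.1 (by rw [h2, mul_inv_cancel_right]))
    obtain ⟨q, hq, q', hq', hqx, -, hqq, -, -, -, hxq, -, hxqq⟩ :=
      RTwoM.link h ((cp_iff_wr h.wr).1 hcp) hti hiu
    have hxCX : x ∉ CX Om z := hti.not_mem_CX h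
    have hq1 : q ≠ 1 := by
      rintro rfl
      rw [mul_one] at hxq
      exact hxCX hxq
    have hqz : q ≠ z := by
      rintro rfl
      apply hxCX
      have := mul_mem hxq (z_mem_CX (Om := Om) (z := q) h)
      rwa [mul_assoc, hzz, mul_one] at this
    have hqZ : ¬ InZ Om q := by
      intro hqZ
      -- `q` in the frame
      have h1 : q ∈ CX Om u := by
        rw [mem_CX]
        exact fun M hM k hk => RTwoM.cp_RZ h ((cp_iff_wr h.wr).1 hcp) hq (hM.le_RZ hk)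
      have h2 : SF (RG.ZZ Om) (RG.RR Om) z q := by
        rcases (RTwoM.cen_iff h huZ hqZ).1 h1 with h3 | h3
        · rw [← h3]; exact hsu
        · exact p.sf_trans hsu (p.cp huZ hqZ ((cp_iff_wr h.wr).2 h3))
      refine p.not_le_PM hz hxZ' (fun h3 => hn (p.sf_trans h3 (p.cp hxZ hxZ' hcpx).symm)) fun k hk => ?_
      refine p.centralizer_le hz h2 (mem_centralizer_singleton_iff.2 ?_)
      exact (hcpx.2 q (by rw [RTwoM.RR_eq]; exact hqx) k hk).symm
    obtain ⟨t, htA, hzt, hit⟩ := hQ z hzA q hq hqq hq1 hqz hqZ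
    have hst := hsA t htA
    have htZ := f.sub A hA htA
    have hcpt : CP (RG.RR Om) t u := p.cp_of f hA hB hAB htA huB
    have hitx : Inn Om t x := by
      rw [hxqq]
      refine hit.mul (Inn.of_CX ?_) htZ h
      rw [mem_CX]
      exact fun M hM k hk => (RTwoM.cp_RZ h ((cp_iff_wr h.wr).1 hcpt) (hM.le_RZ hk) hq').symm
    have htx := (p.ti_of_inn h hst hxZ hn hitx).symm h
    -- `t` and `z` act in the same way on `R_x`
    obtain ⟨L, hL⟩ := hti.inZ
    obtain ⟨y, hy, hyy⟩ := hti.exists_as h hL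
    obtain ⟨y₁, hy₁, hyy₁⟩ := htx.exists_as h hL
    have h1 : z * y₁ = y₁ * z := hgd t hst y₁ (by rw [RTwoM.RR_eq]; exact hL.le_RZ hy₁.1) hy₁.comm
    have h2 : y * y₁ = y₁ * y := by
      have h3 := hy.2 y₁ hy₁.1
      rw [h1, mul_inv_cancel_right, eq_mul_inv_iff_mul_eq] at h3
      exact h3.symm
    have h3 : y * y₁ = 1 ∨ y * y₁ = x := by
      rcases hL.of_comm h hy.1 hyy hy₁.1 h2 with h4 | h4 | h4 | h4
      · rw [h4, one_mul] at hyy₁; exact (hx1 hyy₁.symm).elim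
      · rw [h4, hxx] at hyy₁; exact (hx1 hyy₁.symm).elim
      · right; rw [h4, hyy]
      · left; rw [h4, ← mul_assoc, hL.comm_z h hy.1, mul_assoc, hyy, hxx]
    have h4 : ∀ k ∈ L, z * t * k = k * (z * t) := by
      have h5 := hy.mul hy₁
      rcases h3 with h6 | h6
      · rw [h6] at h5
        exact As.one_iff.1 h5
      · intro k hk
        have h7 := h5.2 k hk
        rw [h6, ← hL.comm_z h hk, mul_inv_cancel_right, mul_inv_eq_iff_eq_mul] at h7
        exact h7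
    have hs := p.sf_mul h f hA hB hAB hzA huB htA hzt
    have hne : x ≠ z * t := fun e => hn (e ▸ hs)
    have h5 := RTwoM.cp_of_cen h hL (hzt.inZ_mul h) hne h4
    exact hn (p.sf_trans hs (p.cp hxZ hs.mem_right ((cp_iff_wr h.wr).2 h5)).symm)
  · -- outer
    obtain ⟨t, htA, hzt, hxt⟩ := hD z hzA x hxZ hxz ho'
    have hst := hsA t htA
    have htZ := f.sub A hA htA
    have hse := p.sf_mul h f hA hB hAB hzA huB htA hzt
    have htt := w.sq t htZ
    have hztc := hzt.comm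
    have hee := w.sq _ hse.mem_right
    have e1 : t * (z * t) = z := by rw [hztc, ← mul_assoc, htt, one_mul]
    have e2 : z * t * t = z := by rw [mul_assoc, htt, mul_one]
    have h1 := loc_two h hxZ htt hee (by rw [e1, e2]) hxt.symm (by
      rw [mul_assoc, ← hxt, ← mul_assoc, ← hxz, mul_assoc]) (fun k hk => by
      rw [← RTwoM.RR_eq] at hk
      constructor
      · intro h2
        have h3 := hgd t hst k hk h2
        rw [mul_assoc, h2, ← mul_assoc, h3, mul_assoc]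
      · intro h2
        have h3 := hgd _ hse k hk h2
        rw [mul_assoc, ← mul_assoc k, ← h3, mul_assoc] at h2
        exact mul_left_cancel h2)
    rw [e1] at h1
    exact ho.not_inn h hxZ h1

/-- **(F3)** `Z ∩ M = Σ`, `r = 2` -/
theorem sf_of_mem (cf : ∀ z ∈ RG.ZZ Om, ∀ u ∈ RG.ZZ Om, CP (RG.RR Om) z u → ∀ N : Subgroup G,
      N ≤ centralizer {z * u} → centralizer {z * u} ≤ normalizer (N : Set G) → Odd (Nat.card N) → N = ⊥)
    (blk : ∀ F, Frm (RG.ZZ Om) (RG.RR Om) F → ∀ A ∈ F, (∀ a ∈ A, ∀ b ∈ A, ¬ CP (RG.RR Om) a b) →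
      BlkD Om A ∧ BlkQ Om A)
    (hz : z ∈ RG.ZZ Om) (hx : x ∈ RG.ZZ Om) (hxM : x ∈ p.PM z hz) : SF (RG.ZZ Om) (RG.RR Om) z x := by
  by_contra hn
  have w := p.w
  have ws : WS (RG.ZZ Om) (RG.RR Om) := by
    have h1 : RG.RR Om = RZ Om := funext fun z => RTwoM.RR_eq z
    rw [h1]
    exact h.ws
  have loc := loc_of_wm h
  have cn : CnZ (RG.ZZ Om) (RG.RR Om) := CnZ.of_wr h.wr
  obtain ⟨S, hzS⟩ := w.exists_sylow hz
  obtain ⟨F, f, A, hA, B, hB, hAB, hzA, hF, u, huB, hCS⟩ := p.sf_or_two ws loc cn hzS hx hxM hn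
  have huZ := f.sub B hB huB
  have hcp := p.cp_of f hA hB hAB hzA huB
  have huS : u ∈ CS (RG.ZZ Om) (RG.RR Om) (S : Subgroup G) := by rw [hCS]; exact Or.inr rfl
  have hbad : ¬ centralizer {z * u} ≤ p.PM z hz := fun h1 =>
    hn (p.sf_of_good ws loc cn hzS hzS huS hcp.1 h1 hx hxM)
  obtain ⟨g, h1, h2, h3, h4⟩ := p.exists_bad ws f hA hB hAB hF hz hzA huB hCS (cf z hz u huZ hcp) hbad
  -- no C-pairs in the block `A`
  have hno : ∀ a ∈ A, ∀ b ∈ A, ¬ CP (RG.RR Om) a b := by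
    intro a ha b hb hab
    obtain ⟨S', haS, hbS⟩ := w.exists_sylow_of_cp (f.sub A hA ha) (f.sub A hA hb) hab
    have hcard : (CS (RG.ZZ Om) (RG.RR Om) (S' : Subgroup G)).ncard = 2 := by
      rw [w.ncard_CS_eq S S', hCS]
      exact Set.ncard_pair hcp.1
    have h5 : CS (RG.ZZ Om) (RG.RR Om) (S' : Subgroup G) = {a, b} := by
      symm
      refine Set.eq_of_subset_of_ncard_le ?_ ?_ (Set.toFinite _)
      · rintro y (rfl | rfl)
        · exact haS
        · exact hbS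
      · rw [hcard, Set.ncard_pair hab.1]
    have h6 : u ∈ CS (RG.ZZ Om) (RG.RR Om) (S' : Subgroup G) := w.mem_CS_of_clique S' huZ fun y hy => by
      rw [h5] at hy
      right
      rcases hy with rfl | rfl
      · exact p.cp_of f hA hB hAB ha huB
      · exact p.cp_of f hA hB hAB hb huB
    have huA : u ∉ A := fun h7 => hAB (f.disj w hA hB h7 huB)
    rw [h5] at h6
    rcases h6 with h7 | h7
    · exact huA (h7 ▸ ha)
    · have h8 : u = b := h7
      exact huA (h8 ▸ hb)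
  obtain ⟨hD, hQ⟩ := blk F f A hA hno
  exact p.false_of_bad h hD hQ f hA hB hAB hF hz hzA huB hCS h1 h2 h3 h4

end om

end PW

end Cfsg.Agent.Cit.Nil.CompR

private theorem dce_d27d545cf342 : _root_.True := by
  try have : _root_.True := by simp only [_root_.Cfsg.Agent.Cit.Nil.CompR.PW.PM.congr_simp]
  exact _root_.True.intro
end
end
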